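import Mathlib
import Cfsg.Prelude.Def_OddOrder
import Cfsg.Prelude.Def_OddOrderLocal
import Cfsg.Agent.Lib.Basic
import Cfsg.Agent.Lib.Coprime
import Cfsg.Agent.Lib.HallPi
import Cfsg.Agent.Lib.PSolvable
import Cfsg.Agent.Lib.PLocal.Constrained

/-!
Elementary facts on minimal simple groups of odd order and on the cores `O_π(X)` of their subgroups.
-/

set_option autoImplicit false
set_option linter.unusedSectionVars false

namespace CfsgLib.MinSimpleOdd

open Subgroup Cfsg
open scoped Pointwise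

universe u
variable {G : Type u} [Group G] [Finite G]

theorem isSimple (hG : IsMinSimpleOddOrder G) : IsSimpleGroup G := hG.2.1

theorem solvable_of_ne_top (hG : IsMinSimpleOddOrder G) {H : Subgroup G} (hH : H ≠ ⊤) :
    Group.IsSolvable H :=
  hG.2.2.2 H hH

theorem solvable_of_le {H X : Subgroup G} (h : H ≤ X) (hX : Group.IsSolvable X) : Group.IsSolvable H :=
  Group.isSolvable_of_isSolvable_injective (f := Subgroup.inclusion h) (Subgroup.inclusion_injective h)

theorem center_eq_bot (hG : IsMinSimpleOddOrder G) : Subgroup.center G = ⊥ := by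
  rcases (isSimple hG).eq_bot_or_eq_top_of_normal (Subgroup.center G) inferInstance with h | h
  · exact h
  · exact absurd ⟨⟨fun a b => ((Subgroup.mem_center_iff.mp (h ▸ Subgroup.mem_top b)) a)⟩⟩ hG.2.2.1

theorem not_solvable (hG : IsMinSimpleOddOrder G) : ¬ Group.IsSolvable G := fun _ => by
  haveI := isSimple hG
  exact hG.2.2.1 ⟨⟨IsSimpleGroup.comm_iff_isSolvable.mpr inferInstance⟩⟩

theorem ne_top_of_solvable (hG : IsMinSimpleOddOrder G) {H : Subgroup G} (hH : Group.IsSolvable H) :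
    H ≠ ⊤ := by
  rintro rfl
  exact not_solvable hG (Group.isSolvable_of_surjective
    (f := (Subgroup.topEquiv : (⊤ : Subgroup G) ≃* G).toMonoidHom) Subgroup.topEquiv.surjective)

theorem normalizer_ne_top (hG : IsMinSimpleOddOrder G) {D : Subgroup G} (h0 : D ≠ ⊥) (h1 : D ≠ ⊤) :
    normalizer (D : Set G) ≠ ⊤ := fun h => by
  rcases (isSimple hG).eq_bot_or_eq_top_of_normal D (Subgroup.normalizer_eq_top_iff.mp h) with e | e
  exacts [h0 e, h1 e]

theorem pgroup_ne_top (hG : IsMinSimpleOddOrder G) {p : ℕ} [Fact p.Prime] {D : Subgroup G}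
    (hD : IsPGroup p D) : D ≠ ⊤ :=
  ne_top_of_solvable hG (by haveI := hD.isNilpotent; infer_instance)

theorem centralizer_ne_top (hG : IsMinSimpleOddOrder G) {x : G} (hx : x ≠ 1) :
    centralizer ({x} : Set G) ≠ ⊤ := fun h => hx <| by
  have : x ∈ Subgroup.center G := Subgroup.mem_center_iff.mpr fun g =>
    Subgroup.mem_centralizer_singleton_iff.mp (h ▸ Subgroup.mem_top g)
  rwa [center_eq_bot hG, Subgroup.mem_bot] at this

theorem centralizer_subgroup_ne_top (hG : IsMinSimpleOddOrder G) {A : Subgroup G} (hA : A ≠ ⊥) :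
    centralizer (A : Set G) ≠ ⊤ := fun h => hA <| (Subgroup.eq_bot_iff_forall A).mpr fun a ha => by
  by_contra h1
  refine centralizer_ne_top hG h1 (top_le_iff.mp fun g _ => ?_)
  rw [Subgroup.mem_centralizer_singleton_iff]
  exact ((h.ge (Subgroup.mem_top g)) a ha).symm

/-- Solvable groups are `p`-constrained. -/
theorem isPConstrained_of_solvable {X : Type u} [Group X] [Finite X] [Group.IsSolvable X] (p : ℕ)
    [hp : Fact p.Prime] : IsPConstrained p X :=
  PLocal.isPConstrained_of_quotient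
    (CfsgLib.centralizer_pCore_le hp.out (CfsgLib.pPrimeCore_quotient_eq_bot p))

section Pi

variable {π : Set ℕ}

theorem pi_of_le {H K : Subgroup G} (h : H ≤ K) (hK : ∀ q : ℕ, q.Prime → q ∣ Nat.card K → q ∈ π) :
    ∀ q : ℕ, q.Prime → q ∣ Nat.card H → q ∈ π :=
  fun q hq hd => hK q hq (hd.trans (Subgroup.card_dvd_of_le h))

theorem coprime_of_notDvd {n : ℕ} {Y : Subgroup G}
    (h : ∀ q : ℕ, q.Prime → q ∣ Nat.card Y → q ∈ primesNotDvd n) : n.Coprime (Nat.card Y) :=
  Nat.coprime_of_dvd fun q hq h1 h2 => (h q hq h2).2 h1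

theorem card_piCore {X : Type u} [Group X] [Finite X] (π : Set ℕ) :
    ∀ p : ℕ, p.Prime → p ∣ Nat.card (Cfsg.piCore π X) → p ∈ π :=
  (CfsgLib.sSup_prop_of_closed_sup
    (fun N : Subgroup X => N.Normal ∧ ∀ p : ℕ, p.Prime → p ∣ Nat.card N → p ∈ π)
    ⟨inferInstance, fun p hp hd => by
      rw [Subgroup.card_bot] at hd; exact absurd (Nat.dvd_one.mp hd) hp.ne_one⟩
    (fun A B hA hB => by
      have := hA.1; have := hB.1
      refine ⟨inferInstance, fun p hp hd => ?_⟩
      rcases hp.dvd_mul.mp (hd.trans (CfsgLib.card_sup_dvd_mul A B)) with h | h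
      · exact hA.2 p hp h
      · exact hB.2 p hp h)
    (S := {N : Subgroup X | N.Normal ∧ ∀ p : ℕ, p.Prime → p ∣ Nat.card N → p ∈ π}) fun _ h => h).2

theorem piCoreOf_le (π : Set ℕ) (X : Subgroup G) : piCoreOf π X ≤ X := Subgroup.map_subtype_le _

theorem pi_piCoreOf (π : Set ℕ) (X : Subgroup G) :
    ∀ p : ℕ, p.Prime → p ∣ Nat.card (piCoreOf π X) → p ∈ π := fun p hp hd =>
  card_piCore π p hp (by rwa [piCoreOf, Subgroup.card_map_of_injective X.subtype_injective] at hd)

theorem le_piCoreOf {X Y : Subgroup G} (hYX : Y ≤ X) (hn : X ≤ normalizer (Y : Set G))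
    (hπ : ∀ p : ℕ, p.Prime → p ∣ Nat.card Y → p ∈ π) : Y ≤ piCoreOf π X := by
  have h : Y.subgroupOf X ≤ piCore π X := le_sSup ⟨(Subgroup.normal_subgroupOf_iff_le_normalizer hYX).mpr hn,
    fun p hp hd => hπ p hp (by rwa [Nat.card_congr (Subgroup.subgroupOfEquivOfLe hYX).toEquiv] at hd)⟩
  intro y hy
  exact ⟨⟨y, hYX hy⟩, h hy, rfl⟩

theorem le_normalizer_piCoreOf_self (π : Set ℕ) (X : Subgroup G) :
    X ≤ normalizer (piCoreOf π X : Set G) := by
  intro x hx
  rw [Subgroup.mem_normalizer_iff]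
  have key : ∀ g : X, ∀ y ∈ piCoreOf π X, (g : G) * y * (g : G)⁻¹ ∈ piCoreOf π X := by
    rintro g _ ⟨y, hy, rfl⟩
    exact ⟨g * y * g⁻¹, (inferInstance : (piCore π X).Normal).conj_mem y hy g, rfl⟩
  refine fun y => ⟨key ⟨x, hx⟩ y, fun hy => ?_⟩
  have := key ⟨x⁻¹, inv_mem hx⟩ _ hy
  simpa [mul_assoc] using this

theorem conj_smul_eq_of_mem_normalizer {X : Subgroup G} {g : G} (hg : g ∈ normalizer (X : Set G)) :
    MulAut.conj g • X = X := by
  ext y
  rw [CfsgLib.mem_conj_smul_iff]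
  exact (Subgroup.mem_normalizer_iff''.mp hg y).symm

theorem mem_normalizer_of_conj_smul {X : Subgroup G} {g : G} (hg : MulAut.conj g • X = X) :
    g ∈ normalizer (X : Set G) := by
  rw [Subgroup.mem_normalizer_iff'']
  intro y
  conv_lhs => rw [← hg]
  rw [CfsgLib.mem_conj_smul_iff]

theorem conj_smul_mono {X Y : Subgroup G} (h : X ≤ Y) (g : G) : MulAut.conj g • X ≤ MulAut.conj g • Y :=
  fun y hy => by
    rw [CfsgLib.mem_conj_smul_iff] at hy ⊢
    exact h hy

theorem le_normalizer_conj_smul {A X : Subgroup G} {g : G} (hg : g ∈ normalizer (A : Set G))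
    (hA : A ≤ normalizer (X : Set G)) : A ≤ normalizer ((MulAut.conj g • X : Subgroup G) : Set G) := by
  intro a ha
  refine mem_normalizer_of_conj_smul ?_
  have h1 : g⁻¹ * a * g ∈ A := (Subgroup.mem_normalizer_iff''.mp hg a).mp ha
  rw [CfsgLib.conj_smul_mul, show a * g = g * (g⁻¹ * a * g) by group, ← CfsgLib.conj_smul_mul,
    conj_smul_eq_of_mem_normalizer (hA h1)]

theorem normalizer_le_normalizer_piCoreOf (π : Set ℕ) (X : Subgroup G) :
    normalizer (X : Set G) ≤ normalizer (piCoreOf π X : Set G) := by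
  have key : ∀ g ∈ normalizer (X : Set G), MulAut.conj g • piCoreOf π X ≤ piCoreOf π X := by
    intro g hg
    refine le_piCoreOf ?_ ?_ ?_
    · have := conj_smul_mono (piCoreOf_le π X) g
      rwa [conj_smul_eq_of_mem_normalizer hg] at this
    · exact le_normalizer_conj_smul hg (le_normalizer_piCoreOf_self π X)
    · intro p hp hd
      rw [CfsgLib.card_conj_smul] at hd
      exact pi_piCoreOf π X p hp hd
  intro g hg
  refine mem_normalizer_of_conj_smul (le_antisymm (key g hg) ?_)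
  have := conj_smul_mono (key g⁻¹ (inv_mem hg)) g
  rwa [CfsgLib.conj_smul_mul, mul_inv_cancel, map_one, one_smul] at this

end Pi

end CfsgLib.MinSimpleOdd
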