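import Cfsg.Agent.Lib.MinSimpleOdd.HallFusion

/-!
The structure of `F(M)` and its TI property when `M_σ` is not nilpotent (B–G 15.2, 15.5).
-/

set_option autoImplicit false
set_option linter.unusedSectionVars false
set_option linter.style.haveILetI false
set_option maxHeartbeats 1000000

namespace CfsgLib.MinSimpleOdd

open Subgroup Cfsg
open scoped Pointwise commutatorElement IsMulCommutative

universe u
variable {G : Type u} [Group G] [Finite G]

theorem fitting_characteristic {S : Type u} [Group S] [Finite S] : (fittingSubgroup S).Characteristic :=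
  Subgroup.characteristic_iff_map_le.mpr fun f => by
    haveI : ((fittingSubgroup S).map f.toMonoidHom).Normal :=
      Subgroup.Normal.map CfsgLib.fittingSubgroup_normal f.toMonoidHom f.surjective
    refine CfsgLib.le_fittingSubgroup ?_
    haveI := CfsgLib.isNilpotent_fittingSubgroup (G := S)
    exact Group.nilpotent_of_surjective ((fittingSubgroup S).equivMapOfInjective f.toMonoidHom
      f.injective).toMonoidHom (MulEquiv.surjective _)

/-- The Sylow subgroups of `F(M)` are normal in `M`. -/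
theorem fitting_sylow (M : Subgroup G) (r : ℕ) [Fact r.Prime] :
    ∃ R : Subgroup G, R ≤ fittingOf M ∧ IsPGroup r R ∧ ¬ r ∣ R.relIndex (fittingOf M) ∧
      M ≤ normalizer (R : Set G) := by
  haveI := fittingOf_nilpotent M
  obtain ⟨P⟩ : Nonempty (Sylow r ↥(fittingOf M)) := inferInstance
  haveI : (P : Subgroup ↥(fittingOf M)).Characteristic := Sylow.characteristic_of_normal P inferInstance
  exact ⟨_, Subgroup.map_subtype_le _, P.2.map _, not_dvd_of_sylow _ P,
    (CfsgLib.le_normalizer_map_characteristic (le_normalizer_fittingOf M) (P : Subgroup ↥(fittingOf M))).1⟩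

variable {M : Subgroup G}

theorem le_fittingOf_core (hG : IsMinSimpleOddOrder G) (hM : IsCoatom M) {X : Subgroup G} (hXM : X ≤ M)
    (hn : M ≤ normalizer (X : Set G)) (hX : Group.IsNilpotent X) (hXs : X ≤ sigmaCore M) :
    X ≤ fittingOf (sigmaCore M) :=
  le_fittingOf_of_normal hXs ((piCoreOf_le _ _).trans hn) hX

theorem fittingOf_core_le (hG : IsMinSimpleOddOrder G) (hM : IsCoatom M) :
    fittingOf (sigmaCore M) ≤ fittingOf M := by
  haveI := fitting_characteristic (S := ↥(sigmaCore M))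
  exact le_fittingOf_of_normal ((fittingOf_le _).trans (piCoreOf_le _ _))
    (CfsgLib.le_normalizer_map_characteristic (le_normalizer_sigmaCore hG hM le_rfl) _).1
    (fittingOf_nilpotent _)

/-- `Y = O_{σ'}(F(M))`. -/
def fittingPrime (M : Subgroup G) : Subgroup G := piCoreOf {q | q.Prime ∧ q ∉ sigma M} (fittingOf M)

theorem fittingPrime_data (hG : IsMinSimpleOddOrder G) (hM : IsCoatom M) :
    M ≤ normalizer (fittingPrime M : Set G) ∧ fittingPrime M ≤ centralizer (sigmaCore M : Set G) ∧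
      IsCyclic ↥(fittingPrime M) ∧ (∀ r : ℕ, r.Prime → r ∣ Nat.card ↥(fittingPrime M) → r ∈ Cfsg.tau2 M) ∧
      fittingOf M = fittingOf (sigmaCore M) ⊔ fittingPrime M := by
  set Y := fittingPrime M with hY
  have hYF : Y ≤ fittingOf M := piCoreOf_le _ _
  have hYM : Y ≤ M := hYF.trans (fittingOf_le M)
  have hn : M ≤ normalizer (Y : Set G) :=
    (le_normalizer_fittingOf M).trans (normalizer_le_normalizer_piCoreOf _ _)
  have hσ : ∀ r : ℕ, r.Prime → r ∣ Nat.card Y → r ∉ sigma M := fun r hr hd => (pi_piCoreOf _ _ r hr hd).2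
  have hsM : sigmaCore M ≤ M := piCoreOf_le _ _
  have hc : Y ≤ centralizer (sigmaCore M : Set G) := by
    intro y hy s hs
    have hdisj : sigmaCore M ⊓ Y = ⊥ := disjoint_iff.mp (Subgroup.disjoint_of_coprime_natCard
      (Nat.coprime_of_dvd fun r hr h1 h2 => hσ r hr h2 ((sigmaCore_hall hG hM).1.2.1 r hr h1)))
    have h1 : y * s * y⁻¹ * s⁻¹ ∈ sigmaCore M ⊓ Y := by
      refine Subgroup.mem_inf.mpr ⟨mul_mem ((Subgroup.mem_normalizer_iff.mp (le_normalizer_sigmaCore hG hM le_rfl (hYM hy)) s).mp hs)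
        (inv_mem hs), ?_⟩
      rw [show y * s * y⁻¹ * s⁻¹ = y * (s * y⁻¹ * s⁻¹) by group]
      exact mul_mem hy ((Subgroup.mem_normalizer_iff.mp (hn (hsM hs)) _).mp (inv_mem hy))
    rw [hdisj, Subgroup.mem_bot, mul_inv_eq_one, mul_inv_eq_iff_eq_mul] at h1
    exact h1.symm
  obtain ⟨hcyc, hτ⟩ := cyclic_tau2_of_centralizes hG hM (H := sigmaCore M) le_rfl (sigmaCore_ne_bot hG hM)
    (by rw [Subgroup.relIndex_self]; exact Nat.coprime_one_right _) hYM hc hσ
  refine ⟨hn, hc, hcyc, hτ, le_antisymm ?_ (sup_le (fittingOf_core_le hG hM) hYF)⟩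
  refine le_of_sylows fun r hr => ?_
  haveI := Fact.mk hr
  obtain ⟨R, hRF, hR, hRi, hRn⟩ := fitting_sylow M r
  refine ⟨R, hRF, hRi, ?_⟩
  by_cases hrσ : r ∈ sigma M
  · exact le_sup_of_le_left (le_fittingOf_core hG hM (hRF.trans (fittingOf_le M)) hRn hR.isNilpotent
      (pgroup_le_sigmaCore hG hM hrσ hR (hRF.trans (fittingOf_le M))))
  · exact le_sup_of_le_right (le_piCoreOf hRF ((fittingOf_le M).trans hRn)
      fun a ha hd => ⟨ha, by rw [card_dvd_of_pgroup hR ha hd]; exact hrσ⟩)

theorem fittingHallOf_hall (hG : IsMinSimpleOddOrder G) (hM : IsCoatom M) :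
    (Nat.card (fittingHallOf M)).Coprime ((fittingHallOf M).relIndex M) ∧
    (Nat.card (fittingHallOf M)).Coprime ((fittingHallOf M).relIndex (sigmaCore M)) := by
  have h1 : (Nat.card (fittingHallOf M)).Coprime ((fittingHallOf M).relIndex M) := by
    rw [fittingHallOf, Subgroup.card_map_of_injective M.subtype_injective]
    have : ((fittingHall ↥M).map M.subtype).relIndex M = (fittingHall ↥M).index := by
      rw [Subgroup.relIndex, Subgroup.subgroupOf, Subgroup.comap_map_eq_self_of_injective M.subtype_injective]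
    rw [this]
    exact CfsgLib.FittingHall.fittingHall_coprime
  exact ⟨h1, h1.coprime_dvd_right (Dvd.intro _
    (Subgroup.relIndex_mul_relIndex _ _ _ (fittingHallOf_le_sigmaCore hG hM) (piCoreOf_le _ _)))⟩

theorem tau2_eq_empty_of_not_nilpotent (hG : IsMinSimpleOddOrder G) (hM : IsCoatom M)
    (hn : ¬ Group.IsNilpotent (sigmaCore M)) (r : ℕ) : r ∉ Cfsg.tau2 M := fun h => by
  haveI := Fact.mk h.1
  exact hn (tau2_nilpotent hG hM h)

theorem derived_eq_of_complement (hG : IsMinSimpleOddOrder G) (hM : IsCoatom M) {E : Subgroup G}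
    (hE : IsComplIn E (sigmaCore M) M) : ⁅M, M⁆ ≤ sigmaCore M ⊔ ⁅E, E⁆ := by
  refine derived_le_of_sup (le_normalizer_sigmaCore hG hM le_rfl) (piCoreOf_le _ _) hE.1 fun m hm => ?_
  obtain ⟨a, ha, b, hb, rfl⟩ := hE.2.2.2 m hm
  exact mul_mem (Subgroup.mem_sup_right ha) (Subgroup.mem_sup_left hb)

/-- B–G 15.3/15.5: `C_M(M_F) ≤ F(M) = C_M(M_F) M_F` and `M'' ≤ F(M)`. -/
theorem fitting_eq (hG : IsMinSimpleOddOrder G) (hM : IsCoatom M) :
    ⁅⁅M, M⁆, ⁅M, M⁆⁆ ≤ fittingOf M ∧
      fittingOf M = (M ⊓ centralizer (fittingHallOf M : Set G)) ⊔ fittingHallOf M := by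
  haveI hMs := solvable_of_ne_top hG hM.1
  set H := fittingHallOf M with hH
  have hHM : H ≤ M := fittingHallOf_le M
  have hHs := fittingHallOf_le_sigmaCore hG hM
  have hsM : sigmaCore M ≤ M := piCoreOf_le _ _
  obtain ⟨hhallM, hhall⟩ := fittingHallOf_hall hG hM
  have hHF : H ≤ fittingOf M :=
    le_fittingOf_of_normal hHM (le_normalizer_fittingHallOf M) (fittingHallOf_nilpotent M)
  set C := M ⊓ centralizer (H : Set G) with hC
  have hCn : M ≤ normalizer (C : Set G) := fun m hm => mem_normalizer_of_conj_smul (by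
    rw [hC, Subgroup.smul_inf, conj_smul_eq_of_mem_normalizer (Subgroup.le_normalizer hm),
      conj_smul_eq_of_mem_normalizer (normalizer_le_normalizer_centralizer H (le_normalizer_fittingHallOf M hm))])
  obtain ⟨E, hE, -⟩ := exists_complement_ge hG hM (bot_le : (⊥ : Subgroup G) ≤ M) fun r hr hd =>
    absurd (Subgroup.card_bot (G := G) ▸ hd) hr.not_dvd_one
  have key : Group.IsNilpotent C ∧ ⁅⁅M, M⁆, ⁅M, M⁆⁆ ≤ fittingOf M := by
    by_cases hn : Group.IsNilpotent (sigmaCore M)
    · have hF := fittingHallOf_eq hG hM hn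
      refine ⟨?_, ?_⟩
      · obtain ⟨X, hXc, -, hCX⟩ := centralizer_hall_eq hG hM hHs
          (fun e => sigmaCore_ne_bot hG hM (hF ▸ e)) hhall
        haveI := cyclic_isCommutative hXc
        set Z := sigmaCore M ⊓ centralizer (H : Set G) with hZ
        have hXH : X ≤ centralizer (H : Set G) := ((le_sup_right : X ≤ Z ⊔ X).trans hCX.ge).trans inf_le_right
        have hsame : sigmaCore M = H := hF.symm
        have hZZ : Z ≤ centralizer (Z : Set G) := fun a ha b hb => (ha.2 b (hsame ▸ hb.1 : b ∈ H))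
        have hXZ : X ≤ centralizer (Z : Set G) := hXH.trans (Subgroup.centralizer_le (fun b hb => (hsame ▸ hb.1 : b ∈ H)))
        haveI : IsMulCommutative C := by
          have h1 : C ≤ centralizer (C : Set G) := by
            rw [hC, hCX]
            refine sup_le ?_ ?_
            · refine Subgroup.le_centralizer_iff.mp (sup_le hZZ hXZ)
            · refine Subgroup.le_centralizer_iff.mp (sup_le (Subgroup.le_centralizer_iff.mp hXZ) (Subgroup.le_centralizer X))
          exact ⟨⟨fun a b => Subtype.ext (h1 b.2 a a.2)⟩⟩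
        exact CommGroup.isNilpotent
      · haveI := complement_derived_commutative hG hM hE
        have hSd : sigmaCore M ≤ ⁅M, M⁆ := core_le_derived hG hM subset_rfl
        have hEE : (⁅⁅E, E⁆, ⁅E, E⁆⁆ : Subgroup G) = ⊥ := Subgroup.commutator_eq_bot_iff_le_centralizer.mpr
          (Subgroup.le_centralizer (⁅E, E⁆ : Subgroup G))
        have h2 := derived_le_of_sup ((Subgroup.commutator_le_self M).trans (le_normalizer_sigmaCore hG hM le_rfl))
          hSd (Subgroup.commutator_mono hE.1 hE.1) (derived_eq_of_complement hG hM hE)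
        rw [hEE, sup_bot_eq, ← hF] at h2
        exact h2.trans hHF
    · obtain ⟨K, hK⟩ := CfsgLib.exists_isPiHallOf (kappa M) (M := M) inferInstance
      obtain ⟨U, hKU⟩ := exists_sigmaDecomposition hG hM (kappaHall_cyclic hG hM hK) hK
      obtain ⟨-, q, Q, nd⟩ := exists_nonNilData hG hM hKU hn
      haveI := Fact.mk nd.hq
      obtain ⟨D, hD, hKD, hDn, hqD, hfpf, hmove⟩ := nd.exists_compl hG
      obtain ⟨-, -, -, -, -, -, hDQ⟩ := nd.chief_factor hG hD hKD hDn hqD hfpf hmove
      haveI := hDn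
      set S := sigmaCore M with hS
      haveI hQ'n : (Q.subgroupOf S).Normal :=
        (Subgroup.normal_subgroupOf_iff_le_normalizer nd.le).mpr (hsM.trans nd.normal)
      haveI : Group.IsNilpotent (S ⧸ Q.subgroupOf S) := by
        haveI : Group.IsNilpotent (D.subgroupOf S) :=
          Group.nilpotent_of_mulEquiv (Subgroup.subgroupOfEquivOfLe hD.2.1).symm
        exact Group.nilpotent_of_mulEquiv
          ((isComplement'_subgroupOf nd.coprime_card hD).symm.QuotientMulEquiv).symm
      have hnilQ : ∀ X : Subgroup G, X ≤ S → X ≤ centralizer (Q : Set G) → Group.IsNilpotent X := by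
        intro X hXS hXQ
        refine Subgroup.isNilpotent_of_ker_le_center ((QuotientGroup.mk' (Q.subgroupOf S)).comp (Subgroup.inclusion hXS))
          fun y hy => Subgroup.mem_center_iff.mpr fun z => Subtype.ext ?_
        rw [MonoidHom.mem_ker, MonoidHom.comp_apply, QuotientGroup.mk'_apply, QuotientGroup.eq_one_iff] at hy
        exact ((hXQ z.2) (y : G) hy).symm
      refine ⟨?_, ?_⟩
      · obtain ⟨X, -, hXτ, hCX⟩ := centralizer_hall_eq hG hM hHs
          (fun e => nd.hq.ne_one (by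
            rw [← nd.card, le_bot_iff.mp ((nd.fixed_le.trans nd.le_fitting).trans e.le), Subgroup.card_bot])) hhall
        have hX1 : X = ⊥ := Subgroup.card_eq_one.mp (Nat.eq_one_iff_not_exists_prime_dvd.mpr fun r hr hd =>
          tau2_eq_empty_of_not_nilpotent hG hM hn r (hXτ r hr hd))
        rw [hC, hCX, hX1, sup_bot_eq]
        exact hnilQ _ inf_le_left (inf_le_right.trans (Subgroup.centralizer_le nd.le_fitting))
      · have hM' : ⁅M, M⁆ ≤ S := by
          refine (derived_eq_of_complement hG hM nd.hE).trans ?_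
          haveI := cyclic_isCommutative (kappaHall_cyclic hG hM hK)
          rw [(Subgroup.commutator_eq_bot_iff_le_centralizer (H₁ := K) (H₂ := K)).mpr (Subgroup.le_centralizer K),
            sup_bot_eq]
        have hS' : (⁅S, S⁆ : Subgroup G) ≤ Q ⊔ ⁅D, D⁆ :=
          derived_le_of_sup (hsM.trans nd.normal) nd.le hD.2.1 fun m hm => by
            obtain ⟨a, ha, b, hb, rfl⟩ := hD.2.2.2 m hm
            exact mul_mem (Subgroup.mem_sup_left ha) (Subgroup.mem_sup_right hb)
        refine (Subgroup.commutator_mono hM' hM').trans ?_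
        refine le_fittingOf_of_normal ((Subgroup.commutator_le_self S).trans hsM) ?_ ?_
        · intro m hm
          refine mem_normalizer_of_conj_smul ?_
          have : MulAut.conj m • ⁅S, S⁆ = ⁅MulAut.conj m • S, MulAut.conj m • S⁆ := Subgroup.map_commutator _ _ _
          rw [this, conj_smul_eq_of_mem_normalizer (le_normalizer_sigmaCore hG hM le_rfl hm)]
        · have hDd : (⁅D, D⁆ : Subgroup G) ≤ D := Subgroup.commutator_le_self D
          haveI : Group.IsNilpotent ↥(⁅D, D⁆ : Subgroup G) :=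
            Group.nilpotent_of_mulEquiv (Subgroup.subgroupOfEquivOfLe hDd)
          haveI := nd.pgroup.isNilpotent
          let φ : Q × ↥(⁅D, D⁆ : Subgroup G) →* G :=
            MonoidHom.noncommCoprod Q.subtype (⁅D, D⁆ : Subgroup G).subtype fun a b => (hDQ b.2 a a.2)
          haveI : Group.IsNilpotent φ.range := Group.nilpotent_of_surjective _ φ.rangeRestrict_surjective
          have hle : (⁅S, S⁆ : Subgroup G) ≤ φ.range := hS'.trans (sup_le
            (fun y hy => ⟨(⟨y, hy⟩, 1), show y * 1 = y from mul_one y⟩) (fun y hy => ⟨(1, ⟨y, hy⟩), show 1 * y = y from one_mul y⟩))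
          exact Group.nilpotent_of_mulEquiv (Subgroup.subgroupOfEquivOfLe hle)
  refine ⟨key.2, le_antisymm ?_ (sup_le (le_fittingOf_of_normal inf_le_left hCn key.1) hHF)⟩
  refine le_of_sylows fun r hr => ?_
  haveI := Fact.mk hr
  obtain ⟨R, hRF, hR, hRi, hRn⟩ := fitting_sylow M r
  have hRM : R ≤ M := hRF.trans (fittingOf_le M)
  refine ⟨R, hRF, hRi, ?_⟩
  by_cases hrH : r ∣ Nat.card H
  · refine le_sup_of_le_right (le_normal_hall hMs (π := {a | a ∣ Nat.card H}) ⟨hHM, fun a _ hd => hd,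
      fun a ha hd h => ha.ne_one (Nat.eq_one_of_dvd_coprimes hhallM hd h)⟩ (le_normalizer_fittingHallOf M) hRM ?_)
    intro a ha hd
    rw [card_dvd_of_pgroup hR ha hd]
    exact hrH
  · refine le_sup_of_le_left (le_inf hRM ?_)
    intro y hy h hh
    have hdisj : H ⊓ R = ⊥ := disjoint_iff.mp (Subgroup.disjoint_of_coprime_natCard
      (Nat.coprime_of_dvd fun a ha h1 h2 => hrH (card_dvd_of_pgroup hR ha h2 ▸ h1)))
    have h1 : h * y * h⁻¹ * y⁻¹ ∈ H ⊓ R := by
      refine Subgroup.mem_inf.mpr ⟨?_, mul_mem ((Subgroup.mem_normalizer_iff.mp (hRn (hHM hh)) y).mp hy) (inv_mem hy)⟩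
      rw [show h * y * h⁻¹ * y⁻¹ = h * (y * h⁻¹ * y⁻¹) by group]
      exact mul_mem hh ((Subgroup.mem_normalizer_iff.mp (le_normalizer_fittingHallOf M (hRM hy)) _).mp (inv_mem hh))
    rw [hdisj, Subgroup.mem_bot, mul_inv_eq_one, mul_inv_eq_iff_eq_mul] at h1
    exact h1

/-- `F(M) ≤ M'` when `κ(M) ≠ ∅`. -/
theorem fitting_le_derived (hG : IsMinSimpleOddOrder G) (hM : IsCoatom M) (hk : (kappa M).Nonempty) :
    fittingOf M ≤ ⁅M, M⁆ := by
  haveI hMs := solvable_of_ne_top hG hM.1
  obtain ⟨hn, -, -, hτ, heq⟩ := fittingPrime_data hG hM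
  obtain ⟨K, hK⟩ := CfsgLib.exists_isPiHallOf (kappa M) (M := M) inferInstance
  obtain ⟨U, hKU⟩ := exists_sigmaDecomposition hG hM (kappaHall_cyclic hG hM hK) hK
  have hK1 : K ≠ ⊥ := by
    obtain ⟨t, ht⟩ := hk
    rintro rfl
    have h2 := hK.2.2 t ht.1 ht
    rw [Subgroup.relIndex_bot_left] at h2
    exact h2 ht.2.1
  obtain ⟨d, hs⟩ := decomp_split hG hM hKU hK1
  have hsd : sigmaCore M ≤ ⁅M, M⁆ := core_le_derived hG hM subset_rfl
  rw [heq]
  refine sup_le ((fittingOf_le _).trans hsd) ?_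
  set Y := fittingPrime M with hY
  have hYM : Y ≤ M := (piCoreOf_le _ _).trans (fittingOf_le M)
  obtain ⟨e, he, hle⟩ := conj_into_hall hG hM.1 (complement_hall hG hM hs.hE) hYM
    fun r hr hd => (hτ r hr hd).2.1
  rw [conj_smul_eq_of_mem_normalizer (hn he)] at hle
  have hYU : Y ≤ U := le_normal_hall (solvable_of_le hs.hE.1 hMs) hs.hallU hs.normal hle
    fun r hr hd => fun hk' => kappa_not_tau2 hG hM hk' (hτ r hr hd)
  haveI := hs.comm
  obtain ⟨k, hk', hk1⟩ := (Subgroup.bot_or_exists_ne_one K).resolve_left hK1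
  exact hYU.trans (le_commutator_of_fpf_element (hKU.normal hk') (hs.fpf k hk' hk1) hKU.compl.1 (hK.1 hk'))

/-- B–G 15.2 (e): `F(M)` is TI when `M_σ` is not nilpotent. -/
theorem fitting_ti_of_not_nilpotent (hG : IsMinSimpleOddOrder G) (hM : IsCoatom M)
    (hn : ¬ Group.IsNilpotent (sigmaCore M)) : IsTISubset (fittingOf M : Set G) := by
  haveI := solvable_of_ne_top hG hM.1
  obtain ⟨K, hK⟩ := CfsgLib.exists_isPiHallOf (kappa M) (M := M) inferInstance
  obtain ⟨U, hKU⟩ := exists_sigmaDecomposition hG hM (kappaHall_cyclic hG hM hK) hK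
  obtain ⟨-, q, Q, nd⟩ := exists_nonNilData hG hM hKU hn
  haveI := Fact.mk nd.hq
  have hqβ := nd.mem_beta hG
  have hqM := nd.hq_mem hG
  obtain ⟨-, -, -, hτ, heq⟩ := fittingPrime_data hG hM
  have hFs : fittingOf M ≤ sigmaCore M := by
    have hY1 : fittingPrime M = ⊥ := Subgroup.card_eq_one.mp (Nat.eq_one_iff_not_exists_prime_dvd.mpr fun r hr hd =>
      tau2_eq_empty_of_not_nilpotent hG hM hn r (hτ r hr hd))
    rw [heq, hY1, sup_bot_eq]
    exact fittingOf_le _
  have hsM : sigmaCore M ≤ M := piCoreOf_le _ _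
  have hQM : Q ≤ M := nd.le.trans hsM
  have hQF : Q ≤ fittingOf M := le_fittingOf_of_normal hQM nd.normal nd.pgroup.isNilpotent
  intro g hg x hx hgx
  by_contra hx1
  have hgM : g ∉ M := fun h => hg (le_normalizer_fittingOf M h)
  have hxs : x ∈ sigmaCore M := hFs hx
  have hxg : x ∈ MulAut.conj g⁻¹ • M := by
    rw [CfsgLib.mem_conj_smul_iff, inv_inv]
    exact hsM (hFs hgx)
  obtain ⟨-, hβ, -⟩ := sigma_meet_conj hG hM (g := g⁻¹) fun h => hgM (by simpa using M.inv_mem h)
  have hqx : ¬ q ∣ orderOf x := fun h =>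
    hβ q nd.hq (h.trans (Subgroup.orderOf_dvd_natCard _ (⟨hxs, hxg⟩ : x ∈ sigmaCore M ⊓ MulAut.conj g⁻¹ • M))) hqβ
  haveI := fittingOf_nilpotent M
  have hQx : Q ≤ centralizer ({x} : Set G) := fun a ha => by
    rw [Subgroup.mem_centralizer_singleton_iff]
    obtain ⟨i, hi⟩ := nd.pgroup ⟨a, ha⟩
    have haG : a ^ q ^ i = 1 := by simpa using congrArg Subtype.val hi
    have hco : (orderOf (⟨a, hQF ha⟩ : fittingOf M)).Coprime (orderOf (⟨x, hx⟩ : fittingOf M)) := by
      rw [Subgroup.orderOf_mk, Subgroup.orderOf_mk]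
      exact Nat.Coprime.coprime_dvd_left (orderOf_dvd_of_pow_eq_one haG)
        ((nd.hq.coprime_iff_not_dvd.mpr hqx).pow_left i)
    exact congrArg Subtype.val (CfsgLib.commute_of_nilpotent _ _ hco)
  obtain ⟨c, hc, hcM, hfix, -⟩ := conj_of_mem hG hM hxs hx1 hxg
  by_cases hCM : centralizer ({x} : Set G) ≤ M
  · refine hgM ?_
    have := (normalizer_coatom hG hM).le (mem_normalizer_of_conj_smul (hfix hCM))
    simpa using M.inv_mem this
  obtain ⟨N, hN⟩ := exists_sigmaOver hG hM hxs hx1 hCM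
  obtain ⟨t, ht, htd⟩ := exists_prime_dvd_order hx1
  haveI := Fact.mk ht
  have hqN : q ∉ sigma N := fun h => by
    obtain ⟨a, ha⟩ := sigma_disjointness hG hM hN.hN hqM h
    exact (hN.tau2 t ht htd).2.1 (by rw [ha, sigma_conj]; exact order_sigma hG hM hxs t ht htd)
  refine hqβ.1.2 (pRankLE_of_sylow_rel hQM nd.pgroup ?_ ?_)
  · rw [← Subgroup.relIndex_mul_relIndex Q (sigmaCore M) M nd.le hsM]
    intro h
    rcases nd.hq.dvd_mul.mp h with h | h
    · exact nd.hall h
    · exact (sigmaCore_hall hG hM).1.2.2 q nd.hq hqM h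
  · exact pRankLE_of_injective (Subgroup.inclusion (hQx.trans hN.le)) (Subgroup.inclusion_injective _)
      (fun y => Subgroup.mem_top _) (pRankLE_map (G := G) Subgroup.topEquiv.symm (rank_two_of_not_sigma hG hN.hN hqN))

end CfsgLib.MinSimpleOdd
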