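import Cfsg.Agent.Lib.MinSimpleOdd.Beta
import Mathlib.GroupTheory.SpecificGroups.ZGroup

/-!
A complement `E` of `M_σ` in a maximal subgroup (B–G 12.1).
-/

set_option autoImplicit false
set_option linter.unusedSectionVars false
set_option maxHeartbeats 1000000

namespace CfsgLib.MinSimpleOdd

open Subgroup Cfsg
open scoped Pointwise commutatorElement

universe u
variable {G : Type u} [Group G] [Finite G] {p : ℕ} [Fact p.Prime]

theorem cyclic_of_pRankLE_one {R : Type u} [Group R] [Finite R] (hodd : Odd (Nat.card R)) (hR : IsPGroup p R)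
    (h : PRankLE p 1 R) : IsCyclic R := by
  by_contra hnc
  have hpp : p.Prime := Fact.out
  obtain ⟨k, hk⟩ := hR.exists_card_eq
  have hk0 : k ≠ 0 := fun e => hnc (by
    haveI : Subsingleton R := (Nat.card_eq_one_iff_unique.mp (by rw [hk, e, pow_zero])).1
    infer_instance)
  have hp2 : p ≠ 2 := fun e => by
    subst e
    exact (Nat.not_odd_iff_even.mpr (by rw [hk]; exact (even_two.pow_of_ne_zero hk0))) hodd
  obtain ⟨A, -, -, hA, hA2⟩ := exists_elementary_two hp2 (hR.to_subgroup (⊤ : Subgroup R))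
    (fun hc => hnc (isCyclic_of_surjective Subgroup.topEquiv.toMonoidHom Subgroup.topEquiv.surjective))
  have := h A hA.1 hA.2
  rw [hA2] at this
  exact absurd this (not_le.mpr (Nat.pow_lt_pow_right hpp.one_lt one_lt_two))

/-- A Hall subgroup of a nilpotent group is normal. -/
theorem hall_normal_of_nilpotent {D : Type u} [Group D] [Finite D] [Group.IsNilpotent D] (H : Subgroup D)
    (hH : (Nat.card H).Coprime H.index) : H.Normal := by
  rw [← Subgroup.normalizer_eq_top_iff, ← Subgroup.index_eq_one]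
  refine Nat.eq_one_iff_not_exists_prime_dvd.mpr fun r hr hd => ?_
  haveI := Fact.mk hr
  by_cases hrH : r ∣ Nat.card H
  · exact hr.ne_one (Nat.eq_one_of_dvd_coprimes hH hrH (hd.trans (Subgroup.index_dvd_of_le Subgroup.le_normalizer)))
  obtain ⟨S⟩ : Nonempty (Sylow r D) := inferInstance
  refine S.not_dvd_index (hd.trans (Subgroup.index_dvd_of_le fun s hs =>
    Subgroup.centralizer_le_normalizer (H : Set D) fun h hh => ?_))
  refine (CfsgLib.commute_of_nilpotent (H := D) h s ?_).eq
  obtain ⟨k, hk⟩ := S.2.exists_card_eq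
  refine Nat.Coprime.coprime_dvd_left (Subgroup.orderOf_dvd_natCard _ hh) ?_
  refine Nat.Coprime.coprime_dvd_right (hk ▸ Subgroup.orderOf_dvd_natCard _ hs) ?_
  exact Nat.Coprime.pow_right k ((hr.coprime_iff_not_dvd.mpr hrH).symm)

variable {M E : Subgroup G}

theorem comm_le_map_commutator (M : Subgroup G) (hEM : E ≤ M) :
    ∀ x : E, x ∈ commutator ↥E → Subgroup.inclusion hEM x ∈ commutator ↥M := fun x hx =>
  (Subgroup.map_le_iff_le_comap.mp (by
    rw [commutator_def, Subgroup.map_commutator]
    exact Subgroup.commutator_mono le_top le_top : (commutator ↥E).map (Subgroup.inclusion hEM) ≤ commutator ↥M)) hx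

/-- `E'` is nilpotent. -/
theorem complement_derived_nilpotent (hG : IsMinSimpleOddOrder G) (hM : IsCoatom M)
    (hE : IsComplIn E (sigmaCore M) M) : Group.IsNilpotent ↥(commutator ↥E) := by
  obtain ⟨hEM, -, hint, -⟩ := hE
  haveI hn := derived_quotient_nilpotent hG hM (alpha_subset_sigma hG hM)
  set f := (QuotientGroup.mk' (piCore (sigma M) ↥M)).comp (Subgroup.inclusion hEM) with hf
  have hinj : Function.Injective f := by
    rw [injective_iff_map_eq_one]
    intro x hx
    have h1 : (x : G) ∈ E ⊓ sigmaCore M :=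
      ⟨x.2, ⟨Subgroup.inclusion hEM x, (QuotientGroup.eq_one_iff _).mp hx, rfl⟩⟩
    rw [hint, Subgroup.mem_bot] at h1
    exact Subtype.ext h1
  have hle : (commutator ↥E).map f ≤ commutator _ := by
    rw [commutator_def, Subgroup.map_commutator]
    exact Subgroup.commutator_mono le_top le_top
  haveI := Group.nilpotent_of_mulEquiv (Subgroup.subgroupOfEquivOfLe hle)
  exact Group.nilpotent_of_mulEquiv ((commutator ↥E).equivMapOfInjective f hinj).symm

theorem complement_rank_one (hEM : E ≤ M) (h : PRankLE p 1 M) : PRankLE p 1 E :=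
  pRankLE_of_injective E.subtype E.subtype_injective (X := M) (fun x => hEM x.2) h

theorem complement_sylow_cyclic (hG : IsMinSimpleOddOrder G) (hEM : E ≤ M) (h : PRankLE p 1 M)
    {P : Subgroup ↥E} (hP : IsPGroup p P) : IsCyclic P :=
  cyclic_of_pRankLE_one (odd_subgroup (odd_subgroup hG.1 E) P) hP
    (pRankLE_of_injective (E.subtype.comp P.subtype) (E.subtype_injective.comp P.subtype_injective)
      (X := M) (fun x => hEM (x : E).2) h)

theorem prime_dvd_index_eq {π : Set ℕ} (hG : IsMinSimpleOddOrder G) {H : Subgroup G} (hH : IsPiHallOf π H E)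
    {r : ℕ} [Fact r.Prime] (hr : r ∈ π) (P : Sylow r H) :
    ∃ Q : Sylow r E, (Q : Subgroup E).map E.subtype = (P : Subgroup H).map H.subtype := by
  have hle : (P : Subgroup H).map H.subtype ≤ E := (Subgroup.map_subtype_le _).trans hH.1
  have hnd : ¬ r ∣ ((P : Subgroup H).map H.subtype).relIndex E := by
    rw [← Subgroup.relIndex_mul_relIndex _ H E (Subgroup.map_subtype_le _) hH.1]
    intro hd
    rcases (Fact.out : r.Prime).dvd_mul.mp hd with h | h
    · refine P.not_dvd_index ?_
      rwa [Subgroup.relIndex, Subgroup.subgroupOf,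
        Subgroup.comap_map_eq_self_of_injective (Subgroup.subtype_injective _)] at h
    · exact hH.2.2 r Fact.out hr h
  obtain ⟨Q, hQ, -⟩ := sylow_of_relIndex hle (P.2.map _) hnd
  exact ⟨Q, hQ⟩

/-- B–G 12.1: `E₁` is cyclic. -/
theorem tau1_hall_cyclic (hG : IsMinSimpleOddOrder G) (hM : IsCoatom M)
    (hE : IsComplIn E (sigmaCore M) M) {E₁ : Subgroup G} (hH : IsPiHallOf (tau1 M) E₁ E) : IsCyclic E₁ := by
  have hEM := hE.1
  have hab : ∀ a b : E₁, a * b = b * a := by
    intro a b
    have hc : ((⁅a, b⁆ : E₁) : G) ∈ (⁅M, M⁆ : Subgroup G) :=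
      Subgroup.commutator_mem_commutator (hEM (hH.1 a.2)) (hEM (hH.1 b.2))
    by_contra hne
    have h1 : orderOf ((⁅a, b⁆ : E₁) : G) ≠ 1 := fun e => hne (commutatorElement_eq_one_iff_mul_comm.mp
      (Subtype.ext (orderOf_eq_one_iff.mp e)))
    obtain ⟨r, hr, hd⟩ := Nat.exists_prime_and_dvd h1
    exact (hH.2.1 r hr (hd.trans (Subgroup.orderOf_dvd_natCard _ (⁅a, b⁆ : E₁).2))).2.2.2.1
      (hd.trans (Subgroup.orderOf_dvd_natCard _ hc))
  haveI : IsMulCommutative E₁ := ⟨⟨hab⟩⟩
  haveI : IsZGroup E₁ := ⟨fun r hr P => by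
    haveI := Fact.mk hr
    by_cases hd : r ∣ Nat.card E₁
    · have ht := hH.2.1 r hr hd
      obtain ⟨Q, hQ⟩ := prime_dvd_index_eq hG hH ht P
      haveI := complement_sylow_cyclic hG hEM ht.2.2.2.2 Q.2
      exact isCyclic_of_surjective
        (((Q : Subgroup E).equivMapOfInjective E.subtype E.subtype_injective).trans
          ((MulEquiv.subgroupCongr hQ).trans
            ((P : Subgroup E₁).equivMapOfInjective E₁.subtype E₁.subtype_injective).symm)).toMonoidHom
        (MulEquiv.surjective _)
    · haveI : Subsingleton (P : Subgroup E₁) := by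
        refine (Nat.card_eq_one_iff_unique.mp ?_).1
        obtain ⟨k, hk⟩ := P.2.exists_card_eq
        rcases k with _ | k
        · rw [hk, pow_zero]
        · exact absurd ((dvd_pow_self r k.succ_ne_zero).trans (hk ▸ Subgroup.card_subgroup_dvd_card _)) hd
      infer_instance⟩
  haveI : Group.IsNilpotent E₁ := @CommGroup.isNilpotent E₁ { (inferInstance : Group E₁) with mul_comm := hab }
  infer_instance

/-- B–G 12.1: `E₃ ≤ E'`, normal and cyclic. -/
theorem tau3_hall (hG : IsMinSimpleOddOrder G) (hM : IsCoatom M)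
    (hE : IsComplIn E (sigmaCore M) M) {E₃ : Subgroup G} (hH : IsPiHallOf (tau3 M) E₃ E) :
    IsCyclic E₃ ∧ E₃ ≤ ⁅E, E⁆ ∧ E ≤ normalizer (E₃ : Set G) := by
  have hEM := hE.1
  haveI hnil := complement_derived_nilpotent hG hM hE
  have key : ∀ r : ℕ, ∀ _ : Fact r.Prime, r ∈ tau3 M → ∀ Q : Sylow r E, ¬ r ∣ (commutator ↥E).index := by
    intro r _ hr Q
    haveI := complement_sylow_cyclic hG hEM hr.2.2.2 Q.2
    have hrd : r ∣ Nat.card ↥(commutator ↥E) := by
      -- `M' ≤ M_σ E'`
      obtain ⟨k, hk⟩ := Nat.exists_eq_succ_of_ne_zero (Nat.card_pos (α := ↥(commutator ↥E))).ne'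
      by_contra hnd
      set K := (commutator ↥M)
      set N := piCore (sigma M) ↥M
      set D := (commutator ↥E).map (Subgroup.inclusion hEM)
      have hK : K ≤ N ⊔ D := by
        have hsur : Function.Surjective ((QuotientGroup.mk' N).comp (Subgroup.inclusion hEM)) := by
          intro y
          obtain ⟨m, rfl⟩ := QuotientGroup.mk'_surjective N y
          obtain ⟨a, ha, b, ⟨b', hb', rfl⟩, hab⟩ := hE.2.2.2 m m.2
          refine ⟨⟨a, ha⟩, (QuotientGroup.eq.mpr ?_)⟩
          have : (Subgroup.inclusion hEM ⟨a, ha⟩)⁻¹ * m = b' := Subtype.ext (by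
            show (a : G)⁻¹ * (m : G) = _
            rw [hab, inv_mul_cancel_left]; rfl)
          rw [this]; exact hb'
        have h1 : K.map (QuotientGroup.mk' N) ≤ D.map (QuotientGroup.mk' N) := by
          rw [Subgroup.map_map]
          simp only [K, commutator_def, Subgroup.map_commutator]
          rw [Subgroup.map_top_of_surjective _ hsur]
          exact Subgroup.commutator_mono le_top le_top
        have := Subgroup.map_le_iff_le_comap.mp h1
        rwa [Subgroup.comap_map_eq, QuotientGroup.ker_mk', sup_comm] at this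
      have h2 : r ∣ Nat.card ↥(N ⊔ D) := by
        refine Dvd.dvd.trans ?_ (Subgroup.card_dvd_of_le hK)
        rw [← Subgroup.card_map_of_injective (K := K) M.subtype_injective, Subgroup.map_subtype_commutator]
        exact hr.2.2.1
      have h3 : Nat.card ↥(N ⊔ D) ∣ Nat.card N * Nat.card D := by
        rw [← Subgroup.card_mul_index (N.subgroupOf (N ⊔ D)),
          Nat.card_congr (Subgroup.subgroupOfEquivOfLe le_sup_left).toEquiv]
        refine Nat.mul_dvd_mul_left _ ?_
        show N.relIndex (N ⊔ D) ∣ _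
        rw [Subgroup.relIndex_sup_left]
        exact Subgroup.relIndex_dvd_card _ _
      rcases hr.1.dvd_mul.mp (h2.trans h3) with h | h
      · exact hr.2.1 (card_piCore _ r hr.1 h)
      · exact hnd (h.trans (Subgroup.card_map_dvd _ _))
    rcases Q.not_dvd_card_commutator_or_not_dvd_index_commutator with h | h
    · exact absurd hrd h
    · exact h
  have key' : ∀ r : ℕ, r.Prime → r ∈ tau3 M → ¬ r ∣ (commutator ↥E).index := fun r hr ht => by
    haveI := Fact.mk hr
    exact key r inferInstance ht default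
  set D := commutator ↥E with hD
  set X := E₃.subgroupOf E with hX
  have hXπ : ∀ r : ℕ, r.Prime → r ∣ Nat.card X → r ∈ tau3 M := fun r hr hd => hH.2.1 r hr (by
    rwa [Nat.card_congr (Subgroup.subgroupOfEquivOfLe hH.1).toEquiv] at hd)
  have hXD : X ≤ D := by
    refine Subgroup.relIndex_eq_one.mp (Nat.eq_one_iff_not_exists_prime_dvd.mpr fun r hr hd => ?_)
    exact key' r hr (hXπ r hr (hd.trans (Subgroup.relIndex_dvd_card _ _)))
      (hd.trans (D.relIndex_dvd_index_of_normal X))
  have hDE : D.map E.subtype = ⁅E, E⁆ := Subgroup.map_subtype_commutator E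
  have hE3D : E₃ ≤ ⁅E, E⁆ := by
    rw [← hDE, ← Subgroup.map_subgroupOf_eq_of_le hH.1]
    exact Subgroup.map_mono hXD
  refine ⟨?_, hE3D, ?_⟩
  · haveI : Group.IsNilpotent X := Group.nilpotent_of_mulEquiv (Subgroup.subgroupOfEquivOfLe hXD)
    haveI : Group.IsNilpotent E₃ := Group.nilpotent_of_mulEquiv (Subgroup.subgroupOfEquivOfLe hH.1)
    haveI : IsZGroup E₃ := ⟨fun r hr P => by
      haveI := Fact.mk hr
      by_cases hd : r ∣ Nat.card E₃
      · have ht := hH.2.1 r hr hd
        obtain ⟨Q, hQ⟩ := prime_dvd_index_eq hG hH ht P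
        haveI := complement_sylow_cyclic hG hEM ht.2.2.2 Q.2
        exact isCyclic_of_surjective
          (((Q : Subgroup E).equivMapOfInjective E.subtype E.subtype_injective).trans
            ((MulEquiv.subgroupCongr hQ).trans
              ((P : Subgroup E₃).equivMapOfInjective E₃.subtype E₃.subtype_injective).symm)).toMonoidHom
          (MulEquiv.surjective _)
      · haveI : Subsingleton (P : Subgroup E₃) := by
          refine (Nat.card_eq_one_iff_unique.mp ?_).1
          obtain ⟨k, hk⟩ := P.2.exists_card_eq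
          rcases k with _ | k
          · rw [hk, pow_zero]
          · exact absurd ((dvd_pow_self r k.succ_ne_zero).trans (hk ▸ Subgroup.card_subgroup_dvd_card _)) hd
        infer_instance⟩
    infer_instance
  · -- `X` is the set of elements of `D` with `τ₃`-order
    have hnd : ∀ r : ℕ, r.Prime → r ∈ tau3 M → ¬ r ∣ X.index := fun r hr ht hd => hH.2.2 r hr ht hd
    haveI : (X.subgroupOf D).Normal := by
      have hidx : (X.subgroupOf D).index = X.relIndex D := rfl
      refine hall_normal_of_nilpotent (X.subgroupOf D) ?_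
      refine Nat.coprime_of_dvd fun r hr h1 h2 => ?_
      rw [Nat.card_congr (Subgroup.subgroupOfEquivOfLe hXD).toEquiv] at h1
      exact hnd r hr (hXπ r hr h1) ((hidx ▸ h2).trans (Dvd.intro _ (Subgroup.relIndex_mul_index hXD)))
    intro g hg
    refine mem_normalizer_of_conj_smul ?_
    have hX2 : ∀ e : E, MulAut.conj e • X ≤ X := by
      intro e
      refine Subgroup.relIndex_eq_one.mp (Nat.eq_one_iff_not_exists_prime_dvd.mpr fun r hr hd => ?_)
      have hle : MulAut.conj e • X ≤ D := (conj_smul_mono hXD e).trans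
        (Subgroup.Normal.conj_smul_eq_self e D).le
      have h1 : r ∈ tau3 M := hXπ r hr (by
        rw [← CfsgLib.card_conj_smul e X]; exact hd.trans (Subgroup.relIndex_dvd_card _ _))
      refine hnd r hr h1 (Dvd.dvd.trans ?_ (Dvd.intro _ (Subgroup.relIndex_mul_index hXD)))
      refine hd.trans ?_
      rw [← Subgroup.relIndex_subgroupOf hle]
      exact (X.subgroupOf D).relIndex_dvd_index_of_normal _
    have := Subgroup.map_mono (f := E.subtype) (hX2 ⟨g, hg⟩)
    have e : (MulAut.conj (⟨g, hg⟩ : E) • X).map E.subtype = MulAut.conj g • X.map E.subtype := by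
      ext y
      constructor
      · rintro ⟨_, ⟨x, hx, rfl⟩, rfl⟩
        exact ⟨(x : G), ⟨x, hx, rfl⟩, rfl⟩
      · rintro ⟨_, ⟨x, hx, rfl⟩, rfl⟩
        exact ⟨MulAut.conj (⟨g, hg⟩ : E) x, ⟨x, hx, rfl⟩, rfl⟩
    rw [e, Subgroup.map_subgroupOf_eq_of_le hH.1] at this
    exact Subgroup.eq_of_le_of_card_ge this (CfsgLib.card_conj_smul g E₃).ge

end CfsgLib.MinSimpleOdd
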