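import Cfsg.Agent.Lib.MinSimpleOdd.Local
import Cfsg.Agent.Lib.OddLocal.NarrowDerived

/-!
Subgroups lying in a unique maximal subgroup.
-/

set_option autoImplicit false
set_option linter.unusedSectionVars false
set_option maxHeartbeats 800000

namespace CfsgLib.MinSimpleOdd

open Subgroup Cfsg
open scoped Pointwise commutatorElement

universe u
variable {G : Type u} [Group G] [Finite G] {p : ℕ} [Fact p.Prime]

theorem exists_coatom_ge {X : Subgroup G} (hX : X ≠ ⊤) : ∃ M : Subgroup G, IsCoatom M ∧ X ≤ M :=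
  (eq_top_or_exists_le_coatom X).resolve_left hX

theorem normalizer_eq (hG : IsMinSimpleOddOrder G) {M X : Subgroup G} (hM : IsCoatom M) (h0 : X ≠ ⊥)
    (h1 : X ≠ ⊤) (hn : M ≤ normalizer (X : Set G)) : normalizer (X : Set G) = M := by
  rcases eq_or_lt_of_le hn with e | e
  · exact e.symm
  · exact absurd (hM.2 _ e) (normalizer_ne_top hG h0 h1)

theorem uniq_mk {X M : Subgroup G} (hM : IsCoatom M) (hXM : X ≤ M)
    (h : ∀ L : Subgroup G, IsCoatom L → X ≤ L → L = M) : InUniqueMaximal X :=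
  ⟨M, ⟨hM, hXM⟩, fun L hL => h L hL.1 hL.2⟩

theorem uniq_eq {X M N : Subgroup G} (hU : InUniqueMaximal X) (hM : IsCoatom M) (hXM : X ≤ M)
    (hN : IsCoatom N) (hXN : X ≤ N) : M = N :=
  hU.unique ⟨hM, hXM⟩ ⟨hN, hXN⟩

theorem uniq_mono {X Y : Subgroup G} (hU : InUniqueMaximal X) (hXY : X ≤ Y) (hY : Y ≠ ⊤) :
    InUniqueMaximal Y := by
  obtain ⟨M, hM, hYM⟩ := exists_coatom_ge hY
  exact uniq_mk hM hYM fun L hL hYL => uniq_eq hU hL (hXY.trans hYL) hM (hXY.trans hYM)

theorem uniq_ne_top {X : Subgroup G} (hU : InUniqueMaximal X) : X ≠ ⊤ := by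
  obtain ⟨M, ⟨hM, hXM⟩, -⟩ := hU
  exact fun e => hM.1 (top_le_iff.mp (e ▸ hXM))

theorem uniq_ne_bot (hG : IsMinSimpleOddOrder G) {X : Subgroup G} (hU : InUniqueMaximal X) : X ≠ ⊥ := by
  rintro rfl
  obtain ⟨M, ⟨hM, -⟩, huniq⟩ := hU
  obtain ⟨x, -, hx⟩ := SetLike.exists_of_lt (lt_top_iff_ne_top.mpr hM.1)
  have hz : zpowers x ≠ ⊤ := fun e => hG.2.2.1 ⟨⟨fun a b => by
    obtain ⟨i, rfl⟩ := Subgroup.mem_zpowers_iff.mp (e.ge (Subgroup.mem_top a))
    obtain ⟨j, rfl⟩ := Subgroup.mem_zpowers_iff.mp (e.ge (Subgroup.mem_top b))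
    exact (Commute.refl x).zpow_zpow i j⟩⟩
  obtain ⟨L, hL, hxL⟩ := exists_coatom_ge hz
  exact hx (huniq L ⟨hL, bot_le⟩ ▸ hxL (Subgroup.mem_zpowers x))

theorem conj_isCoatom {M : Subgroup G} (hM : IsCoatom M) (g : G) : IsCoatom (MulAut.conj g • M) := by
  constructor
  · intro e
    apply hM.1
    have h := congrArg (fun Z => MulAut.conj g⁻¹ • Z) e
    simp only [CfsgLib.conj_smul_mul, inv_mul_cancel, map_one, one_smul] at h
    rw [h]
    exact top_le_iff.mp fun x _ => by rw [CfsgLib.mem_conj_smul_iff]; exact Subgroup.mem_top _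
  · intro L hL
    have h1 : M < MulAut.conj g⁻¹ • L := by
      refine lt_of_le_of_ne ?_ ?_
      · have := conj_smul_mono hL.le g⁻¹
        rwa [CfsgLib.conj_smul_mul, inv_mul_cancel, map_one, one_smul] at this
      · intro e
        refine hL.ne ?_
        rw [e, CfsgLib.conj_smul_mul, mul_inv_cancel, map_one, one_smul]
    have h2 := hM.2 _ h1
    refine top_le_iff.mp fun x _ => ?_
    have h3 : g⁻¹ * x * g ∈ MulAut.conj g⁻¹ • L := h2.ge (Subgroup.mem_top _)
    rw [CfsgLib.mem_conj_smul_iff] at h3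
    simpa [mul_assoc] using h3

theorem uniq_conj {X : Subgroup G} (hU : InUniqueMaximal X) (g : G) :
    InUniqueMaximal (MulAut.conj g • X) := by
  obtain ⟨M, ⟨hM, hXM⟩, -⟩ := id hU
  refine uniq_mk (conj_isCoatom hM g) (conj_smul_mono hXM g) fun L hL hXL => ?_
  have h1 : X ≤ MulAut.conj g⁻¹ • L := by
    have := conj_smul_mono hXL g⁻¹
    rwa [CfsgLib.conj_smul_mul, inv_mul_cancel, map_one, one_smul] at this
  rw [← uniq_eq hU (conj_isCoatom hL g⁻¹) h1 hM hXM, CfsgLib.conj_smul_mul, mul_inv_cancel, map_one, one_smul]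

theorem le_normalizer_conj {A U : Subgroup G} {g : G} (hg : g ∈ normalizer (A : Set G))
    (hA : A ≤ normalizer (U : Set G)) : A ≤ normalizer ((MulAut.conj g • U : Subgroup G) : Set G) :=
  le_normalizer_conj_smul hg hA

theorem p_ne_two (hodd : Odd (Nat.card G)) {B : Subgroup G} (hB : IsPGroup p B) (h1 : B ≠ ⊥) : p ≠ 2 := by
  rintro rfl
  obtain ⟨k, hk⟩ := hB.exists_card_eq
  have hk0 : k ≠ 0 := fun e => h1 (Subgroup.card_eq_one.mp (by rw [hk, e, pow_zero]))
  exact hodd.not_two_dvd_nat ((hk ▸ dvd_pow_self 2 hk0).trans (Subgroup.card_subgroup_dvd_card B))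

/-- An invariant subgroup whose invariant Sylow subgroups lie in `M` lies in `M`. -/
theorem le_of_invariant_parts {A Y M : Subgroup G} (hAY : A ≤ normalizer (Y : Set G))
    (hcop : (Nat.card A).Coprime (Nat.card Y)) (hY : Group.IsSolvable Y)
    (h : ∀ q : ℕ, q.Prime → q ∣ Nat.card Y → ∀ U ∈ invSubgroups ⊤ A {q}, U ≤ Y → U ≤ M) : Y ≤ M := by
  suffices h' : (Y ⊓ M).relIndex Y = 1 from (Subgroup.relIndex_eq_one.mp h').trans inf_le_right
  refine Nat.eq_one_iff_not_exists_prime_dvd.mpr fun q hq hd => ?_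
  have hqY : q ∣ Nat.card Y := hd.trans (Subgroup.relIndex_dvd_card _ Y)
  obtain ⟨U, hU, hUA⟩ := CfsgLib.exists_invariant_hall ({q} : Set ℕ) hAY hcop hY
  have hUM := h q hq hqY U ⟨le_top, hU.2.1, hUA⟩ hU.1
  exact hU.2.2 q hq rfl (hd.trans (Dvd.intro_left _
    (Subgroup.relIndex_mul_relIndex U (Y ⊓ M) Y (le_inf hU.1 hUM) inf_le_left)))

theorem card_le_of_pRankLE {k : ℕ} {X B : Subgroup G} (h : PRankLE p k X) (hBX : B ≤ X)
    (hB : IsMulCommutative B) (hexp : ∀ b ∈ B, b ^ p = 1) : Nat.card B ≤ p ^ k := by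
  rw [← Nat.card_congr (Subgroup.subgroupOfEquivOfLe hBX).toEquiv]
  refine h _ ⟨⟨fun a b => ?_⟩⟩ fun b hb => Subtype.ext (hexp b hb)
  apply Subtype.ext; apply Subtype.ext
  exact congrArg (fun t : B => (t : G)) (hB.is_comm.comm ⟨((a : X) : G), a.2⟩ ⟨((b : X) : G), b.2⟩)

theorem pRankLE_of_sylow {k : ℕ} {P : Subgroup G} (hP : IsPGroup p P) (hidx : ¬ p ∣ P.index)
    (h : PRankLE p k P) (X : Subgroup G) : PRankLE p k X := by
  intro B hBc hexp
  set B' := B.map X.subtype with hB'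
  have hB'p : IsPGroup p B' := by
    rintro ⟨_, b, hb, rfl⟩
    exact ⟨1, Subtype.ext (by
      show (X.subtype b) ^ p ^ 1 = 1
      rw [pow_one, ← map_pow, hexp b hb, map_one])⟩
  obtain ⟨S, hS⟩ := hB'p.exists_le_sylow
  obtain ⟨g, hg⟩ := MulAction.exists_smul_eq G S (hP.toSylow hidx)
  have h1 : MulAut.conj g • B' ≤ P := by
    have h2 := congrArg (fun T : Sylow p G => (T : Subgroup G)) hg
    simp only [Sylow.coe_subgroup_smul] at h2
    exact (conj_smul_mono hS g).trans h2.le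
  have h3 : Nat.card B' = Nat.card B := Subgroup.card_map_of_injective X.subtype_injective
  rw [← h3, ← CfsgLib.card_conj_smul g B']
  refine card_le_of_pRankLE h h1 ⟨⟨?_⟩⟩ ?_
  · rintro ⟨a, ha⟩ ⟨b, hb⟩
    rw [CfsgLib.mem_conj_smul_iff] at ha hb
    obtain ⟨a', ha', ea⟩ := ha
    obtain ⟨b', hb', eb⟩ := hb
    have hc : (a' : G) * b' = b' * a' :=
      congrArg (fun t : B => ((t : X) : G)) (hBc.is_comm.comm ⟨a', ha'⟩ ⟨b', hb'⟩)
    change (a' : G) = _ at ea
    change (b' : G) = _ at eb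
    rw [ea, eb] at hc
    apply Subtype.ext
    show a * b = b * a
    calc a * b = g * ((g⁻¹ * a * g) * (g⁻¹ * b * g)) * g⁻¹ := by group
      _ = g * ((g⁻¹ * b * g) * (g⁻¹ * a * g)) * g⁻¹ := by rw [hc]
      _ = b * a := by group
  · intro a ha
    rw [CfsgLib.mem_conj_smul_iff] at ha
    obtain ⟨a', ha', ea⟩ := ha
    have hp' : (g⁻¹ * a * g) ^ p = 1 := by
      change (a' : G) = _ at ea
      rw [← ea]
      exact congrArg Subtype.val (hexp a' ha')
    have e : g⁻¹ * a * g = MulAut.conj g⁻¹ a := by simp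
    rw [e, ← map_pow] at hp'
    exact (MulEquiv.map_eq_one_iff _).mp hp'

/-- A self-centralising normal abelian subgroup of a Sylow subgroup contains the elements of order `p` of
its centraliser. -/
theorem scn_full {P A : Subgroup G} (hP : IsPGroup p P) (hidx : ¬ p ∣ P.index) (hA : IsSCN P A) :
    ∀ x ∈ centralizer (A : Set G), orderOf x = p → x ∈ A := by
  obtain ⟨hAP, hPA, hPC⟩ := hA
  intro x hx hxo
  have hAC : A ≤ centralizer (A : Set G) := fun a ha => (hPC.ge ha).2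
  set T := A ⊔ zpowers x with hT
  have hTC : T ≤ centralizer (A : Set G) := sup_le hAC (Subgroup.zpowers_le.mpr hx)
  set N := normalizer (A : Set G) with hN
  have hCN : centralizer (A : Set G) ≤ N := Subgroup.centralizer_le_normalizer _
  have hTp : IsPGroup p T := IsPGroup.to_sup_of_normal_left' (hP.to_le hAP)
    (IsPGroup.of_card (n := 1) (by rw [Nat.card_zpowers, hxo, pow_one]))
    ((Subgroup.zpowers_le.mpr hx).trans hCN)
  obtain ⟨S, hS⟩ := (hTp.comap_subtype (K := N)).exists_le_sylow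
  obtain ⟨g, hg⟩ := MulAction.exists_smul_eq N ((hP.toSylow hidx).subtype hPA) S
  have key : (g : G)⁻¹ * x * g ∈ A := by
    have hxT : x ∈ T := Subgroup.mem_sup_right (Subgroup.mem_zpowers x)
    have h1 : (⟨x, hCN hx⟩ : N) ∈ (S : Subgroup N) := hS hxT
    rw [← hg, Sylow.coe_subgroup_smul, CfsgLib.mem_conj_smul_iff] at h1
    have h2 : (g : G)⁻¹ * x * g ∈ P := h1
    rw [← hPC]
    refine ⟨h2, fun a ha => ?_⟩
    have ha' : (g : G) * a * (g : G)⁻¹ ∈ A := (Subgroup.mem_normalizer_iff.mp g.2 a).mp ha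
    calc a * ((g : G)⁻¹ * x * g) = (g : G)⁻¹ * ((g * a * (g : G)⁻¹) * x) * g := by group
      _ = (g : G)⁻¹ * (x * (g * a * (g : G)⁻¹)) * g := by rw [hx _ ha']
      _ = _ := by group
  exact (Subgroup.mem_normalizer_iff''.mp g.2 x).mpr key

/-- A self-centralising normal subgroup of rank at least three in a `p`-group of rank at least three. -/
theorem exists_scn_three {P : Subgroup G} (hP : IsPGroup p P) (hp : p ≠ 2) (hr : ¬ PRankLE p 2 P) :
    ∃ A : Subgroup G, IsSCN P A ∧ IsMulCommutative A ∧ ¬ PRankLE p 2 A := by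
  have hnc : ¬ IsCyclic P := fun hc => hr fun B _ hexp => by
    obtain ⟨g, hg⟩ := (Subgroup.isCyclic B : IsCyclic B).exists_generator
    rw [← orderOf_eq_card_of_forall_mem_zpowers hg]
    exact (Nat.le_of_dvd (Fact.out : p.Prime).pos (orderOf_dvd_of_pow_eq_one (Subtype.ext (hexp g g.2)))).trans
      (Nat.le_self_pow two_ne_zero p)
  obtain ⟨E, hEn, hE, hE2⟩ := Cfsg.Agent.S0126.result hp hP hnc
  haveI := hEn
  obtain ⟨A, -, hAn, hAC, hA3⟩ := Cfsg.Agent.S1452.result p hp hP hr E hE hE2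
  have hAc : IsMulCommutative A := ⟨⟨fun a b => Subtype.ext ((hAC.ge b.2) a a.2)⟩⟩
  refine ⟨A.map P.subtype, ⟨Subgroup.map_subtype_le _, ?_, ?_⟩, ?_, ?_⟩
  · haveI := hAn
    have h1 : P = (⊤ : Subgroup P).map P.subtype := by rw [← MonoidHom.range_eq_map, Subgroup.range_subtype]
    calc P = (⊤ : Subgroup P).map P.subtype := h1
      _ ≤ (normalizer (A : Set P)).map P.subtype :=
        Subgroup.map_mono (Subgroup.normalizer_eq_top (H := A)).ge
      _ ≤ _ := Subgroup.le_normalizer_map _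
  · refine le_antisymm ?_ ?_
    · rintro x ⟨hxP, hxc⟩
      exact ⟨⟨x, hxP⟩, hAC.le fun a ha => Subtype.ext (hxc a ⟨a, ha, rfl⟩), rfl⟩
    · rintro _ ⟨a, ha, rfl⟩
      refine ⟨a.2, ?_⟩
      rintro _ ⟨b, hb, rfl⟩
      exact congrArg Subtype.val ((hAC.ge ha) b hb)
  · refine ⟨⟨?_⟩⟩
    rintro ⟨_, a, ha, rfl⟩ ⟨_, b, hb, rfl⟩
    exact Subtype.ext (congrArg P.subtype ((hAC.ge hb) a ha))
  · intro h
    refine hA3 fun B hBc hexp => ?_
    have e1 : Nat.card (B.map A.subtype) = Nat.card B := Subgroup.card_map_of_injective A.subtype_injective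
    have e2 : Nat.card ((B.map A.subtype).map P.subtype) = Nat.card (B.map A.subtype) :=
      Subgroup.card_map_of_injective P.subtype_injective
    rw [← e1, ← e2]
    refine card_le_of_pRankLE h (Subgroup.map_mono (Subgroup.map_subtype_le _)) ⟨⟨?_⟩⟩ ?_
    · rintro ⟨_, _, ⟨a, ha, rfl⟩, rfl⟩ ⟨_, _, ⟨b, hb, rfl⟩, rfl⟩
      exact Subtype.ext (congrArg (fun t : B => (((t : A) : P) : G)) (hBc.is_comm.comm ⟨a, ha⟩ ⟨b, hb⟩))
    · rintro _ ⟨_, ⟨a, ha, rfl⟩, rfl⟩
      rw [← map_pow, ← map_pow, hexp a ha, map_one, map_one]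

theorem rankLE_of_not {A : Subgroup G} [IsMulCommutative A] (h : ¬ PRankLE p 2 A) :
    ¬ RankLE 2 ↥(A ⊓ centralizer (A : Set G)) := by
  rw [inf_eq_left.mpr (Subgroup.le_centralizer A)]
  exact fun h' => h (h' p Fact.out)

theorem card_dvd_of_pgroup {A : Subgroup G} (hA : IsPGroup p A) {r : ℕ} (hr : r.Prime) (hd : r ∣ Nat.card A) :
    r = p := by
  obtain ⟨k, hk⟩ := hA.exists_card_eq
  exact (Nat.prime_dvd_prime_iff_eq hr Fact.out).mp (hr.dvd_of_dvd_pow (hk ▸ hd))

theorem ne_bot_of_rank {A : Subgroup G} {k : ℕ} (h : ¬ PRankLE p k A) : A ≠ ⊥ := by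
  rintro rfl
  exact h fun B _ _ => by
    rw [Subgroup.eq_bot_of_subsingleton B, Subgroup.card_bot]
    exact Nat.one_le_pow _ _ (Fact.out : p.Prime).pos

/-- Transitivity data for a rank-three self-centralising normal subgroup and its Sylow group. -/
theorem scn_trans (hG : IsMinSimpleOddOrder G) {P A : Subgroup G} (hP : IsPGroup p P)
    (hidx : ¬ p ∣ P.index) (hA : IsSCN P A) [IsMulCommutative A] (hA3 : ¬ PRankLE p 2 A) :
    TransitivityHypothesis A ∧ ∀ q : ℕ, [Fact q.Prime] → q ≠ p → Trans A A q ∧ Trans A P q := by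
  have hAp : IsPGroup p A := hP.to_le hA.1
  have hA1 : A ≠ ⊥ := ne_bot_of_rank hA3
  have hT := transitivityHypothesis_of_omega hG (p_ne_two hG.1 hAp hA1) hAp hA1 (scn_full hP hidx hA)
  refine ⟨hT, fun q _ hqp => ?_⟩
  have hqA : ¬ q ∣ Nat.card A := fun hd => hqp (card_dvd_of_pgroup hAp Fact.out hd)
  have h0 : Trans A A q :=
    ⟨le_rfl, subset_rfl, fun Q₁ h₁ Q₂ h₂ => transitive_of_rank_three hG hT hqA (rankLE_of_not hA3) h₁ h₂⟩
  refine ⟨h0, trans_step hG hT hqA h0 hA.1 hA.2.1 fun r hr hd => ?_⟩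
  rw [card_dvd_of_pgroup hP hr hd]
  obtain ⟨k, hk⟩ := hAp.exists_card_eq
  have hk0 : k ≠ 0 := fun e => hA1 (Subgroup.card_eq_one.mp (by rw [hk, e, pow_zero]))
  rw [hk]
  exact dvd_pow_self p hk0

/-- B–G 9.1: a `p`-subgroup whose invariant `p'`-subgroups lie in `M` lies in no other maximal subgroup. -/
theorem uniq_of_invariant_le (hG : IsMinSimpleOddOrder G) {M : Subgroup G} (hM : IsCoatom M) {B : Subgroup G}
    (hBM : B ≤ M) (hBp : IsPGroup p B) (hB1 : B ≠ ⊥)
    (hinv : ∀ Y : Subgroup G, (Nat.card Y).Coprime p → B ≤ normalizer (Y : Set G) → Y ≤ M) :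
    InUniqueMaximal B := by
  have hodd := hG.1
  have hp := p_ne_two hodd hBp hB1
  have hMs := solvable_of_ne_top hG hM.1
  refine uniq_mk hM hBM fun H₀ hH₀ hBH₀ => ?_
  by_contra hne₀
  obtain ⟨R, ⟨hBR, hRp, hRM, H, hH, hne, hRH⟩, hmax⟩ := (Set.toFinite {R : Subgroup G | B ≤ R ∧ IsPGroup p R ∧
    R ≤ M ∧ ∃ H : Subgroup G, IsCoatom H ∧ H ≠ M ∧ R ≤ H}).exists_maximal
      ⟨B, le_rfl, hBp, hBM, H₀, hH₀, hne₀, hBH₀⟩
  have hHs := solvable_of_ne_top hG hH.1
  have hR1 : R ≠ ⊥ := fun e => hB1 (le_bot_iff.mp (e ▸ hBR))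
  have hcore : coreP p H ≤ M := hinv _ (coprime_coreP p H)
    ((hBR.trans hRH).trans (le_normalizer_piCoreOf_self _ H))
  have hbig : ∀ R' : Subgroup G, R < R' → IsPGroup p R' → R' ≤ M → ∀ L : Subgroup G, IsCoatom L → R' ≤ L →
      L = M := fun R' hlt hp' hM' L hL hle => by
    by_contra hLM
    exact hlt.not_ge (hmax ⟨hBR.trans hlt.le, hp', hM', L, hL, hLM, hle⟩ hlt.le)
  suffices hHM : H ≤ M by
    exact hne (eq_of_le_of_not_lt hHM fun h => hM.1 (hH.2 M h))
  obtain ⟨P, hRP, hPM, hPp, hPidx⟩ := exists_sylow_ge hRM hRp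
  have hP1 : P ≠ ⊥ := fun e => hR1 (le_bot_iff.mp (e ▸ hRP))
  rcases eq_or_lt_of_le hRP with rfl | hlt
  · -- `R` is a Sylow subgroup of `M`
    set T := coreP p M with hT
    have hMT : M ≤ normalizer (T : Set G) := le_normalizer_piCoreOf_self _ M
    have hle_T : ∀ Y : Subgroup G, (Nat.card Y).Coprime p → R ≤ normalizer (Y : Set G) → Y ≤ T :=
      fun Y hY hRY => le_coreP_of_sylow hMs hp hRM hRp hPidx (hinv Y hY (hBR.trans hRY)) hY hRY
    have hT1 : T ≠ ⊤ := fun e => hM.1 (top_le_iff.mp (e ▸ piCoreOf_le _ M))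
    have hNT : T ≠ ⊥ → normalizer (T : Set G) = M := fun h => normalizer_eq hG hM h hT1 hMT
    set Z := centerThompsonOf p R with hZ
    have hZ0 : Z ≠ ⊥ := by rw [hZ, ← ZJ.zj_prime]; exact ZJ.zj_ne_bot (Or.inr rfl) hRp hR1
    have hZle : Z ≤ R := by rw [hZ, ← ZJ.zj_prime]; exact ZJ.zj_le p R
    have hZ1 : Z ≠ ⊤ := pgroup_ne_top hG (hRp.to_le hZle)
    have hZM : T = ⊥ → normalizer (Z : Set G) = M := fun e => normalizer_eq hG hM hZ0 hZ1 (by
      have h := zj_factor hodd hMs hRM hRp hPidx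
      rw [← hT, e, bot_sup_eq] at h
      exact h.trans inf_le_right)
    have hNR : normalizer (R : Set G) ≤ M := by
      by_cases hTb : T = ⊥
      · refine le_trans ?_ (hZM hTb).le
        rw [hZ, ← ZJ.zj_prime]
        exact ZJ.normalizer_le_normalizer_zj p R
      · intro n hn
        rw [← hNT hTb]
        refine mem_normalizer_of_conj_smul (Subgroup.eq_of_le_of_card_ge (hle_T _ ?_ ?_) ?_)
        · rw [CfsgLib.card_conj_smul]; exact coprime_coreP p M
        · exact le_normalizer_conj hn (hRM.trans hMT)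
        · rw [CfsgLib.card_conj_smul]
    have hRidx : ¬ p ∣ R.index := by
      obtain ⟨S, hRS⟩ := hRp.exists_le_sylow
      have he : (S : Subgroup G) = R := by
        by_contra hne'
        have hlt' := Transitivity.inf_normalizer_lt_qGroup (q := p) S.2 hRS (Ne.symm hne')
        exact hlt'.ne (eq_of_sylow hPidx hlt'.le (inf_le_right.trans hNR) (S.2.to_le inf_le_left)).symm
      rw [← he]
      exact S.not_dvd_index
    by_cases hr : PRankLE p 2 R
    · obtain ⟨Q, -, -, hfac, -, hQ⟩ := exists_frattini hodd hHs hRH hRp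
        (fun hd => hRidx (hd.trans (Dvd.intro _ (Subgroup.relIndex_mul_index hRH))))
      have hpH : p ∣ Nat.card H := by
        obtain ⟨k, hk⟩ := hRp.exists_card_eq
        have hk0 : k ≠ 0 := fun e => hR1 (Subgroup.card_eq_one.mp (by rw [hk, e, pow_zero]))
        exact (hk ▸ dvd_pow_self p hk0).trans (Subgroup.card_dvd_of_le hRH)
      rw [hQ hpH (pRankLE_of_sylow hRp hRidx hr H)] at hfac
      exact hfac.trans (sup_le hcore (inf_le_right.trans hNR))
    · obtain ⟨A, hA, hAc, hA3⟩ := exists_scn_three hRp hp hr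
      obtain ⟨hTA, htr⟩ := scn_trans hG hRp hRidx hA hA3
      have hAp := hRp.to_le hA.1
      have hA1 := ne_bot_of_rank hA3
      have hK : coreK A ≤ M := by
        refine hinv _ ?_ ?_
        · unfold coreK
          rw [primesNotDvd_eq hAp hA1]
          exact coprime_coreP p _
        · refine ((hBR.trans hA.2.1).trans ?_).trans (normalizer_le_normalizer_piCoreOf _ _)
          intro g hg
          refine mem_normalizer_of_conj_smul ?_
          ext x
          rw [CfsgLib.mem_conj_smul_iff]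
          constructor
          · intro hx a ha
            have h1 := hx (g⁻¹ * a * g) ((Subgroup.mem_normalizer_iff''.mp hg a).mp ha)
            have e1 : g⁻¹ * a * g * (g⁻¹ * x * g) = g⁻¹ * (a * x) * g := by group
            have e2 : g⁻¹ * x * g * (g⁻¹ * a * g) = g⁻¹ * (x * a) * g := by group
            rw [e1, e2] at h1
            exact mul_left_cancel (mul_right_cancel h1)
          · intro hx a ha
            have h1 := hx _ ((Subgroup.mem_normalizer_iff.mp hg a).mp ha)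
            calc a * (g⁻¹ * x * g) = g⁻¹ * ((g * a * g⁻¹) * x) * g := by group
              _ = g⁻¹ * (x * (g * a * g⁻¹)) * g := by rw [h1]
              _ = _ := by group
      have hAinv : ∀ Y : Subgroup G, (Nat.card Y).Coprime p → A ≤ normalizer (Y : Set G) →
          Group.IsSolvable Y → Y ≤ M := by
        intro Y hY hAY hYs
        obtain ⟨k, hk⟩ := hAp.exists_card_eq
        refine le_of_invariant_parts hAY (hk ▸ hY.symm.pow_left k) hYs fun q hq hqY U hU _ => ?_
        haveI := Fact.mk hq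
        have hqp : q ≠ p := fun e => hq.ne_one (Nat.eq_one_of_dvd_coprimes hY hqY (e ▸ dvd_rfl))
        obtain ⟨hAA, hAR⟩ := htr q hqp
        obtain ⟨Q, hQ, hUQ⟩ := exists_max_ge hU
        obtain ⟨Q', hQ', -⟩ := exists_max_ge (bot_mem_inv (π := ({q} : Set ℕ)) R)
        have hQ'M : Q' ≤ M := hinv Q' (Nat.coprime_of_dvd fun r hr h1 h2 => hqp (by
          rw [← Set.mem_singleton_iff.mp (hQ'.1.2.1 r hr h1)]
          exact (Nat.prime_dvd_prime_iff_eq hr Fact.out).mp h2)) (hBR.trans hQ'.1.2.2)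
        obtain ⟨c, hc, rfl⟩ := hAA.2.2 Q' (hAR.2.1 hQ') Q hQ
        refine hUQ.trans ((conj_smul_mono hQ'M c).trans ?_)
        rw [conj_smul_eq_of_mem_normalizer (Subgroup.le_normalizer (hK hc))]
      have hAM : A ≤ M := hA.1.trans hRM
      have hAT : ∀ Y : Subgroup G, (Nat.card Y).Coprime p → A ≤ normalizer (Y : Set G) → Group.IsSolvable Y →
          Y ≤ T := fun Y hY hAY hYs =>
        le_coreP hMs hp hAM hAp (fun x _ hx ho => scn_full hRp hRidx hA x hx ho) (hAinv Y hY hAY hYs) hY hAY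
      have hHidx : ¬ p ∣ R.relIndex H := fun hd => hRidx (hd.trans (Dvd.intro _ (Subgroup.relIndex_mul_index hRH)))
      by_cases hTb : T = ⊥
      · have hHb : coreP p H = ⊥ := le_bot_iff.mp (hTb ▸ hAT _ (coprime_coreP p H)
          ((hA.1.trans hRH).trans (le_normalizer_piCoreOf_self _ H)) (solvable_of_le (piCoreOf_le _ _) hHs))
        have h := zj_factor hodd hHs hRH hRp hHidx
        rw [hHb, bot_sup_eq] at h
        exact (h.trans inf_le_right).trans (hZM hTb).le
      · obtain ⟨Q, hQR, -, hfac, hab, -⟩ := exists_frattini hodd hHs hRH hRp hHidx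
        refine hfac.trans (sup_le hcore ?_)
        rintro n ⟨-, hn⟩
        rw [← hNT hTb]
        have hAQ : A ≤ Q := hab A hA.1 hAc hA.2.1
        refine mem_normalizer_of_conj_smul (Subgroup.eq_of_le_of_card_ge (hAT _ ?_ ?_ ?_) ?_)
        · rw [CfsgLib.card_conj_smul]; exact coprime_coreP p M
        · exact hAQ.trans (le_normalizer_conj hn ((hQR.trans hRM).trans hMT))
        · refine solvable_of_ne_top hG fun e => hT1 (Subgroup.eq_top_of_card_eq _ ?_)
          rw [← CfsgLib.card_conj_smul n T, e, Subgroup.card_top]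
        · rw [CfsgLib.card_conj_smul]
  · -- `R` is not a Sylow subgroup of `M`
    have hlt' := Transitivity.inf_normalizer_lt_qGroup (q := p) hPp hlt.le hlt.ne
    set Z := centerThompsonOf p R with hZ
    have hZle : Z ≤ R := by rw [hZ, ← ZJ.zj_prime]; exact ZJ.zj_le p R
    have hZ1 : normalizer (Z : Set G) ≠ ⊤ := normalizer_ne_top hG
      (by rw [hZ, ← ZJ.zj_prime]; exact ZJ.zj_ne_bot (Or.inr rfl) hRp hR1) (pgroup_ne_top hG (hRp.to_le hZle))
    obtain ⟨L, hL, hZL⟩ := exists_coatom_ge hZ1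
    have hNL : normalizer (R : Set G) ≤ L := by
      refine le_trans ?_ hZL
      rw [hZ, ← ZJ.zj_prime]
      exact ZJ.normalizer_le_normalizer_zj p R
    have hLM : L = M := hbig _ hlt' (hPp.to_le inf_le_left) (inf_le_left.trans hPM) L hL (inf_le_right.trans hNL)
    subst hLM
    obtain ⟨S, hRS, hSH, hSp, hSidx⟩ := exists_sylow_ge hRH hRp
    have hSR : S = R := by
      by_contra hne'
      have h' := Transitivity.inf_normalizer_lt_qGroup (q := p) hSp hRS (Ne.symm hne')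
      exact hne (hbig _ h' (hSp.to_le inf_le_left) (inf_le_right.trans hNL) H hH (inf_le_left.trans hSH))
    exact (zj_factor hodd hHs hRH hRp (hSR ▸ hSidx)).trans (sup_le hcore (inf_le_right.trans hZL))

/-- B–G 9.1 in centraliser form. -/
theorem uniq_of_centralizers_le (hG : IsMinSimpleOddOrder G) {M : Subgroup G} (hM : IsCoatom M) {B : Subgroup G}
    (hBM : B ≤ M) (hBp : IsPGroup p B) [IsMulCommutative B] (hBnc : ¬ IsCyclic B)
    (h : ∀ b ∈ B, b ≠ 1 → centralizer ({b} : Set G) ≤ M) : InUniqueMaximal B := by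
  refine uniq_of_invariant_le hG hM hBM hBp (fun e => hBnc (e ▸ inferInstance)) fun Y hY hBY => ?_
  obtain ⟨k, hk⟩ := hBp.exists_card_eq
  rw [← CfsgLib.coprime_generated_by_centralizers hBnc hBY (hk ▸ hY.symm.pow_left k)]
  exact iSup₂_le fun b hb => inf_le_right.trans (h b hb.1 hb.2)

/-- An elementary abelian subgroup of order `p²` in a noncyclic `p`-group. -/
theorem exists_elementary_two (hp : p ≠ 2) {K : Subgroup G} (hK : IsPGroup p K) (hnc : ¬ IsCyclic K) :
    ∃ E : Subgroup G, E ≤ K ∧ K ≤ normalizer (E : Set G) ∧ IsElementaryAbelian p E ∧ Nat.card E = p ^ 2 := by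
  obtain ⟨E, hEn, ⟨hEc, hEe⟩, hE2⟩ := Cfsg.Agent.S0126.result hp hK hnc
  haveI := hEn
  refine ⟨E.map K.subtype, Subgroup.map_subtype_le _, ?_, ⟨⟨⟨?_⟩⟩, ?_⟩, ?_⟩
  · calc K = (⊤ : Subgroup K).map K.subtype := by rw [← MonoidHom.range_eq_map, Subgroup.range_subtype]
      _ ≤ (normalizer (E : Set K)).map K.subtype := Subgroup.map_mono (Subgroup.normalizer_eq_top (H := E)).ge
      _ ≤ _ := Subgroup.le_normalizer_map _
  · rintro ⟨_, a, ha, rfl⟩ ⟨_, b, hb, rfl⟩
    exact Subtype.ext (congrArg (fun t : E => ((t : K) : G)) (hEc.is_comm.comm ⟨a, ha⟩ ⟨b, hb⟩))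
  · rintro _ ⟨a, ha, rfl⟩
    rw [← map_pow, hEe a ha, map_one]
  · rw [Subgroup.card_map_of_injective K.subtype_injective, hE2]

theorem not_cyclic_of_elementary {E : Subgroup G} (hexp : ∀ b ∈ E, b ^ p = 1) (hcard : p < Nat.card E) :
    ¬ IsCyclic E := fun hc => absurd (card_le_of_cyclic (Fact.out : p.Prime) hexp hc) (not_le.mpr hcard)

theorem isPGroup_of_exp {E : Subgroup G} (hexp : ∀ b ∈ E, b ^ p = 1) : IsPGroup p E := fun b =>
  ⟨1, Subtype.ext (by simpa using hexp b b.2)⟩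

/-- B–G 9.2. -/
theorem uniq_of_centralized (hG : IsMinSimpleOddOrder G) {L K : Subgroup G} (hL : InUniqueMaximal L)
    (hKL : K ≤ centralizer (L : Set G)) (hK : ¬ RankLE 1 K) : InUniqueMaximal K := by
  simp only [RankLE, not_forall] at hK
  obtain ⟨r, hr, hK⟩ := hK
  haveI := Fact.mk hr
  obtain ⟨B, hBK, hBc, hexp, hcard⟩ := exists_elementary_of_not_pRankLE hK
  rw [pow_one] at hcard
  obtain ⟨M, ⟨hM, hLM⟩, -⟩ := id hL
  have hL0 := uniq_ne_bot hG hL
  have hCM : centralizer (L : Set G) ≤ M := by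
    obtain ⟨N, hN, hle⟩ := exists_coatom_ge (normalizer_ne_top hG hL0 (uniq_ne_top hL))
    rw [uniq_eq hL hN (Subgroup.le_normalizer.trans hle) hM hLM] at hle
    exact (Subgroup.centralizer_le_normalizer _).trans hle
  have hBU : InUniqueMaximal B := by
    refine uniq_of_centralizers_le hG hM ((hBK.trans hKL).trans hCM) (isPGroup_of_exp hexp)
      (not_cyclic_of_elementary hexp hcard) fun b hb hb1 => ?_
    obtain ⟨N, hN, hle⟩ := exists_coatom_ge (centralizer_ne_top hG hb1)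
    rw [uniq_eq hL hN (fun l hl => hle (Subgroup.mem_centralizer_singleton_iff.mpr (hKL (hBK hb) l hl))) hM hLM]
      at hle
    exact hle
  exact uniq_mono hBU hBK fun e => centralizer_subgroup_ne_top hG hL0 (top_le_iff.mp (e ▸ hKL))

/-- In a `p`-group an elementary abelian subgroup meets the centraliser of a normal subgroup of order
`p²` in index at most `p`. -/
theorem card_le_mul_centralizer {P E₀ E : Subgroup G} (hP : IsPGroup p P) (hE₀P : E₀ ≤ P)
    (hn : P ≤ normalizer (E₀ : Set G)) (hcard : Nat.card E₀ = p ^ 2) [IsMulCommutative E₀] (hEP : E ≤ P) :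
    Nat.card E ≤ p * Nat.card ↥(E ⊓ centralizer (E₀ : Set G)) := by
  have hpp : p.Prime := Fact.out
  set N := E₀.subgroupOf P with hN
  haveI : N.Normal := (Subgroup.normal_subgroupOf_iff_le_normalizer hE₀P).mpr hn
  have hNc : Nat.card N = p ^ 2 := by
    rw [Nat.card_congr (Subgroup.subgroupOfEquivOfLe hE₀P).toEquiv, hcard]
  set W := ⁅N, (⊤ : Subgroup P)⁆ with hW
  have hWlt : W < N := NarrowDerived.commutator_top_lt hP N fun e => by
    rw [e, Subgroup.card_bot] at hNc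
    exact absurd hNc.symm (Nat.one_lt_pow two_ne_zero hpp.one_lt).ne'
  have hWcard : Nat.card W ≤ p := by
    obtain ⟨k, hk⟩ := (hP.to_subgroup W).exists_card_eq
    have h1 : Nat.card W < p ^ 2 := hNc ▸ Set.Finite.card_lt_card (Set.toFinite _) hWlt
    rw [hk] at h1 ⊢
    calc p ^ k ≤ p ^ 1 := Nat.pow_le_pow_right hpp.pos (by
          have := (Nat.pow_lt_pow_iff_right hpp.one_lt).mp h1
          omega)
      _ = p := pow_one p
  haveI : W.Normal := inferInstance
  have hWZ : W ≤ Subgroup.center P := by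
    by_contra h
    haveI : Group.IsNilpotent P := hP.isNilpotent
    have hW0 : W ≠ ⊥ := fun e => h (e ▸ bot_le)
    have h1 := CfsgLib.inf_center_ne_bot_of_nilpotent hW0
    obtain ⟨k, hk⟩ := (hP.to_subgroup (W ⊓ Subgroup.center P)).exists_card_eq
    have hk0 : k ≠ 0 := fun e => h1 (Subgroup.card_eq_one.mp (by rw [hk, e, pow_zero]))
    have h2 : W ⊓ Subgroup.center P = W := Subgroup.eq_of_le_of_card_ge inf_le_left
      (hWcard.trans (hk ▸ Nat.le_self_pow hk0 p))
    exact h (inf_eq_left.mp h2)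
  obtain ⟨e₁, he₁, he₁W⟩ : ∃ e ∈ E₀, ∀ he : e ∈ P, (⟨e, he⟩ : P) ∉ W := by
    obtain ⟨x, hxN, hxW⟩ := SetLike.exists_of_lt hWlt
    exact ⟨x, hxN, fun _ => hxW⟩
  set C := E ⊓ centralizer ({e₁} : Set G) with hC
  have hCle : C ≤ centralizer (E₀ : Set G) := by
    rintro c ⟨hcE, hc⟩
    have hcP := hEP hcE
    set V := N ⊓ centralizer ({(⟨c, hcP⟩ : P)} : Set P) with hV
    have hWV : W ≤ V := le_inf hWlt.le fun w hw =>
      Subgroup.mem_centralizer_singleton_iff.mpr (Subgroup.mem_center_iff.mp (hWZ hw) _).symm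
    have hVN : V = N := by
      refine Subgroup.eq_of_le_of_card_ge inf_le_left ?_
      have hlt : W < V := lt_of_le_of_ne hWV fun e => he₁W (hE₀P he₁) (by
        rw [e]
        refine ⟨he₁, Subgroup.mem_centralizer_singleton_iff.mpr (Subtype.ext ?_)⟩
        exact (Subgroup.mem_centralizer_singleton_iff.mp hc).symm)
      obtain ⟨k, hk⟩ := (hP.to_subgroup V).exists_card_eq
      obtain ⟨j, hj⟩ := (hP.to_subgroup W).exists_card_eq
      have h1 : Nat.card W < Nat.card V := Set.Finite.card_lt_card (Set.toFinite _) hlt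
      by_cases hW0 : W = ⊥
      · rw [show V = N from le_antisymm inf_le_left fun n hn => ⟨hn, ?_⟩]
        show n ∈ centralizer ({(⟨c, hcP⟩ : P)} : Set P)
        rw [Subgroup.mem_centralizer_singleton_iff, ← commutatorElement_eq_one_iff_mul_comm, ← Subgroup.mem_bot,
          ← hW0]
        exact Subgroup.commutator_mem_commutator hn (Subgroup.mem_top _)
      · have hj0 : j ≠ 0 := fun e => hW0 (Subgroup.card_eq_one.mp (by rw [hj, e, pow_zero]))
        rw [hk, hNc]
        rw [hk, hj] at h1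
        have := (Nat.pow_lt_pow_iff_right hpp.one_lt).mp h1
        exact Nat.pow_le_pow_right hpp.pos (by omega)
    intro e he
    have := (hVN.ge (show (⟨e, hE₀P he⟩ : P) ∈ N from he)).2
    exact congrArg Subtype.val (Subgroup.mem_centralizer_singleton_iff.mp this)
  have hle : Nat.card E ≤ Nat.card W * Nat.card C := by
    have hCc : Nat.card C = Nat.card (C.subgroupOf E) :=
      (Nat.card_congr (Subgroup.subgroupOfEquivOfLe inf_le_left).toEquiv).symm
    rw [hCc, Subgroup.card_eq_card_quotient_mul_card_subgroup (C.subgroupOf E)]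
    refine Nat.mul_le_mul_right _ (Nat.card_le_card_of_injective (fun q =>
      (⟨⁅(⟨e₁, hE₀P he₁⟩ : P), (⟨(q.out : G), hEP q.out.2⟩ : P)⁆,
        Subgroup.commutator_mem_commutator he₁ (Subgroup.mem_top _)⟩ : W)) ?_)
    intro a b hab
    have h : e₁ * (a.out : G) * e₁⁻¹ * (a.out : G)⁻¹ = e₁ * (b.out : G) * e₁⁻¹ * (b.out : G)⁻¹ :=
      congrArg (fun w : W => ((w : P) : G)) hab
    rw [← QuotientGroup.out_eq' a, ← QuotientGroup.out_eq' b, QuotientGroup.eq, Subgroup.mem_subgroupOf]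
    refine ⟨((a.out)⁻¹ * b.out : E).2, Subgroup.mem_centralizer_singleton_iff.mpr ?_⟩
    have h' : (a.out : G) * e₁⁻¹ * (a.out : G)⁻¹ = (b.out : G) * e₁⁻¹ * (b.out : G)⁻¹ := by
      have := congrArg (fun t => e₁⁻¹ * t) h
      simpa [mul_assoc] using this
    have h'' : e₁⁻¹ * ((a.out : G)⁻¹ * b.out) = ((a.out : G)⁻¹ * b.out) * e₁⁻¹ := by
      calc e₁⁻¹ * ((a.out : G)⁻¹ * b.out) = (a.out : G)⁻¹ * ((a.out : G) * e₁⁻¹ * (a.out : G)⁻¹) * b.out := by
            group
        _ = (a.out : G)⁻¹ * ((b.out : G) * e₁⁻¹ * (b.out : G)⁻¹) * b.out := by rw [h']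
        _ = _ := by group
    push_cast
    have h3 := congrArg (fun t => e₁ * t * e₁) h''
    simpa [mul_assoc] using h3
  calc Nat.card E ≤ Nat.card W * Nat.card C := hle
    _ ≤ p * _ := Nat.mul_le_mul hWcard (Subgroup.card_le_of_le (le_inf inf_le_left hCle))

/-- B–G 9.3. -/
theorem uniq_transfer (hG : IsMinSimpleOddOrder G) {A B : Subgroup G} (hAp : IsPGroup p A)
    [IsMulCommutative A] (hA3 : ¬ PRankLE p 2 A) (hAU : InUniqueMaximal A) (hBp : IsPGroup p B)
    (hBnc : ¬ IsCyclic B) (hB3 : ¬ PRankLE p 2 ↥(centralizer (B : Set G))) : InUniqueMaximal B := by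
  have hp := p_ne_two hG.1 hAp (ne_bot_of_rank hA3)
  obtain ⟨P, hAP⟩ := hAp.exists_le_sylow
  obtain ⟨E, hEC, hEc, hEe, hEcard⟩ := exists_elementary_of_not_pRankLE hB3
  obtain ⟨E', hE'⟩ := (isPGroup_of_exp hEe).exists_le_sylow
  obtain ⟨g, hg⟩ := MulAction.exists_smul_eq G E' P
  obtain ⟨A₁, hA₁A, hA₁c, hA₁e, hA₁card⟩ := exists_elementary_of_not_pRankLE hA3
  have hPnc : ¬ IsCyclic (P : Subgroup G) := fun hc => by
    haveI := hc
    have : IsCyclic A₁ := by
      haveI : IsCyclic (A₁.subgroupOf (P : Subgroup G)) := inferInstance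
      exact isCyclic_of_surjective _ (Subgroup.subgroupOfEquivOfLe (hA₁A.trans hAP)).surjective
    have h1 := card_le_of_cyclic (Fact.out : p.Prime) hA₁e this
    have h2 := Nat.le_self_pow two_ne_zero p
    omega
  obtain ⟨E₀, hE₀P, hn, ⟨hE₀c, hE₀e⟩, hE₀2⟩ := exists_elementary_two hp P.2 hPnc
  have hE₀nc : ¬ IsCyclic E₀ := not_cyclic_of_elementary hE₀e (by
    rw [hE₀2]
    calc p = p ^ 1 := (pow_one p).symm
      _ < p ^ 2 := Nat.pow_lt_pow_right (Fact.out : p.Prime).one_lt one_lt_two)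
  have rank : ∀ {X : Subgroup G}, (∀ x ∈ X, x ^ p = 1) → IsMulCommutative X → p < Nat.card X → ¬ RankLE 1 X :=
    fun {X} he hc hlt h => by
      have := h p Fact.out (⊤ : Subgroup X) ⟨⟨fun a b => Subtype.ext (hc.is_comm.comm a b)⟩⟩
        fun x _ => Subtype.ext (he x x.2)
      rw [Subgroup.card_top, pow_one] at this
      omega
  have big : ∀ {X : Subgroup G}, X ≤ (P : Subgroup G) → (∀ x ∈ X, x ^ p = 1) → IsMulCommutative X →
      p ^ 2 < Nat.card X → ¬ RankLE 1 ↥(X ⊓ centralizer (E₀ : Set G)) := fun {X} hXP he hc hlt => by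
    have h1 := card_le_mul_centralizer P.2 hE₀P hn hE₀2 hXP
    refine rank (fun x hx => he x hx.1) ⟨⟨fun a b => Subtype.ext
      (congrArg (fun t : X => (t : G)) (hc.is_comm.comm ⟨a, a.2.1⟩ ⟨b, b.2.1⟩))⟩⟩ ?_
    by_contra hle
    rw [not_lt] at hle
    have := h1.trans (Nat.mul_le_mul_left p hle)
    rw [← pow_two] at this
    omega
  -- from `A` to `E₀`
  have hU₁ : InUniqueMaximal (A₁ ⊓ centralizer (E₀ : Set G)) := by
    refine uniq_of_centralized hG hAU ?_ (big (hA₁A.trans hAP) hA₁e hA₁c hA₁card)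
    exact fun x hx a ha => congrArg Subtype.val
      ((IsMulCommutative.is_comm (M := A)).comm ⟨a, ha⟩ ⟨x, hA₁A hx.1⟩)
  have hE₀U : InUniqueMaximal E₀ :=
    uniq_of_centralized hG hU₁ (fun e he x hx => (hx.2 e he).symm) (rank hE₀e hE₀c (by
      rw [hE₀2]
      calc p = p ^ 1 := (pow_one p).symm
        _ < p ^ 2 := Nat.pow_lt_pow_right (Fact.out : p.Prime).one_lt one_lt_two))
  -- from `E₀` to a conjugate of `E`
  set Eg := MulAut.conj g • E with hEg
  have hEgP : Eg ≤ (P : Subgroup G) := by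
    have h2 := congrArg (fun T : Sylow p G => (T : Subgroup G)) hg
    simp only [Sylow.coe_subgroup_smul] at h2
    exact (conj_smul_mono hE' g).trans h2.le
  have hconj : ∀ x ∈ Eg, g⁻¹ * x * g ∈ E := fun x hx => CfsgLib.mem_conj_smul_iff.mp hx
  have hEge : ∀ x ∈ Eg, x ^ p = 1 := fun x hx => by
    have hp' := hEe _ (hconj x hx)
    have e : g⁻¹ * x * g = MulAut.conj g⁻¹ x := by simp
    rw [e, ← map_pow] at hp'
    exact (MulEquiv.map_eq_one_iff _).mp hp'
  have hEgc : IsMulCommutative Eg := ⟨⟨fun a b => Subtype.ext (by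
    have hc : (g⁻¹ * a * g) * (g⁻¹ * (b : G) * g) = (g⁻¹ * b * g) * (g⁻¹ * (a : G) * g) :=
      congrArg Subtype.val (hEc.is_comm.comm ⟨_, hconj a a.2⟩ ⟨_, hconj b b.2⟩)
    show (a : G) * b = b * a
    calc (a : G) * b = g * ((g⁻¹ * a * g) * (g⁻¹ * b * g)) * g⁻¹ := by group
      _ = g * ((g⁻¹ * b * g) * (g⁻¹ * a * g)) * g⁻¹ := by rw [hc]
      _ = b * a := by group)⟩⟩
  have hEgcard : p ^ 2 < Nat.card Eg := by rwa [hEg, CfsgLib.card_conj_smul]
  have hU₂ : InUniqueMaximal (Eg ⊓ centralizer (E₀ : Set G)) :=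
    uniq_of_centralized hG hE₀U inf_le_right (big hEgP hEge hEgc hEgcard)
  have hEgU : InUniqueMaximal Eg := uniq_mono hU₂ inf_le_left fun e =>
    pgroup_ne_top hG (isPGroup_of_exp (p := p) hEge) e
  have hEU : InUniqueMaximal E := by
    have := uniq_conj hEgU g⁻¹
    rwa [hEg, CfsgLib.conj_smul_mul, inv_mul_cancel, map_one, one_smul] at this
  refine uniq_of_centralized hG hEU (fun b hb e he => ((hEC he) b hb).symm) fun h => ?_
  obtain ⟨B₀, hB₀, -, ⟨hB₀c, hB₀e⟩, hB₀2⟩ := exists_elementary_two hp hBp hBnc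
  have := card_le_of_pRankLE (h p Fact.out) hB₀ hB₀c hB₀e
  rw [hB₀2, pow_one] at this
  have : p ^ 1 < p ^ 2 := Nat.pow_lt_pow_right (Fact.out : p.Prime).one_lt one_lt_two
  rw [pow_one] at this
  omega

end CfsgLib.MinSimpleOdd
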