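import Cfsg.Agent.Lib.MinSimpleOdd.PLength
import Cfsg.Agent.Lib.PComplement
import Cfsg.Agent.Lib.PGroup.CyclicMax
import Cfsg.Agent.Lib.Solvable.Schmidt
import Cfsg.Agent.S1453
import Cfsg.Agent.S1455

/-!
The subgroup `O_{β(M)}(M)` and normal `p`-complements in `M'` (B–G 10.8).
-/

set_option autoImplicit false
set_option linter.unusedSectionVars false
set_option maxHeartbeats 1000000

namespace CfsgLib.MinSimpleOdd

open Subgroup Cfsg
open scoped Pointwise commutatorElement

universe u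
variable {G : Type u} [Group G] [Finite G] {p : ℕ} [Fact p.Prime]

theorem elementary_sup_zpowers {R : Type u} [Group R] {E : Subgroup R} (hE : IsElementaryAbelian p E) {y : R}
    (hy : y ^ p = 1) (hc : ∀ e ∈ E, e * y = y * e) : IsElementaryAbelian p (E ⊔ zpowers y) := by
  have hgen : ∀ a ∈ (E : Set R) ∪ {y}, ∀ b ∈ (E : Set R) ∪ {y}, a * b = b * a := by
    rintro a (ha | ha) b (hb | hb)
    · exact congrArg Subtype.val (hE.1.is_comm.comm (⟨a, ha⟩ : E) ⟨b, hb⟩)
    · rw [Set.mem_singleton_iff.1 hb]; exact hc a ha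
    · rw [Set.mem_singleton_iff.1 ha]; exact (hc b hb).symm
    · rw [Set.mem_singleton_iff.1 ha, Set.mem_singleton_iff.1 hb]
  have hcl : E ⊔ zpowers y = Subgroup.closure ((E : Set R) ∪ {y}) := by
    rw [Subgroup.closure_union, Subgroup.closure_eq, Subgroup.zpowers_eq_closure]
  rw [hcl]
  haveI := Subgroup.isMulCommutative_closure hgen
  refine ⟨inferInstance, fun a ha => ?_⟩
  induction ha using Subgroup.closure_induction with
  | mem a ha =>
    rcases ha with ha | ha
    · exact hE.2 a ha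
    · rw [Set.mem_singleton_iff.1 ha]; exact hy
  | one => exact one_pow _
  | mul a b ha hb h1 h2 =>
    have hab : Commute a b := congrArg Subtype.val
      (mul_comm' (⟨a, ha⟩ : Subgroup.closure ((E : Set R) ∪ {y})) ⟨b, hb⟩)
    rw [hab.mul_pow, h1, h2, one_mul]
  | inv a _ h => rw [inv_pow, h, inv_one]

/-- Structure of a `p`-group of rank at least three with a maximal elementary subgroup of order `p²`. -/
theorem narrow_data {R : Type u} [Group R] [Finite R] (hp : p ≠ 2) (hR : IsPGroup p R)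
    (hr : ¬ PRankLE p 2 R) {E : Subgroup R} (hE : IsElementaryAbelian p E) (hE2 : Nat.card E = p ^ 2)
    (hEmax : ∀ B : Subgroup R, IsElementaryAbelian p B → E ≤ B → B = E) :
    IsNarrow p R ∧ ∃ x ∈ E, IsMulCommutative ↥(centralizer ({x} : Set R)) ∧
      ∃ T : Subgroup R, IsCyclic T ∧ ∀ a ∈ centralizer ({x} : Set R), a ^ p ∈ T := by
  have hpp : p.Prime := Fact.out
  obtain ⟨hEW, hZ, -, -, hidx⟩ := Cfsg.Agent.S1453.result p hp hR hr E hE hE2 hEmax
  set W := Subgroup.closure {x : R | x ∈ Subgroup.upperCentralSeries R 2 ∧ x ^ p = 1} with hW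
  set C := centralizer (W : Set R) with hC
  obtain ⟨x, hxE, hxC⟩ := SetLike.not_le_iff_exists.mp hEW
  have hxo : orderOf x = p := orderOf_eq_prime (hE.2 x hxE) fun e => hxC (e ▸ one_mem C)
  -- a central element of order `p`
  obtain ⟨z, hzc, hz⟩ : ∃ z ∈ Subgroup.center R, orderOf z = p := by
    haveI : Nontrivial R := (nontrivial_iff_exists_ne (1 : R)).mpr ⟨x, fun e => hxC (e ▸ one_mem C)⟩
    haveI := hR.center_nontrivial
    obtain ⟨k, hk⟩ := (hR.to_subgroup (Subgroup.center R)).exists_card_eq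
    have hk0 : k ≠ 0 := fun e => by
      rw [e, pow_zero, Nat.card_eq_one_iff_unique] at hk
      exact not_subsingleton _ hk.1
    obtain ⟨⟨z, hzc⟩, hz⟩ := exists_prime_orderOf_dvd_card' p (hk ▸ dvd_pow_self p hk0 :
      p ∣ Nat.card (Subgroup.center R))
    exact ⟨z, hzc, by rwa [Subgroup.orderOf_mk] at hz⟩
  have hzp : z ^ p = 1 := hz ▸ pow_orderOf_eq_one z
  have hzE : z ∈ E := (hEmax _ (elementary_sup_zpowers hE hzp fun e _ => Subgroup.mem_center_iff.mp hzc e)
    le_sup_left).le (Subgroup.mem_sup_right (Subgroup.mem_zpowers z))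
  have hzC : z ∈ C := fun w _ => Subgroup.mem_center_iff.mp hzc w
  have hzx : x ∉ zpowers z := fun h => hxC (Subgroup.zpowers_le.mpr hzC h)
  have hE' : zpowers x ⊔ zpowers z = E := by
    have hle : zpowers x ⊔ zpowers z ≤ E := sup_le (Subgroup.zpowers_le.mpr hxE) (Subgroup.zpowers_le.mpr hzE)
    refine Subgroup.eq_of_le_of_card_ge hle ?_
    obtain ⟨k, hk⟩ := (hR.to_subgroup (zpowers x ⊔ zpowers z)).exists_card_eq
    have hlt : zpowers z < zpowers x ⊔ zpowers z := lt_of_le_of_ne le_sup_right fun e =>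
      hzx (e.ge (Subgroup.mem_sup_left (Subgroup.mem_zpowers x)))
    have h0 : Nat.card (zpowers z) < Nat.card ↥(zpowers x ⊔ zpowers z) :=
      Set.Finite.card_lt_card (Set.toFinite _) hlt
    rw [Nat.card_zpowers, hz, hk] at h0
    rw [hE2, hk]
    exact Nat.pow_le_pow_right hpp.pos ((Nat.pow_lt_pow_iff_right hpp.one_lt).mp (by rwa [pow_one]))
  set T := C ⊓ centralizer ({x} : Set R) with hT
  -- `T` has one subgroup of order `p`
  have hTone : ∀ y ∈ T, y ^ p = 1 → y ∈ zpowers z := by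
    rintro y ⟨hyC, hyx⟩ hy
    have hyE : y ∈ E := by
      refine (hEmax _ (elementary_sup_zpowers hE hy ?_) le_sup_left).le
        (Subgroup.mem_sup_right (Subgroup.mem_zpowers y))
      have hle : E ≤ centralizer ({y} : Set R) := hE' ▸ sup_le
        (Subgroup.zpowers_le.mpr (Subgroup.mem_centralizer_singleton_iff.mpr
          (Subgroup.mem_centralizer_singleton_iff.mp hyx).symm))
        (Subgroup.zpowers_le.mpr (Subgroup.mem_centralizer_singleton_iff.mpr
          (Subgroup.mem_center_iff.mp hzc y).symm))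
      exact fun e he => Subgroup.mem_centralizer_singleton_iff.mp (hle he)
    have hzle : zpowers z ≤ E ⊓ C := Subgroup.zpowers_le.mpr ⟨hzE, hzC⟩
    refine (Subgroup.eq_of_le_of_card_ge hzle ?_).ge ⟨hyE, hyC⟩
    obtain ⟨k, hk⟩ := (hR.to_subgroup (E ⊓ C)).exists_card_eq
    have hlt : E ⊓ C < E := lt_of_le_of_ne inf_le_left fun e => hxC (e.ge hxE).2
    have h0 : Nat.card ↥(E ⊓ C) < Nat.card E := Set.Finite.card_lt_card (Set.toFinite _) hlt
    rw [hk, hE2] at h0
    rw [hk, Nat.card_zpowers, hz]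
    calc p ^ k ≤ p ^ 1 := Nat.pow_le_pow_right hpp.pos (by
          have := (Nat.pow_lt_pow_iff_right hpp.one_lt).mp h0
          omega)
      _ = p := pow_one p
  have hTc : IsCyclic T := by
    by_contra hnc
    obtain ⟨A, hAT, -, hA, hA2⟩ := exists_elementary_two hp (hR.to_subgroup T) hnc
    have hle : A ≤ zpowers z := fun a ha => hTone a (hAT ha) (hA.2 a ha)
    have := Subgroup.card_le_of_le hle
    rw [hA2, Nat.card_zpowers, hz] at this
    exact absurd this (not_le.mpr (by
      calc p = p ^ 1 := (pow_one p).symm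
        _ < _ := Nat.pow_lt_pow_right hpp.one_lt one_lt_two))
  suffices h : zpowers x ⊓ T = ⊥ ∧ (∀ a ∈ zpowers x, ∀ b ∈ T, a * b = b * a) ∧
      zpowers x ⊔ T = centralizer (zpowers x : Set R) by
    refine ⟨Or.inr ⟨zpowers x, T, by rw [Nat.card_zpowers, hxo], hTc, h.1, h.2.1, h.2.2⟩, x, hxE, ?_⟩
    have h3 : centralizer ({x} : Set R) = zpowers x ⊔ T := by
      rw [h.2.2, Subgroup.zpowers_eq_closure, Subgroup.centralizer_closure]
    have hcl : zpowers x ⊔ T = Subgroup.closure ((zpowers x : Set R) ∪ (T : Set R)) := by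
      rw [Subgroup.closure_union, Subgroup.closure_eq, Subgroup.closure_eq]
    refine ⟨?_, T, hTc, fun a ha => ?_⟩
    swap
    · have hn : zpowers x ≤ normalizer (T : Set R) :=
        (Subgroup.le_centralizer_iff.mp fun b hb c hc => h.2.1 c hc b hb).trans
          (Subgroup.centralizer_le_normalizer _)
      rw [h3, ← SetLike.mem_coe, Subgroup.coe_mul_of_left_le_normalizer_right _ _ hn] at ha
      obtain ⟨b, hb, t, ht, rfl⟩ := Set.mem_mul.mp ha
      rw [(show Commute b t from h.2.1 b hb t ht).mul_pow,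
        show b ^ p = 1 from orderOf_dvd_iff_pow_eq_one.mp (by
          have := Subgroup.orderOf_dvd_natCard _ hb
          rwa [Nat.card_zpowers, hxo] at this), one_mul]
      exact T.pow_mem ht p
    rw [h3, hcl]
    refine Subgroup.isMulCommutative_closure ?_
    rintro a (ha | ha) b (hb | hb)
    · exact congrArg Subtype.val (mul_comm' (⟨a, ha⟩ : zpowers x) ⟨b, hb⟩)
    · exact h.2.1 a ha b hb
    · exact (h.2.1 b hb a ha).symm
    · haveI := hTc
      exact congrArg Subtype.val (mul_comm' (⟨a, ha⟩ : T) ⟨b, hb⟩)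
  refine ⟨?_, ?_, ?_⟩
  · rw [eq_bot_iff]
    rintro y ⟨hyx, hyT⟩
    by_contra hy1
    rw [Subgroup.mem_bot] at hy1
    have hyd : orderOf y ∣ p := by
      have := Subgroup.orderOf_dvd_natCard _ hyx
      rwa [Nat.card_zpowers, hxo] at this
    have e : zpowers y = zpowers x := Subgroup.eq_of_le_of_card_ge (Subgroup.zpowers_le.mpr hyx) (by
      rw [Nat.card_zpowers, Nat.card_zpowers, hxo,
        (hpp.eq_one_or_self_of_dvd _ hyd).resolve_left fun h => hy1 (orderOf_eq_one_iff.mp h)])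
    exact hxC (Subgroup.zpowers_le.mpr hyT.1 (e ▸ Subgroup.mem_zpowers x))
  · rintro a ha b ⟨-, hb⟩
    obtain ⟨i, rfl⟩ := Subgroup.mem_zpowers_iff.mp ha
    exact ((show Commute x b from (Subgroup.mem_centralizer_singleton_iff.mp hb).symm).zpow_left i).eq
  · rw [Subgroup.zpowers_eq_closure, Subgroup.centralizer_closure, ← Subgroup.zpowers_eq_closure]
    refine le_antisymm (sup_le (Subgroup.zpowers_le.mpr (Subgroup.mem_centralizer_singleton_iff.mpr rfl))
      inf_le_right) fun y hy => ?_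
    -- `R = ⟨x⟩ C`
    have hCn : C.Normal := by
      refine CfsgLib.CyclicMax.normal_of_index_prime hR ?_
      exact hidx
    have hsup : zpowers x ⊔ C = ⊤ := by
      by_contra hne
      have hlt : C < zpowers x ⊔ C := lt_of_le_of_ne le_sup_right fun e =>
        hxC (e.ge (Subgroup.mem_sup_left (Subgroup.mem_zpowers x)))
      have h1 : C.relIndex (zpowers x ⊔ C) * (zpowers x ⊔ C).index = p :=
        hidx ▸ Subgroup.relIndex_mul_index le_sup_right
      rcases hpp.eq_one_or_self_of_dvd _ (Dvd.intro _ h1) with h | h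
      · exact hlt.not_ge (Subgroup.relIndex_eq_one.mp h)
      · rw [h] at h1
        exact hne (Subgroup.index_eq_one.mp (Nat.eq_of_mul_eq_mul_left hpp.pos (by rw [h1, mul_one])))
    obtain ⟨a, ha, c, hc, rfl⟩ := Subgroup.mem_sup_of_normal_right.mp (hsup.ge (Subgroup.mem_top y))
    refine mul_mem (Subgroup.mem_sup_left ha) (Subgroup.mem_sup_right ⟨hc, ?_⟩)
    have hax : a ∈ centralizer ({x} : Set R) :=
      Subgroup.zpowers_le.mpr (Subgroup.mem_centralizer_singleton_iff.mpr rfl) ha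
    exact (Subgroup.mul_mem_cancel_left _ hax).mp hy

theorem isNarrow_congr {A B : Type u} [Group A] [Group B] (e : A ≃* B) (h : IsNarrow p A) : IsNarrow p B := by
  rcases h with h | ⟨R₀, R₁, h1, h2, h3, h4, h5⟩
  · refine Or.inl fun X hXc hXe => ?_
    rw [← Subgroup.card_map_of_injective (K := X) (f := e.symm.toMonoidHom) e.symm.injective]
    exact h _ (Subgroup.map_isMulCommutative _ _) (by
      rintro _ ⟨x, hx, rfl⟩
      rw [← map_pow, hXe x hx, map_one])
  · refine Or.inr ⟨R₀.map e.toMonoidHom, R₁.map e.toMonoidHom, ?_, ?_, ?_, ?_, ?_⟩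
    · rw [Subgroup.card_map_of_injective e.injective, h1]
    · exact isCyclic_of_surjective (R₁.equivMapOfInjective e.toMonoidHom e.injective).toMonoidHom
        (MulEquiv.surjective _)
    · rw [← Subgroup.map_inf _ _ _ e.injective, h3, Subgroup.map_bot]
    · rintro _ ⟨a, ha, rfl⟩ _ ⟨b, hb, rfl⟩
      rw [← map_mul, ← map_mul, h4 a ha b hb]
    · rw [← Subgroup.map_sup, h5]
      refine le_antisymm ?_ fun y hy => ?_
      · rintro _ ⟨y, hy, rfl⟩ _ ⟨a, ha, rfl⟩
        rw [← map_mul, ← map_mul, hy a ha]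
      · refine ⟨e.symm y, fun a ha => e.injective ?_, by simp⟩
        simpa using hy (e a) ⟨a, ha, rfl⟩

/-- A `p`-group of rank at least three with a maximal elementary subgroup of order `p²` is narrow. -/
theorem narrow_of_maximal {R : Type u} [Group R] [Finite R] (hp : p ≠ 2) (hR : IsPGroup p R)
    (hr : ¬ PRankLE p 2 R) {E : Subgroup R} (hE : IsElementaryAbelian p E) (hE2 : Nat.card E = p ^ 2)
    (hEmax : ∀ B : Subgroup R, IsElementaryAbelian p B → E ≤ B → B = E) : IsNarrow p R :=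
  (narrow_data hp hR hr hE hE2 hEmax).1

section Main

variable (hG : IsMinSimpleOddOrder G) {M : Subgroup G} (hM : IsCoatom M)

include hG hM

/-- The structure of `M` at a prime outside `β(M)`. -/
theorem complement_of_not_beta (hpM : p ∣ Nat.card M) (hpb : p ∉ beta M) :
    HasNormalPComplement p ↥(⁅M, M⁆ : Subgroup G) ∧
      ∀ q : ℕ, q.Prime → q ∣ (pPrimeCore p ↥M).index → q ≤ p := by
  haveI := solvable_of_ne_top hG hM.1
  have hpp : p.Prime := Fact.out
  suffices h : HasNormalPComplement p ↥(commutator ↥M) ∧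
      ∀ q : ℕ, q.Prime → q ∣ (pPrimeCore p ↥M).index → q ≤ p by
    refine ⟨?_, h.2⟩
    rw [← Subgroup.map_subtype_commutator M]
    exact CfsgLib.hasNormalPComplement_of_equiv
      ((commutator ↥M).equivMapOfInjective M.subtype M.subtype_injective) h.1
  by_cases hr : PRankLE p 2 M
  · obtain ⟨h1, -, h3, -, -, -⟩ := Cfsg.Agent.S1450.result (odd_subgroup hG.1 M) p hpM hr
    exact ⟨h3, h1⟩
  have hpα : p ∈ alpha M := ⟨hpp, hr⟩
  obtain ⟨P, hPM, hPp, hidx, hN⟩ := exists_sigma_sylow (alpha_subset_sigma hG hM hpα)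
  have hidxM : ¬ p ∣ P.relIndex M := fun h => hidx (h.trans (Dvd.intro _ (Subgroup.relIndex_mul_index hPM)))
  have hP3 : ¬ PRankLE p 2 P := fun h => hr (pRankLE_of_sylow_rel hPM hPp hidxM h)
  have hp2 := p_ne_two hG.1 hPp (ne_bot_of_rank hP3)
  -- `p` is not ideal
  have hnot : ¬ IsIdealPrime p G := fun h => hpb ⟨hpα, h⟩
  simp only [IsIdealPrime, not_and, not_forall, not_exists] at hnot
  obtain ⟨P', A, hAP', hA, hA2, hmax⟩ := hnot hpp fun h => hP3 (by
    exact pRankLE_of_injective P.subtype P.subtype_injective (X := (⊤ : Subgroup G))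
      (fun _ => Subgroup.mem_top _) (pRankLE_of_injective (⊤ : Subgroup G).subtype
        (Subgroup.subtype_injective _) (X := (⊤ : Subgroup G)) (fun t => t.2) (by
          intro B hBc he
          rw [← Subgroup.card_map_of_injective (K := B) (⊤ : Subgroup G).subtype_injective]
          exact h _ (Subgroup.map_isMulCommutative _ _) (by
            rintro _ ⟨b, hb, rfl⟩
            rw [← map_pow, he b hb, map_one]))))
  have hP'narrow : IsNarrow p ↥(P' : Subgroup G) := by
    have hP'3 : ¬ PRankLE p 2 ↥(P' : Subgroup G) := fun h => hP3 (pRankLE_of_sylow P'.2 P'.not_dvd_index h P)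
    refine narrow_of_maximal hp2 P'.2 hP'3 (E := A.subgroupOf (P' : Subgroup G)) ⟨⟨⟨fun a b => ?_⟩⟩, ?_⟩ ?_ ?_
    · apply Subtype.ext; apply Subtype.ext
      exact congrArg (fun t : A => (t : G)) (hA.1.is_comm.comm ⟨((a : (P' : Subgroup G)) : G), a.2⟩
        ⟨((b : (P' : Subgroup G)) : G), b.2⟩)
    · exact fun a ha => Subtype.ext (hA.2 a ha)
    · rw [Nat.card_congr (Subgroup.subgroupOfEquivOfLe hAP').toEquiv, hA2]
    · intro B hB hle
      by_contra hne
      refine hmax (B.map (P' : Subgroup G).subtype) (Subgroup.map_subtype_le _) ⟨⟨⟨?_⟩⟩, ?_⟩ ?_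
      · rintro ⟨_, a, ha, rfl⟩ ⟨_, b, hb, rfl⟩
        exact Subtype.ext (congrArg (fun t : B => ((t : (P' : Subgroup G)) : G))
          (hB.1.is_comm.comm ⟨a, ha⟩ ⟨b, hb⟩))
      · rintro _ ⟨a, ha, rfl⟩
        rw [← map_pow, hB.2 a ha, map_one]
      · refine lt_of_le_of_ne (fun a ha => ⟨⟨a, hAP' ha⟩, hle ha, rfl⟩) fun e => hne ?_
        rw [e, Subgroup.subgroupOf, Subgroup.comap_map_eq_self_of_injective (Subgroup.subtype_injective _)]
  obtain ⟨S, hS, -⟩ := sylow_of_relIndex hPM hPp hidxM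
  have e : ↥(P' : Subgroup G) ≃* ↥(S : Subgroup ↥M) :=
    (P'.equiv (hPp.toSylow hidx)).trans ((MulEquiv.subgroupCongr hS.symm).trans
      ((S : Subgroup ↥M).equivMapOfInjective M.subtype M.subtype_injective).symm)
  have hSn : IsNarrow p ↥(S : Subgroup ↥M) := CfsgLib.MinSimpleOdd.isNarrow_congr e hP'narrow
  obtain ⟨h1, -, h3, -, -, -⟩ := Cfsg.Agent.S1455.result (odd_subgroup hG.1 M) p hpM S hSn
    fun _ => pLengthLE_maximal hG hM
  exact ⟨h3, h1⟩

theorem sylow_le_betaCore {q : ℕ} [Fact q.Prime] (hq : q ∈ beta M) {P : Subgroup G} (hPM : P ≤ M)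
    (hPp : IsPGroup q P) (hPd : P ≤ ⁅M, M⁆) : P ≤ piCoreOf (beta M) M := by
  set D := (⁅M, M⁆ : Subgroup G) with hD
  have hDM : D ≤ M := Subgroup.commutator_le_self M
  have hMD : M ≤ normalizer (D : Set G) := fun g hg => mem_normalizer_of_conj_smul (by
    have : MulAut.conj g • ⁅M, M⁆ = ⁅MulAut.conj g • M, MulAut.conj g • M⁆ := Subgroup.map_commutator _ _ _
    rw [hD, this, conj_smul_eq_of_mem_normalizer (Subgroup.le_normalizer hg)])
  set N := D ⊓ ⨅ (r : ℕ) (_ : r.Prime) (_ : r ∣ Nat.card M) (_ : r ∉ beta M), coreP r D with hN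
  have hMN : M ≤ normalizer (N : Set G) := by
    intro g hg
    rw [Subgroup.mem_normalizer_iff]
    have key : ∀ h ∈ M, ∀ x ∈ N, h * x * h⁻¹ ∈ N := by
      intro h hh x hx
      rw [Subgroup.mem_inf] at hx ⊢
      refine ⟨(Subgroup.mem_normalizer_iff.mp (hMD hh) x).mp hx.1, ?_⟩
      simp only [Subgroup.mem_iInf] at hx ⊢
      exact fun r a b c => (Subgroup.mem_normalizer_iff.mp
        (normalizer_le_normalizer_piCoreOf _ _ (hMD hh)) x).mp (hx.2 r a b c)
    refine fun x => ⟨key g hg x, fun h => ?_⟩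
    have := key g⁻¹ (M.inv_mem hg) _ h
    simpa [mul_assoc] using this
  refine le_trans ?_ (le_piCoreOf (inf_le_left.trans hDM) hMN fun r hr hd => ?_)
  · intro x hx
    rw [Subgroup.mem_inf]
    refine ⟨hPd hx, ?_⟩
    simp only [Subgroup.mem_iInf]
    intro r hr hrM hrb
    haveI := Fact.mk hr
    obtain ⟨hc, -⟩ := complement_of_not_beta hG hM hrM hrb
    rw [← pPrimeCore_map]
    refine ⟨⟨x, hPd hx⟩, CfsgLib.mem_pPrimeCore_of_hasNormalPComplement hc ?_, rfl⟩
    rw [Subgroup.orderOf_mk]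
    obtain ⟨k, hk⟩ := hPp.exists_card_eq
    refine Nat.Coprime.coprime_dvd_left (hk ▸ Subgroup.orderOf_dvd_natCard P hx) (Nat.Coprime.pow_left k ?_)
    exact (Nat.coprime_primes Fact.out hr).mpr fun e => hrb (e ▸ hq)
  · by_contra hrb
    haveI := Fact.mk hr
    have hrM : r ∣ Nat.card M := hd.trans (Subgroup.card_dvd_of_le (inf_le_left.trans hDM))
    have hle : N ≤ coreP r D := fun y hy => by
      rw [hN, Subgroup.mem_inf] at hy
      simp only [Subgroup.mem_iInf] at hy
      exact hy.2 r hr hrM hrb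
    exact hr.ne_one (Nat.eq_one_of_dvd_coprimes (coprime_coreP r D)
      (hd.trans (Subgroup.card_dvd_of_le hle)) dvd_rfl)

theorem exists_nilpotent_hall {X : Subgroup G} (hX : X ≤ ⁅M, M⁆) :
    ∃ H : Subgroup G, IsPiHallOf {q | q.Prime ∧ q ∉ beta M} H X ∧ Group.IsNilpotent H := by
  haveI hMs := solvable_of_ne_top hG hM.1
  obtain ⟨H, hH⟩ := CfsgLib.exists_isPiHallOf {q | q.Prime ∧ q ∉ beta M}
    (solvable_of_le (hX.trans (Subgroup.commutator_le_self M)) hMs)
  refine ⟨H, hH, CfsgLib.Schmidt.nilpotent_of_forall_complement fun r hr => ?_⟩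
  haveI := Fact.mk hr
  by_cases hd : r ∣ Nat.card H
  · have hrM : r ∣ Nat.card M :=
      hd.trans (Subgroup.card_dvd_of_le ((hH.1.trans hX).trans (Subgroup.commutator_le_self M)))
    exact CfsgLib.hasNormalPComplement_of_equiv (Subgroup.subgroupOfEquivOfLe (hH.1.trans hX))
      (CfsgLib.hasNormalPComplement_subgroup (complement_of_not_beta hG hM hrM (hH.2.1 r hr hd).2).1 _)
  · exact CfsgLib.hasNormalPComplement_of_coprime ((hr.coprime_iff_not_dvd.mpr hd).symm)

theorem beta_core_hall :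
    IsPiHallOf (beta M) (piCoreOf (beta M) M) M ∧ IsPiHall (beta M) (piCoreOf (beta M) M) := by
  have key : ∀ q : ℕ, q.Prime → q ∈ beta M → ¬ q ∣ (piCoreOf (beta M) M).index := by
    intro q hq hqb hd
    haveI := Fact.mk hq
    obtain ⟨P, hPM, hPp, hidx, hN⟩ := exists_sigma_sylow (alpha_subset_sigma hG hM hqb.1)
    exact hidx (hd.trans (Subgroup.index_dvd_of_le
      (sylow_le_betaCore hG hM hqb hPM hPp (sylow_le_derived hG hM hPM hPp hidx hN))))
  exact ⟨⟨piCoreOf_le _ _, pi_piCoreOf _ _, fun q hq hqb hd => key q hq hqb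
    (hd.trans (Dvd.intro _ (Subgroup.relIndex_mul_index (piCoreOf_le _ _))))⟩, pi_piCoreOf _ _, key⟩

end Main

end CfsgLib.MinSimpleOdd
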