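import Cfsg.Agent.Lib.MinSimpleOdd.PrimeRegular

/-!
Elementary facts about `κ(M)` and the factorisation `M = K U M_σ`.
-/

set_option autoImplicit false
set_option linter.unusedSectionVars false
set_option linter.style.haveILetI false
set_option maxHeartbeats 1000000

namespace CfsgLib.MinSimpleOdd

open Subgroup Cfsg
open scoped Pointwise

universe u
variable {G : Type u} [Group G] [Finite G]

theorem card_complIn {A B M : Subgroup G} (h : IsComplIn A B M) : Nat.card M = Nat.card A * Nat.card B := by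
  rw [← Nat.card_prod]
  refine (Nat.card_congr (Equiv.ofBijective
    (fun z : A × B => (⟨(z.1 : G) * z.2, M.mul_mem (h.1 z.1.2) (h.2.1 z.2.2)⟩ : M)) ⟨?_, ?_⟩)).symm
  · rintro ⟨a, b⟩ ⟨a', b'⟩ e
    have e' : (a : G) * b = a' * b' := congrArg Subtype.val e
    have h1 : (a' : G)⁻¹ * a = b' * (b : G)⁻¹ := by
      rw [eq_mul_inv_iff_mul_eq, mul_assoc, e', inv_mul_cancel_left]
    have h2 : (a' : G)⁻¹ * a ∈ A ⊓ B :=
      ⟨A.mul_mem (A.inv_mem a'.2) a.2, h1 ▸ B.mul_mem b'.2 (B.inv_mem b.2)⟩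
    rw [h.2.2.1, Subgroup.mem_bot] at h2
    have ha : (a : G) = a' := (inv_mul_eq_one.mp h2).symm
    have hb : (b : G) = b' := mul_left_cancel (ha ▸ e')
    rw [Subtype.ext ha, Subtype.ext hb]
  · rintro ⟨m, hm⟩
    obtain ⟨a, ha, b, hb, e⟩ := h.2.2.2 m hm
    exact ⟨(⟨a, ha⟩, ⟨b, hb⟩), Subtype.ext e.symm⟩

theorem complIn_sup {K O : Subgroup G} (hKO : K ≤ normalizer (O : Set G)) (h : K ⊓ O = ⊥) :
    IsComplIn K O (K ⊔ O) := by
  refine ⟨le_sup_left, le_sup_right, h, fun m hm => ?_⟩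
  rw [sup_comm] at hm
  obtain ⟨w, hw, a, ha, rfl⟩ := CfsgLib.mem_sup_of_le_normalizer hKO hm
  refine ⟨a, ha, a⁻¹ * w * a, ?_, by group⟩
  have := (Subgroup.mem_normalizer_iff.mp (hKO (K.inv_mem ha)) w).mp hw
  rwa [inv_inv] at this

variable (hG : IsMinSimpleOddOrder G) {M : Subgroup G} (hM : IsCoatom M)

theorem kappa_rank_one {t : ℕ} [Fact t.Prime] (h : t ∈ kappa M) : PRankLE t 1 M := by
  obtain ⟨P⟩ : Nonempty (Sylow t M) := inferInstance
  have hc := (h.2.2.2 P).1
  refine pRankLE_of_sylow_rel (S := (P : Subgroup M).map M.subtype) (Subgroup.map_subtype_le _)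
    (P.2.map _) (not_dvd_of_sylow M P) fun B hB hexp => ?_
  haveI : IsCyclic ↥((P : Subgroup M).map M.subtype) :=
    isCyclic_of_surjective _ ((P : Subgroup M).equivMapOfInjective M.subtype M.subtype_injective).surjective
  rw [pow_one]
  obtain ⟨b, hb⟩ := IsCyclic.exists_generator (α := B)
  rw [← orderOf_eq_card_of_forall_mem_zpowers hb]
  refine Nat.le_of_dvd (Fact.out : t.Prime).pos (orderOf_dvd_of_pow_eq_one (Subtype.ext ?_))
  exact hexp b b.2

include hG hM

theorem kappa_tau {t : ℕ} [Fact t.Prime] (h : t ∈ kappa M) : t ∈ tau1 M ∨ t ∈ tau3 M := by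
  obtain ⟨W, hW⟩ := exists_prime_orderOf_dvd_card' t h.2.1
  exact tau1_or_tau3 hG hM h.2.2.1 (kappa_rank_one h) (W := zpowers (W : G))
    (by rw [Nat.card_zpowers, Subgroup.orderOf_coe, hW]) (Subgroup.zpowers_le.mpr W.2)

theorem kappa_not_tau2 {t : ℕ} (h : t ∈ kappa M) : t ∉ tau2 M := fun h2 => by
  haveI := Fact.mk h2.1
  exact h2.2.2.2 (kappa_rank_one h)

theorem decomp_inf {K : Subgroup G} (hK : IsPiHallOf (kappa M) K M) : K ⊓ sigmaCore M = ⊥ := by
  refine Subgroup.card_eq_one.mp (Nat.eq_one_iff_not_exists_prime_dvd.mpr fun r hr hd => ?_)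
  exact (hK.2.1 r hr (hd.trans (Subgroup.card_dvd_of_le inf_le_left))).2.2.1
    ((sigmaCore_hall hG hM).1.2.1 r hr (hd.trans (Subgroup.card_dvd_of_le inf_le_right)))

theorem decomp_card {K U : Subgroup G} (h : IsSigmaDecomposition M K U) :
    Nat.card M = Nat.card U * (Nat.card K * Nat.card (sigmaCore M)) := by
  rw [card_complIn h.compl, card_complIn (complIn_sup (h.hall.1.trans (le_normalizer_sigmaCore hG hM le_rfl))
    (decomp_inf hG hM h.hall))]

theorem decomp_U_primes {K U : Subgroup G} (h : IsSigmaDecomposition M K U) :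
    ∀ r : ℕ, r.Prime → r ∣ Nat.card U → r ∉ kappa M ∧ r ∉ sigma M := by
  intro r hr hd
  have hc := decomp_card hG hM h
  have hsM : sigmaCore M ≤ M := piCoreOf_le _ _
  refine ⟨fun hk => h.hall.2.2 r hr hk ?_, fun hs => (sigmaCore_hall hG hM).1.2.2 r hr hs ?_⟩
  · rw [← Subgroup.relIndex_bot_left (H := M), ← Subgroup.relIndex_mul_relIndex ⊥ K M bot_le h.hall.1,
      Subgroup.relIndex_bot_left] at hc
    have : K.relIndex M = Nat.card U * Nat.card (sigmaCore M) :=
      Nat.eq_of_mul_eq_mul_left (Nat.card_pos (α := K)) (by rw [hc]; ring)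
    exact this ▸ dvd_mul_of_dvd_left hd _
  · rw [← Subgroup.relIndex_bot_left (H := M), ← Subgroup.relIndex_mul_relIndex ⊥ (sigmaCore M) M bot_le hsM,
      Subgroup.relIndex_bot_left] at hc
    have : (sigmaCore M).relIndex M = Nat.card U * Nat.card K :=
      Nat.eq_of_mul_eq_mul_left (Nat.card_pos (α := sigmaCore M)) (by rw [hc]; ring)
    exact this ▸ dvd_mul_of_dvd_left hd _

theorem decomp_sup_normal {K U : Subgroup G} (h : IsSigmaDecomposition M K U) :
    M ≤ normalizer ((U ⊔ sigmaCore M : Subgroup G) : Set G) := by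
  have hn : ∀ n ∈ normalizer (U : Set G), n ∈ M → n ∈ normalizer ((U ⊔ sigmaCore M : Subgroup G) : Set G) :=
    fun n hn hnM => mem_normalizer_of_conj_smul (by
      rw [Subgroup.smul_sup, conj_smul_eq_of_mem_normalizer hn,
        conj_smul_eq_of_mem_normalizer (le_normalizer_sigmaCore hG hM le_rfl hnM)])
  intro m hm
  obtain ⟨u, hu, b, hb, rfl⟩ := h.compl.2.2.2 m hm
  obtain ⟨k, hk, s, hs, rfl⟩ := (complIn_sup (h.hall.1.trans (le_normalizer_sigmaCore hG hM le_rfl))
    (decomp_inf hG hM h.hall)).2.2.2 b hb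
  exact mul_mem (Subgroup.le_normalizer (Subgroup.mem_sup_left hu))
    (mul_mem (hn k (h.normal hk) (h.hall.1 hk)) (Subgroup.le_normalizer (Subgroup.mem_sup_right hs)))

/-- An element of `M` whose order avoids `κ(M)` lies in `U M_σ`. -/
theorem mem_sup_of_order {K U : Subgroup G} (h : IsSigmaDecomposition M K U) {x : G} (hx : x ∈ M)
    (hκ : ∀ r : ℕ, r.Prime → r ∣ orderOf x → r ∉ kappa M) : x ∈ U ⊔ sigmaCore M := by
  have hsM : sigmaCore M ≤ M := piCoreOf_le _ _
  have hUM : U ≤ M := h.compl.1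
  have hUn : U ≤ normalizer (sigmaCore M : Set G) := hUM.trans (le_normalizer_sigmaCore hG hM le_rfl)
  have hU : U ⊓ sigmaCore M = ⊥ := le_bot_iff.mp ((inf_le_inf_left _ le_sup_right).trans h.compl.2.2.1.le)
  have hW : U ⊔ sigmaCore M ≤ M := sup_le hUM hsM
  have hcard := card_complIn (complIn_sup hUn hU)
  refine le_normal_hall (π := {r | r ∉ kappa M}) (solvable_of_ne_top hG hM.1) ⟨hW, fun r hr hd => ?_, fun r hr hrk hd => ?_⟩
    (decomp_sup_normal hG hM h) (Subgroup.zpowers_le.mpr hx) (fun r hr hd => hκ r hr (by rwa [Nat.card_zpowers] at hd))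
    (mem_zpowers x)
  · rw [hcard] at hd
    rcases hr.dvd_mul.mp hd with hd | hd
    · exact (decomp_U_primes hG hM h r hr hd).1
    · exact fun hk => hk.2.2.1 ((sigmaCore_hall hG hM).1.2.1 r hr hd)
  · have hc := decomp_card hG hM h
    rw [← Subgroup.relIndex_bot_left (H := M), ← Subgroup.relIndex_mul_relIndex ⊥ (U ⊔ sigmaCore M) M bot_le hW,
      Subgroup.relIndex_bot_left, hcard] at hc
    have : (U ⊔ sigmaCore M).relIndex M = Nat.card K :=
      Nat.eq_of_mul_eq_mul_left (Nat.mul_pos (Nat.card_pos (α := U)) (Nat.card_pos (α := sigmaCore M)))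
        (by rw [hc]; ring)
    exact hrk (h.hall.2.1 r hr (this ▸ hd))

end CfsgLib.MinSimpleOdd
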