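import Cfsg.Agent.Lib.MinSimpleOdd.MaxTwo
import Cfsg.Agent.Lib.Transfer
import Cfsg.Agent.Lib.PowerGraph
import Cfsg.Agent.Lib.OddLocal.NarrowAut
import Cfsg.Agent.S1443
import Cfsg.Agent.Lib.OddLocal.SmallFixedPoints

/-!
Exceptional maximal subgroups (B–G §11).
-/

set_option autoImplicit false
set_option linter.unusedSectionVars false
set_option maxHeartbeats 1000000

namespace CfsgLib.MinSimpleOdd

open Subgroup Cfsg
open scoped Pointwise commutatorElement IsMulCommutative

universe u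
variable {G : Type u} [Group G] [Finite G] {p : ℕ} [Fact p.Prime]

/-- The hypothesis of B–G §11. -/
structure Exc (M : Subgroup G) (p : ℕ) (A A₀ : Subgroup G) : Prop where
  notσ : p ∉ sigma M
  le : A ≤ M
  two : IsMaxTwo p A
  le0 : A₀ ≤ A
  card0 : Nat.card A₀ = p
  norm : normalizer (A₀ : Set G) ≤ M

theorem Exc.centralizer_le {M A A₀ : Subgroup G} (h : Exc M p A A₀) : centralizer (A : Set G) ≤ M :=
  (centralizer_anti h.le0).trans ((Subgroup.centralizer_le_normalizer _).trans h.norm)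

theorem le_normalizer_smul {A Q : Subgroup G} {g : G} (h : MulAut.conj g⁻¹ • A ≤ normalizer (Q : Set G)) :
    A ≤ normalizer ((MulAut.conj g • Q : Subgroup G) : Set G) := fun a ha => by
  have h1 : g⁻¹ * a * g ∈ normalizer (Q : Set G) := h ((CfsgLib.mem_conj_smul_iff).mpr (by simpa [mul_assoc] using ha : _))
  refine mem_normalizer_of_conj_smul ?_
  rw [CfsgLib.conj_smul_mul, show a * g = g * (g⁻¹ * a * g) by group, ← CfsgLib.conj_smul_mul,
    conj_smul_eq_of_mem_normalizer h1]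

theorem index_conj_smul {H : Subgroup G} (g : G) : (MulAut.conj g • H).index = H.index := by
  refine Nat.eq_of_mul_eq_mul_left (Nat.card_pos (α := H)) ?_
  nth_rw 1 [← CfsgLib.card_conj_smul g H]
  rw [Subgroup.card_mul_index, Subgroup.card_mul_index]

/-- A `p`-subgroup centralised by a maximal elementary subgroup of order `p²` inside it is abelian. -/
theorem commutative_of_centralizes (hG : IsMinSimpleOddOrder G) {A P : Subgroup G} (hA : IsMaxTwo p A)
    (hP : IsPGroup p P) (hAP : A ≤ P) (hc : A ≤ centralizer (P : Set G)) : IsMulCommutative P := by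
  obtain ⟨S, hS⟩ := hP.exists_le_sylow
  suffices h : ∃ x ∈ A, ∀ a ∈ (S : Subgroup G), ∀ b ∈ (S : Subgroup G),
      a * x = x * a → b * x = x * b → a * b = b * a by
    obtain ⟨x, hx, h⟩ := h
    exact ⟨⟨fun a b => Subtype.ext (h a (hS a.2) b (hS b.2) (hc hx a a.2) (hc hx b b.2))⟩⟩
  have hp2 : p ≠ 2 := p_ne_two hG.1 hA.isPGroup hA.ne_bot
  have hAS : A ≤ (S : Subgroup G) := hAP.trans hS
  by_cases hr : PRankLE p 2 (S : Subgroup G)
  · rcases rank_two_structure hG S hr with hab | ⟨P₁, P₂, hsup, hcomm, hna, hc3, -, hcyc, hΩ⟩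
    · obtain ⟨x, hx⟩ : ∃ x, x ∈ A := ⟨1, one_mem _⟩
      exact ⟨x, hx, fun a ha b hb _ _ => congrArg Subtype.val (hab.is_comm.comm ⟨a, ha⟩ ⟨b, hb⟩)⟩
    haveI := hcyc
    have hn : P₁ ≤ normalizer (P₂ : Set G) :=
      (Subgroup.le_centralizer_iff.mp fun b hb a ha => hcomm a ha b hb).trans
        (Subgroup.centralizer_le_normalizer _)
    have hdec : ∀ s ∈ (S : Subgroup G), ∃ a ∈ P₁, ∃ b ∈ P₂, a * b = s := fun s hs => by
      rw [← hsup, ← SetLike.mem_coe, Subgroup.coe_mul_of_left_le_normalizer_right P₁ P₂ hn] at hs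
      exact Set.mem_mul.mp hs
    have hZ2 : P₁ ⊓ centralizer (P₁ : Set G) ≤ P₂ := hΩ ▸ (Subgroup.closure_le _).mpr fun x hx => hx.1
    -- `A` does not centralise `P₁`
    obtain ⟨x, hx, a₁, ha₁, hne⟩ : ∃ x ∈ A, ∃ a₁ ∈ P₁, a₁ * x ≠ x * a₁ := by
      by_contra hall
      push Not at hall
      refine hA.not_cyclic ?_
      have hle : A ≤ P₂ := by
        intro x hx
        obtain ⟨a, ha, b, hb, rfl⟩ := hdec x (hAS hx)
        refine mul_mem (hZ2 ⟨ha, fun c hc' => ?_⟩) hb
        have := hall _ hx c hc'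
        rw [← mul_assoc, mul_assoc a, ← hcomm c hc' b hb, ← mul_assoc] at this
        exact mul_right_cancel this
      exact isCyclic_of_surjective (Subgroup.subgroupOfEquivOfLe hle).toMonoidHom
        (Subgroup.subgroupOfEquivOfLe hle).surjective
    obtain ⟨c, hc1, d, hd, rfl⟩ := hdec x (hAS hx)
    refine ⟨c * d, hx, fun a ha b hb hax hbx => ?_⟩
    obtain ⟨u, hu, v, hv, rfl⟩ := hdec a ha
    obtain ⟨s, hs, t, ht, rfl⟩ := hdec b hb
    have key : ∀ u ∈ P₁, ∀ v ∈ P₂, u * v * (c * d) = c * d * (u * v) → u * c = c * u := by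
      intro u hu v hv e
      have hvd : v * d = d * v :=
        congrArg Subtype.val (mul_comm' (⟨v, hv⟩ : P₂) ⟨d, hd⟩)
      have e' : u * c * (v * d) = c * u * (v * d) := by
        calc u * c * (v * d) = u * (c * v) * d := by group
          _ = u * (v * c) * d := by rw [hcomm c hc1 v hv]
          _ = u * v * (c * d) := by group
          _ = c * d * (u * v) := e
          _ = c * (d * u) * v := by group
          _ = c * (u * d) * v := by rw [hcomm u hu d hd]
          _ = c * u * (d * v) := by group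
          _ = c * u * (v * d) := by rw [hvd]
      exact mul_right_cancel e'
    -- the centraliser of `c` in `P₁` is abelian
    set K := P₁ ⊓ centralizer ({c} : Set G) with hK
    have hKab : IsMulCommutative K := by
      have hlt : K < P₁ := lt_of_le_of_ne inf_le_left fun e => by
        refine hne ?_
        have h1 : a₁ * c = c * a₁ := Subgroup.mem_centralizer_singleton_iff.mp (e.ge ha₁).2
        rw [← mul_assoc, h1, mul_assoc, hcomm a₁ ha₁ d hd, mul_assoc]
      have hcard : Nat.card K < p ^ 3 := hc3 ▸ Set.Finite.card_lt_card (Set.toFinite _) hlt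
      obtain ⟨k, hk⟩ := ((IsPGroup.of_card hc3).to_le (inf_le_left : K ≤ P₁)).exists_card_eq
      rw [hk] at hcard
      have hk3 : k < 3 := (Nat.pow_lt_pow_iff_right (Fact.out : p.Prime).one_lt).mp hcard
      interval_cases k
      · haveI : Subsingleton K := (Nat.card_eq_one_iff_unique.mp (by rw [hk, pow_zero])).1
        exact ⟨⟨fun _ _ => Subsingleton.elim _ _⟩⟩
      · haveI : IsCyclic K := isCyclic_of_prime_card (by rw [hk, pow_one])
        infer_instance
      · exact IsPGroup.isMulCommutative_of_card_eq_prime_sq hk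
    have h1 : u * s = s * u := congrArg Subtype.val (hKab.is_comm.comm
      ⟨u, hu, Subgroup.mem_centralizer_singleton_iff.mpr (key u hu v hv hax)⟩
      ⟨s, hs, Subgroup.mem_centralizer_singleton_iff.mpr (key s hs t ht hbx)⟩)
    have h2 : v * t = t * v := congrArg Subtype.val (mul_comm' (⟨v, hv⟩ : P₂) ⟨t, ht⟩)
    calc u * v * (s * t) = u * (v * s) * t := by group
      _ = u * (s * v) * t := by rw [hcomm s hs v hv]
      _ = u * s * (v * t) := by group
      _ = s * u * (t * v) := by rw [h1, h2]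
      _ = s * (u * t) * v := by group
      _ = s * (t * u) * v := by rw [hcomm u hu t ht]
      _ = s * t * (u * v) := by group
  · obtain ⟨-, x, hx, hab, -⟩ := narrow_data hp2 S.2 hr (E := A.subgroupOf (S : Subgroup G))
      ⟨⟨⟨fun a b => Subtype.ext (Subtype.ext (congrArg (fun t : A => (t : G))
          (hA.1.1.is_comm.comm ⟨((a : (S : Subgroup G)) : G), a.2⟩ ⟨((b : (S : Subgroup G)) : G), b.2⟩)))⟩⟩,
        fun a ha => Subtype.ext (hA.1.2 a ha)⟩
      (by rw [Nat.card_congr (Subgroup.subgroupOfEquivOfLe hAS).toEquiv, hA.2.1]) (by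
        intro B hB hle
        have h1 := hA.2.2 (B.map (S : Subgroup G).subtype) ⟨⟨⟨?_⟩⟩, ?_⟩ fun a ha => ⟨⟨a, hAS ha⟩, hle ha, rfl⟩
        · rw [← h1, Subgroup.subgroupOf, Subgroup.comap_map_eq_self_of_injective (Subgroup.subtype_injective _)]
        · rintro ⟨_, a, ha, rfl⟩ ⟨_, b, hb, rfl⟩
          exact Subtype.ext (congrArg (fun t : B => ((t : (S : Subgroup G)) : G))
            (hB.1.is_comm.comm ⟨a, ha⟩ ⟨b, hb⟩))
        · rintro _ ⟨a, ha, rfl⟩
          rw [← map_pow, hB.2 a ha, map_one])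
    refine ⟨x, hx, fun a ha b hb hax hbx => ?_⟩
    exact congrArg (fun t : centralizer ({x} : Set ↥(S : Subgroup G)) => ((t : (S : Subgroup G)) : G))
      (hab.is_comm.comm ⟨⟨a, ha⟩, Subgroup.mem_centralizer_singleton_iff.mpr (Subtype.ext hax)⟩
        ⟨⟨b, hb⟩, Subgroup.mem_centralizer_singleton_iff.mpr (Subtype.ext hbx)⟩)

section Main

variable (hG : IsMinSimpleOddOrder G) {M : Subgroup G} (hM : IsCoatom M)

include hG hM

/-- B–G 11.2 (a). -/
theorem sigma_ti {A : Subgroup G} (hp : p ∉ sigma M) (hAM : A ≤ M) (hA : IsMaxTwo p A)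
    (hCA : centralizer (A : Set G) ≤ M) {g : G} (hg : g ∉ M) (hAg : A ≤ MulAut.conj g • M) :
    sigmaCore M ⊓ MulAut.conj g • M = ⊥ := by
  set D := sigmaCore M ⊓ MulAut.conj g • M with hD
  by_contra hD1
  obtain ⟨r, hr, hrd⟩ := Nat.exists_prime_and_dvd fun e => hD1 (Subgroup.card_eq_one.mp e)
  haveI := Fact.mk hr
  have hrσ : r ∈ sigma M := (sigmaCore_hall hG hM).1.2.1 r hr (hrd.trans (Subgroup.card_dvd_of_le inf_le_left))
  have hAD : A ≤ normalizer (D : Set G) := fun a ha => mem_normalizer_of_conj_smul (by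
    rw [hD, Subgroup.smul_inf, conj_smul_eq_of_mem_normalizer (le_normalizer_sigmaCore hG hM hAM ha),
      conj_smul_eq_of_mem_normalizer (Subgroup.le_normalizer (hAg ha))])
  have hDM : D ≤ M := inf_le_left.trans (piCoreOf_le _ _)
  obtain ⟨U, hU, hUA⟩ := CfsgLib.exists_invariant_hall ({r} : Set ℕ) hAD
    (coprime_sigmaCore hG hM hp hA.isPGroup inf_le_left) (solvable_of_le hDM (solvable_of_ne_top hG hM.1))
  have hUq : IsPGroup r U := IsPGroup.of_card (n := (Nat.card U).primeFactorsList.length)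
    (Nat.eq_prime_pow_of_unique_prime_dvd Nat.card_pos.ne' fun {t} ht htd => hU.2.1 t ht htd)
  have hU1 : U ≠ ⊥ := fun e => hU.2.2 r hr rfl (by rwa [e, Subgroup.relIndex_bot_left])
  obtain ⟨Q₁, hUQ₁, hQ₁s, hQ₁, hi₁, hA₁, -⟩ := exists_invariant_sylow hG hM hrσ hp hAM hA.isPGroup
    (hU.1.trans inf_le_left) hUq hUA
  -- the same inside the conjugate
  set g' := g⁻¹ with hg'
  have hback : ∀ {X : Subgroup G}, X ≤ MulAut.conj g • M → MulAut.conj g' • X ≤ M := fun {X} hX => by
    have := conj_smul_mono hX g'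
    rwa [CfsgLib.conj_smul_mul, hg', inv_mul_cancel, map_one, one_smul] at this
  have hfwd : ∀ X : Subgroup G, MulAut.conj g • MulAut.conj g' • X = X := fun X => by
    rw [CfsgLib.conj_smul_mul, hg', mul_inv_cancel, map_one, one_smul]
  have hUs : MulAut.conj g' • U ≤ sigmaCore M := le_sigmaCore hG hM (hback (hU.1.trans inf_le_right))
    fun t ht htd => by
      rw [CfsgLib.card_conj_smul] at htd
      rw [card_dvd_of_pgroup hUq ht htd]
      exact hrσ
  obtain ⟨Q, hUQ, hQs, hQ, hi, hAQ, -⟩ := exists_invariant_sylow hG hM hrσ hp (hback hAg)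
    (hA.conj g').isPGroup hUs (IsPGroup.of_card (n := hUq.exists_card_eq.choose) (by
      rw [CfsgLib.card_conj_smul]; exact hUq.exists_card_eq.choose_spec))
    (le_normalizer_smul (by
      rw [show (g'⁻¹ : G) = g from inv_inv g, hfwd]
      exact hUA))
  have hQ₂ : IsPGroup r ↥(MulAut.conj g • Q) :=
    IsPGroup.of_card (n := hQ.exists_card_eq.choose) (by
      rw [CfsgLib.card_conj_smul]; exact hQ.exists_card_eq.choose_spec)
  have hi₂ : ¬ r ∣ (MulAut.conj g • Q).index := by rwa [index_conj_smul]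
  have hA₂ : A ≤ normalizer ((MulAut.conj g • Q : Subgroup G) : Set G) := le_normalizer_smul hAQ
  have hUQ₂ : U ≤ MulAut.conj g • Q := by
    have := conj_smul_mono hUQ g
    rwa [hfwd] at this
  have hH : normalizer (U : Set G) ≠ ⊤ := normalizer_ne_top hG hU1 (pgroup_ne_top hG hUq)
  have hmeet : ∀ {Q : Subgroup G}, U ≤ Q → normalizer (U : Set G) ⊓ Q ≠ ⊥ := fun h e =>
    hU1 (le_bot_iff.mp (e ▸ le_inf Subgroup.le_normalizer h))
  have hQ₂M : MulAut.conj g • Q ≤ M := le_of_meet hG hM hrσ hp hA hA.isPGroup le_rfl hCA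
    (hQ₁s.trans (piCoreOf_le _ _)) hQ₁ hi₁ hA₁ hQ₂ hi₂ hA₂ hH hUA (hmeet hUQ₁) (hmeet hUQ₂)
  refine hg (mem_of_sigma_sylow hG hM hrσ hQ₂M hQ₂ hi₂ (fun e => hU1 (le_bot_iff.mp (e ▸ hUQ₂)))
    (conj_smul_mono (hQs.trans (piCoreOf_le _ _)) g))

theorem conj_le_of_move {P A : Subgroup G} (hAP : A ≤ P) (hPM : P ≤ M) {g : G}
    (hg : g ∈ normalizer (P : Set G)) :
    MulAut.conj g • A ≤ P ∧ A ≤ MulAut.conj g • M ∧ MulAut.conj g • A ≤ MulAut.conj g • M := by
  refine ⟨(conj_smul_mono hAP g).trans (conj_smul_eq_of_mem_normalizer hg).le, ?_,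
    conj_smul_mono (hAP.trans hPM) g⟩
  exact hAP.trans ((conj_smul_eq_of_mem_normalizer hg).ge.trans (conj_smul_mono hPM g))

variable {A A₀ : Subgroup G} (h : Exc M p A A₀)

include h

/-- B–G 11.2 (b). -/
theorem Exc.fpf {g : G} (hg : g ∉ M) (hAg : A ≤ MulAut.conj g • M) :
    sigmaCore M ⊓ centralizer ((MulAut.conj g • A₀ : Subgroup G) : Set G) = ⊥ := by
  rw [eq_bot_iff, ← sigma_ti hG hM h.notσ h.le h.two h.centralizer_le hg hAg]
  refine inf_le_inf_left _ ((Subgroup.centralizer_le_normalizer _).trans fun n hn => ?_)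
  have h1 : g⁻¹ * n * g ∈ M := h.norm (mem_normalizer_of_conj_smul (by
    rw [← CfsgLib.conj_smul_mul, ← CfsgLib.conj_smul_mul, conj_smul_eq_of_mem_normalizer hn,
      CfsgLib.conj_smul_mul, inv_mul_cancel, map_one, one_smul]))
  rw [CfsgLib.mem_conj_smul_iff]
  simpa using h1

theorem Exc.exists_move {P : Subgroup G} (hPM : P ≤ M) (hPp : IsPGroup p P) (hidx : ¬ p ∣ P.relIndex M) :
    ∃ g ∈ normalizer (P : Set G), g ∉ M := by
  by_contra hall
  push Not at hall
  obtain ⟨T, hT, -⟩ := sylow_of_relIndex hPM hPp hidx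
  exact h.notσ ⟨Fact.out, (h.two.2.1 ▸ dvd_pow_self p two_ne_zero).trans (Subgroup.card_dvd_of_le h.le), T,
    hT ▸ hall⟩

/-- B–G 11.3. -/
theorem Exc.nilpotent : Group.IsNilpotent (sigmaCore M) := by
  obtain ⟨P, hAP, hPM, hPp, hidx⟩ := exists_sylow_ge h.le h.two.isPGroup
  obtain ⟨g, hgP, hgM⟩ := h.exists_move hG hM hPM hPp hidx
  obtain ⟨hgA, hAg, -⟩ := conj_le_of_move hG hM hAP hPM hgP
  have hfix := h.fpf hG hM hgM hAg
  set X := MulAut.conj g • A₀ with hX
  have hXc : Nat.card X = p := by rw [hX, CfsgLib.card_conj_smul, h.card0]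
  obtain ⟨⟨x, hxX⟩, hxo⟩ := exists_prime_orderOf_dvd_card' (G := X) p (dvd_of_eq hXc.symm)
  rw [Subgroup.orderOf_mk] at hxo
  have hxM : x ∈ normalizer (sigmaCore M : Set G) :=
    le_normalizer_sigmaCore hG hM (((conj_smul_mono h.le0 g).trans hgA).trans hPM) hxX
  have hXeq : zpowers x = X := Subgroup.eq_of_le_of_card_ge (Subgroup.zpowers_le.mpr hxX)
    (by rw [Nat.card_zpowers, hxo, hXc])
  have hfix' : sigmaCore M ⊓ centralizer ({x} : Set G) = ⊥ := by
    rwa [← Subgroup.centralizer_closure, ← Subgroup.zpowers_eq_closure, hXeq]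
  set φ : sigmaCore M ≃* sigmaCore M := (sigmaCore M).normalizerMonoidHom ⟨x, hxM⟩ with hφ
  have hfpf : MonoidHom.FixedPointFree (φ : sigmaCore M →* sigmaCore M) := fun w hw => by
    have hw' : x * (w : G) * x⁻¹ = w := congrArg Subtype.val hw
    exact Subtype.ext (Subgroup.mem_bot.mp (hfix'.le ⟨w.2, Subgroup.mem_centralizer_singleton_iff.mpr
      ((mul_inv_eq_iff_eq_mul.mp hw').symm)⟩))
  refine Cfsg.Agent.S0033.result φ hfpf p Fact.out (orderOf_eq_prime ?_ fun e => ?_)
  · rw [hφ, ← map_pow, show (⟨x, hxM⟩ : normalizer (sigmaCore M : Set G)) ^ p = 1 from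
      Subtype.ext (hxo ▸ pow_orderOf_eq_one x), map_one]
  · exact sigmaCore_ne_bot hG hM ((Subgroup.eq_bot_iff_forall _).mpr fun v hv =>
      congrArg Subtype.val (hfpf ⟨v, hv⟩ (by rw [e]; rfl)))

/-- B–G 11.5. -/
theorem Exc.abelian {P : Subgroup G} (hAP : A ≤ P) (hPM : P ≤ M) (hPp : IsPGroup p P)
    (hidx : ¬ p ∣ P.relIndex M) : IsMulCommutative P := by
  by_contra hna
  have hpp : p.Prime := Fact.out
  obtain ⟨g, hgP, hgM⟩ := h.exists_move hG hM hPM hPp hidx
  obtain ⟨hgA, hAg, -⟩ := conj_le_of_move hG hM hAP hPM hgP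
  have hfix := h.fpf hG hM hgM hAg
  set A' := MulAut.conj g • A with hA'
  have hA'two : IsMaxTwo p A' := h.two.conj g
  obtain ⟨z, hzP, hzo, hzc⟩ := exists_central hPp (fun e => h.two.ne_bot (le_bot_iff.mp (e ▸ hAP)))
  have hzp : z ^ p = 1 := hzo ▸ pow_orderOf_eq_one z
  have hcent : ∀ {B : Subgroup G}, IsMaxTwo p B → B ≤ P → B ⊓ centralizer (P : Set G) = zpowers z := by
    intro B hB hBP
    symm
    refine Subgroup.eq_of_le_of_card_ge (le_inf (Subgroup.zpowers_le.mpr (hB.central_mem hBP hzp hzc))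
      (Subgroup.zpowers_le.mpr hzc)) ?_
    have hlt : B ⊓ centralizer (P : Set G) < B := lt_of_le_of_ne inf_le_left fun e =>
      hna (commutative_of_centralizes hG hB hPp hBP (e.ge.trans inf_le_right))
    obtain ⟨k, hk⟩ := (hB.isPGroup.to_le (inf_le_left : B ⊓ centralizer (P : Set G) ≤ B)).exists_card_eq
    have h1 : Nat.card ↥(B ⊓ centralizer (P : Set G)) < Nat.card B := Set.Finite.card_lt_card (Set.toFinite _) hlt
    rw [hk, hB.2.1] at h1
    rw [hk, Nat.card_zpowers, hzo]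
    calc p ^ k ≤ p ^ 1 := Nat.pow_le_pow_right hpp.pos (by
          have := (Nat.pow_lt_pow_iff_right hpp.one_lt).mp h1
          omega)
      _ = p := pow_one p
  have hZA : A' ⊓ centralizer (P : Set G) = zpowers z := hcent hA'two hgA
  set X := MulAut.conj g • A₀ with hX
  have hXA : X ≤ A' := conj_smul_mono h.le0 g
  have hXc : Nat.card X = p := by rw [hX, CfsgLib.card_conj_smul, h.card0]
  obtain ⟨⟨x, hxX⟩, hxo⟩ := exists_prime_orderOf_dvd_card' (G := X) p (dvd_of_eq hXc.symm)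
  rw [Subgroup.orderOf_mk] at hxo
  have hXeq : zpowers x = X := Subgroup.eq_of_le_of_card_ge (Subgroup.zpowers_le.mpr hxX)
    (by rw [Nat.card_zpowers, hxo, hXc])
  have hgz : MulAut.conj g • zpowers z = zpowers z := by
    rw [← hcent h.two hAP, Subgroup.smul_inf, hcent h.two hAP, ← hA']
    conv_rhs => rw [← hZA]
    congr 1
    exact conj_smul_eq_of_mem_normalizer
      (CfsgLib.CharP.normalizer_le_normalizer_centralizer P hgP)
  have hxz : x ∉ zpowers z := fun hxz => by
    have e : X = zpowers z := Subgroup.eq_of_le_of_card_ge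
      (hXeq.ge.trans (Subgroup.zpowers_le.mpr hxz)) (by rw [Nat.card_zpowers, hzo, hXc])
    have e0 : A₀ = zpowers z := by
      have := congrArg (fun U : Subgroup G => MulAut.conj g⁻¹ • U) (e.trans hgz.symm)
      simpa [hX, CfsgLib.conj_smul_mul] using this
    exact hgM (h.norm (mem_normalizer_of_conj_smul (by rw [e0, hgz])))
  -- an element of `N_P(A')` moving `x`
  obtain ⟨n, hnP, hnA, hnx⟩ : ∃ n ∈ P, n ∈ normalizer (A' : Set G) ∧ n * x ≠ x * n := by
    by_contra hall
    push Not at hall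
    set C := P ⊓ centralizer ({x} : Set G) with hC
    have hCP : C ≠ P := fun e => hxz (hZA.le ⟨hXA hxX, fun a ha =>
      Subgroup.mem_centralizer_singleton_iff.mp (e.ge ha).2⟩)
    obtain ⟨m, ⟨hmP, hmC⟩, hmC'⟩ := SetLike.exists_of_lt
      (Transitivity.inf_normalizer_lt_qGroup hPp (inf_le_left : C ≤ P) hCP)
    refine hmC' ⟨hmP, Subgroup.mem_centralizer_singleton_iff.mpr (hall m hmP ?_)⟩
    -- `m` normalises `A'`
    have hA'C : A' ≤ C := le_inf hgA fun a ha => Subgroup.mem_centralizer_singleton_iff.mpr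
      (congrArg Subtype.val (hA'two.1.1.is_comm.comm ⟨a, ha⟩ ⟨x, hXA hxX⟩))
    have hmA : MulAut.conj m • A' ≤ C := (conj_smul_mono hA'C m).trans (conj_smul_eq_of_mem_normalizer hmC).le
    have hgen : A' ≤ zpowers x ⊔ zpowers z := by
      refine (Subgroup.eq_of_le_of_card_ge (sup_le (Subgroup.zpowers_le.mpr (hXA hxX))
        (hZA.ge.trans inf_le_left)) ?_).ge
      obtain ⟨k, hk⟩ := (hA'two.isPGroup.to_le (sup_le (Subgroup.zpowers_le.mpr (hXA hxX))
        (hZA.ge.trans inf_le_left))).exists_card_eq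
      have hlt : zpowers z < zpowers x ⊔ zpowers z := lt_of_le_of_ne le_sup_right fun e =>
        hxz (e.ge (Subgroup.mem_sup_left (Subgroup.mem_zpowers x)))
      have h0 : Nat.card (zpowers z) < Nat.card ↥(zpowers x ⊔ zpowers z) :=
        Set.Finite.card_lt_card (Set.toFinite _) hlt
      rw [Nat.card_zpowers, hzo, hk] at h0
      rw [hA'two.2.1, hk]
      exact Nat.pow_le_pow_right hpp.pos ((Nat.pow_lt_pow_iff_right hpp.one_lt).mp (by rwa [pow_one]))
    refine mem_normalizer_of_conj_smul (Subgroup.eq_of_le_of_card_ge ?_ (CfsgLib.card_conj_smul m A').ge)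
    intro y hy
    refine hA'two.mem_of_centralizes ((hA'two.conj m).1.2 y hy) ?_
    have hyc : A' ≤ centralizer ({y} : Set G) := hgen.trans (sup_le
      (Subgroup.zpowers_le.mpr (Subgroup.mem_centralizer_singleton_iff.mpr
        (Subgroup.mem_centralizer_singleton_iff.mp (hmA hy).2).symm))
      (Subgroup.zpowers_le.mpr (Subgroup.mem_centralizer_singleton_iff.mpr (hzc y (hmA hy).1).symm)))
    exact fun a ha => Subgroup.mem_centralizer_singleton_iff.mp (hyc ha)
  -- the commutator lies in the centre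
  set z₁ := x⁻¹ * (n * x * n⁻¹) with hz₁
  have hxA := hXA hxX
  have hz₁A : z₁ ∈ A' := mul_mem (inv_mem hxA) ((Subgroup.mem_normalizer_iff.mp hnA x).mp hxA)
  have hz₁z : z₁ ∈ zpowers z := by
    set K := P ⊓ normalizer (A' : Set G) with hK
    have hA'K : A' ≤ K := le_inf hgA Subgroup.le_normalizer
    haveI : Group.IsNilpotent K := (hPp.to_le (inf_le_left : K ≤ P)).isNilpotent
    have hne : ⁅A', K⁆ ≠ A' := fun e => hA'two.ne_bot
      (CfsgLib.Transfer.eq_bot_of_le_commutator (P := K) hA'K e.ge)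
    have hle : ⁅A', K⁆ ≤ A' := by
      rw [Subgroup.commutator_le]
      intro a ha k hk
      rw [commutatorElement_def, mul_assoc a, mul_assoc a]
      exact mul_mem ha (by
        have := (Subgroup.mem_normalizer_iff.mp hk.2 a⁻¹).mp (inv_mem ha)
        rwa [mul_assoc] at this ⊢)
    set L := ⁅A', K⁆
    haveI hLn : (L.subgroupOf K).Normal := by
      refine (Subgroup.normal_subgroupOf_iff_le_normalizer (hle.trans hA'K)).mpr fun k hk =>
        mem_normalizer_of_conj_smul ?_
      show MulAut.conj k • ⁅A', K⁆ = ⁅A', K⁆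
      exact (Subgroup.map_commutator _ _ _).trans (by
        show ⁅MulAut.conj k • A', MulAut.conj k • K⁆ = _
        rw [conj_smul_eq_of_mem_normalizer hk.2, conj_smul_eq_of_mem_normalizer (Subgroup.le_normalizer hk)])
    have hmem : z₁ ∈ L := by
      have := Subgroup.commutator_mem_commutator (inv_mem hxA) (show n ∈ K from ⟨hnP, hnA⟩)
      rwa [commutatorElement_def, inv_inv, show x⁻¹ * n * x * n⁻¹ = z₁ by rw [hz₁]; group] at this
    have hLne : L.subgroupOf K ≠ ⊥ := fun e => hnx (by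
      have : (⟨z₁, hA'K hz₁A⟩ : K) ∈ L.subgroupOf K := hmem
      rw [e, Subgroup.mem_bot] at this
      have h1 : x⁻¹ * (n * x * n⁻¹) = 1 := congrArg Subtype.val this
      rwa [inv_mul_eq_one, eq_mul_inv_iff_mul_eq, eq_comm] at h1)
    obtain ⟨c, hc1⟩ := Subgroup.ne_bot_iff_exists_ne_one.mp
      (CfsgLib.inf_center_ne_bot_of_nilpotent (N := L.subgroupOf K) hLne)
    have hcL : ((c : K) : G) ∈ L := c.2.1
    have hc0 : ((c : K) : G) ≠ 1 := fun e => hc1 (Subtype.ext (Subtype.ext e))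
    have hLlt : Nat.card L ≤ p := by
      obtain ⟨k, hk⟩ := (hA'two.isPGroup.to_le hle).exists_card_eq
      have h0 : Nat.card L < Nat.card A' :=
        Set.Finite.card_lt_card (Set.toFinite _) (show L < A' from lt_of_le_of_ne hle hne)
      rw [hA'two.2.1, hk] at h0
      rw [hk]
      calc p ^ k ≤ p ^ 1 := Nat.pow_le_pow_right hpp.pos (by
            have := (Nat.pow_lt_pow_iff_right hpp.one_lt).mp h0
            omega)
        _ = p := pow_one p
    have hco : orderOf ((c : K) : G) = p := orderOf_eq_prime (hA'two.1.2 _ (hle hcL)) hc0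
    have hLc : zpowers ((c : K) : G) = L := Subgroup.eq_of_le_of_card_ge (Subgroup.zpowers_le.mpr hcL)
      (by rw [Nat.card_zpowers, hco]; exact hLlt)
    -- `c` centralises `n` and `A'`, so lies in `⟨z⟩`
    have hcn : ((c : K) : G) * n = n * ((c : K) : G) :=
      (congrArg Subtype.val (Subgroup.mem_center_iff.mp c.2.2 ⟨n, hnP, hnA⟩)).symm
    by_contra hcz
    have hcz' : ((c : K) : G) ∉ zpowers z := fun e => hcz ((hLc.ge.trans (Subgroup.zpowers_le.mpr e)) hmem)
    have hgen : A' ≤ zpowers ((c : K) : G) ⊔ zpowers z := by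
      refine (Subgroup.eq_of_le_of_card_ge (sup_le (Subgroup.zpowers_le.mpr (hle hcL))
        (hZA.ge.trans inf_le_left)) ?_).ge
      obtain ⟨k, hk⟩ := (hA'two.isPGroup.to_le (sup_le (Subgroup.zpowers_le.mpr (hle hcL))
        (hZA.ge.trans inf_le_left))).exists_card_eq
      have hlt : zpowers z < zpowers ((c : K) : G) ⊔ zpowers z := lt_of_le_of_ne le_sup_right fun e =>
        hcz' (e.ge (Subgroup.mem_sup_left (Subgroup.mem_zpowers _)))
      have h0 : Nat.card (zpowers z) < Nat.card ↥(zpowers ((c : K) : G) ⊔ zpowers z) :=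
        Set.Finite.card_lt_card (Set.toFinite _) hlt
      rw [Nat.card_zpowers, hzo, hk] at h0
      rw [hA'two.2.1, hk]
      exact Nat.pow_le_pow_right hpp.pos ((Nat.pow_lt_pow_iff_right hpp.one_lt).mp (by rwa [pow_one]))
    exact hnx (Subgroup.mem_centralizer_singleton_iff.mp ((hgen.trans (sup_le
      (Subgroup.zpowers_le.mpr (Subgroup.mem_centralizer_singleton_iff.mpr hcn))
      (Subgroup.zpowers_le.mpr (Subgroup.mem_centralizer_singleton_iff.mpr (hzc n hnP).symm)))) hxA)).symm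
  -- every element outside `⟨z⟩` is fixed-point-free on `M_σ`
  have hcomm : ∀ a ∈ A', ∀ b ∈ A', Commute a b := fun a ha b hb =>
    congrArg Subtype.val (hA'two.1.1.is_comm.comm ⟨a, ha⟩ ⟨b, hb⟩)
  have hz₁1 : z₁ ≠ 1 := fun e => hnx (by
    rw [hz₁, inv_mul_eq_one, eq_mul_inv_iff_mul_eq, eq_comm] at e
    exact e)
  have hz₁gen : zpowers z₁ = zpowers z := Subgroup.eq_of_le_of_card_ge (Subgroup.zpowers_le.mpr hz₁z)
    (by rw [Nat.card_zpowers, Nat.card_zpowers, hzo, orderOf_eq_prime (hA'two.1.2 _ hz₁A) hz₁1])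
  have hconj : ∀ l : ℤ, n ^ l * x * (n ^ l)⁻¹ = x * z₁ ^ l := fun l => by
    have hnz : Commute z₁ n := by
      obtain ⟨i, hi⟩ := Subgroup.mem_zpowers_iff.mp hz₁z
      rw [← hi]
      exact (show Commute z n from (hzc n hnP).symm).zpow_left i
    have h1 : x⁻¹ * n * x = z₁ * n := by rw [hz₁]; group
    have h2 : (x⁻¹ * n * x) ^ l = x⁻¹ * n ^ l * x := by simpa using conj_zpow (a := x⁻¹) (b := n) (i := l)
    rw [h1, hnz.mul_zpow] at h2
    rw [mul_inv_eq_iff_eq_mul, mul_assoc, h2]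
    group
  have hall : ∀ a ∈ A', a ∉ zpowers z → sigmaCore M ⊓ centralizer ({a} : Set G) = ⊥ := by
    intro a ha haz
    have hgen : A' ≤ zpowers x ⊔ zpowers z₁ := by
      rw [hz₁gen]
      refine (Subgroup.eq_of_le_of_card_ge (sup_le (Subgroup.zpowers_le.mpr hxA)
        (hZA.ge.trans inf_le_left)) ?_).ge
      obtain ⟨k, hk⟩ := (hA'two.isPGroup.to_le (sup_le (Subgroup.zpowers_le.mpr hxA)
        (hZA.ge.trans inf_le_left))).exists_card_eq
      have hlt : zpowers z < zpowers x ⊔ zpowers z := lt_of_le_of_ne le_sup_right fun e =>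
        hxz (e.ge (Subgroup.mem_sup_left (Subgroup.mem_zpowers x)))
      have h0 : Nat.card (zpowers z) < Nat.card ↥(zpowers x ⊔ zpowers z) :=
        Set.Finite.card_lt_card (Set.toFinite _) hlt
      rw [Nat.card_zpowers, hzo, hk] at h0
      rw [hA'two.2.1, hk]
      exact Nat.pow_le_pow_right hpp.pos ((Nat.pow_lt_pow_iff_right hpp.one_lt).mp (by rwa [pow_one]))
    have hset : ((zpowers x ⊔ zpowers z₁ : Subgroup G) : Set G) = (zpowers x : Set G) * (zpowers z₁ : Set G) := by
      refine Subgroup.coe_mul_of_left_le_normalizer_right _ _ ?_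
      refine le_trans ?_ (Subgroup.centralizer_le_normalizer _)
      refine Subgroup.zpowers_le.mpr ?_
      rw [Subgroup.zpowers_eq_closure, Subgroup.centralizer_closure]
      exact Subgroup.mem_centralizer_singleton_iff.mpr (hcomm x hxA z₁ hz₁A).eq
    obtain ⟨b, hb, c, hc, e⟩ := Set.mem_mul.mp (hset ▸ hgen ha : a ∈ (zpowers x : Set G) * (zpowers z₁ : Set G))
    obtain ⟨j, rfl⟩ := Subgroup.mem_zpowers_iff.mp hc
    have hb1 : b ≠ 1 := fun e1 => haz (by
      rw [← e, e1, one_mul, ← hz₁gen]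
      exact Subgroup.zpow_mem_zpowers z₁ j)
    have hbX : zpowers b = zpowers x := Subgroup.eq_of_le_of_card_ge (Subgroup.zpowers_le.mpr hb) (by
      rw [Nat.card_zpowers, Nat.card_zpowers, hxo,
        orderOf_eq_prime (hA'two.1.2 _ ((Subgroup.zpowers_le.mpr hxA) hb)) hb1])
    obtain ⟨m, hm⟩ := Subgroup.mem_zpowers_iff.mp (hbX.ge (Subgroup.mem_zpowers x))
    have hbA : b ∈ A' := (Subgroup.zpowers_le.mpr hxA) hb
    have ham : a ^ m = n ^ (j * m) * x * (n ^ (j * m))⁻¹ := by
      rw [hconj, ← e, (hcomm b hbA _ (zpow_mem hz₁A j)).mul_zpow, hm, ← zpow_mul]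
    rw [eq_bot_iff]
    rintro v ⟨hv, hvc⟩
    have hnM : n ^ (j * m) ∈ M := hPM (zpow_mem hnP _)
    set w := (n ^ (j * m))⁻¹ * v * n ^ (j * m)
    have hw : w ∈ sigmaCore M ⊓ centralizer ((X : Subgroup G) : Set G) := by
      refine ⟨(Subgroup.mem_normalizer_iff''.mp (le_normalizer_piCoreOf_self _ M hnM) v).mp hv, ?_⟩
      rw [← hXeq, Subgroup.zpowers_eq_closure, Subgroup.centralizer_closure]
      refine Subgroup.mem_centralizer_singleton_iff.mpr ?_
      have h1 : Commute v (a ^ m) :=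
        (show Commute v a from (Subgroup.mem_centralizer_singleton_iff.mp hvc)).zpow_right m
      rw [ham] at h1
      calc w * x = (n ^ (j * m))⁻¹ * (v * (n ^ (j * m) * x * (n ^ (j * m))⁻¹)) * n ^ (j * m) := by
            simp only [w]; group
        _ = (n ^ (j * m))⁻¹ * (n ^ (j * m) * x * (n ^ (j * m))⁻¹ * v) * n ^ (j * m) := by rw [h1.eq]
        _ = x * w := by simp only [w]; group
    rw [hfix, Subgroup.mem_bot] at hw
    rw [Subgroup.mem_bot]
    calc v = n ^ (j * m) * w * (n ^ (j * m))⁻¹ := by simp only [w]; group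
      _ = 1 := by rw [hw]; group
  -- so `z` centralises `M_σ`
  have hA'M : A' ≤ normalizer (sigmaCore M : Set G) := le_normalizer_sigmaCore hG hM (hgA.trans hPM)
  have hcenz : sigmaCore M ≤ centralizer ({z} : Set G) := by
    haveI := hA'two.1.1
    rw [← CfsgLib.coprime_generated_by_centralizers hA'two.not_cyclic hA'M
      (coprime_sigmaCore hG hM h.notσ hA'two.isPGroup le_rfl)]
    refine iSup₂_le fun a ha => ?_
    by_cases haz : a ∈ zpowers z
    · have e : zpowers a = zpowers z := Subgroup.eq_of_le_of_card_ge (Subgroup.zpowers_le.mpr haz) (by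
        rw [Nat.card_zpowers, Nat.card_zpowers, hzo, orderOf_eq_prime (hA'two.1.2 _ ha.1) ha.2])
      refine inf_le_right.trans ?_
      rw [← Subgroup.centralizer_closure, ← Subgroup.zpowers_eq_closure, e, Subgroup.zpowers_eq_closure,
        Subgroup.centralizer_closure]
    · rw [hall a ha.1 haz]; exact bot_le
  -- contradiction with transitivity
  obtain ⟨r, hr, hrd⟩ := Nat.exists_prime_and_dvd fun e => sigmaCore_ne_bot hG hM (Subgroup.card_eq_one.mp e)
  haveI := Fact.mk hr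
  have hrσ : r ∈ sigma M := (sigmaCore_hall hG hM).1.2.1 r hr hrd
  obtain ⟨Q, -, hQs, hQ, hQi, hPQ, hQ1⟩ := exists_invariant_sylow hG hM hrσ h.notσ hPM hPp
    (bot_le : (⊥ : Subgroup G) ≤ sigmaCore M) IsPGroup.of_bot (by
      intro a _
      exact mem_normalizer_of_conj_smul (by rw [Subgroup.smul_bot]))
  set H := centralizer ({z} : Set G)
  have hH : H ≠ ⊤ := fun e => by
    have h1 : z ∈ Subgroup.center G := Subgroup.mem_center_iff.mpr fun y =>
      Subgroup.mem_centralizer_singleton_iff.mp (e.ge (Subgroup.mem_top y))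
    rw [center_eq_bot hG, Subgroup.mem_bot] at h1
    rw [h1, orderOf_one] at hzo
    exact hpp.one_lt.ne hzo
  have hPH : P ≤ H := fun a ha => Subgroup.mem_centralizer_singleton_iff.mpr (hzc a ha)
  have hQ₂ : IsPGroup r ↥(MulAut.conj g • Q) :=
    IsPGroup.of_card (n := hQ.exists_card_eq.choose) (by
      rw [CfsgLib.card_conj_smul]; exact hQ.exists_card_eq.choose_spec)
  have hi₂ : ¬ r ∣ (MulAut.conj g • Q).index := by rwa [index_conj_smul]
  have hS₂ : P ≤ normalizer ((MulAut.conj g • Q : Subgroup G) : Set G) := le_normalizer_smul (by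
    rw [conj_smul_eq_of_mem_normalizer (inv_mem hgP)]; exact hPQ)
  have hgH : MulAut.conj g • H = H := by
    have e : H = centralizer (zpowers z : Set G) := by
      rw [Subgroup.zpowers_eq_closure, Subgroup.centralizer_closure]
    rw [e]
    exact conj_smul_eq_of_mem_normalizer
      (CfsgLib.CharP.normalizer_le_normalizer_centralizer _ (mem_normalizer_of_conj_smul hgz))
  have hQH : Q ≤ H := hQs.trans hcenz
  have hQ₂H : MulAut.conj g • Q ≤ H := (conj_smul_mono hQH g).trans hgH.le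
  have hQ₂1 : MulAut.conj g • Q ≠ ⊥ := fun e => hQ1 (Subgroup.card_eq_one.mp (by
    rw [← CfsgLib.card_conj_smul g, e, Subgroup.card_bot]))
  have hle := le_of_meet hG hM hrσ h.notσ h.two hPp hAP h.centralizer_le (hQs.trans (piCoreOf_le _ _)) hQ hQi hPQ
    hQ₂ hi₂ hS₂ hH hPH (by rwa [inf_eq_right.mpr hQH]) (by rwa [inf_eq_right.mpr hQ₂H])
  exact hgM (mem_of_sigma_sylow hG hM hrσ hle hQ₂ hi₂ hQ₂1
    (conj_smul_mono (hQs.trans (piCoreOf_le _ _)) g))

/-- B–G 11.6. -/
theorem Exc.structure' {P : Subgroup G} (hAP : A ≤ P) (hPM : P ≤ M) (hPp : IsPGroup p P)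
    (hidx : ¬ p ∣ P.relIndex M) :
    (∀ x ∈ P, x ^ p = 1 ↔ x ∈ A) ∧ sigmaCore M ⊓ centralizer (A : Set G) = ⊥ ∧
    ∃ A₁ A₂ : Subgroup G, A₁ ≤ A ∧ A₂ ≤ A ∧ Nat.card A₁ = p ∧ Nat.card A₂ = p ∧ A₁ ⊔ A₂ = A ∧
      sigmaCore M ⊓ centralizer (A₁ : Set G) = ⊥ ∧ sigmaCore M ⊓ centralizer (A₂ : Set G) = ⊥ := by
  haveI hPc := h.abelian hG hM hAP hPM hPp hidx
  have hom : ∀ x ∈ P, x ^ p = 1 ↔ x ∈ A := fun x hx =>
    ⟨fun e => h.two.mem_of_centralizes e fun a ha =>
      congrArg Subtype.val (mul_comm' (⟨a, hAP ha⟩ : P) ⟨x, hx⟩), fun hxA => h.two.1.2 x hxA⟩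
  obtain ⟨g, hgP, hgM⟩ := h.exists_move hG hM hPM hPp hidx
  have hg2 : g * g ∉ M := by
    intro h2
    obtain ⟨k, hk⟩ : Odd (orderOf g) := hG.1.of_dvd_nat (orderOf_dvd_natCard g)
    refine hgM ?_
    have : g = (g * g) ^ (k + 1) := by
      rw [← pow_two, ← pow_mul, show 2 * (k + 1) = orderOf g + 1 by omega, pow_succ, pow_orderOf_eq_one, one_mul]
    rw [this]
    exact M.pow_mem h2 _
  have hgA : ∀ {y : G}, y ∈ normalizer (P : Set G) → MulAut.conj y • A₀ ≤ A := fun {y} hy => by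
    intro b hb
    refine (hom b ?_).mp ?_
    · exact (((conj_smul_mono (h.le0.trans hAP) y)).trans (conj_smul_eq_of_mem_normalizer hy).le) hb
    · obtain ⟨a, ha, rfl⟩ := hb
      show MulAut.conj y a ^ p = 1
      rw [← map_pow, h.two.1.2 a (h.le0 ha), map_one]
  have h1 := h.fpf hG hM hgM (conj_le_of_move hG hM hAP hPM hgP).2.1
  have h2 := h.fpf hG hM hg2 (conj_le_of_move hG hM hAP hPM (mul_mem hgP hgP)).2.1
  refine ⟨hom, ?_, _, _, hgA hgP, hgA (mul_mem hgP hgP), by rw [CfsgLib.card_conj_smul, h.card0],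
    by rw [CfsgLib.card_conj_smul, h.card0], ?_, h1, h2⟩
  · rw [eq_bot_iff, ← h1]
    exact inf_le_inf_left _ (centralizer_anti (hgA hgP))
  · set A₁ := MulAut.conj g • A₀ with hA₁
    set A₂ := MulAut.conj (g * g) • A₀ with hA₂
    have hle : A₁ ⊔ A₂ ≤ A := sup_le (hgA hgP) (hgA (mul_mem hgP hgP))
    refine Subgroup.eq_of_le_of_card_ge hle ?_
    obtain ⟨k, hk⟩ := (h.two.isPGroup.to_le hle).exists_card_eq
    have hne : A₁ < A₁ ⊔ A₂ := lt_of_le_of_ne le_sup_left fun e => hgM (h.norm (mem_normalizer_of_conj_smul (by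
      have h3 : A₂ ≤ A₁ := le_sup_right.trans e.ge
      have h4 : A₂ = A₁ := Subgroup.eq_of_le_of_card_ge h3 (by
        rw [hA₁, hA₂, CfsgLib.card_conj_smul, CfsgLib.card_conj_smul])
      rw [hA₁, hA₂, ← CfsgLib.conj_smul_mul] at h4
      exact smul_left_cancel _ h4)))
    have h0 : Nat.card A₁ < Nat.card ↥(A₁ ⊔ A₂) := Set.Finite.card_lt_card (Set.toFinite _) hne
    rw [hA₁, CfsgLib.card_conj_smul, h.card0, hk] at h0
    rw [h.two.2.1, hk]
    exact Nat.pow_le_pow_right (Fact.out : p.Prime).pos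
      ((Nat.pow_lt_pow_iff_right (Fact.out : p.Prime).one_lt).mp (by rwa [pow_one]))

end Main

/-- B–G 10.12 for nilpotent `M_σ`. -/
theorem sigma_disjoint (hG : IsMinSimpleOddOrder G) {M H : Subgroup G} (hM : IsCoatom M) (hH : IsCoatom H)
    (hn : Group.IsNilpotent (sigmaCore M)) {q : ℕ} (hqM : q ∈ sigma M) (hqH : q ∈ sigma H) :
    ∃ g : G, H = MulAut.conj g • M := by
  haveI := Fact.mk hqM.1
  obtain ⟨P, hPM, hPp, hPidx, -⟩ := exists_sigma_sylow hqM
  obtain ⟨R, hRH, hRp, hRidx, hNR⟩ := exists_sigma_sylow hqH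
  obtain ⟨g, hg⟩ := MulAction.exists_smul_eq G (hPp.toSylow hPidx) (hRp.toSylow hRidx)
  have hR : R = MulAut.conj g • P := (congrArg (fun U : Sylow q G => (U : Subgroup G)) hg).symm
  have hPc : P ≤ sigmaCore M := le_sigmaCore hG hM hPM fun r hr hd => by
    rw [card_dvd_of_pgroup hPp hr hd]; exact hqM
  have hPn : piCoreOf {q} (sigmaCore M) = P :=
    eq_of_sylow (X := (⊤ : Subgroup G)) (by rwa [Subgroup.relIndex_top_right])
      (le_piCoreOf_of_nilpotent hn hPc hPp) le_top (isPGroup_piCoreOf q _)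
  have hMP : M ≤ normalizer (P : Set G) :=
    hPn ▸ (le_normalizer_piCoreOf_self _ M).trans (normalizer_le_normalizer_piCoreOf _ _)
  refine ⟨g, ?_⟩
  have hle : MulAut.conj g • M ≤ H := by
    refine le_trans ?_ hNR
    intro y hy
    rw [CfsgLib.mem_conj_smul_iff] at hy
    refine mem_normalizer_of_conj_smul ?_
    rw [hR, CfsgLib.conj_smul_mul, show y * g = g * (g⁻¹ * y * g) by group, ← CfsgLib.conj_smul_mul,
      conj_smul_eq_of_mem_normalizer (hMP (by simpa using hy))]
  rcases hle.lt_or_eq with hlt | he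
  · exact absurd ((conj_isCoatom hM g).2 H hlt) hH.1
  · exact he.symm


/-- An abelian group without fixed points is `[V, A]`. -/
theorem le_of_commutator_le {V Y A : Subgroup G} [IsMulCommutative V] (hA : A ≤ normalizer (V : Set G))
    (hcop : (Nat.card V).Coprime (Nat.card A)) (hfix : V ⊓ centralizer (A : Set G) = ⊥)
    (hY : ⁅V, A⁆ ≤ Y) : V ≤ Y := by
  classical
  letI := Fintype.ofFinite A
  have key : ∀ v : V, v ^ Nat.card A ∈ Y.subgroupOf V := by
    intro v
    have h0 : CfsgLib.SmallFixed.normMap V A hA v = 1 := Subtype.ext (Subgroup.mem_bot.mp (hfix.le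
      ⟨(CfsgLib.SmallFixed.normMap V A hA v).2, CfsgLib.SmallFixed.normMap_fixed hA v⟩))
    have h1 : v ^ Nat.card A = ∏ a : A, v / V.normalizerMonoidHom (Subgroup.inclusion hA a) v := by
      rw [Finset.prod_div_distrib, ← CfsgLib.SmallFixed.normMap_coe, h0, div_one, Finset.prod_const,
        Finset.card_univ, Nat.card_eq_fintype_card]
    rw [h1]
    refine prod_mem fun a _ => hY ?_
    have : ((v / V.normalizerMonoidHom (Subgroup.inclusion hA a) v : V) : G) = ⁅(v : G), (a : G)⁆ := by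
      rw [div_eq_mul_inv, commutatorElement_def]
      show (v : G) * ((a : G) * v * (a : G)⁻¹)⁻¹ = _
      group
    show ((v / V.normalizerMonoidHom (Subgroup.inclusion hA a) v : V) : G) ∈ ⁅V, A⁆
    rw [this]
    exact Subgroup.commutator_mem_commutator v.2 a.2
  intro v hv
  obtain ⟨k, hk⟩ := exists_pow_eq_self_of_coprime
    (show (Nat.card A).Coprime (orderOf (⟨v, hv⟩ : V)) from
      (hcop.coprime_dvd_left (orderOf_dvd_natCard _)).symm)
  have := (Y.subgroupOf V).pow_mem (key ⟨v, hv⟩) k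
  rw [hk] at this
  exact this

/-- Commutators with two generating subgroups. -/
theorem commutator_le_of_sup {V Y A₁ A₂ : Subgroup G} (hY : A₁ ⊔ A₂ ≤ normalizer (Y : Set G))
    (h₁ : ⁅V, A₁⁆ ≤ Y) (h₂ : ⁅V, A₂⁆ ≤ Y) : ⁅V, A₁ ⊔ A₂⁆ ≤ Y := by
  rw [Subgroup.commutator_le]
  intro v hv a ha
  have key : ∀ a ∈ Subgroup.closure ((A₁ : Set G) ∪ A₂), ⁅v, a⁆ ∈ Y := by
    intro a ha
    induction ha using Subgroup.closure_induction with
    | mem a ha =>
      rcases ha with ha | ha
      · exact h₁ (Subgroup.commutator_mem_commutator hv ha)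
      · exact h₂ (Subgroup.commutator_mem_commutator hv ha)
    | one => rw [commutatorElement_one_right]; exact one_mem _
    | mul a b ha' hb' iha ihb =>
      have e : ⁅v, a * b⁆ = ⁅v, a⁆ * (a * ⁅v, b⁆ * a⁻¹) := by simp only [commutatorElement_def]; group
      rw [e]
      refine mul_mem iha ((Subgroup.mem_normalizer_iff.mp (hY ?_) _).mp ihb)
      rw [Subgroup.sup_eq_closure]; exact ha'
    | inv a ha' iha =>
      have e : ⁅v, a⁻¹⁆ = a⁻¹ * ⁅v, a⁆⁻¹ * a⁻¹⁻¹ := by simp only [commutatorElement_def]; group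
      rw [e]
      refine (Subgroup.mem_normalizer_iff.mp (hY ?_) _).mp (inv_mem iha)
      rw [Subgroup.sup_eq_closure]; exact inv_mem ha'
  exact key a (by rwa [← Subgroup.sup_eq_closure])

theorem exc_of_normalizer (hG : IsMinSimpleOddOrder G) {M : Subgroup G} (hM : IsCoatom M)
    (hp : p ∉ sigma M) {X : Subgroup G} (hX : Nat.card X = p) (hN : normalizer (X : Set G) ≤ M) :
    ∃ B : Subgroup G, Exc M p B X := by
  obtain ⟨⟨hr2, -⟩, -, B, hB, hB2, hXB⟩ := order_p_normalizer_le hG hM hp hX hN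
  have hBM : B ≤ M := fun b hb => hN (Subgroup.centralizer_le_normalizer _ fun a ha =>
    congrArg Subtype.val (hB.1.is_comm.comm ⟨a, hXB ha⟩ ⟨b, hb⟩))
  exact ⟨B, hp, hBM, ⟨hB, hB2, fun _ h1 h2 => maximal_elementary hG hM hr2 hBM hB hB2 h1 h2⟩, hXB, hX, hN⟩

/-- The key step of B–G 11.7. -/
theorem Exc.centralizes_sigma' (hG : IsMinSimpleOddOrder G) {M A A₀ : Subgroup G} (hM : IsCoatom M)
    (h : Exc M p A A₀) {q : ℕ} [Fact q.Prime] (hq : q ∉ sigma M) (hqp : q ≠ p) {Q : Subgroup G}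
    (hQK : Q ≤ coreP p M) (hQ : IsPGroup q Q) (hidx : ¬ q ∣ Q.relIndex (coreP p M))
    (hAQ : A ≤ normalizer (Q : Set G)) : A ≤ centralizer (Q : Set G) := by
  haveI := solvable_of_ne_top hG hM.1
  rcases eq_or_ne Q ⊥ with rfl | hQ1
  · intro a _ v hv
    rw [Subgroup.coe_bot, Set.mem_singleton_iff] at hv
    rw [hv, one_mul, mul_one]
  have hqq : q.Prime := Fact.out
  have hq2 : q ≠ 2 := p_ne_two hG.1 hQ hQ1
  have hQM : Q ≤ M := hQK.trans (piCoreOf_le _ _)
  have hrq : PRankLE q 2 M := by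
    by_contra hr
    exact hq (alpha_subset_sigma hG hM ⟨hqq, hr⟩)
  have hcop : ∀ {X : Subgroup G}, IsPGroup q X → (Nat.card A).Coprime (Nat.card X) := fun {X} hX => by
    obtain ⟨k, hk⟩ := hX.exists_card_eq
    rw [hk, h.two.2.1]
    exact Nat.Coprime.pow 2 k ((Nat.coprime_primes Fact.out hqq).mpr hqp.symm)
  by_cases hfix : Q ⊓ centralizer (A : Set G) = ⊥
  swap
  · by_cases hcy : IsCyclic Q
    · -- a cyclic group with fixed points
      haveI := hcy
      refine Cfsg.Agent.S1443.result q hq2 Q ⊥ A hQ bot_le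
        ⟨inferInstance, fun a ha => by rw [Subgroup.mem_bot.mp ha, one_pow]⟩ hAQ ?_ ?_
      · rw [h.two.2.1]; exact ((Nat.coprime_primes Fact.out hqq).mpr hqp.symm).pow_left 2
      intro x hx hxo a ha
      obtain ⟨f, hf1⟩ := Subgroup.ne_bot_iff_exists_ne_one.mp hfix
      obtain ⟨y, hy⟩ := exists_prime_orderOf_dvd_card' q (G := ↥(Q ⊓ centralizer (A : Set G))) (by
        obtain ⟨k, hk⟩ := (hQ.to_le (inf_le_left : Q ⊓ centralizer (A : Set G) ≤ Q)).exists_card_eq
        exact hk ▸ dvd_pow_self q fun e => hfix (Subgroup.card_eq_one.mp (by rw [hk, e, pow_zero])))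
      have e : zpowers (⟨x, hx.1⟩ : Q) = zpowers (⟨y, y.2.1⟩ : Q) := by
        refine CfsgLib.PowerGraph.subgroup_eq_of_card ?_
        rw [Nat.card_zpowers, Nat.card_zpowers, Subgroup.orderOf_mk, Subgroup.orderOf_mk, hxo,
          Subgroup.orderOf_coe, hy]
      obtain ⟨i, hi⟩ := Subgroup.mem_zpowers_iff.mp (e.le (Subgroup.mem_zpowers _))
      have hi' : (y : G) ^ i = x := congrArg Subtype.val hi
      refine Subgroup.mem_centralizer_singleton_iff.mpr ?_
      rw [← hi']
      exact ((show Commute a (y : G) from y.2.2 a ha).zpow_right i).eq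
    -- a noncyclic group with fixed points
    obtain ⟨B, hBQ, -, hB, hB2⟩ := exists_elementary_two hq2 hQ hcy
    obtain ⟨Q₁, hQ₁, hQQ₁⟩ := exists_max_ge (show Q ∈ invSubgroups ⊤ A {q} from
      ⟨le_top, fun r hr hd => card_dvd_of_pgroup hQ hr hd, hAQ⟩)
    have hQ₁p := isPGroup_of_inv hQ₁.1
    have hnar : IsNarrow q Q₁ := by
      by_cases hr : PRankLE q 2 Q₁
      · exact Or.inl fun X hX he => by
          rw [← Subgroup.card_map_of_injective (K := X) Q₁.subtype_injective]
          exact card_le_of_pRankLE hr (Subgroup.map_subtype_le X) (Subgroup.map_isMulCommutative _ _) (by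
            rintro _ ⟨b, hb, rfl⟩
            rw [← map_pow, he b hb, map_one])
      have hBQ₁ := hBQ.trans hQQ₁
      refine narrow_of_maximal hq2 hQ₁p hr (E := B.subgroupOf Q₁)
        ⟨⟨⟨fun a b => Subtype.ext (Subtype.ext (congrArg (fun t : B => (t : G))
            (hB.1.is_comm.comm ⟨((a : Q₁) : G), a.2⟩ ⟨((b : Q₁) : G), b.2⟩)))⟩⟩,
          fun a ha => Subtype.ext (hB.2 a ha)⟩
        (by rw [Nat.card_congr (Subgroup.subgroupOfEquivOfLe hBQ₁).toEquiv, hB2]) ?_
      intro C hC hle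
      have h1 := maximal_elementary hG hM hrq (hBQ.trans hQM) hB hB2 (B := C.map Q₁.subtype)
        ⟨⟨⟨?_⟩⟩, ?_⟩ fun a ha => ⟨⟨a, hBQ₁ ha⟩, hle ha, rfl⟩
      · rw [← h1, Subgroup.subgroupOf, Subgroup.comap_map_eq_self_of_injective (Subgroup.subtype_injective _)]
      · rintro ⟨_, a, ha, rfl⟩ ⟨_, b, hb, rfl⟩
        exact Subtype.ext (congrArg (fun t : C => ((t : Q₁) : G)) (hC.1.is_comm.comm ⟨a, ha⟩ ⟨b, hb⟩))
      · rintro _ ⟨a, ha, rfl⟩
        rw [← map_pow, hC.2 a ha, map_one]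
    have hd := le_derived_normalizer_inv hG h.two hqp hQ₁
      fun e => hfix (le_bot_iff.mp (e ▸ inf_le_inf_right _ hQQ₁))
    exact (narrow_centralized hG h.two.isPGroup hqp hq2 hQ₁p (fun e => hQ1 (le_bot_iff.mp (e ▸ hQQ₁))) hnar
      hd).trans (centralizer_anti hQQ₁)
  -- no fixed points: impossible
  exfalso
  obtain ⟨P, hAP, hPM, hPp, hPidx⟩ := exists_sylow_ge h.le h.two.isPGroup
  obtain ⟨-, -, A₁, A₂, hA₁, hA₂, hc₁, hc₂, hsup, hf₁, hf₂⟩ := h.structure' hG hM hAP hPM hPp hPidx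
  have hMN := le_normalizer_piCoreOf_self (sigma M) M
  have hcopQ : ∀ {X : Subgroup G}, IsPGroup q X → (Nat.card X).Coprime (Nat.card (sigmaCore M)) := fun hX =>
    coprime_sigmaCore hG hM hq hX le_rfl
  -- abelian invariant subgroups of `Q` centralise `M_σ`
  have habel : ∀ V : Subgroup G, V ≤ Q → IsMulCommutative V → A ≤ normalizer (V : Set G) →
      V ≤ centralizer (sigmaCore M : Set G) := by
    intro V hVQ hVc hAV
    haveI := hVc
    have hVp := hQ.to_le hVQ
    refine le_of_commutator_le hAV (hcop hVp).symm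
      (le_bot_iff.mp ((inf_le_inf_right _ hVQ).trans hfix.le)) ?_
    rw [← hsup]
    have hAC : A₁ ⊔ A₂ ≤ normalizer (centralizer (sigmaCore M : Set G) : Set G) :=
      (sup_le hA₁ hA₂).trans (h.le.trans (hMN.trans (CfsgLib.CharP.normalizer_le_normalizer_centralizer _)))
    have hone : ∀ Y : Subgroup G, Y ≤ A → Nat.card Y = p → sigmaCore M ⊓ centralizer (Y : Set G) = ⊥ →
        ⁅V, Y⁆ ≤ centralizer (sigmaCore M : Set G) := by
      intro Y hY hYc hYf
      obtain ⟨⟨x, hxY⟩, hxo⟩ := exists_prime_orderOf_dvd_card' (G := Y) p (dvd_of_eq hYc.symm)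
      rw [Subgroup.orderOf_mk] at hxo
      have e : zpowers x = Y := Subgroup.eq_of_le_of_card_ge (Subgroup.zpowers_le.mpr hxY)
        (by rw [Nat.card_zpowers, hxo, hYc])
      have hYV : Y ≤ normalizer (V : Set G) := hY.trans hAV
      have hle : ⁅V, Y⁆ ≤ V := by
        rw [Subgroup.commutator_le]
        intro v hv a ha
        rw [commutatorElement_def, mul_assoc v, mul_assoc v]
        exact mul_mem hv (by
          have := (Subgroup.mem_normalizer_iff.mp (hYV ha) v⁻¹).mp (inv_mem hv)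
          rwa [mul_assoc] at this ⊢)
      have hC : ∀ Z : Subgroup G, centralizer ({x} : Set G) ⊓ Z = centralizer (Y : Set G) ⊓ Z := fun Z => by
        rw [← e, Subgroup.zpowers_eq_closure, Subgroup.centralizer_closure]
      refine centralizes_of_fpf hxo ?_ (hMN (h.le (hY hxY))) (hle.trans ((hVQ.trans hQM).trans hMN))
        (hcopQ (hVp.to_le hle)) ?_ ?_
      · refine mem_normalizer_of_conj_smul ?_
        exact (Subgroup.map_commutator _ _ _).trans (by
          show ⁅MulAut.conj x • V, MulAut.conj x • Y⁆ = _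
          rw [conj_smul_eq_of_mem_normalizer (hYV hxY), conj_smul_eq_of_mem_normalizer (Subgroup.le_normalizer hxY)])
      · rw [inf_comm, hC, inf_comm]
        exact CfsgLib.SmallFixed.commutator_fixed_bot hYV (((hcop hVp).coprime_dvd_left
          (Subgroup.card_dvd_of_le hY)).symm)
      · rw [inf_comm, hC, inf_comm]
        exact hYf
    exact commutator_le_of_sup hAC (hone A₁ hA₁ hc₁ hf₁) (hone A₂ hA₂ hc₂ hf₂)
  set Z := Q ⊓ centralizer (Q : Set G) with hZ
  have hZ1 : Z ≠ ⊥ := fun e => by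
    obtain ⟨z, hz, hzo, hzc⟩ := exists_central hQ hQ1
    have := e.le (show z ∈ Z from ⟨hz, hzc⟩)
    rw [Subgroup.mem_bot] at this
    rw [this, orderOf_one] at hzo
    exact hqq.one_lt.ne hzo
  have hZC := habel Z inf_le_left ⟨⟨fun a b => Subtype.ext (b.2.2 a a.2.1)⟩⟩ (fun a ha =>
    mem_normalizer_of_conj_smul (by
      rw [hZ, Subgroup.smul_inf, conj_smul_eq_of_mem_normalizer (hAQ ha), conj_smul_eq_of_mem_normalizer
        (CfsgLib.CharP.normalizer_le_normalizer_centralizer _ (hAQ ha))]))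
  -- `Z` gives a normal `q`-subgroup of rank one
  set D := ⁅M, M⁆ ⊓ centralizer (sigmaCore M : Set G) with hD
  have hAV : A ≤ normalizer (Z : Set G) := fun a ha => mem_normalizer_of_conj_smul (by
    rw [hZ, Subgroup.smul_inf, conj_smul_eq_of_mem_normalizer (hAQ ha), conj_smul_eq_of_mem_normalizer
      (CfsgLib.CharP.normalizer_le_normalizer_centralizer _ (hAQ ha))])
  haveI : IsMulCommutative Z := ⟨⟨fun a b => Subtype.ext (b.2.2 a a.2.1)⟩⟩
  have hZD : Z ≤ D := le_inf (le_of_commutator_le hAV (hcop (hQ.to_le inf_le_left)).symm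
      (le_bot_iff.mp ((inf_le_inf_right _ inf_le_left).trans hfix.le))
      (Subgroup.commutator_mono (inf_le_left.trans hQM) h.le)) hZC
  set L := piCoreOf {q} D with hL
  have hZL : Z ≤ L := le_piCoreOf_of_nilpotent (nilpotent_derived_inf_centralizer hG hM) hZD (hQ.to_le inf_le_left)
  have hLp := isPGroup_piCoreOf q D
  have hLcy : IsCyclic L := by
    by_contra hnc
    obtain ⟨B, hBL, -, hB, hB2⟩ := exists_elementary_two hq2 hLp hnc
    have hBD : B ≤ D := hBL.trans (piCoreOf_le _ _)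
    exact not_centralizes_sigmaCore hG hM hq (hBD.trans (inf_le_left.trans (Subgroup.commutator_le_self M))) hB hB2
      (Subgroup.le_centralizer_iff.mp (hBD.trans inf_le_right))
  obtain ⟨z, hzZ, hzo⟩ : ∃ z ∈ Z, orderOf z = q := by
    obtain ⟨⟨z, hz⟩, hzo⟩ := exists_prime_orderOf_dvd_card' q (G := Z) (by
      obtain ⟨k, hk⟩ := (hQ.to_le (inf_le_left : Z ≤ Q)).exists_card_eq
      exact hk ▸ dvd_pow_self q fun e => hZ1 (Subgroup.card_eq_one.mp (by rw [hk, e, pow_zero])))
    exact ⟨z, hz, by rwa [Subgroup.orderOf_mk] at hzo⟩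
  set R := zpowers z with hR
  have hRc : Nat.card R = q := by rw [hR, Nat.card_zpowers, hzo]
  have hML : M ≤ normalizer (L : Set G) :=
    le_normalizer_derived_inf_centralizer.trans (normalizer_le_normalizer_piCoreOf _ _)
  have hRL : R ≤ L := Subgroup.zpowers_le.mpr (hZL hzZ)
  have hMR : M ≤ normalizer (R : Set G) := fun m hm => mem_normalizer_of_conj_smul (by
    have hle : MulAut.conj m • R ≤ L := (conj_smul_mono hRL m).trans (conj_smul_eq_of_mem_normalizer (hML hm)).le
    haveI := hLcy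
    have e : (MulAut.conj m • R).subgroupOf L = R.subgroupOf L := CfsgLib.PowerGraph.subgroup_eq_of_card (by
      rw [Nat.card_congr (Subgroup.subgroupOfEquivOfLe hle).toEquiv,
        Nat.card_congr (Subgroup.subgroupOfEquivOfLe hRL).toEquiv, CfsgLib.card_conj_smul])
    have := congrArg (fun U : Subgroup L => U.map L.subtype) e
    simpa only [Subgroup.map_subgroupOf_eq_of_le hle, Subgroup.map_subgroupOf_eq_of_le hRL] using this)
  have hR1 : R ≠ ⊥ := fun e => by
    rw [e, Subgroup.card_bot] at hRc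
    exact hqq.one_lt.ne hRc
  have hRM : R ≤ M := (hRL.trans (piCoreOf_le _ _)).trans (inf_le_left.trans (Subgroup.commutator_le_self M))
  have hNR : normalizer (R : Set G) = M :=
    normalizer_eq hG hM hR1 (fun e => hM.1 (top_le_iff.mp (e ▸ hRM))) hMR
  obtain ⟨B, hexc⟩ := exc_of_normalizer hG hM hq hRc hNR.le
  -- `p` is smaller than `q`, so `Q` is a Sylow subgroup of `M`
  have hpq : p < q := by
    have hdvd : p ∣ q - 1 := by
      obtain ⟨a, ha, hne⟩ : ∃ a ∈ A, a * z ≠ z * a := by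
        by_contra hall
        push Not at hall
        have := hfix.le (show z ∈ Q ⊓ centralizer (A : Set G) from ⟨hzZ.1, fun a ha => hall a ha⟩)
        rw [Subgroup.mem_bot] at this
        exact hR1 (by rw [hR, this, Subgroup.zpowers_one_eq_bot])
      by_contra hnd
      refine hne ?_
      have haR : a ∈ normalizer (R : Set G) := hMR (h.le ha)
      haveI : Finite (MulAut R) := Finite.of_injective (fun f => (f : R → R)) DFunLike.coe_injective
      have hpow : (R.normalizerMonoidHom ⟨a, haR⟩) ^ (q - 1) = 1 :=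
        CfsgLib.NarrowAut.mulAut_pow_sub_one (p := q) (by rw [hRc]) _
      have hpow2 : (R.normalizerMonoidHom ⟨a, haR⟩) ^ p = 1 := by
        rw [← map_pow, show (⟨a, haR⟩ : normalizer (R : Set G)) ^ p = 1 from Subtype.ext (h.two.1.2 a ha), map_one]
      have h1 : (⟨a, haR⟩ : normalizer (R : Set G)) ∈ R.normalizerMonoidHom.ker := by
        rw [MonoidHom.mem_ker, ← pow_one (R.normalizerMonoidHom ⟨a, haR⟩),
          ← ((Fact.out : p.Prime).coprime_iff_not_dvd.mpr hnd).gcd_eq_one]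
        exact pow_gcd_eq_one.mpr ⟨hpow2, hpow⟩
      rw [Subgroup.normalizerMonoidHom_ker, Subgroup.mem_subgroupOf] at h1
      exact (h1 z (Subgroup.mem_zpowers z)).symm
    have h2 := Nat.le_of_dvd (by have := hqq.two_le; omega) hdvd
    omega
  have hQidx : ¬ q ∣ Q.relIndex M := by
    rw [← Subgroup.relIndex_mul_relIndex Q _ M hQK (piCoreOf_le _ _)]
    intro hd
    rcases hqq.dvd_mul.mp hd with hd | hd
    · exact hidx hd
    · have hpM : p ∣ Nat.card M := (h.two.2.1 ▸ dvd_pow_self p two_ne_zero).trans (Subgroup.card_dvd_of_le h.le)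
      have hpb : p ∉ beta M := fun hb => h.notσ (alpha_subset_sigma hG hM hb.1)
      rw [← pPrimeCore_map, Subgroup.relIndex, Subgroup.subgroupOf,
        Subgroup.comap_map_eq_self_of_injective M.subtype_injective] at hd
      exact absurd ((complement_of_not_beta hG hM hpM hpb).2 q hqq hd) (not_le.mpr hpq)
  -- hence `Q` is abelian of rank two and centralises `M_σ`
  obtain ⟨T, hBT, hTM, hTp, hTidx⟩ := exists_sylow_ge hexc.le hexc.two.isPGroup
  have hTab := hexc.abelian hG hM hBT hTM hTp hTidx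
  obtain ⟨S₁, hS₁, -⟩ := sylow_of_relIndex hTM hTp hTidx
  obtain ⟨S₂, hS₂, -⟩ := sylow_of_relIndex hQM hQ hQidx
  have e : ↥T ≃* ↥Q := (MulEquiv.subgroupCongr hS₁.symm).trans
    (((S₁ : Subgroup M).equivMapOfInjective M.subtype M.subtype_injective).symm.trans
      ((S₁.equiv S₂).trans (((S₂ : Subgroup M).equivMapOfInjective M.subtype M.subtype_injective).trans
        (MulEquiv.subgroupCongr hS₂))))
  haveI hQab : IsMulCommutative Q := ⟨⟨fun a b => e.symm.injective (by rw [map_mul, map_mul, mul_comm' (e.symm a)])⟩⟩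
  have hQC := habel Q le_rfl hQab hAQ
  refine not_centralizes_sigmaCore hG hM hq (B := (B.subgroupOf T).map (Q.subtype.comp e.toMonoidHom))
    ?_ ⟨⟨⟨?_⟩⟩, ?_⟩ ?_ ?_
  · rintro _ ⟨b, -, rfl⟩
    exact hQM (e b).2
  · rintro ⟨_, a, ha, rfl⟩ ⟨_, b, hb, rfl⟩
    refine Subtype.ext ?_
    show (Q.subtype.comp e.toMonoidHom) a * (Q.subtype.comp e.toMonoidHom) b = _
    rw [← map_mul, mul_comm' a b, map_mul]
    rfl
  · rintro _ ⟨a, ha, rfl⟩
    rw [← map_pow, show a ^ q = 1 from Subtype.ext (hexc.two.1.2 a ha), map_one]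
  · rw [Subgroup.card_map_of_injective (show Function.Injective (Q.subtype.comp e.toMonoidHom) from
      Q.subtype_injective.comp e.injective),
      Nat.card_congr (Subgroup.subgroupOfEquivOfLe hBT).toEquiv, hexc.two.2.1]
  · refine (Subgroup.le_centralizer_iff.mp hQC).trans (centralizer_anti ?_)
    rintro _ ⟨b, -, rfl⟩
    exact (e b).2

/-- B–G 11.7. -/
theorem Exc.normal (hG : IsMinSimpleOddOrder G) {M A A₀ : Subgroup G} (hM : IsCoatom M) (h : Exc M p A A₀) :
    M ≤ normalizer ((sigmaCore M ⊔ A : Subgroup G) : Set G) := by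
  haveI hMs := solvable_of_ne_top hG hM.1
  obtain ⟨P, hAP, hPM, hPp, hidx⟩ := exists_sylow_ge h.le h.two.isPGroup
  have hr2 : PRankLE p 2 M := by
    by_contra hr
    exact h.notσ (alpha_subset_sigma hG hM ⟨Fact.out, hr⟩)
  obtain ⟨Q₀, -, -, hfac, -, hQP⟩ := exists_frattini hG.1 hMs hPM hPp hidx
  have hpM : p ∣ Nat.card M := (h.two.2.1 ▸ dvd_pow_self p two_ne_zero).trans (Subgroup.card_dvd_of_le h.le)
  rw [hQP hpM hr2] at hfac
  obtain ⟨hom, -, -⟩ := h.structure' hG hM hAP hPM hPp hidx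
  have hMN : M ≤ normalizer (sigmaCore M : Set G) := le_normalizer_piCoreOf_self _ _
  refine hfac.trans (sup_le ?_ ?_)
  · set W := normalizer ((sigmaCore M ⊔ A : Subgroup G) : Set G)
    have hAK : A ≤ normalizer (coreP p M : Set G) := h.le.trans (le_normalizer_piCoreOf_self _ M)
    refine le_of_invariant_parts hAK ?_ (solvable_of_le (piCoreOf_le _ _) hMs) fun q hq hd U hU hUK => ?_
    · rw [h.two.2.1]
      exact (coprime_coreP p M).symm.pow_left 2
    haveI := Fact.mk hq
    by_cases hqσ : q ∈ sigma M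
    · exact (le_sigmaCore hG hM (hUK.trans (piCoreOf_le _ _)) fun r hr hrd => by
        rw [card_dvd_of_pgroup (isPGroup_of_inv hU) hr hrd]; exact hqσ).trans
        (le_sup_left.trans Subgroup.le_normalizer)
    have hqp : q ≠ p := fun e => (Fact.out : p.Prime).ne_one
      (Nat.eq_one_of_dvd_coprimes (coprime_coreP p M) (e ▸ hd) dvd_rfl)
    obtain ⟨Q, hQ, hAQ, hUQ⟩ := CfsgLib.le_invariant_hall (π := ({q} : Set ℕ)) hAK
      (by rw [h.two.2.1]; exact (coprime_coreP p M).symm.pow_left 2)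
      (solvable_of_le (piCoreOf_le _ _) hMs) hUK hU.2.2 hU.2.1
    have hQq : IsPGroup q Q := IsPGroup.of_card (n := (Nat.card Q).primeFactorsList.length)
      (Nat.eq_prime_pow_of_unique_prime_dvd Nat.card_pos.ne' fun {r} hr hd => hQ.2.1 r hr hd)
    have hc := h.centralizes_sigma' hG hM hqσ hqp hQ.1 hQq (hQ.2.2 q hq rfl) hAQ
    intro u hu
    refine mem_normalizer_of_conj_smul ?_
    rw [Subgroup.smul_sup, conj_smul_eq_of_mem_normalizer (hMN ((hUK.trans (piCoreOf_le _ _)) hu)),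
      conj_smul_eq_of_mem_normalizer (Subgroup.centralizer_le_normalizer _
        (Subgroup.le_centralizer_iff.mp hc (hUQ hu)))]
  · rintro n ⟨hnM, hnP⟩
    refine mem_normalizer_of_conj_smul ?_
    rw [Subgroup.smul_sup, conj_smul_eq_of_mem_normalizer (hMN hnM)]
    congr 1
    refine Subgroup.eq_of_le_of_card_ge ?_ (CfsgLib.card_conj_smul n A).ge
    intro b hb
    refine (hom b ((conj_smul_mono hAP n).trans (conj_smul_eq_of_mem_normalizer hnP).le hb)).mp ?_
    obtain ⟨a, ha, rfl⟩ := hb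
    show MulAut.conj n a ^ p = 1
    rw [← map_pow, h.two.1.2 a ha, map_one]

end CfsgLib.MinSimpleOdd
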