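import Cfsg.Agent.Lib.MinSimpleOdd.Basic
import Cfsg.Agent.Lib.CoprimeFixedTransfer
import Cfsg.Agent.Lib.BenderMax.LeadsTo

/-!
Overgroups of the centre of the Fitting subgroup of a maximal subgroup whose Fitting subgroup involves two
primes.
-/

set_option autoImplicit false
set_option linter.unusedSectionVars false
set_option maxHeartbeats 1000000

namespace CfsgLib.MinSimpleOdd

open Subgroup Cfsg BenderMax
open scoped Pointwise commutatorElement

universe u
variable {G : Type u} [Group G] [Finite G]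

theorem card_fittingOf (H : Subgroup G) : Nat.card (fittingOf H) = Nat.card (fittingSubgroup H) :=
  Subgroup.card_map_of_injective H.subtype_injective

theorem GG_eq_fittingOf {H : Subgroup G} (hH : Group.IsSolvable H) : GG H = fittingOf H := by
  haveI := hH
  rw [GG, CfsgLib.generalizedFitting_eq_fitting]
  rfl

theorem le_normalizer_OO (r : ℕ) (A : Subgroup G) : A ≤ normalizer (OO r A : Set G) :=
  fun _ ha => Subgroup.mem_normalizer_fintype fun _ hx => conj_OO ha hx

theorem OO_le (r : ℕ) (A : Subgroup G) : OO r A ≤ A := Subgroup.map_subtype_le _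

theorem dvd_of_OO_ne_bot {r : ℕ} (hr : r.Prime) {A : Subgroup G} (h : OO r A ≠ ⊥) :
    r ∣ Nat.card (fittingSubgroup A) := by
  haveI := Fact.mk hr
  obtain ⟨k, hk⟩ := (CfsgLib.isPGroup_pCore (G := A) r).exists_card_eq
  refine Dvd.dvd.trans ?_ (Subgroup.card_dvd_of_le (CfsgLib.pCore_le_fittingSubgroup hr))
  rw [hk]
  refine dvd_pow_self _ fun h0 => h ?_
  rw [OO, Subgroup.eq_bot_of_card_eq (Cfsg.pCore r A) (by rw [hk, h0, pow_zero]), Subgroup.map_bot]

theorem OO_ne_bot_of_dvd {r : ℕ} (hr : r.Prime) {A : Subgroup G} (hd : r ∣ Nat.card (fittingSubgroup A)) :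
    OO r A ≠ ⊥ := fun h => by
  haveI := Fact.mk hr
  rw [OO, Subgroup.map_eq_bot_iff_of_injective _ A.subtype_injective] at h
  exact CfsgLib.not_dvd_card_fitting_of_pCore_eq_bot h hd

theorem centralizes_of_normalize {A B : Subgroup G} (hAB : A ≤ normalizer (B : Set G))
    (hBA : B ≤ normalizer (A : Set G)) (hcop : (Nat.card A).Coprime (Nat.card B)) :
    A ≤ centralizer (B : Set G) := by
  intro a ha b hb
  have h1 : a * b * a⁻¹ * b⁻¹ = 1 := by
    refine Subgroup.disjoint_def.mp (Subgroup.disjoint_of_coprime_natCard hcop) ?_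
      (B.mul_mem ((Subgroup.mem_normalizer_iff.mp (hAB ha) b).mp hb) (B.inv_mem hb))
    rw [show a * b * a⁻¹ * b⁻¹ = a * (b * a⁻¹ * b⁻¹) by group]
    exact A.mul_mem ha ((Subgroup.mem_normalizer_iff.mp (hBA hb) a⁻¹).mp (A.inv_mem ha))
  rw [mul_inv_eq_one, mul_inv_eq_iff_eq_mul] at h1
  exact h1.symm

theorem coprime_pGroups {p q : ℕ} (hp : p.Prime) (hq : q.Prime) (hne : p ≠ q) {A B : Subgroup G}
    (hA : IsPGroup p A) (hB : IsPGroup q B) : (Nat.card A).Coprime (Nat.card B) := by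
  haveI := Fact.mk hp; haveI := Fact.mk hq
  obtain ⟨i, hi⟩ := hA.exists_card_eq
  obtain ⟨j, hj⟩ := hB.exists_card_eq
  rw [hi, hj]
  exact Nat.Coprime.pow _ _ ((Nat.coprime_primes hp hq).mpr hne)

theorem coprime_pGroup {p q : ℕ} (hp : p.Prime) (hq : q.Prime) (hne : q ≠ p) {B : Subgroup G}
    (hB : IsPGroup q B) : (Nat.card B).Coprime p := by
  haveI := Fact.mk hq
  obtain ⟨j, hj⟩ := hB.exists_card_eq
  rw [hj]
  exact ((Nat.coprime_primes hq hp).mpr hne).pow_left j

/-- The centraliser of a nontrivial `O_r` of a maximal subgroup lies in it. -/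
theorem centralizer_OO_le (hG : IsMinSimpleOddOrder G) {L : Subgroup G} (hL : IsCoatom L) {r : ℕ}
    (hr : r.Prime) (hd : r ∣ Nat.card (fittingSubgroup L)) :
    centralizer (OO r L : Set G) ≤ L := by
  haveI := isSimple hG
  obtain ⟨Z, hZ, hZO, hZc, hZL, -⟩ := center_OO L hr hd
  refine le_trans (centralizer_le ?_) ((Subgroup.centralizer_le_normalizer _).trans
    (normalizer_eq_of_coatom hG.2.2.1 hL hZ hZc hZL).le)
  exact hZO

/-- Uniqueness of the maximal overgroup. -/
theorem unique_of_no_invariant (hG : IsMinSimpleOddOrder G) {H : Subgroup G} (hH : IsCoatom H)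
    (hF2 : 2 ≤ (Nat.card (fittingOf H)).primeFactors.card) {M : Subgroup G} (hM : M ≤ fittingOf H)
    (hZM : fittingOf H ⊓ centralizer (fittingOf H : Set G) ≤ M)
    (hinv : ∀ Y ∈ invSubgroups ⊤ M (primesNotDvd (Nat.card (fittingOf H))), Y = ⊥)
    {L : Subgroup G} (hL : IsCoatom L) (hML : M ≤ L) : L = H := by
  haveI := isSimple hG
  have hna := hG.2.2.1
  have hHs := solvable_of_ne_top hG hH.1
  have hLs := solvable_of_ne_top hG hL.1
  set F := fittingOf H with hF
  set ρ : ℕ → Prop := fun p => p.Prime ∧ p ∣ Nat.card (fittingSubgroup H) with hρ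
  have hother : ∀ p, ∃ q, ρ q ∧ q ≠ p := by
    intro p
    rw [card_fittingOf] at hF2
    obtain ⟨a, ha, b, hb, hab⟩ := Finset.one_lt_card.mp hF2
    rw [Nat.mem_primeFactors] at ha hb
    by_cases h : a = p
    · exact ⟨b, ⟨hb.1, hb.2.1⟩, fun e => hab (h.trans e.symm)⟩
    · exact ⟨a, ⟨ha.1, ha.2.1⟩, h⟩
  have hZ : ∀ p, ρ p → ∃ Z : Subgroup G, Z ≠ ⊥ ∧ IsPGroup p Z ∧ Z ≤ L ∧ Z ≤ H ∧
      H ≤ normalizer (Z : Set G) ∧ centralizer (Z : Set G) ≤ H := by
    rintro p ⟨hp, hd⟩
    obtain ⟨Z, hZ0, hZO, hZc, hZH, hZG⟩ := center_OO H hp hd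
    have hN := normalizer_eq_of_coatom hna hH hZ0 hZc hZH
    refine ⟨Z, hZ0, (OO_isPGroup p H).to_le hZO, ?_, hZO.trans (OO_le p H), hN.ge,
      (Subgroup.centralizer_le_normalizer _).trans hN.le⟩
    intro z hz
    refine hML (hZM ⟨?_, fun w hw => ((hZG z hz w) (by rw [GG_eq_fittingOf hHs]; exact hw)).symm⟩)
    have := OO_le_GG hp H (hZO hz)
    rwa [GG_eq_fittingOf hHs] at this
  have hout : ∀ q, q.Prime → ¬ q ∣ Nat.card (fittingSubgroup H) → OO q L = ⊥ := by
    intro q hq hd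
    haveI := Fact.mk hq
    refine hinv _ ⟨le_top, fun r hr hrd => ?_, hML.trans (le_normalizer_OO q L)⟩
    obtain ⟨k, hk⟩ := (OO_isPGroup q L).exists_card_eq
    rw [(Nat.prime_dvd_prime_iff_eq hr hq).mp (hr.dvd_of_dvd_pow (hk ▸ hrd))]
    exact ⟨hq, by rwa [card_fittingOf]⟩
  choose Z hZ0 hZp hZL hZH hHZ hCZ using hZ
  -- `O_q(L)` centralises the other central pieces
  have hcent : ∀ p q (hp : ρ p) (hq : ρ q), p ≠ q → Z p hp ≤ centralizer (OO q L : Set G) := by
    intro p q hp hq hpq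
    haveI := Fact.mk hq.1
    refine FixedTransfer.centralizes_of_fixed (hZp q hq) (coprime_pGroup hq.1 hp.1 hpq (hZp p hp))
      ((hZH q hq).trans (hHZ p hp)) (OO q L) (OO_isPGroup q L) ((hZL q hq).trans (le_normalizer_OO q L))
      ((hZL p hp).trans (le_normalizer_OO q L)) ?_ ?_
    · rintro rfl r hr
      obtain ⟨k, hk⟩ := (OO_isPGroup 2 L).exists_card_eq
      have : k = 0 := by
        by_contra h0
        exact hG.1.not_two_dvd_nat ((hk ▸ dvd_pow_self 2 h0).trans (Subgroup.card_subgroup_dvd_card _))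
      rw [Subgroup.eq_bot_of_card_eq (OO 2 L) (by rw [hk, this, pow_zero]), Subgroup.mem_bot] at hr
      subst hr
      intro a _ b _
      simp
    · rintro r ⟨hr, hrA⟩ z hz
      have hrH : r ∈ H := hCZ q hq hrA
      have h1 : r * z * r⁻¹ * z⁻¹ = 1 := by
        refine Subgroup.disjoint_def.mp (Subgroup.disjoint_of_coprime_natCard
          (coprime_pGroups hq.1 hp.1 hpq.symm (OO_isPGroup q L) (hZp p hp))) ?_
          (mul_mem ((Subgroup.mem_normalizer_iff.mp (hHZ p hp hrH) z).mp hz) (inv_mem hz))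
        rw [show r * z * r⁻¹ * z⁻¹ = r * (z * r⁻¹ * z⁻¹) by group]
        exact mul_mem hr ((Subgroup.mem_normalizer_iff.mp (le_normalizer_OO q L (hZL p hp hz)) r⁻¹).mp (inv_mem hr))
      rw [mul_inv_eq_one, mul_inv_eq_iff_eq_mul] at h1
      exact h1.symm
  have hne : ∀ p, ρ p → p ∣ Nat.card (fittingSubgroup L) := by
    intro p hp
    by_contra hd
    haveI := Fact.mk hp.1
    obtain ⟨z, hz, hz1⟩ : ∃ z ∈ Z p hp, z ≠ 1 := by
      by_contra h0
      push Not at h0
      exact hZ0 p hp ((Subgroup.eq_bot_iff_forall _).mpr h0)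
    haveI := hLs
    have hzF : (⟨z, hZL p hp hz⟩ : L) ∈ fittingSubgroup L := by
      refine CfsgLib.centralizer_fitting_le ?_
      intro w hw
      have hle : (fittingSubgroup L).map L.subtype ≤ centralizer ({z} : Set G) := by
        refine FF_le_of_primes fun s hs hsd x hx => Subgroup.mem_centralizer_singleton_iff.mpr ?_
        have hρs : ρ s := ⟨hs, by
          by_contra h0
          exact OO_ne_bot_of_dvd hs hsd (hout s hs h0)⟩
        exact hcent p s hp hρs (fun e => hd (e ▸ hsd)) hz x hx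
      exact Subtype.ext (Subgroup.mem_centralizer_singleton_iff.mp (hle ⟨w, hw, rfl⟩))
    obtain ⟨k, hk⟩ := IsPGroup.iff_orderOf.mp (hZp p hp) ⟨z, hz⟩
    rw [Subgroup.orderOf_mk] at hk
    have hk0 : k ≠ 0 := fun h0 => hz1 (orderOf_eq_one_iff.mp (by rw [hk, h0, pow_zero]))
    exact hd ((dvd_pow_self p hk0).trans (hk ▸ (Subgroup.orderOf_mk (H := L) z (hZL p hp hz)) ▸
      Subgroup.orderOf_dvd_natCard _ hzF))
  -- `F(L) ≤ H`
  have hFLH : fittingOf L ≤ H := by
    refine FF_le_of_primes fun q hq hqd => ?_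
    have hρq : ρ q := ⟨hq, by
      by_contra h0
      exact OO_ne_bot_of_dvd hq hqd (hout q hq h0)⟩
    obtain ⟨p, hp, hpq⟩ := hother q
    exact fun x hx => hCZ p hp fun z hz => (hcent p q hp hρq hpq hz x hx).symm
  -- `F(H) ≤ L`
  have hFHL : fittingOf H ≤ L := by
    refine FF_le_of_primes fun p hp hpd => ?_
    obtain ⟨q, hq, hqp⟩ := hother p
    haveI := Fact.mk hp
    have hpL := hne p ⟨hp, hpd⟩
    have hqL := hne q hq
    have hAH : OO p L ≤ H := (OO_le_GG hp L).trans ((GG_eq_fittingOf hLs).le.trans hFLH)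
    have hYH : OO q L ≤ H := (OO_le_GG hq.1 L).trans ((GG_eq_fittingOf hLs).le.trans hFLH)
    have hYc : OO q L ≤ centralizer (OO p H : Set G) := by
      refine FixedTransfer.centralizes_of_fixed (OO_isPGroup p L)
        (coprime_pGroup hp hq.1 hqp (OO_isPGroup q L)) ((OO_le p L).trans (le_normalizer_OO q L))
        (OO p H) (OO_isPGroup p H) (hAH.trans (le_normalizer_OO p H)) (hYH.trans (le_normalizer_OO p H)) ?_ ?_
      · rintro rfl r hr
        obtain ⟨k, hk⟩ := (OO_isPGroup 2 H).exists_card_eq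
        have : k = 0 := by
          by_contra h0
          exact hG.1.not_two_dvd_nat ((hk ▸ dvd_pow_self 2 h0).trans (Subgroup.card_subgroup_dvd_card _))
        rw [Subgroup.eq_bot_of_card_eq (OO 2 H) (by rw [hk, this, pow_zero]), Subgroup.mem_bot] at hr
        subst hr
        intro a _ b _
        simp
      · rintro r ⟨hr, hrA⟩ y hy
        have hrL : r ∈ L := centralizer_OO_le hG hL hp hpL hrA
        have h1 : r * y * r⁻¹ * y⁻¹ = 1 := by
          refine Subgroup.disjoint_def.mp (Subgroup.disjoint_of_coprime_natCard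
            (coprime_pGroups hp hq.1 hqp.symm (OO_isPGroup p H) (OO_isPGroup q L))) ?_
            ((OO q L).mul_mem ((Subgroup.mem_normalizer_iff.mp (le_normalizer_OO q L hrL) y).mp hy)
              ((OO q L).inv_mem hy))
          rw [show r * y * r⁻¹ * y⁻¹ = r * (y * r⁻¹ * y⁻¹) by group]
          exact mul_mem hr ((Subgroup.mem_normalizer_iff.mp (le_normalizer_OO p H (hYH hy)) r⁻¹).mp (inv_mem hr))
        rw [mul_inv_eq_one, mul_inv_eq_iff_eq_mul] at h1
        exact h1.symm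
    exact fun x hx => centralizer_OO_le hG hL hq.1 hqL fun y hy => (hYc hy x hx).symm
  by_contra hne'
  obtain ⟨p, hp, hpH, -⟩ := bender_max hna H L hH hL (Ne.symm hne')
    ((GG_eq_fittingOf hHs).le.trans hFHL) ((GG_eq_fittingOf hLs).le.trans hFLH)
  haveI := Fact.mk hp
  haveI := hHs
  rw [CfsgLib.generalizedFitting_eq_fitting] at hpH
  obtain ⟨k, hk⟩ := hpH.exists_card_eq
  obtain ⟨q, hq, hqp⟩ := hother p
  exact hqp ((Nat.prime_dvd_prime_iff_eq hq.1 hp).mp (hq.1.dvd_of_dvd_pow (hk ▸ hq.2)))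

end CfsgLib.MinSimpleOdd
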