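import Cfsg.Agent.Lib.MinSimpleOdd.Basic
import Cfsg.Agent.Lib.CoprimeGen
import Cfsg.Agent.Lib.Transitivity
import Cfsg.Agent.Lib.Signalizer.OmegaInvariant

/-!
The transitivity hypothesis in a minimal simple group of odd order.
-/

set_option autoImplicit false
set_option linter.unusedSectionVars false

namespace CfsgLib.MinSimpleOdd

open Subgroup Cfsg
open scoped Pointwise

universe u
variable {G : Type u} [Group G] [Finite G]

/-- The core `O_{π(A)'}(C(A))`. -/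
abbrev coreK (A : Subgroup G) : Subgroup G :=
  piCoreOf (primesNotDvd (Nat.card A)) (centralizer (A : Set G))

theorem pi_singleton_sub {q n : ℕ} (hq : q.Prime) (hqn : ¬ q ∣ n) :
    ∀ r ∈ ({q} : Set ℕ), r ∈ primesNotDvd n := by
  rintro r rfl; exact ⟨hq, hqn⟩

theorem coreK_le (A : Subgroup G) : coreK A ≤ centralizer (A : Set G) := piCoreOf_le _ _

theorem isPiHallOf_of_le {π : Set ℕ} {H M : Subgroup G} (h : IsPiHallOf π H M) :
    ∀ p : ℕ, p.Prime → p ∣ Nat.card H → p ∈ π := h.2.1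

variable {A : Subgroup G}

/-- The invariant `π(A)'`-subgroups of a proper overgroup lie in its core. -/
theorem le_core (hA : TransitivityHypothesis A) {X Y : Subgroup G} (hX : X ≠ ⊤) (hAX : A ≤ X)
    (hY : Y ≤ X) (hπ : ∀ r : ℕ, r.Prime → r ∣ Nat.card Y → r ∈ primesNotDvd (Nat.card A))
    (hAY : A ≤ normalizer (Y : Set G)) : Y ≤ piCoreOf (primesNotDvd (Nat.card A)) X :=
  (hA.2.2 X hX hAX) ▸ le_sSup (show Y ∈ invSubgroups X A _ from ⟨hY, hπ, hAY⟩)

/-- A `π(A)'`-subgroup of `C(A)` lies in `O_{π(A)'}(C(A))`. -/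
theorem le_coreK (hG : IsMinSimpleOddOrder G) (hA : TransitivityHypothesis A) {D : Subgroup G}
    (hD : D ≤ centralizer (A : Set G))
    (hπ : ∀ r : ℕ, r.Prime → r ∣ Nat.card D → r ∈ primesNotDvd (Nat.card A)) : D ≤ coreK A := by
  set N := normalizer (A : Set G) with hN
  have hCN : centralizer (A : Set G) ≤ N := Subgroup.centralizer_le_normalizer _
  have h1 : D ≤ piCoreOf (primesNotDvd (Nat.card A)) N :=
    le_core hA (normalizer_ne_top hG hA.1 hA.2.1) Subgroup.le_normalizer (hD.trans hCN) hπ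
      (fun a ha => mem_normalizer_of_conj_smul (by
        ext x
        rw [CfsgLib.mem_conj_smul_iff]
        constructor
        · intro hx
          have e := hD hx a ha
          have : a⁻¹ * x * a = x := by
            have e2 : (a⁻¹ * x * a) * a = x * a := by
              rw [← e, ← mul_assoc, ← mul_assoc, mul_inv_cancel, one_mul]
            exact mul_right_cancel e2
          rwa [this] at hx
        · intro hx
          rw [mul_assoc, ← hD hx a ha, inv_mul_cancel_left]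
          exact hx))
  refine h1.trans (le_piCoreOf ?_ (hCN.trans (le_normalizer_piCoreOf_self _ _)) (pi_piCoreOf _ _))
  intro x hx a ha
  have hxN : x ∈ N := piCoreOf_le _ _ hx
  have h2 : a * x * a⁻¹ * x⁻¹ ∈ A ⊓ piCoreOf (primesNotDvd (Nat.card A)) N := by
    refine ⟨?_, ?_⟩
    · have := (Subgroup.mem_normalizer_iff.mp hxN a⁻¹).mp (inv_mem ha)
      rw [show a * x * a⁻¹ * x⁻¹ = a * (x * a⁻¹ * x⁻¹) by group]
      exact mul_mem ha this
    · show a * x * a⁻¹ * x⁻¹ ∈ piCoreOf (primesNotDvd (Nat.card A)) N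
      refine mul_mem ?_ (inv_mem hx)
      exact (Subgroup.mem_normalizer_iff.mp
        (le_normalizer_piCoreOf_self _ N (Subgroup.le_normalizer ha)) x).mp hx
  rw [disjoint_iff.mp (Subgroup.disjoint_of_coprime_natCard (coprime_of_notDvd (pi_piCoreOf _ N))),
    Subgroup.mem_bot] at h2
  rw [mul_inv_eq_one, mul_inv_eq_iff_eq_mul] at h2
  exact h2

section Max

variable {π : Set ℕ}

theorem exists_max_ge {B Y : Subgroup G} (hY : Y ∈ invSubgroups ⊤ B π) :
    ∃ M ∈ maxInvSubgroups ⊤ B π, Y ≤ M := by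
  obtain ⟨M, ⟨hM, hYM⟩, hmax⟩ := (Set.toFinite {M : Subgroup G | M ∈ invSubgroups ⊤ B π ∧ Y ≤ M}).exists_maximal
    ⟨Y, hY, le_rfl⟩
  exact ⟨M, ⟨hM, fun R hR hMR => le_antisymm (hmax ⟨hR, hYM.trans hMR⟩ hMR) hMR⟩, hYM⟩

theorem conj_mem_inv {B Y : Subgroup G} {g : G} (hg : g ∈ normalizer (B : Set G))
    (hY : Y ∈ invSubgroups ⊤ B π) : MulAut.conj g • Y ∈ invSubgroups ⊤ B π :=
  ⟨le_top, fun r hr hd => hY.2.1 r hr (by rwa [CfsgLib.card_conj_smul] at hd),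
    le_normalizer_conj_smul hg hY.2.2⟩

theorem conj_mem_max {B Q : Subgroup G} {g : G} (hg : g ∈ normalizer (B : Set G))
    (hQ : Q ∈ maxInvSubgroups ⊤ B π) : MulAut.conj g • Q ∈ maxInvSubgroups ⊤ B π := by
  refine ⟨conj_mem_inv hg hQ.1, fun R hR hle => ?_⟩
  have h1 := hQ.2 (MulAut.conj g⁻¹ • R) (conj_mem_inv (inv_mem hg) hR) (by
    have := conj_smul_mono hle g⁻¹
    rwa [CfsgLib.conj_smul_mul, inv_mul_cancel, map_one, one_smul] at this)
  rw [← h1, CfsgLib.conj_smul_mul, mul_inv_cancel, map_one, one_smul]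

theorem bot_mem_inv (B : Subgroup G) : (⊥ : Subgroup G) ∈ invSubgroups ⊤ B π :=
  ⟨bot_le, fun r hr hd => by
    rw [Subgroup.card_bot] at hd; exact absurd (Nat.dvd_one.mp hd) hr.ne_one,
    fun a _ => mem_normalizer_of_conj_smul (by rw [Subgroup.smul_bot])⟩

theorem isPGroup_of_inv {q : ℕ} {H B Y : Subgroup G} (hY : Y ∈ invSubgroups H B {q}) : IsPGroup q Y :=
  IsPGroup.of_card (n := (Nat.card Y).primeFactorsList.length)
    (Nat.eq_prime_pow_of_unique_prime_dvd Nat.card_pos.ne' fun {r} hr hrd => hY.2.1 r hr hrd)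

end Max

variable {q : ℕ} [Fact q.Prime]

/-- Inside a proper overgroup two invariant `q`-subgroups can be moved, by the core of `C(A)`, into one
maximal invariant `q`-subgroup. -/
theorem join_in_overgroup (hG : IsMinSimpleOddOrder G) (hA : TransitivityHypothesis A)
    (hqA : ¬ q ∣ Nat.card A) {X R₁ R₂ : Subgroup G} (hX : X ≠ ⊤) (hAX : A ≤ X)
    (h₁ : R₁ ∈ invSubgroups X A {q}) (h₂ : R₂ ∈ invSubgroups X A {q}) :
    ∃ c ∈ coreK A, c ∈ X ∧ ∃ Q ∈ maxInvSubgroups ⊤ A {q}, MulAut.conj c • R₁ ≤ Q ∧ R₂ ≤ Q := by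
  have hq : q.Prime := Fact.out
  have hsub := pi_singleton_sub hq hqA
  set O := piCoreOf (primesNotDvd (Nat.card A)) X with hO
  have hO₁ : R₁ ≤ O := le_core hA hX hAX h₁.1 (fun r hr hd => hsub r (h₁.2.1 r hr hd)) h₁.2.2
  have hO₂ : R₂ ≤ O := le_core hA hX hAX h₂.1 (fun r hr hd => hsub r (h₂.2.1 r hr hd)) h₂.2.2
  have hAO : A ≤ normalizer (O : Set G) := hAX.trans (le_normalizer_piCoreOf_self _ X)
  have hcop : (Nat.card A).Coprime (Nat.card O) := coprime_of_notDvd (pi_piCoreOf _ X)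
  have hOs : Group.IsSolvable O := solvable_of_le (piCoreOf_le _ _) (solvable_of_ne_top hG hX)
  obtain ⟨S₁, hS₁, hS₁A, hR₁⟩ := CfsgLib.le_invariant_hall hAO hcop hOs hO₁ h₁.2.2 h₁.2.1
  obtain ⟨S₂, hS₂, hS₂A, hR₂⟩ := CfsgLib.le_invariant_hall hAO hcop hOs hO₂ h₂.2.2 h₂.2.1
  obtain ⟨c, hc, hcS⟩ := CfsgLib.invariant_hall_conj hAO hcop hOs hS₁ hS₁A hS₂ hS₂A
  obtain ⟨Q, hQ, hSQ⟩ := exists_max_ge (show S₂ ∈ invSubgroups ⊤ A {q} from ⟨le_top, hS₂.2.1, hS₂A⟩)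
  refine ⟨c, le_coreK hG hA (D := O ⊓ centralizer (A : Set G)) inf_le_right
    (pi_of_le inf_le_left (pi_piCoreOf _ X)) hc, piCoreOf_le _ _ hc.1, Q, hQ, ?_, hR₂.trans hSQ⟩
  exact ((conj_smul_mono hR₁ c).trans hcS.le).trans hSQ

theorem coreK_le_normalizer : coreK A ≤ normalizer (A : Set G) :=
  (coreK_le A).trans (Subgroup.centralizer_le_normalizer _)

/-- Two maximal invariant `q`-subgroups meeting a common proper overgroup nontrivially are conjugate. -/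
theorem conj_of_common (hG : IsMinSimpleOddOrder G) (hA : TransitivityHypothesis A)
    (hqA : ¬ q ∣ Nat.card A) : ∀ (n : ℕ) (Q₁ Q₂ : Subgroup G), Q₁ ∈ maxInvSubgroups ⊤ A {q} →
    Q₂ ∈ maxInvSubgroups ⊤ A {q} → Nat.card G - Nat.card (Q₁ ⊓ Q₂ : Subgroup G) = n →
    ∀ H : Subgroup G, H ≠ ⊤ → A ≤ H → H ⊓ Q₁ ≠ ⊥ → H ⊓ Q₂ ≠ ⊥ →
    ∃ k ∈ coreK A, Q₂ = MulAut.conj k • Q₁ := by
  intro n
  induction n using Nat.strong_induction_on with
  | h n ih =>
  intro Q₁ Q₂ h₁ h₂ hn H hH hAH hH₁ hH₂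
  set D := Q₁ ⊓ Q₂ with hD
  by_cases he : Q₁ = Q₂
  · exact ⟨1, one_mem _, by rw [map_one, one_smul, he]⟩
  -- choose an overgroup and two large invariant subgroups
  obtain ⟨X, hX, hAX, R₁, R₂, hR₁, hR₂, hR₁Q, hR₂Q, hc₁, hc₂⟩ : ∃ X : Subgroup G, X ≠ ⊤ ∧ A ≤ X ∧
      ∃ R₁ R₂ : Subgroup G, R₁ ∈ invSubgroups X A {q} ∧ R₂ ∈ invSubgroups X A {q} ∧ R₁ ≤ Q₁ ∧ R₂ ≤ Q₂ ∧
        Nat.card D < Nat.card R₁ ∧ Nat.card D < Nat.card R₂ := by
    by_cases hD0 : D = ⊥
    · have hinv : ∀ Q ∈ maxInvSubgroups ⊤ A {q}, H ⊓ Q ∈ invSubgroups H A {q} := fun Q hQ =>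
        ⟨inf_le_left, pi_of_le inf_le_right hQ.1.2.1, fun a ha => mem_normalizer_of_conj_smul (by
          rw [Subgroup.smul_inf, conj_smul_eq_of_mem_normalizer (Subgroup.le_normalizer (hAH ha)),
            conj_smul_eq_of_mem_normalizer (hQ.1.2.2 ha)])⟩
      refine ⟨H, hH, hAH, _, _, hinv _ h₁, hinv _ h₂, inf_le_right, inf_le_right, ?_, ?_⟩ <;>
        rw [hD0, Subgroup.card_bot] <;> exact (Subgroup.one_lt_card_iff_ne_bot _).mpr (by assumption)
    · have hAD : A ≤ normalizer (D : Set G) := fun a ha => mem_normalizer_of_conj_smul (by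
        rw [hD, Subgroup.smul_inf, conj_smul_eq_of_mem_normalizer (h₁.1.2.2 ha),
          conj_smul_eq_of_mem_normalizer (h₂.1.2.2 ha)])
      have hDq : IsPGroup q D := (isPGroup_of_inv h₁.1).to_le inf_le_left
      have hne₁ : D ≠ Q₁ := fun e => he (h₁.2 Q₂ h₂.1 (e ▸ inf_le_right)).symm
      have hne₂ : D ≠ Q₂ := fun e => he (h₂.2 Q₁ h₁.1 (e ▸ inf_le_left))
      have hinv : ∀ Q ∈ maxInvSubgroups ⊤ A {q},
          Q ⊓ normalizer (D : Set G) ∈ invSubgroups (normalizer (D : Set G)) A {q} := fun Q hQ =>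
        ⟨inf_le_right, pi_of_le inf_le_left hQ.1.2.1, Transitivity.normalizer_inf_normalizer hQ.1.2.2 hAD⟩
      refine ⟨_, normalizer_ne_top hG hD0 (pgroup_ne_top hG hDq), hAD, _, _, hinv _ h₁, hinv _ h₂,
        inf_le_left, inf_le_left, ?_, ?_⟩
      · exact Set.Finite.card_lt_card (Set.toFinite _)
          (Transitivity.inf_normalizer_lt_qGroup (isPGroup_of_inv h₁.1) inf_le_left hne₁)
      · exact Set.Finite.card_lt_card (Set.toFinite _)
          (Transitivity.inf_normalizer_lt_qGroup (isPGroup_of_inv h₂.1) inf_le_right hne₂)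
  obtain ⟨c, hc, hcX, Q, hQ, hcQ, h2Q⟩ := join_in_overgroup hG hA hqA hX hAX hR₁ hR₂
  have hR₂0 : R₂ ≠ ⊥ := fun e => by rw [e, Subgroup.card_bot] at hc₂; exact absurd hc₂ (by
    have := Nat.card_pos (α := D); omega)
  have hR₁0 : R₁ ≠ ⊥ := fun e => by rw [e, Subgroup.card_bot] at hc₁; exact absurd hc₁ (by
    have := Nat.card_pos (α := D); omega)
  have hcN := coreK_le_normalizer hc
  have hbot : ∀ {R S : Subgroup G}, R ≠ ⊥ → R ≤ S → S ≠ ⊥ := fun hR hle e => hR (le_bot_iff.mp (e ▸ hle))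
  have hcR : MulAut.conj c • R₁ ≠ ⊥ := fun e => hR₁0 (Subgroup.card_eq_one.mp (by
    rw [← CfsgLib.card_conj_smul c, e, Subgroup.card_bot]))
  have hcRX : MulAut.conj c • R₁ ≤ X := by
    have := conj_smul_mono hR₁.1 c
    rwa [conj_smul_eq_of_mem_normalizer (Subgroup.le_normalizer hcX)] at this
  have hlt : ∀ {T : Subgroup G}, Nat.card D < Nat.card T →
      Nat.card G - Nat.card T < n := fun {T} hT => by
    have := Subgroup.card_subgroup_dvd_card T
    have := Nat.le_of_dvd Nat.card_pos this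
    omega
  have hmono : ∀ {R T : Subgroup G}, R ≤ T → Nat.card R ≤ Nat.card T := fun h =>
    Subgroup.card_le_of_le h
  obtain ⟨k₁, hk₁, e₁⟩ := ih _ (hlt (lt_of_lt_of_le hc₁ (by
      rw [← CfsgLib.card_conj_smul c R₁]
      exact hmono (le_inf (conj_smul_mono hR₁Q c) hcQ))))
    (MulAut.conj c • Q₁) Q (conj_mem_max hcN h₁) hQ rfl X hX hAX
    (hbot hcR (le_inf hcRX (conj_smul_mono hR₁Q c))) (hbot hcR (le_inf hcRX hcQ))
  obtain ⟨k₂, hk₂, e₂⟩ := ih _ (hlt (lt_of_lt_of_le hc₂ (hmono (le_inf h2Q hR₂Q))))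
    Q Q₂ hQ h₂ rfl X hX hAX (hbot hR₂0 (le_inf hR₂.1 h2Q)) (hbot hR₂0 (le_inf hR₂.1 hR₂Q))
  refine ⟨k₂ * k₁ * c, mul_mem (mul_mem hk₂ hk₁) hc, ?_⟩
  rw [e₂, e₁, CfsgLib.conj_smul_mul, CfsgLib.conj_smul_mul, mul_assoc]

theorem centralizer_singleton_contains {b : G}
    (hb : b ∈ A ⊓ centralizer (A : Set G)) : A ≤ centralizer ({b} : Set G) := fun a ha =>
  Subgroup.mem_centralizer_singleton_iff.mpr (hb.2 a ha)

theorem conj_of_fixed (hG : IsMinSimpleOddOrder G) (hA : TransitivityHypothesis A)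
    (hqA : ¬ q ∣ Nat.card A) {Q₁ Q₂ : Subgroup G} (h₁ : Q₁ ∈ maxInvSubgroups ⊤ A {q})
    (h₂ : Q₂ ∈ maxInvSubgroups ⊤ A {q}) {b : G} (hb : b ∈ A ⊓ centralizer (A : Set G)) (hb1 : b ≠ 1)
    (e₁ : Q₁ ⊓ centralizer ({b} : Set G) ≠ ⊥) (e₂ : Q₂ ⊓ centralizer ({b} : Set G) ≠ ⊥) :
    ∃ k ∈ coreK A, Q₂ = MulAut.conj k • Q₁ :=
  conj_of_common hG hA hqA _ Q₁ Q₂ h₁ h₂ rfl _ (centralizer_ne_top hG hb1)
    (centralizer_singleton_contains hb) (by rwa [inf_comm]) (by rwa [inf_comm])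

theorem exists_fixed {B Q : Subgroup G} [IsMulCommutative B] (hB : ¬ IsCyclic B)
    (hBQ : B ≤ normalizer (Q : Set G)) (hcop : (Nat.card B).Coprime (Nat.card Q)) (hQ : Q ≠ ⊥) :
    ∃ b ∈ B, b ≠ 1 ∧ Q ⊓ centralizer ({b} : Set G) ≠ ⊥ := by
  by_contra hno
  push Not at hno
  refine hQ ?_
  rw [← CfsgLib.coprime_generated_by_centralizers hB hBQ hcop]
  exact le_bot_iff.mp (iSup₂_le fun a ha => (hno a ha.1 ha.2).le)

theorem exists_elementary_of_not_pRankLE {r k : ℕ} {Z : Subgroup G} (h : ¬ PRankLE r k Z) :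
    ∃ B : Subgroup G, B ≤ Z ∧ IsMulCommutative B ∧ (∀ b ∈ B, b ^ r = 1) ∧ r ^ k < Nat.card B := by
  simp only [PRankLE, not_forall, not_le] at h
  obtain ⟨V, hVc, hVexp, hVcard⟩ := h
  refine ⟨V.map Z.subtype, Subgroup.map_subtype_le _, ?_, ?_, ?_⟩
  · refine ⟨⟨?_⟩⟩
    rintro ⟨_, a, ha, rfl⟩ ⟨_, b, hb, rfl⟩
    exact Subtype.ext (congrArg Z.subtype (congrArg Subtype.val (hVc.is_comm.comm ⟨a, ha⟩ ⟨b, hb⟩)))
  · rintro _ ⟨a, ha, rfl⟩
    rw [← map_pow, hVexp a ha, map_one]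
  · rwa [Subgroup.card_map_of_injective Z.subtype_injective]

theorem card_le_of_cyclic {r : ℕ} (hr : r.Prime) {B : Subgroup G} (hexp : ∀ b ∈ B, b ^ r = 1)
    (hc : IsCyclic B) : Nat.card B ≤ r := by
  obtain ⟨g, hg⟩ := hc.exists_generator
  rw [← orderOf_eq_card_of_forall_mem_zpowers hg]
  exact Nat.le_of_dvd hr.pos (orderOf_dvd_of_pow_eq_one (Subtype.ext (hexp g g.2)))

theorem coprime_of_le {q : ℕ} [Fact q.Prime] {A B Q H : Subgroup G} (hBA : B ≤ A) (hqA : ¬ q ∣ Nat.card A)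
    (hQ : Q ∈ invSubgroups H A {q}) : (Nat.card B).Coprime (Nat.card Q) :=
  (coprime_of_notDvd (fun r hr hd => pi_singleton_sub (Fact.out : q.Prime) hqA r
    (hQ.2.1 r hr hd))).coprime_dvd_left (Subgroup.card_dvd_of_le hBA)

/-- Transitivity when the centre of `A` has rank at least three. -/
theorem transitive_of_rank_three (hG : IsMinSimpleOddOrder G) (hA : TransitivityHypothesis A)
    (hqA : ¬ q ∣ Nat.card A) (hZ : ¬ RankLE 2 ↥(A ⊓ centralizer (A : Set G)))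
    {Q₁ Q₂ : Subgroup G} (h₁ : Q₁ ∈ maxInvSubgroups ⊤ A {q}) (h₂ : Q₂ ∈ maxInvSubgroups ⊤ A {q}) :
    ∃ k ∈ coreK A, Q₂ = MulAut.conj k • Q₁ := by
  have htriv : ∀ {Q Q' : Subgroup G}, Q ∈ maxInvSubgroups ⊤ A {q} → Q' ∈ maxInvSubgroups ⊤ A {q} →
      Q = ⊥ → Q' = Q := fun {Q Q'} hQ hQ' e => hQ.2 Q' hQ'.1 (e ▸ bot_le)
  by_cases e₁ : Q₁ = ⊥
  · exact ⟨1, one_mem _, by rw [map_one, one_smul, htriv h₁ h₂ e₁]⟩
  by_cases e₂ : Q₂ = ⊥
  · exact ⟨1, one_mem _, by rw [map_one, one_smul, htriv h₂ h₁ e₂]⟩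
  simp only [RankLE, not_forall] at hZ
  obtain ⟨r, hr, hZ⟩ := hZ
  have := Fact.mk hr
  obtain ⟨B, hBZ, hBc, hexp, hcard⟩ := exists_elementary_of_not_pRankLE hZ
  have hBA : B ≤ A := hBZ.trans inf_le_left
  have hBcomm : ∀ a ∈ B, ∀ b ∈ B, a * b = b * a := fun a ha b hb =>
    congrArg Subtype.val (hBc.is_comm.comm ⟨a, ha⟩ ⟨b, hb⟩)
  have hBnc : ¬ IsCyclic B := fun hc => by
    have := card_le_of_cyclic hr hexp hc
    have : r ^ 1 < r ^ 2 := Nat.pow_lt_pow_right hr.one_lt (by omega)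
    rw [pow_one] at this
    omega
  obtain ⟨b₁, hb₁, hb₁1, hD₁⟩ := exists_fixed hBnc (hBA.trans h₁.1.2.2) (coprime_of_le hBA hqA h₁.1) e₁
  -- a maximal subgroup of `B` avoiding `b₁`
  obtain ⟨B', ⟨hB'B, hb₁B'⟩, hB'max⟩ := (Set.toFinite {T : Subgroup G | T ≤ B ∧ b₁ ∉ T}).exists_maximal
    ⟨⊥, bot_le, fun h => hb₁1 (Subgroup.mem_bot.mp h)⟩
  have hord : orderOf b₁ = r := orderOf_eq_prime (hexp _ hb₁) hb₁1
  have hsup : B ≤ zpowers b₁ ⊔ B' := by
    intro x hx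
    by_contra hxn
    have hxB' : x ∉ B' := fun h => hxn (Subgroup.mem_sup_right h)
    have hmem : b₁ ∈ B' ⊔ zpowers x := by
      by_contra hb
      exact hxB' (hB'max ⟨sup_le hB'B (Subgroup.zpowers_le.mpr hx), hb⟩ le_sup_left
        (Subgroup.mem_sup_right (Subgroup.mem_zpowers x)))
    have hnorm : zpowers x ≤ normalizer (B' : Set G) := fun y hy => by
      rw [Subgroup.mem_normalizer_iff]
      have hyB : y ∈ B := Subgroup.zpowers_le.mpr hx hy
      intro z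
      constructor
      · intro hz; rwa [hBcomm y hyB z (hB'B hz), mul_inv_cancel_right]
      · intro hz
        have e : z = y⁻¹ * (y * z * y⁻¹) * y := by group
        rw [hBcomm _ (inv_mem hyB) _ (hB'B hz), inv_mul_cancel_right] at e
        rwa [e]
    obtain ⟨b', hb', z, hz, he⟩ := mem_sup_of_le_normalizer hnorm hmem
    have hz1 : z ≠ 1 := fun e => hb₁B' (by rwa [← he, e, mul_one])
    have hzord : orderOf z = r := orderOf_eq_prime (hexp _ (Subgroup.zpowers_le.mpr hx hz)) hz1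
    have hxz : zpowers z = zpowers x := by
      refine Subgroup.eq_of_le_of_card_ge (Subgroup.zpowers_le.mpr hz) ?_
      rw [Nat.card_zpowers, Nat.card_zpowers, hzord]
      exact Nat.le_of_dvd hr.pos (orderOf_dvd_of_pow_eq_one (hexp x hx))
    have hzmem : z ∈ zpowers b₁ ⊔ B' := by
      rw [show z = b'⁻¹ * b₁ by rw [← he, inv_mul_cancel_left]]
      exact mul_mem (Subgroup.mem_sup_right (inv_mem hb')) (Subgroup.mem_sup_left (Subgroup.mem_zpowers b₁))
    exact hxn (Subgroup.zpowers_le.mpr hzmem (hxz.ge (Subgroup.mem_zpowers x)))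
  have hB'c : IsMulCommutative B' := ⟨⟨fun a b => Subtype.ext (hBcomm a (hB'B a.2) b (hB'B b.2))⟩⟩
  have hB'nc : ¬ IsCyclic B' := fun hc => by
    have h3 := card_le_of_cyclic hr (fun b hb => hexp b (hB'B hb)) hc
    have hn : zpowers b₁ ≤ normalizer (B' : Set G) := fun y hy => by
      have hyB : y ∈ B := Subgroup.zpowers_le.mpr hb₁ hy
      refine mem_normalizer_of_conj_smul ?_
      ext z
      rw [CfsgLib.mem_conj_smul_iff]
      constructor
      · intro hz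
        have e : z = y * (y⁻¹ * z * y) * y⁻¹ := by group
        rw [hBcomm _ hyB _ (hB'B hz), mul_inv_cancel_right] at e
        rwa [e]
      · intro hz
        rwa [mul_assoc, hBcomm z (hB'B hz) y hyB, inv_mul_cancel_left]
    have h4 : Nat.card B ≤ Nat.card (zpowers b₁) * Nat.card B' := by
      refine (Subgroup.card_le_of_le hsup).trans ?_
      have : ((zpowers b₁ ⊔ B' : Subgroup G) : Set G) = (zpowers b₁ : Set G) * (B' : Set G) :=
        Subgroup.coe_mul_of_left_le_normalizer_right _ _ hn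
      rw [← SetLike.coe_sort_coe, this, Nat.card_coe_set_eq]
      refine (Set.natCard_mul_le ).trans ?_
      simp [Nat.card_coe_set_eq]
    rw [Nat.card_zpowers, hord] at h4
    have := Nat.mul_le_mul_left r h3
    rw [← pow_two] at this
    omega
  set D₁ := Q₁ ⊓ centralizer ({b₁} : Set G) with hD₁def
  have hB'D : B' ≤ normalizer (D₁ : Set G) := fun a ha => mem_normalizer_of_conj_smul (by
    rw [hD₁def, Subgroup.smul_inf, conj_smul_eq_of_mem_normalizer (h₁.1.2.2 (hBA (hB'B ha))),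
      conj_smul_eq_of_mem_normalizer (Subgroup.le_normalizer
        (Subgroup.mem_centralizer_singleton_iff.mpr (hBcomm a (hB'B ha) b₁ hb₁)))])
  obtain ⟨b₂, hb₂, hb₂1, hD₂⟩ := exists_fixed hB'nc hB'D
    ((coprime_of_le (hB'B.trans hBA) hqA h₁.1).coprime_dvd_right (Subgroup.card_dvd_of_le inf_le_left)) hD₁
  set B₁ := Subgroup.closure ({b₁, b₂} : Set G) with hB₁
  have hB₁B : B₁ ≤ B := (Subgroup.closure_le _).mpr (by
    rintro x (rfl | rfl); exacts [hb₁, hB'B hb₂])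
  have hB₁c : IsMulCommutative B₁ := ⟨⟨fun a b => Subtype.ext (hBcomm a (hB₁B a.2) b (hB₁B b.2))⟩⟩
  have hb₁B₁ : b₁ ∈ B₁ := Subgroup.subset_closure (by simp)
  have hb₂B₁ : b₂ ∈ B₁ := Subgroup.subset_closure (by simp)
  have hB₁nc : ¬ IsCyclic B₁ := fun hc => by
    have h3 := card_le_of_cyclic hr (fun b hb => hexp b (hB₁B hb)) hc
    have h4 : zpowers b₁ = B₁ := Subgroup.eq_of_le_of_card_ge (Subgroup.zpowers_le.mpr hb₁B₁) (by
      rwa [Nat.card_zpowers, hord])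
    have hb₂z : b₂ ∈ zpowers b₁ := h4.ge hb₂B₁
    have h5 : zpowers b₂ = zpowers b₁ := Subgroup.eq_of_le_of_card_ge (Subgroup.zpowers_le.mpr hb₂z) (by
      rw [Nat.card_zpowers, Nat.card_zpowers, hord, orderOf_eq_prime (hexp _ (hB'B hb₂)) hb₂1])
    exact hb₁B' (Subgroup.zpowers_le.mpr hb₂ (h5.ge (Subgroup.mem_zpowers b₁)))
  obtain ⟨b, hb, hb1, hQ₂b⟩ := exists_fixed hB₁nc ((hB₁B.trans hBA).trans h₂.1.2.2)
    (coprime_of_le (hB₁B.trans hBA) hqA h₂.1) e₂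
  refine conj_of_fixed hG hA hqA h₁ h₂ (hBZ (hB₁B hb)) hb1 ?_ hQ₂b
  intro e
  refine hD₂ (le_bot_iff.mp (le_trans ?_ e.le))
  rintro x ⟨⟨hxQ, hx1⟩, hx2⟩
  refine ⟨hxQ, ?_⟩
  have hBx : B₁ ≤ centralizer ({x} : Set G) := (Subgroup.closure_le _).mpr (by
    rintro y (rfl | rfl)
    · exact Subgroup.mem_centralizer_singleton_iff.mpr (Subgroup.mem_centralizer_singleton_iff.mp hx1).symm
    · exact Subgroup.mem_centralizer_singleton_iff.mpr (Subgroup.mem_centralizer_singleton_iff.mp hx2).symm)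
  exact Subgroup.mem_centralizer_singleton_iff.mpr (Subgroup.mem_centralizer_singleton_iff.mp (hBx hb)).symm

/-- Transitivity when the centre of `A` is not cyclic and `q` divides the order of `C(A)`. -/
theorem transitive_of_rank_two (hG : IsMinSimpleOddOrder G) (hA : TransitivityHypothesis A)
    (hqA : ¬ q ∣ Nat.card A) (hZ : ¬ RankLE 1 ↥(A ⊓ centralizer (A : Set G)))
    (hqC : q ∣ Nat.card (centralizer (A : Set G))) {Q₁ Q₂ : Subgroup G}
    (h₁ : Q₁ ∈ maxInvSubgroups ⊤ A {q}) (h₂ : Q₂ ∈ maxInvSubgroups ⊤ A {q}) :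
    ∃ k ∈ coreK A, Q₂ = MulAut.conj k • Q₁ := by
  simp only [RankLE, not_forall] at hZ
  obtain ⟨r, hr, hZ⟩ := hZ
  have := Fact.mk hr
  obtain ⟨B, hBZ, hBc, hexp, hcard⟩ := exists_elementary_of_not_pRankLE hZ
  have hBA : B ≤ A := hBZ.trans inf_le_left
  have hBnc : ¬ IsCyclic B := fun hc => by
    have := card_le_of_cyclic hr hexp hc
    rw [pow_one] at hcard
    omega
  obtain ⟨x, hx⟩ := exists_prime_orderOf_dvd_card' q hqC
  have hxA : zpowers (x : G) ∈ invSubgroups ⊤ A {q} := by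
    refine ⟨le_top, fun s hs hd => ?_, fun a ha => mem_normalizer_of_conj_smul ?_⟩
    · rw [Nat.card_zpowers, Subgroup.orderOf_coe, hx] at hd
      exact (Nat.prime_dvd_prime_iff_eq hs (Fact.out : q.Prime)).mp hd
    · have hc : ∀ y ∈ zpowers (x : G), a⁻¹ * y * a = y ∧ a * y * a⁻¹ = y := by
        intro y hy
        have hyC : y ∈ centralizer (A : Set G) := Subgroup.zpowers_le.mpr x.2 hy
        have e := hyC a ha
        exact ⟨by rw [mul_assoc, ← e, inv_mul_cancel_left], by rw [e, mul_inv_cancel_right]⟩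
      ext y
      rw [CfsgLib.mem_conj_smul_iff]
      constructor
      · intro hy
        have := (hc _ hy).2
        rw [show a * (a⁻¹ * y * a) * a⁻¹ = y by group] at this
        rwa [← this] at hy
      · intro hy; rwa [(hc y hy).1]
  obtain ⟨Q₀, h₀, hxQ₀⟩ := exists_max_ge hxA
  have hQ₀0 : Q₀ ≠ ⊥ := fun e => by
    have : (x : G) = 1 := Subgroup.mem_bot.mp (e ▸ hxQ₀ (Subgroup.mem_zpowers _))
    rw [show x = 1 from Subtype.ext this, orderOf_one] at hx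
    exact (Fact.out : q.Prime).one_lt.ne hx
  have key : ∀ Q ∈ maxInvSubgroups ⊤ A {q}, ∃ k ∈ coreK A, Q = MulAut.conj k • Q₀ := by
    intro Q hQ
    have hQ0 : Q ≠ ⊥ := fun e => hQ₀0 (by rw [← hQ.2 Q₀ h₀.1 (e ▸ bot_le)] at e; exact e)
    obtain ⟨b, hb, hb1, hbQ⟩ := exists_fixed hBnc (hBA.trans hQ.1.2.2) (coprime_of_le hBA hqA hQ.1) hQ0
    refine conj_of_fixed hG hA hqA h₀ hQ (hBZ hb) hb1 ?_ hbQ
    intro e
    have hxm : (x : G) ∈ Q₀ ⊓ centralizer ({b} : Set G) :=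
      ⟨hxQ₀ (Subgroup.mem_zpowers _), Subgroup.mem_centralizer_singleton_iff.mpr (x.2 b (hBA hb)).symm⟩
    rw [e, Subgroup.mem_bot] at hxm
    rw [show x = 1 from Subtype.ext hxm, orderOf_one] at hx
    exact (Fact.out : q.Prime).one_lt.ne hx
  obtain ⟨k₁, hk₁, e₁⟩ := key Q₁ h₁
  obtain ⟨k₂, hk₂, e₂⟩ := key Q₂ h₂
  exact ⟨k₂ * k₁⁻¹, mul_mem hk₂ (inv_mem hk₁), by
    rw [e₁, e₂, CfsgLib.conj_smul_mul, inv_mul_cancel_right]⟩

/-- The hypothesis from self-centralising abelian `p`-subgroups. -/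
theorem transitivityHypothesis_of_omega (hG : IsMinSimpleOddOrder G) {p : ℕ} [Fact p.Prime] (hp : p ≠ 2)
    (hAp : IsPGroup p A) (hA1 : A ≠ ⊥) (hΩ : ∀ x ∈ centralizer (A : Set G), orderOf x = p → x ∈ A) :
    TransitivityHypothesis A := by
  have hpA : p ∣ Nat.card A := by
    obtain ⟨k, hk⟩ := hAp.exists_card_eq
    have : k ≠ 0 := fun e => hA1 (Subgroup.card_eq_one.mp (by rw [hk, e, pow_zero]))
    rw [hk]; exact dvd_pow_self p this
  refine ⟨hA1, pgroup_ne_top hG hAp, fun X hX hAX => le_antisymm (sSup_le ?_) (le_sSup ?_)⟩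
  · rintro Y ⟨hYX, hYπ, hAY⟩
    haveI := solvable_of_ne_top hG hX
    have h1 : (Y.subgroupOf X) ≤ pPrimeCore p X := by
      refine Signalizer.le_pPrimeCore_of_omega hp (isPConstrained_of_solvable p) (A.subgroupOf X)
        (hAp.comap_subtype) ?_ _ ?_ ?_
      · intro z hz hzo
        refine hΩ z (fun a ha => ?_) (by rwa [Subgroup.orderOf_coe])
        exact congrArg Subtype.val (hz ⟨a, hAX ha⟩ ha)
      · rw [Nat.card_congr (Subgroup.subgroupOfEquivOfLe hYX).toEquiv]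
        exact ((coprime_of_notDvd hYπ).coprime_dvd_left hpA).symm
      · intro a ha
        rw [← Subgroup.subgroupOf_normalizer_eq hYX]
        exact hAY ha
    have h2 : (pPrimeCore p X).map X.subtype ≤ piCoreOf (primesNotDvd (Nat.card A)) X := by
      refine Subgroup.map_mono (le_sSup ⟨Subgroup.sSup_normal _ (fun _ h => h.1), fun r hr hd => ⟨hr, fun hrA => ?_⟩⟩)
      obtain ⟨k, hk⟩ := hAp.exists_card_eq
      have hrp : r = p := (Nat.prime_dvd_prime_iff_eq hr Fact.out).mp (hr.dvd_of_dvd_pow (hk ▸ hrA))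
      exact CfsgLib.not_dvd_card_pPrimeCore (Fact.out : p.Prime) (hrp ▸ hd)
    intro y hy
    exact h2 ⟨⟨y, hYX hy⟩, h1 hy, rfl⟩
  · exact ⟨piCoreOf_le _ _, pi_piCoreOf _ _, hAX.trans (le_normalizer_piCoreOf_self _ _)⟩

end CfsgLib.MinSimpleOdd
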