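import Cfsg.Agent.Lib.MinSimpleOdd.Fitting
import Cfsg.Agent.Lib.MinSimpleOdd.Transitivity
import Cfsg.Agent.Lib.Components

/-!
Bender: invariant `q`-subgroups for a self-centralising subgroup of the Fitting subgroup of a maximal local
subgroup.
-/

set_option autoImplicit false
set_option linter.unusedSectionVars false
set_option maxHeartbeats 1000000

namespace CfsgLib.UniqueSylow

open Subgroup Cfsg BenderMax CfsgLib.MinSimpleOdd
open scoped Pointwise commutatorElement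

universe u
variable {G : Type u} [Group G] [Finite G] {H M R : Subgroup G}

theorem fittingOf_normalized {h x : G} (hh : h ∈ H) (hx : x ∈ fittingOf H) : h * x * h⁻¹ ∈ fittingOf H :=
  conj_mem_map (fittingSubgroup H) hh hx

/-- Central pieces of the Fitting subgroup of a maximal local subgroup. -/
theorem center_piece (hHmax : ∀ L : Subgroup G, IsLocalSubgroup L → H ≤ L → L = H) (hM : M ≤ fittingOf H)
    (hCM : fittingOf H ⊓ centralizer (M : Set G) ≤ M) {r : ℕ} (hr : r.Prime)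
    (hd : r ∣ Nat.card (fittingSubgroup H)) :
    ∃ Z : Subgroup G, Z ≠ ⊥ ∧ IsPGroup r Z ∧ Z ≤ M ∧ H ≤ normalizer (Z : Set G) ∧
      centralizer (Z : Set G) ≤ H ∧ Z ≤ centralizer (fittingOf H : Set G) := by
  obtain ⟨Z, hZ0, hZO, hZc, hZH, hZG⟩ := center_OO H hr hd
  have hHZ : H ≤ normalizer (Z : Set G) :=
    fun a ha => Subgroup.mem_normalizer_fintype fun z hz => hZH a ha z hz
  have hN := hHmax _ ⟨r, Z, hr, (OO_isPGroup r H).to_le hZO, hZ0, rfl⟩ hHZ
  refine ⟨Z, hZ0, (OO_isPGroup r H).to_le hZO, fun z hz => hCM ⟨?_, ?_⟩, hHZ,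
    (Subgroup.centralizer_le_normalizer _).trans hN.le,
    fun z hz w hw => (hZG z hz w (Subgroup.map_mono CfsgLib.fittingSubgroup_le_generalized hw)).symm⟩
  · exact Subgroup.map_mono (CfsgLib.pCore_le_fittingSubgroup hr) (hZO hz)
  · exact fun w hw => (hZG z hz w (Subgroup.map_mono CfsgLib.fittingSubgroup_le_generalized (hM hw))).symm

/-- A solvable subgroup normalised by `C_H(F)` contains no `π'`-elements centralising `M`. -/
theorem centralizing_eq_bot (hHmax : ∀ L : Subgroup G, IsLocalSubgroup L → H ≤ L → L = H)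
    (hF2 : 2 ≤ (Nat.card (fittingOf H)).primeFactors.card) (hM : M ≤ fittingOf H)
    (hCM : fittingOf H ⊓ centralizer (M : Set G) ≤ M) (hR : Group.IsSolvable R)
    (hXR : H ⊓ centralizer (fittingOf H : Set G) ≤ normalizer (R : Set G)) {Y : Subgroup G} (hY : Y ≤ R)
    (hYc : Y ≤ centralizer (M : Set G))
    (hYπ : ∀ r : ℕ, r.Prime → r ∣ Nat.card Y → r ∈ primesNotDvd (Nat.card (fittingOf H))) : Y = ⊥ := by
  rw [card_fittingOf] at hF2 hYπ
  obtain ⟨r, hr⟩ := Finset.card_pos.mp (show 0 < (Nat.card (fittingSubgroup H)).primeFactors.card by omega)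
  rw [Nat.mem_primeFactors] at hr
  obtain ⟨Z, -, -, hZM, -, hCZ, -⟩ := center_piece hHmax hM hCM hr.1 hr.2.1
  rw [Subgroup.eq_bot_iff_forall]
  intro y hy
  have hyH : y ∈ H := hCZ fun z hz => hYc hy z (hZM hz)
  have hcop : (Nat.card (fittingOf H)).Coprime (Nat.card Y) := by
    rw [card_fittingOf]; exact coprime_of_notDvd hYπ
  have hord : (orderOf y).Coprime (Nat.card (fittingOf H)) :=
    hcop.symm.coprime_dvd_left (Subgroup.orderOf_dvd_natCard Y hy)
  have hFn : Group.IsNilpotent (fittingOf H) := isNilpotent_FF (A := H)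
  have hyF : ∀ w ∈ fittingOf H, y * w = w * y :=
    centralizes_of_selfCentralizing hFn hM (fun x hx hc => hCM ⟨hx, fun h hh => (hc h hh).symm⟩)
      (fun w hw => fittingOf_normalized hyH hw) hord (fun h hh => (hYc hy h hh).symm)
  set C : Subgroup H := centralizer (fittingSubgroup H : Set H) with hC
  haveI : C.Normal := inferInstance
  set T := (CfsgLib.solvableRadical C).map C.subtype with hT
  haveI : T.Normal := ConjAct.normal_of_characteristic_of_normal
  have hTs : Group.IsSolvable T :=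
    haveI := CfsgLib.isSolvable_solvableRadical (G := C)
    Group.isSolvable_of_surjective (f := ((CfsgLib.solvableRadical C).equivMapOfInjective C.subtype
      C.subtype_injective).toMonoidHom) (MulEquiv.surjective _)
  have hTC : T ≤ C := Subgroup.map_subtype_le _
  -- `T ≤ F(H)`
  haveI : (fittingSubgroup T).Characteristic := Subgroup.characteristic_iff_map_le.mpr fun f => by
    haveI : ((fittingSubgroup T).map f.toMonoidHom).Normal :=
      Subgroup.Normal.map CfsgLib.fittingSubgroup_normal f.toMonoidHom f.surjective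
    refine CfsgLib.le_fittingSubgroup ?_
    haveI := CfsgLib.isNilpotent_fittingSubgroup (G := T)
    exact Group.nilpotent_of_surjective ((fittingSubgroup T).equivMapOfInjective f.toMonoidHom
      f.injective).toMonoidHom (MulEquiv.surjective _)
  haveI : ((fittingSubgroup T).map T.subtype).Normal := ConjAct.normal_of_characteristic_of_normal
  have hFTle : (fittingSubgroup T).map T.subtype ≤ fittingSubgroup H := by
    refine CfsgLib.le_fittingSubgroup ?_
    haveI := CfsgLib.isNilpotent_fittingSubgroup (G := T)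
    exact Group.nilpotent_of_surjective ((fittingSubgroup T).equivMapOfInjective T.subtype
      T.subtype_injective).toMonoidHom (MulEquiv.surjective _)
  have hTF : T ≤ fittingSubgroup H := by
    intro t ht
    haveI := hTs
    refine hFTle ⟨⟨t, ht⟩, CfsgLib.centralizer_fitting_le (G := T) ?_, rfl⟩
    intro w hw
    exact Subtype.ext (hTC ht (w : H) (hFTle ⟨w, hw, rfl⟩))
  have hyC : (⟨y, hyH⟩ : H) ∈ C := fun w hw => Subtype.ext (hyF w ⟨w, hw, rfl⟩).symm
  have hyT : (⟨y, hyH⟩ : H) ∈ T := by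
    set R₀ := (R.subgroupOf H).subgroupOf C with hR₀
    haveI : R₀.Normal := ⟨fun n hn g => by
      have hg : ((g : H) : G) ∈ normalizer (R : Set G) := hXR ⟨(g : H).2, by
        rintro _ ⟨w, hw, rfl⟩
        exact congrArg Subtype.val (g.2 w hw)⟩
      exact (Subgroup.mem_normalizer_iff.mp hg _).mp hn⟩
    have hs : Group.IsSolvable R₀ :=
      haveI := hR
      Group.isSolvable_of_isSolvable_injective (f :=
        ({ toFun := fun x => ⟨((x : C) : H), x.2⟩, map_one' := rfl, map_mul' := fun _ _ => rfl } : R₀ →* R))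
        (fun a b hab => by
          have h := congrArg Subtype.val hab
          exact Subtype.ext (Subtype.ext (Subtype.ext h)))
    exact ⟨⟨⟨y, hyH⟩, hyC⟩, CfsgLib.le_solvableRadical hs (hY hy : ((⟨⟨y, hyH⟩, hyC⟩ : C) : G) ∈ R), rfl⟩
  have hyF' : y ∈ fittingOf H := ⟨⟨y, hyH⟩, hTF hyT, rfl⟩
  exact orderOf_eq_one_iff.mp (Nat.eq_one_of_dvd_coprimes hcop (Subgroup.orderOf_dvd_natCard _ hyF')
    (Subgroup.orderOf_dvd_natCard Y hy))

/-- An invariant `q`-subgroup of `R`, `q` prime to `|F(H)|`, lies in `O_{π'}(R)`. -/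
theorem invariant_le_core (hHmax : ∀ L : Subgroup G, IsLocalSubgroup L → H ≤ L → L = H)
    (hH : IsLocalSubgroup H) (hF2 : 2 ≤ (Nat.card (fittingOf H)).primeFactors.card) (hM : M ≤ fittingOf H)
    (hCM : fittingOf H ⊓ centralizer (M : Set G) ≤ M) (hR : Group.IsSolvable R)
    (hMR : M ≤ normalizer (R : Set G))
    (hXR : H ⊓ centralizer (fittingOf H : Set G) ≤ normalizer (R : Set G)) {q : ℕ} [Fact q.Prime]
    (hq : ¬ q ∣ Nat.card (fittingOf H)) {Q : Subgroup G} (hQR : Q ≤ R) (hQq : IsPGroup q Q)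
    (hMQ : M ≤ normalizer (Q : Set G)) :
    Q ≤ piCoreOf (primesNotDvd (Nat.card (fittingOf H))) R := by
  have hq' : q.Prime := Fact.out
  set n := Nat.card (fittingOf H) with hn
  set O := piCoreOf (primesNotDvd n) R with hO
  have hOR : O ≤ R := piCoreOf_le _ _
  set Γ := normalizer (R : Set G) with hΓ
  have hΓO : Γ ≤ normalizer (O : Set G) := normalizer_le_normalizer_piCoreOf _ _
  have hRΓ : R ≤ Γ := Subgroup.le_normalizer
  set O₁ := O.subgroupOf Γ with hO₁
  haveI : O₁.Normal := (Subgroup.normal_subgroupOf_iff_le_normalizer (hOR.trans hRΓ)).mpr hΓO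
  set φ := QuotientGroup.mk' O₁ with hφ
  have hφs : Function.Surjective φ := QuotientGroup.mk'_surjective _
  haveI : (R.subgroupOf Γ).Normal := (Subgroup.normal_subgroupOf_iff_le_normalizer hRΓ).mpr le_rfl
  set Rb := (R.subgroupOf Γ).map φ with hRb
  haveI : Rb.Normal := Subgroup.Normal.map inferInstance φ hφs
  have hRbs : Group.IsSolvable Rb := by
    haveI := hR
    refine Group.isSolvable_of_surjective
      (f := (φ.subgroupMap (R.subgroupOf Γ)).comp (Subgroup.subgroupOfEquivOfLe hRΓ).symm.toMonoidHom) ?_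
    exact (MonoidHom.subgroupMap_surjective _ _).comp (MulEquiv.surjective _)
  have hker : ∀ g : Γ, φ g = 1 ↔ (g : G) ∈ O := fun g =>
    (QuotientGroup.eq_one_iff g).trans Subgroup.mem_subgroupOf
  set ρ : ℕ → Prop := fun p => p.Prime ∧ p ∣ Nat.card (fittingSubgroup H) with hρ
  -- preimages of the normal `p`-subgroups of `R/O`
  have hW : ∀ p, p.Prime → ∃ W : Subgroup G, O ≤ W ∧ W ≤ R ∧ R ≤ normalizer (W : Set G) ∧
      M ≤ normalizer (W : Set G) ∧ (∀ g : Γ, (g : G) ∈ W ↔ φ g ∈ OO p Rb) ∧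
      O.relIndex W = Nat.card (OO p Rb) := by
    intro p hp
    haveI : (OO p Rb).Normal := ConjAct.normal_of_characteristic_of_normal
    set W₁ := (OO p Rb).comap φ with hW₁
    have hle : W₁ ≤ R.subgroupOf Γ := by
      intro g hg
      obtain ⟨r, hr, hrg⟩ := OO_le p Rb hg
      have h1 : φ (r⁻¹ * g) = 1 := by rw [map_mul, map_inv, hrg, inv_mul_cancel]
      have h2 := hOR ((hker _).mp h1)
      rw [SetLike.mem_coe, Subgroup.mem_subgroupOf] at hr
      rw [Subgroup.mem_subgroupOf]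
      have := mul_mem hr h2
      simpa using this
    refine ⟨W₁.map Γ.subtype, ?_, ?_, ?_, ?_, ?_, ?_⟩
    · intro x hx
      refine ⟨⟨x, hRΓ (hOR hx)⟩, ?_, rfl⟩
      show φ _ ∈ OO p Rb
      rw [(hker ⟨x, hRΓ (hOR hx)⟩).mpr hx]
      exact one_mem _
    · rintro _ ⟨g, hg, rfl⟩
      exact hle hg
    · refine hRΓ.trans fun g hg => Subgroup.mem_normalizer_fintype ?_
      rintro _ ⟨w, hw, rfl⟩
      exact ⟨⟨g, hg⟩ * w * ⟨g, hg⟩⁻¹, (inferInstance : W₁.Normal).conj_mem w hw _, rfl⟩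
    · refine hMR.trans fun g hg => Subgroup.mem_normalizer_fintype ?_
      rintro _ ⟨w, hw, rfl⟩
      exact ⟨⟨g, hg⟩ * w * ⟨g, hg⟩⁻¹, (inferInstance : W₁.Normal).conj_mem w hw _, rfl⟩
    · intro g
      constructor
      · rintro ⟨w, hw, hwg⟩
        rw [← Subtype.ext hwg]
        exact hw
      · exact fun hg => ⟨g, hg, rfl⟩
    · have hO' : O = O₁.map Γ.subtype := (Subgroup.map_subgroupOf_eq_of_le (hOR.trans hRΓ)).symm
      rw [hO', Subgroup.relIndex_map_map_of_injective _ _ Γ.subtype_injective]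
      have h1 := Subgroup.relIndex_comap (⊥ : Subgroup (Γ ⧸ O₁)) φ W₁
      rw [MonoidHom.comap_bot, QuotientGroup.ker_mk', hW₁, Subgroup.map_comap_eq_self_of_surjective hφs,
        Subgroup.relIndex_bot_left] at h1
      exact h1
  have hout : ∀ p, p.Prime → ¬ ρ p → OO p Rb = ⊥ := by
    intro p hp hpρ
    haveI := Fact.mk hp
    obtain ⟨W, hOW, hWR, hRW, -, hWiff, hWc⟩ := hW p hp
    obtain ⟨k, hk⟩ := (OO_isPGroup p Rb).exists_card_eq
    have hWO : W ≤ O := le_piCoreOf hWR hRW fun r hr hd => ⟨hr, fun hrn => by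
      have hc := CfsgLib.card_mul_relIndex hOW
      rw [hWc, hk] at hc
      rcases hr.dvd_mul.mp (hc ▸ hd) with h | h
      · exact (pi_piCoreOf _ _ r hr h).2 hrn
      · rw [(Nat.prime_dvd_prime_iff_eq hr hp).mp (hr.dvd_of_dvd_pow h)] at hrn
        exact hpρ ⟨hp, by rwa [hn, card_fittingOf] at hrn⟩⟩
    rw [Subgroup.eq_bot_iff_forall]
    intro x hx
    obtain ⟨g, rfl⟩ := hφs x
    exact (hker g).mpr (hWO ((hWiff g).mpr hx))
  have hF2' : 2 ≤ (Nat.card (fittingSubgroup H)).primeFactors.card := by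
    rwa [hn, card_fittingOf] at hF2
  -- `Q` centralises every `O_p(R/O)`
  have hQc : ∀ p, ρ p → ∀ x (hx : x ∈ Q), ∀ t ∈ OO p Rb,
      φ ⟨x, hRΓ (hQR hx)⟩ * t = t * φ ⟨x, hRΓ (hQR hx)⟩ := by
    rintro p ⟨hp, hpd⟩
    haveI := Fact.mk hp
    obtain ⟨r, hr, hrp⟩ : ∃ r, ρ r ∧ r ≠ p := by
      obtain ⟨a, ha, b, hb, hab⟩ := Finset.one_lt_card.mp hF2'
      rw [Nat.mem_primeFactors] at ha hb
      by_cases h : a = p
      · exact ⟨b, ⟨hb.1, hb.2.1⟩, fun e => hab (h.trans e.symm)⟩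
      · exact ⟨a, ⟨ha.1, ha.2.1⟩, h⟩
    obtain ⟨A, -, hAp, hAM, -, hCA, hAF⟩ := center_piece hHmax hM hCM hp hpd
    obtain ⟨B, -, hBr, hBM, hHB, hCB, -⟩ := center_piece hHmax hM hCM hr.1 hr.2
    haveI : (OO p Rb).Normal := ConjAct.normal_of_characteristic_of_normal
    obtain ⟨W, hOW, hWR, -, hMW, hWiff, hWc⟩ := hW p hp
    have hWs : Group.IsSolvable W := solvable_of_le hWR hR
    have hOs : Group.IsSolvable O := solvable_of_le hOR hR
    obtain ⟨P₀, hP₀⟩ := CfsgLib.exists_isPiHallOf ({p} : Set ℕ) hWs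
    have hPp : ∀ {P : Subgroup G}, IsPiHallOf {p} P W → IsPGroup p P := fun hP =>
      isPGroup_of_inv (H := ⊤) (B := ⊥) ⟨le_top, hP.2.1, bot_le⟩
    have hnW : W ≤ normalizer (O : Set G) := (hWR.trans hRΓ).trans hΓO
    have hsup : ∀ {P : Subgroup G}, IsPiHallOf {p} P W → W ≤ O ⊔ P := by
      intro P hP
      have hle : O ⊔ P ≤ W := sup_le hOW hP.1
      obtain ⟨k, hk⟩ := (OO_isPGroup p Rb).exists_card_eq
      have h1 : (O ⊔ P).relIndex W ∣ O.relIndex W :=
        Dvd.intro_left _ (Subgroup.relIndex_mul_relIndex O (O ⊔ P) W le_sup_left hle)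
      have h2 : (O ⊔ P).relIndex W ∣ P.relIndex W :=
        Dvd.intro_left _ (Subgroup.relIndex_mul_relIndex P (O ⊔ P) W le_sup_right hle)
      rw [hWc, hk] at h1
      refine Subgroup.relIndex_eq_one.mp (Nat.eq_one_of_dvd_coprimes
        ((hp.coprime_iff_not_dvd.mpr (hP.2.2 p hp rfl)).pow_left k) h1 h2)
    set AB := A ⊔ B with hAB
    have hABM : AB ≤ M := sup_le hAM hBM
    have hABO : AB ≤ normalizer (O : Set G) := (hABM.trans hMR).trans hΓO
    have hcop : (Nat.card AB).Coprime (Nat.card O) :=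
      (coprime_of_notDvd (pi_piCoreOf _ R)).coprime_dvd_left (Subgroup.card_dvd_of_le (hABM.trans hM))
    obtain ⟨g, hg, hgA⟩ := CfsgLib.exists_invariant_conj hABO hcop (Or.inr hOs) (H := P₀) fun a ha => by
      have h1 := CfsgLib.isPiHallOf_conj_smul hP₀ (hMW (hABM ha))
      obtain ⟨w, hw, hle⟩ := CfsgLib.pi_le_conj_hall hWs h1 hP₀.1 hP₀.2.1
      have he := Subgroup.eq_of_le_of_card_ge hle (by rw [CfsgLib.card_conj_smul, CfsgLib.card_conj_smul])
      obtain ⟨o, ho, v, hv, rfl⟩ := mem_sup_of_le_normalizer (hP₀.1.trans hnW) (hsup hP₀ hw)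
      refine ⟨o, ho, he.symm.trans ?_⟩
      rw [← CfsgLib.conj_smul_mul, conj_smul_eq_of_mem_normalizer (Subgroup.le_normalizer hv)]
    set P := MulAut.conj g • P₀ with hP
    have hPW : IsPiHallOf {p} P W := CfsgLib.isPiHallOf_conj_smul hP₀ (Subgroup.le_normalizer (hOW hg))
    have hPO : Disjoint P O := Subgroup.disjoint_of_coprime_natCard (by
      obtain ⟨k, hk⟩ := (hPp hPW).exists_card_eq
      rw [hk]
      refine (hp.coprime_iff_not_dvd.mpr fun hd => (pi_piCoreOf _ R p hp hd).2 ?_).pow_left k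
      rwa [hn, card_fittingOf])
    set Ab := (A.subgroupOf Γ).map φ with hAb
    set Bb := (B.subgroupOf Γ).map φ with hBb
    have hnorm : ∀ S : Subgroup (Γ ⧸ O₁), S ≤ normalizer (OO p Rb : Set (Γ ⧸ O₁)) := fun S => by
      rw [Subgroup.normalizer_eq_top]; exact le_top
    have hBT : Bb ≤ centralizer (OO p Rb : Set (Γ ⧸ O₁)) := by
      refine CfsgLib.thompson_PxQ ((hAp.comap_subtype).map φ) ?_ ?_ (OO p Rb) (OO_isPGroup p Rb)
        (hnorm _) (hnorm _) ?_
      · refine (coprime_pGroup hp hr.1 hrp hBr).coprime_dvd_left ((Subgroup.card_map_dvd _ φ).trans ?_)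
        rw [Nat.card_congr (Subgroup.subgroupOfEquivOfLe ((hBM.trans hMR))).toEquiv]
      · rintro _ ⟨a, ha, rfl⟩ _ ⟨b, hb, rfl⟩
        rw [← map_mul, ← map_mul]
        refine congrArg φ (Subtype.ext ?_)
        exact (hAF ha _ (hM (hBM hb)))
      · rintro x ⟨hxT, hxA⟩ _ ⟨b, hb, rfl⟩
        obtain ⟨w, rfl⟩ := hφs x
        have hwW : (w : G) ∈ W := (hWiff w).mpr hxT
        obtain ⟨o, ho, v, hv, hov⟩ := mem_sup_of_le_normalizer (hPW.1.trans hnW) (hsup hPW hwW)
        have hvΓ : v ∈ Γ := hRΓ (hWR (hPW.1 hv))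
        have hvw : φ ⟨v, hvΓ⟩ = φ w := by
          rw [show w = ⟨o, hRΓ (hOR ho)⟩ * ⟨v, hvΓ⟩ from Subtype.ext hov.symm, map_mul, (hker ⟨o, hRΓ (hOR ho)⟩).mpr ho, one_mul]
        have hvA : v ∈ centralizer (A : Set G) := by
          intro a ha
          have haΓ : a ∈ Γ := hMR (hAM ha)
          have h1 : a * v * a⁻¹ * v⁻¹ = 1 := by
            refine Subgroup.disjoint_def.mp hPO (P.mul_mem
              ((Subgroup.mem_normalizer_iff.mp (hgA (Subgroup.mem_sup_left ha)) v).mp hv) (P.inv_mem hv)) ?_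
            refine (hker (⟨a, haΓ⟩ * ⟨v, hvΓ⟩ * ⟨a, haΓ⟩⁻¹ * ⟨v, hvΓ⟩⁻¹)).mp ?_
            rw [map_mul, map_mul, map_mul, map_inv, map_inv, hvw, hxA _ ⟨⟨a, haΓ⟩, ha, rfl⟩]
            group
          rw [mul_inv_eq_one, mul_inv_eq_iff_eq_mul] at h1
          exact h1
        have hvH : v ∈ H := hCA hvA
        have h1 : (b : G) * v * (b : G)⁻¹ * v⁻¹ = 1 := by
          refine Subgroup.disjoint_def.mp (Subgroup.disjoint_of_coprime_natCard
            (coprime_pGroups hp hr.1 hrp.symm (hPp hPW) hBr)) (P.mul_mem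
              ((Subgroup.mem_normalizer_iff.mp (hgA (Subgroup.mem_sup_right hb)) v).mp hv) (P.inv_mem hv)) ?_
          rw [show (b : G) * v * (b : G)⁻¹ * v⁻¹ = b * (v * (b : G)⁻¹ * v⁻¹) by group]
          exact B.mul_mem hb ((Subgroup.mem_normalizer_iff.mp (hHB hvH) _).mp (B.inv_mem hb))
        rw [mul_inv_eq_one, mul_inv_eq_iff_eq_mul] at h1
        rw [← hvw, ← map_mul, ← map_mul]
        exact congrArg φ (Subtype.ext h1)
    -- `Q = [Q, B]`
    have hQπ : ∀ s : ℕ, s.Prime → s ∣ Nat.card Q → s ∈ primesNotDvd n := by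
      intro s hs hsd
      obtain ⟨k, hk⟩ := hQq.exists_card_eq
      rw [(Nat.prime_dvd_prime_iff_eq hs hq').mp (hs.dvd_of_dvd_pow (hk ▸ hsd))]
      exact ⟨hq', hq⟩
    have hfix : Q ⊓ centralizer (B : Set G) = ⊥ := by
      refine centralizing_eq_bot hHmax hF2 hM hCM hR hXR (inf_le_left.trans hQR) ?_ (pi_of_le inf_le_left hQπ)
      rintro w ⟨hwQ, hwB⟩ m hm
      have hwH : w ∈ H := hCB hwB
      have h1 : m * w * m⁻¹ * w⁻¹ = 1 := by
        refine Subgroup.disjoint_def.mp (Subgroup.disjoint_of_coprime_natCard (coprime_of_notDvd hQπ)) ?_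
          (Q.mul_mem ((Subgroup.mem_normalizer_iff.mp (hMQ hm) w).mp hwQ) (Q.inv_mem hwQ))
        rw [show m * w * m⁻¹ * w⁻¹ = m * (w * m⁻¹ * w⁻¹) by group]
        exact mul_mem (hM hm) (fittingOf_normalized hwH (inv_mem (hM hm)))
      rw [mul_inv_eq_one, mul_inv_eq_iff_eq_mul] at h1
      exact h1
    have hBcop : (Nat.card B).Coprime (Nat.card Q) :=
      (coprime_of_notDvd hQπ).coprime_dvd_left (Subgroup.card_dvd_of_le (hBM.trans hM))
    have hQs : Group.IsSolvable Q := solvable_of_le hQR hR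
    have hQB := CfsgLib.coprime_commutator_sup (hBM.trans hMQ) hBcop (Or.inr hQs)
    rw [hfix, sup_bot_eq] at hQB
    intro x hx t ht
    have key : ⁅Q, B⁆ ≤ ((centralizer (OO p Rb : Set (Γ ⧸ O₁))).comap φ).map Γ.subtype := by
      rw [Subgroup.commutator_le]
      intro a ha b hb
      refine ⟨⁅(⟨a, hRΓ (hQR ha)⟩ : Γ), (⟨b, hMR (hBM hb)⟩ : Γ)⁆, ?_, rfl⟩
      show φ _ ∈ centralizer (OO p Rb : Set (Γ ⧸ O₁))
      rw [map_commutatorElement, commutatorElement_def]
      have hc := hBT ⟨⟨b, hMR (hBM hb)⟩, hb, rfl⟩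
      have hn' : ∀ u z : Γ ⧸ O₁, z ∈ centralizer (OO p Rb : Set (Γ ⧸ O₁)) →
          u * z * u⁻¹ ∈ centralizer (OO p Rb : Set (Γ ⧸ O₁)) := fun u z hz =>
        (inferInstance : (centralizer (OO p Rb : Set (Γ ⧸ O₁))).Normal).conj_mem z hz u
      exact mul_mem (hn' _ _ hc) (inv_mem hc)
    obtain ⟨g, hg, hgx⟩ := key (hQB.ge hx)
    rw [← show g = ⟨x, hRΓ (hQR hx)⟩ from Subtype.ext hgx]
    exact (hg t ht).symm
  -- conclusion in `R/O`
  intro x hx
  set xb := φ ⟨x, hRΓ (hQR hx)⟩ with hxb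
  have hxR : xb ∈ Rb := ⟨_, hQR hx, rfl⟩
  have hcent : FF Rb ≤ centralizer ({xb} : Set (Γ ⧸ O₁)) := by
    refine FF_le_of_primes fun p hp hpd t ht => Subgroup.mem_centralizer_singleton_iff.mpr ?_
    by_cases hpρ : ρ p
    · exact (hQc p hpρ x hx t ht).symm
    · rw [hout p hp hpρ, Subgroup.mem_bot] at ht
      rw [ht, mul_one, one_mul]
  haveI := hRbs
  have hxF : (⟨xb, hxR⟩ : Rb) ∈ fittingSubgroup Rb := CfsgLib.centralizer_fitting_le fun w hw =>
    Subtype.ext (Subgroup.mem_centralizer_singleton_iff.mp (hcent ⟨w, hw, rfl⟩))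
  obtain ⟨k, hk⟩ := hQq ⟨x, hx⟩
  have hk' : xb ^ q ^ k = 1 := by
    rw [hxb, ← map_pow, show (⟨x, hRΓ (hQR hx)⟩ : Γ) ^ q ^ k = 1 from Subtype.ext (congrArg Subtype.val hk :),
      map_one]
  have hqd : ¬ q ∣ Nat.card (fittingSubgroup Rb) := fun hd =>
    OO_ne_bot_of_dvd hq' hd (hout q hq' fun h => hq (by rw [hn, card_fittingOf]; exact h.2))
  have h1 : orderOf xb = 1 := by
    refine Nat.eq_one_of_dvd_coprimes ((hq'.coprime_iff_not_dvd.mpr hqd).pow_left k)
      (orderOf_dvd_of_pow_eq_one hk') ?_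
    rw [← Subgroup.orderOf_mk xb hxR]
    exact Subgroup.orderOf_dvd_natCard _ hxF
  exact (hker _).mp (orderOf_eq_one_iff.mp h1)

/-- There is exactly one maximal invariant `q`-subgroup, a Sylow subgroup of `O_{π'}(R)`. -/
theorem main (hHmax : ∀ L : Subgroup G, IsLocalSubgroup L → H ≤ L → L = H)
    (hH : IsLocalSubgroup H) (hF2 : 2 ≤ (Nat.card (fittingOf H)).primeFactors.card) (hM : M ≤ fittingOf H)
    (hCM : fittingOf H ⊓ centralizer (M : Set G) ≤ M) (hR : Group.IsSolvable R)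
    (hMR : M ≤ normalizer (R : Set G))
    (hXR : H ⊓ centralizer (fittingOf H : Set G) ≤ normalizer (R : Set G)) {q : ℕ} [Fact q.Prime]
    (hq : ¬ q ∣ Nat.card (fittingOf H)) :
    ∃! Q : Subgroup G, Q ∈ maxInvSubgroups R M {q} ∧ (∀ Q' : Subgroup G, Q' ∈ maxInvSubgroups R M {q} →
      Q' ≤ piCoreOf (primesNotDvd (Nat.card (fittingOf H))) R ∧
        ¬ q ∣ Q'.relIndex (piCoreOf (primesNotDvd (Nat.card (fittingOf H))) R)) := by
  set O := piCoreOf (primesNotDvd (Nat.card (fittingOf H))) R with hO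
  have hMO : M ≤ normalizer (O : Set G) := hMR.trans (normalizer_le_normalizer_piCoreOf _ _)
  have hcop : (Nat.card M).Coprime (Nat.card O) :=
    (coprime_of_notDvd (pi_piCoreOf _ R)).coprime_dvd_left (Subgroup.card_dvd_of_le hM)
  have hOs : Group.IsSolvable O := solvable_of_le (piCoreOf_le _ _) hR
  have hall : ∀ Q' ∈ maxInvSubgroups R M {q}, IsPiHallOf {q} Q' O := by
    intro Q' hQ'
    have hle := invariant_le_core hHmax hH hF2 hM hCM hR hMR hXR hq hQ'.1.1 (isPGroup_of_inv hQ'.1) hQ'.1.2.2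
    obtain ⟨S, hS, hSM, hQS⟩ := CfsgLib.le_invariant_hall hMO hcop hOs hle hQ'.1.2.2 hQ'.1.2.1
    rwa [← hQ'.2 S ⟨hS.1.trans (piCoreOf_le _ _), hS.2.1, hSM⟩ hQS]
  obtain ⟨Q, ⟨hQ, -⟩, hmax⟩ := (Set.toFinite {Q : Subgroup G | Q ∈ invSubgroups R M {q} ∧
    (⊥ : Subgroup G) ≤ Q}).exists_maximal ⟨⊥, ⟨bot_le, (bot_mem_inv M).2.1, (bot_mem_inv (π := ({q} : Set ℕ)) M).2.2⟩, le_rfl⟩
  have hQmax : Q ∈ maxInvSubgroups R M {q} := ⟨hQ, fun S hS hle => le_antisymm (hmax ⟨hS, bot_le⟩ hle) hle⟩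
  refine ⟨Q, ⟨hQmax, fun Q' hQ' => ⟨(hall Q' hQ').1, (hall Q' hQ').2.2 q Fact.out rfl⟩⟩, ?_⟩
  rintro Q' ⟨hQ', -⟩
  obtain ⟨c, hc, hce⟩ := CfsgLib.invariant_hall_conj hMO hcop hOs (hall Q hQmax) hQ.2.2 (hall Q' hQ') hQ'.1.2.2
  have hc1 := centralizing_eq_bot hHmax hF2 hM hCM hR hXR
    (Y := O ⊓ centralizer (M : Set G)) (inf_le_left.trans (piCoreOf_le _ _)) inf_le_right
    (pi_of_le inf_le_left (pi_piCoreOf _ R))
  rw [hc1, Subgroup.mem_bot] at hc
  rw [← hce, hc, map_one, one_smul]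

end CfsgLib.UniqueSylow
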