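import Cfsg.Agent.Lib.MinSimpleOdd.Uniqueness
import Cfsg.Agent.Lib.MinSimpleOdd.Fitting
import Cfsg.Agent.Lib.MinSimpleOdd.UniqueSylow
import Cfsg.Agent.Lib.Subnormal

/-!
Maximal subgroups whose Fitting subgroup has rank at least three.
-/

set_option autoImplicit false
set_option linter.unusedSectionVars false
set_option maxHeartbeats 800000

namespace CfsgLib.MinSimpleOdd

open Subgroup Cfsg
open scoped Pointwise commutatorElement

universe u
variable {G : Type u} [Group G] [Finite G] {p : ℕ} [Fact p.Prime]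

theorem fittingOf_le (M : Subgroup G) : fittingOf M ≤ M := Subgroup.map_subtype_le _

theorem fittingOf_nilpotent (M : Subgroup G) : Group.IsNilpotent (fittingOf M) :=
  BenderMax.isNilpotent_FF (A := M)

theorem le_normalizer_fittingOf (M : Subgroup G) : M ≤ normalizer (fittingOf M : Set G) :=
  fun _ hm => Subgroup.mem_normalizer_fintype fun _ hx => UniqueSylow.fittingOf_normalized hm hx

theorem inf_centralizer_fitting_le {M : Subgroup G} (hM : Group.IsSolvable M) :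
    M ⊓ centralizer (fittingOf M : Set G) ≤ fittingOf M := by
  haveI := hM
  rintro x ⟨hxM, hxc⟩
  exact ⟨⟨x, hxM⟩, CfsgLib.centralizer_fitting_le fun w hw => Subtype.ext (hxc w ⟨w, hw, rfl⟩), rfl⟩

theorem le_fittingOf_of_normal {M Y : Subgroup G} (hYM : Y ≤ M) (hn : M ≤ normalizer (Y : Set G))
    (hY : Group.IsNilpotent Y) : Y ≤ fittingOf M := by
  haveI : (Y.subgroupOf M).Normal := (Subgroup.normal_subgroupOf_iff_le_normalizer hYM).mpr hn
  have h : Y.subgroupOf M ≤ fittingSubgroup M := CfsgLib.le_fittingSubgroup (by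
    haveI := hY
    exact Group.nilpotent_of_surjective (Subgroup.subgroupOfEquivOfLe hYM).symm.toMonoidHom
      (MulEquiv.surjective _))
  exact fun y hy => ⟨⟨y, hYM hy⟩, h hy, rfl⟩

theorem trans_self {A : Subgroup G} {q : ℕ} (h : ∀ Q₁ ∈ maxInvSubgroups ⊤ A {q},
    ∀ Q₂ ∈ maxInvSubgroups ⊤ A {q}, ∃ k ∈ coreK A, Q₂ = MulAut.conj k • Q₁) : Trans A A q :=
  ⟨le_rfl, subset_rfl, h⟩

/-- If `K = 1` and `И*(A; q)` is transitive then, `q` being prime to `F`, there are no nontrivial invariant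
`q`-subgroups. -/
theorem invariant_trivial (hG : IsMinSimpleOddOrder G) {M A : Subgroup G} (hM : IsCoatom M)
    (hA : TransitivityHypothesis A) (hAF : A ≤ fittingOf M)
    (hπ : ∀ r : ℕ, r.Prime → r ∣ Nat.card (fittingOf M) → r ∣ Nat.card A) (hK : coreK A = ⊥) {q : ℕ}
    [Fact q.Prime] (hqA : ¬ q ∣ Nat.card A) (h0 : Trans A A q) :
    ∀ U ∈ invSubgroups ⊤ A {q}, U = ⊥ := by
  haveI := fittingOf_nilpotent M
  set F := fittingOf M with hF
  have hF0 : Trans A ((A.subgroupOf F).map F.subtype) q := by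
    rw [Subgroup.map_subgroupOf_eq_of_le hAF]; exact h0
  have hT := trans_top hG hA hqA hπ _ (CfsgLib.isSubnormal_of_nilpotent _) hF0
  have hsingle : ∀ Q₁ ∈ maxInvSubgroups ⊤ F {q}, ∀ Q₂ ∈ maxInvSubgroups ⊤ F {q}, Q₂ = Q₁ := by
    intro Q₁ h₁ Q₂ h₂
    obtain ⟨k, hk, e⟩ := hT.2.2 Q₁ h₁ Q₂ h₂
    have hk' : k ∈ coreK A := ((coreK_inf hG hA hT.1).ge hk).1
    rw [hK, Subgroup.mem_bot] at hk'
    rw [e, hk', map_one, one_smul]
  obtain ⟨Q, hQ, -⟩ := exists_max_ge (bot_mem_inv (π := ({q} : Set ℕ)) F)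
  have hMQ : M ≤ normalizer (Q : Set G) := fun m hm =>
    mem_normalizer_of_conj_smul (hsingle Q hQ _ (conj_mem_max (le_normalizer_fittingOf M hm) hQ))
  have hQbot : Q = ⊥ := by
    by_contra hne
    have hQq := isPGroup_of_inv hQ.1
    have hQM : Q ≤ M := (normalizer_eq hG hM hne (pgroup_ne_top hG hQq) hMQ) ▸ Subgroup.le_normalizer
    have hle := le_fittingOf_of_normal hQM hMQ hQq.isNilpotent
    obtain ⟨k, hk⟩ := hQq.exists_card_eq
    have hk0 : k ≠ 0 := fun e => hne (Subgroup.card_eq_one.mp (by rw [hk, e, pow_zero]))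
    exact hqA (hπ q Fact.out ((hk ▸ dvd_pow_self q hk0).trans (Subgroup.card_dvd_of_le hle)))
  intro U hU
  obtain ⟨Q', hQ', hUQ⟩ := exists_max_ge hU
  obtain ⟨k, hk, e⟩ := h0.2.2 Q (hT.2.1 hQ) Q' hQ'
  rw [hQbot, Subgroup.smul_bot] at e
  exact le_bot_iff.mp (e ▸ hUQ)

theorem pPrime_trivial (hG : IsMinSimpleOddOrder G) {A : Subgroup G} {π₀ : ℕ} (hπ₀ : π₀ ≠ 1)
    (hdvd : π₀ ∣ Nat.card A)
    (h : ∀ q : ℕ, q.Prime → ¬ q ∣ Nat.card A → ∀ U ∈ invSubgroups ⊤ A {q}, U = ⊥) {Y : Subgroup G}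
    (hcop : (Nat.card A).Coprime (Nat.card Y)) (hAY : A ≤ normalizer (Y : Set G)) : Y = ⊥ := by
  have hY : Y ≠ ⊤ := by
    rintro rfl
    rw [Subgroup.card_top] at hcop
    exact hπ₀ (Nat.eq_one_of_dvd_coprimes hcop hdvd (hdvd.trans (Subgroup.card_subgroup_dvd_card A)))
  exact le_bot_iff.mp (le_of_invariant_parts hAY hcop (solvable_of_ne_top hG hY) fun q hq hqY U hU _ =>
    (h q hq (fun hd => hq.ne_one (Nat.eq_one_of_dvd_coprimes hcop hd hqY)) U hU).le)

/-- B–G 8.3 (a). -/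
theorem fitting_centralizer_uniq (hG : IsMinSimpleOddOrder G) {M : Subgroup G} (hM : IsCoatom M)
    {A₀ : Subgroup G} (hA₀ : A₀ ≤ fittingOf M) (hA₀c : IsMulCommutative A₀) (hA₀e : ∀ a ∈ A₀, a ^ p = 1)
    (hA₀3 : p ^ 2 < Nat.card A₀) (hnp : ¬ IsPGroup p ↥(fittingOf M)) :
    InUniqueMaximal (fittingOf M ⊓ centralizer (A₀ : Set G)) := by
  haveI := isSimple hG
  have hMs := solvable_of_ne_top hG hM.1
  set F := fittingOf M with hF
  set M0 := F ⊓ centralizer (A₀ : Set G) with hM0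
  have hA₀0 : A₀ ≠ ⊥ := fun e => by
    rw [e, Subgroup.card_bot] at hA₀3
    exact absurd hA₀3 (not_lt.mpr (Nat.one_le_pow _ _ (Fact.out : p.Prime).pos))
  have hA₀M : A₀ ≤ M0 := le_inf hA₀ (fun a ha b hb => congrArg Subtype.val (hA₀c.is_comm.comm ⟨b, hb⟩ ⟨a, ha⟩))
  have hM0F : M0 ≤ F := inf_le_left
  have hCM : F ⊓ centralizer (M0 : Set G) ≤ M0 := le_inf inf_le_left (inf_le_right.trans (centralizer_anti hA₀M))
  have hF2 : 2 ≤ (Nat.card F).primeFactors.card := by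
    by_contra h
    obtain ⟨x, hx⟩ := exists_prime_orderOf_dvd_card' p (show p ∣ Nat.card F from by
      obtain ⟨k, hk⟩ := (isPGroup_of_exp hA₀e).exists_card_eq
      have hk0 : k ≠ 0 := fun e => hA₀0 (Subgroup.card_eq_one.mp (by rw [hk, e, pow_zero]))
      exact (hk ▸ dvd_pow_self p hk0).trans (Subgroup.card_dvd_of_le hA₀))
    have hpd : p ∈ (Nat.card F).primeFactors :=
      Nat.mem_primeFactors.mpr ⟨Fact.out, hx ▸ orderOf_dvd_natCard x, Nat.card_pos.ne'⟩
    refine hnp (IsPGroup.of_card (n := (Nat.card F).primeFactorsList.length)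
      (Nat.eq_prime_pow_of_unique_prime_dvd Nat.card_pos.ne' fun {r} hr hrd => ?_))
    exact Finset.card_le_one.mp (by omega) r (Nat.mem_primeFactors.mpr ⟨hr, hrd, Nat.card_pos.ne'⟩) p hpd
  have hMloc : IsLocalSubgroup M := by
    have hd : p ∣ Nat.card (fittingSubgroup M) := by
      rw [← card_fittingOf]
      obtain ⟨k, hk⟩ := (isPGroup_of_exp hA₀e).exists_card_eq
      have hk0 : k ≠ 0 := fun e => hA₀0 (Subgroup.card_eq_one.mp (by rw [hk, e, pow_zero]))
      exact (hk ▸ dvd_pow_self p hk0).trans (Subgroup.card_dvd_of_le hA₀)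
    exact ⟨p, BenderMax.OO p M, Fact.out, BenderMax.OO_isPGroup p M, OO_ne_bot_of_dvd Fact.out hd,
      (normalizer_eq hG hM (OO_ne_bot_of_dvd Fact.out hd) (pgroup_ne_top hG (BenderMax.OO_isPGroup p M))
        (le_normalizer_OO p M)).symm⟩
  have hMmax : ∀ L : Subgroup G, IsLocalSubgroup L → M ≤ L → L = M := by
    rintro L ⟨r, T, hr, hT, hT0, rfl⟩ hle
    haveI := Fact.mk hr
    rcases eq_or_lt_of_le hle with e | e
    · exact e.symm
    · exact absurd (hM.2 _ e) (normalizer_ne_top hG hT0 (pgroup_ne_top hG hT))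
  have hπ : ∀ r : ℕ, r.Prime → r ∣ Nat.card F → r ∣ Nat.card M0 := by
    intro r hr hrd
    haveI := Fact.mk hr
    obtain ⟨Z, hZ0, hZr, hZM, -, -⟩ := UniqueSylow.center_piece hMmax hM0F hCM hr (by rwa [← card_fittingOf])
    obtain ⟨k, hk⟩ := hZr.exists_card_eq
    have hk0 : k ≠ 0 := fun e => hZ0 (Subgroup.card_eq_one.mp (by rw [hk, e, pow_zero]))
    exact (hk ▸ dvd_pow_self r hk0).trans (Subgroup.card_dvd_of_le hZM)
  have hπeq : primesNotDvd (Nat.card M0) = primesNotDvd (Nat.card F) := by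
    ext r
    exact ⟨fun h => ⟨h.1, fun hd => h.2 (hπ r h.1 hd)⟩,
      fun h => ⟨h.1, fun hd => h.2 (hd.trans (Subgroup.card_dvd_of_le hM0F))⟩⟩
  have hXF : M ⊓ centralizer (F : Set G) ≤ M0 := fun x hx =>
    hCM ⟨inf_centralizer_fitting_le hMs hx, fun b hb => hx.2 b (hM0F hb)⟩
  have hM00 : M0 ≠ ⊥ := fun e => hA₀0 (le_bot_iff.mp (e ▸ hA₀M))
  have hM0t : M0 ≠ ⊤ := fun e => hM.1 (top_le_iff.mp (e ▸ hM0F.trans (fittingOf_le M)))
  have hTH : TransitivityHypothesis M0 := by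
    refine ⟨hM00, hM0t, fun X hX hM0X => le_antisymm (sSup_le ?_) (le_sSup ?_)⟩
    · rintro Y ⟨hYX, hYπ, hM0Y⟩
      have hXs := solvable_of_ne_top hG hX
      refine le_of_invariant_parts hM0Y (coprime_of_notDvd hYπ) (solvable_of_le hYX hXs)
        fun q hq hqY U hU hUY => ?_
      haveI := Fact.mk hq
      rw [hπeq]
      exact UniqueSylow.invariant_le_core hMmax hMloc hF2 hM0F hCM hXs (hM0X.trans Subgroup.le_normalizer)
        ((hXF.trans hM0X).trans Subgroup.le_normalizer) (fun hd => (hYπ q hq hqY).2 (hπ q hq hd))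
        (hUY.trans hYX) (isPGroup_of_inv hU) hU.2.2
    · exact ⟨piCoreOf_le _ _, pi_piCoreOf _ _, hM0X.trans (le_normalizer_piCoreOf_self _ _)⟩
  have hK : coreK M0 = ⊥ := by
    refine UniqueSylow.centralizing_eq_bot hMmax hF2 hM0F hCM
      (R := centralizer (M0 : Set G)) (solvable_of_ne_top hG (centralizer_subgroup_ne_top hG hM00)) ?_
      (coreK_le M0) (coreK_le M0) (hπeq ▸ pi_piCoreOf _ _)
    exact fun x hx => Subgroup.le_normalizer (fun b hb => hx.2 b (hM0F hb))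
  have hrank : ¬ RankLE 2 ↥(M0 ⊓ centralizer (M0 : Set G)) := fun h => by
    refine absurd hA₀3 (not_lt.mpr (card_le_of_pRankLE (h p Fact.out) (le_inf hA₀M ?_) hA₀c hA₀e))
    exact fun a ha b hb => (hb.2 a ha).symm
  have hinv : ∀ Y ∈ invSubgroups ⊤ M0 (primesNotDvd (Nat.card F)), Y = ⊥ := by
    rintro Y ⟨-, hYπ, hM0Y⟩
    refine pPrime_trivial hG (π₀ := p) (Fact.out : p.Prime).ne_one ?_ (fun q hq hqA U hU => ?_)
      ((coprime_of_notDvd hYπ).coprime_dvd_left (Subgroup.card_dvd_of_le hM0F)) hM0Y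
    · obtain ⟨k, hk⟩ := (isPGroup_of_exp hA₀e).exists_card_eq
      have hk0 : k ≠ 0 := fun e => hA₀0 (Subgroup.card_eq_one.mp (by rw [hk, e, pow_zero]))
      exact (hk ▸ dvd_pow_self p hk0).trans (Subgroup.card_dvd_of_le hA₀M)
    · haveI := Fact.mk hq
      exact invariant_trivial hG hM hTH hM0F hπ hK hqA
        (trans_self fun Q₁ h₁ Q₂ h₂ => transitive_of_rank_three hG hTH hqA hrank h₁ h₂) U hU
  exact uniq_mk hM (hM0F.trans (fittingOf_le M)) fun L hL hle => unique_of_no_invariant hG hM hF2 hM0F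
    (le_inf inf_le_left (inf_le_right.trans (centralizer_anti hA₀))) hinv hL hle

/-- B–G 8.3 (b). -/
theorem fitting_pgroup_scn (hG : IsMinSimpleOddOrder G) {M : Subgroup G} (hM : IsCoatom M)
    (hFp : IsPGroup p ↥(fittingOf M)) (hF1 : fittingOf M ≠ ⊥) {P : Subgroup G} (hPM : P ≤ M)
    (hPp : IsPGroup p P) (hPidx : ¬ p ∣ P.relIndex M) :
    fittingOf M ≤ P ∧ ¬ p ∣ P.index ∧ ∀ A : Subgroup G, IsSCN P A → ¬ PRankLE p 2 ↥A →
      A ≤ fittingOf M ∧ InUniqueMaximal A := by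
  have hMs := solvable_of_ne_top hG hM.1
  have hodd := hG.1
  set F := fittingOf M with hF
  have hFP : F ≤ P := by
    have h1 : IsPGroup p (P ⊔ F : Subgroup G) :=
      hPp.to_sup_of_normal_right' hFp (hPM.trans (le_normalizer_fittingOf M))
    exact le_sup_right.trans (eq_of_sylow hPidx le_sup_left (sup_le hPM (fittingOf_le M)) h1).le
  have hP1 : P ≠ ⊥ := fun e => hF1 (le_bot_iff.mp (e ▸ hFP))
  have hp := p_ne_two hodd hPp hP1
  have hT : coreP p M = ⊥ := by
    have hTM : coreP p M ≤ M := piCoreOf_le _ _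
    have hcop : (Nat.card (coreP p M)).Coprime (Nat.card F) := by
      obtain ⟨k, hk⟩ := hFp.exists_card_eq
      exact hk ▸ (coprime_coreP p M).pow_right k
    have hc : coreP p M ≤ centralizer (F : Set G) := centralizes_of_normalize
      (hTM.trans (le_normalizer_fittingOf M)) ((fittingOf_le M).trans (le_normalizer_piCoreOf_self _ M)) hcop
    have hTF : coreP p M ≤ F := (le_inf hTM hc).trans (inf_centralizer_fitting_le hMs)
    refine Subgroup.card_eq_one.mp (Nat.eq_one_of_dvd_coprimes hcop dvd_rfl ?_)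
    exact Subgroup.card_dvd_of_le hTF
  set Z := centerThompsonOf p P with hZ
  have hZ0 : Z ≠ ⊥ := by rw [hZ, ← ZJ.zj_prime]; exact ZJ.zj_ne_bot (Or.inr rfl) hPp hP1
  have hZle : Z ≤ P := by rw [hZ, ← ZJ.zj_prime]; exact ZJ.zj_le p P
  have hfac := zj_factor hodd hMs hPM hPp hPidx
  rw [hT, bot_sup_eq] at hfac
  have hNZ : normalizer (Z : Set G) = M :=
    normalizer_eq hG hM hZ0 (pgroup_ne_top hG (hPp.to_le hZle)) (hfac.trans inf_le_right)
  have hidx : ¬ p ∣ P.index := by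
    obtain ⟨S, hPS⟩ := hPp.exists_le_sylow
    have he : (S : Subgroup G) = P := by
      by_contra hne
      have hlt := Transitivity.inf_normalizer_lt_qGroup (q := p) S.2 hPS (Ne.symm hne)
      refine hlt.ne (eq_of_sylow hPidx hlt.le ?_ (S.2.to_le inf_le_left)).symm
      rw [← hNZ, hZ, ← ZJ.zj_prime]
      exact inf_le_right.trans (ZJ.normalizer_le_normalizer_zj p P)
    rw [← he]
    exact S.not_dvd_index
  refine ⟨hFP, hidx, fun A hA hA3 => ?_⟩
  obtain ⟨hAP, hPA, hPC⟩ := id hA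
  haveI hAc : IsMulCommutative A := ⟨⟨fun a b => Subtype.ext ((hPC.ge b.2).2 a a.2)⟩⟩
  have hAF : A ≤ F := by
    obtain ⟨Q, hQP, -, hQfac, hab, -⟩ := exists_frattini hodd hMs hPM hPp hPidx
    rw [hT, bot_sup_eq] at hQfac
    exact (hab A hAP hAc hPA).trans (le_fittingOf_of_normal (hQP.trans hPM) (hQfac.trans inf_le_right)
      (hPp.to_le hQP).isNilpotent)
  refine ⟨hAF, ?_⟩
  obtain ⟨hTH, htr⟩ := scn_trans hG hPp hidx hA hA3
  have hAp := hPp.to_le hAP
  have hA1 := ne_bot_of_rank hA3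
  have hAM : A ≤ M := hAP.trans hPM
  have hpd : p ∣ Nat.card (fittingSubgroup M) := by
    rw [← card_fittingOf]
    obtain ⟨k, hk⟩ := hFp.exists_card_eq
    have hk0 : k ≠ 0 := fun e => hF1 (Subgroup.card_eq_one.mp (by rw [hF, hk, e, pow_zero]))
    rw [hk]; exact dvd_pow_self p hk0
  have hCA : centralizer (A : Set G) ≤ M := by
    haveI := isSimple hG
    obtain ⟨W, hW0, hWO, hWc, hWM, hWG⟩ := BenderMax.center_OO M Fact.out hpd
    have hWF : W ≤ F := hWO.trans (Subgroup.map_mono (CfsgLib.pCore_le_fittingSubgroup Fact.out))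
    have hWA : W ≤ A := fun w hw => hPC.le ⟨hFP (hWF hw), fun a ha =>
      (hWG w hw a (Subgroup.map_mono CfsgLib.fittingSubgroup_le_generalized (hAF ha))).symm⟩
    exact (centralizer_anti hWA).trans ((Subgroup.centralizer_le_normalizer _).trans
      (BenderMax.normalizer_eq_of_coatom hG.2.2.1 hM hW0 hWc hWM).le)
  have hfull := scn_full hPp hidx hA
  have hK : coreK A = ⊥ := by
    refine le_bot_iff.mp (le_trans ?_ hT.le)
    refine le_coreP hMs hp hAM hAp (fun x _ hx ho => hfull x hx ho) ((coreK_le A).trans hCA) ?_ ?_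
    · unfold coreK
      rw [primesNotDvd_eq hAp hA1]
      exact coprime_coreP p _
    · exact (Subgroup.le_centralizer A).trans (le_normalizer_piCoreOf_self _ _)
  have hpA : p ∣ Nat.card A := by
    obtain ⟨k, hk⟩ := hAp.exists_card_eq
    have hk0 : k ≠ 0 := fun e => hA1 (Subgroup.card_eq_one.mp (by rw [hk, e, pow_zero]))
    rw [hk]; exact dvd_pow_self p hk0
  refine uniq_of_invariant_le hG hM hAM hAp hA1 fun Y hY hAY => ?_
  have hY0 : Y = ⊥ := by
    refine pPrime_trivial hG (π₀ := p) (Fact.out : p.Prime).ne_one hpA (fun q hq hqA U hU => ?_) ?_ hAY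
    · haveI := Fact.mk hq
      have hqp : q ≠ p := fun e => hqA (e ▸ hpA)
      exact invariant_trivial hG hM hTH hAF (fun r hr hd => card_dvd_of_pgroup hFp hr hd ▸ hpA) hK hqA
        (htr q hqp).1 U hU
    · obtain ⟨k, hk⟩ := hAp.exists_card_eq
      exact hk ▸ hY.symm.pow_left k
  rw [hY0]
  exact bot_le

/-- B–G 9.4. -/
theorem uniq_of_fitting_rank (hG : IsMinSimpleOddOrder G) {M : Subgroup G} (hM : IsCoatom M)
    (hF : ¬ PRankLE p 2 ↥(fittingOf M)) {A : Subgroup G} (hAp : IsPGroup p A) [IsMulCommutative A]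
    (hA3 : ¬ PRankLE p 2 ↥A) : InUniqueMaximal A := by
  set F := fittingOf M with hFdef
  have hp := p_ne_two hG.1 hAp (ne_bot_of_rank hA3)
  have hAC : ¬ PRankLE p 2 ↥(centralizer (A : Set G)) := fun h => by
    obtain ⟨V, hVA, hVc, hVe, hVcard⟩ := exists_elementary_of_not_pRankLE hA3
    exact absurd hVcard (not_lt.mpr (card_le_of_pRankLE h (hVA.trans (Subgroup.le_centralizer A)) hVc hVe))
  have hAnc : ¬ IsCyclic A := fun hc => by
    haveI := hc
    exact hA3 fun B _ hexp => (card_le_of_cyclic (G := A) (Fact.out : p.Prime) hexp inferInstance).trans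
      (Nat.le_self_pow two_ne_zero p)
  suffices h : ∃ A₁ : Subgroup G, IsPGroup p A₁ ∧ IsMulCommutative A₁ ∧ ¬ PRankLE p 2 ↥A₁ ∧ InUniqueMaximal A₁ by
    obtain ⟨A₁, h1, h2, h3, h4⟩ := h
    exact uniq_transfer hG h1 h3 h4 hAp hAnc hAC
  obtain ⟨V, hVF, hVc, hVe, hVcard⟩ := exists_elementary_of_not_pRankLE hF
  have hF1 : F ≠ ⊥ := ne_bot_of_rank hF
  by_cases hFp : IsPGroup p F
  · obtain ⟨P, hFP, hPM, hPp, hPidx⟩ := exists_sylow_ge (fittingOf_le M) hFp
    obtain ⟨-, -, hscn⟩ := fitting_pgroup_scn hG hM hFp hF1 hPM hPp hPidx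
    obtain ⟨A₁, hA₁, hA₁c, hA₁3⟩ := exists_scn_three hPp hp (fun h => hF fun B hB he => by
      have e : Nat.card (B.map F.subtype) = Nat.card B := Subgroup.card_map_of_injective F.subtype_injective
      rw [← e]
      refine card_le_of_pRankLE h ((Subgroup.map_subtype_le _).trans hFP) ⟨⟨?_⟩⟩ ?_
      · rintro ⟨_, a, ha, rfl⟩ ⟨_, b, hb, rfl⟩
        exact Subtype.ext (congrArg F.subtype (congrArg Subtype.val (hB.is_comm.comm ⟨a, ha⟩ ⟨b, hb⟩)))
      · rintro _ ⟨a, ha, rfl⟩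
        rw [← map_pow, he a ha, map_one])
    exact ⟨A₁, hPp.to_le hA₁.1, hA₁c, hA₁3, (hscn A₁ hA₁ hA₁3).2⟩
  · have hM0 := fitting_centralizer_uniq hG hM hVF hVc hVe hVcard hFp
    have hV3 : ¬ PRankLE p 2 ↥V := fun h => absurd hVcard (not_lt.mpr (card_le_of_pRankLE h le_rfl hVc hVe))
    refine ⟨V, isPGroup_of_exp hVe, hVc, hV3, uniq_of_centralized hG hM0
      (fun v hv x hx => (hx.2 v hv).symm) fun h => hV3 fun B hB he => ?_⟩
    exact (h p Fact.out B hB he).trans (Nat.pow_le_pow_right (Fact.out : p.Prime).pos one_le_two)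

end CfsgLib.MinSimpleOdd
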