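import Cfsg.Agent.Lib.MinSimpleOdd.KappaSets

/-!
Elements of maximal order with a fixed-point-free line (B–G 12.11, 14.4).
-/

set_option autoImplicit false
set_option linter.unusedSectionVars false
set_option linter.style.haveILetI false
set_option maxHeartbeats 1000000

namespace CfsgLib.MinSimpleOdd

open Subgroup Cfsg
open scoped Pointwise commutatorElement IsMulCommutative

universe u
variable {G : Type u} [Group G] [Finite G]

variable (hG : IsMinSimpleOddOrder G)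

include hG

/-- For `p ∈ τ₂(M)`, a Sylow `p`-subgroup has an element of maximal order whose line acts freely. -/
theorem exists_max_good {M E : Subgroup G} (hM : IsCoatom M) (hE : IsComplIn E (sigmaCore M) M) {p : ℕ}
    [Fact p.Prime] (hp : p ∈ tau2 M) {A : Subgroup G} (hAE : A ≤ E) (hA : IsElementaryAbelian p A)
    (hA2 : Nat.card A = p ^ 2) {P : Subgroup G} (hAP : A ≤ P) (hPE : P ≤ E) (hPp : IsPGroup p P)
    (hPi : ¬ p ∣ P.relIndex E) :
    ∃ y ∈ P, ∃ d : ℕ, orderOf y = p ^ (d + 1) ∧ (∀ v ∈ P, v ^ p ^ (d + 1) = 1) ∧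
      sigmaCore M ⊓ centralizer ({y ^ p ^ d} : Set G) = ⊥ := by
  have hpp : p.Prime := Fact.out
  have hPM : P ≤ M := hPE.trans hE.1
  have hPiM : ¬ p ∣ P.relIndex M := by
    rw [← Subgroup.relIndex_mul_relIndex P E M hPE hE.1]
    exact fun hd => (hpp.dvd_mul.mp hd).elim hPi ((complement_hall hG hM hE).2.2 p hpp hp.2.1)
  obtain ⟨A₀, hexc⟩ := exists_exc hG hM hp (hAE.trans hE.1) hA hA2
  haveI hPc := sigma'_pgroup_commutative hG hM hPM hPp hp.2.1
  obtain ⟨hom, -, A₁, -, hA₁, -, hA₁c, -, -, hA₁fix, -⟩ := hexc.structure' hG hM hAP hPM hPp hPiM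
  obtain ⟨d, hexp, x, hx, hx1⟩ := exists_max_order hPp hPc fun e => hexc.two.ne_bot (le_bot_iff.mp (e ▸ hAP))
  have hlA : ∀ v ∈ P, v ^ p ^ d ∈ A := fun v hv => (hom _ (P.pow_mem hv _)).mp (by
    rw [← pow_mul, ← pow_succ]; exact hexp v hv)
  -- it is enough to find a good `p ^ d`-th power
  suffices h : ∃ v ∈ P, v ^ p ^ d ≠ 1 ∧ sigmaCore M ⊓ centralizer ({v ^ p ^ d} : Set G) = ⊥ by
    obtain ⟨v, hv, hv1, hvfix⟩ := h
    exact ⟨v, hv, d, orderOf_eq_prime_pow hv1 (hexp v hv), hexp, hvfix⟩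
  have hline : ∀ v ∈ P, v ^ p ^ d ≠ 1 → Nat.card (zpowers (v ^ p ^ d)) = p := fun v hv hv1 => by
    rw [Nat.card_zpowers, orderOf_eq_prime (hA.2 _ (hlA v hv)) hv1]
  -- the group of `p ^ d`-th powers
  set U : Subgroup G := (powMonoidHom (p ^ d) : P →* P).range.map P.subtype with hU
  have hUA : U ≤ A := by
    rintro _ ⟨_, ⟨v, rfl⟩, rfl⟩
    exact hlA v v.2
  by_cases hUeq : U = A
  · obtain ⟨a, ha, hao⟩ := exists_gen hA₁c
    obtain ⟨_, ⟨v, rfl⟩, hv⟩ := hUeq.ge (hA₁ (hao ▸ mem_zpowers a))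
    have hv' : (v : G) ^ p ^ d = a := hv
    refine ⟨v, v.2, fun e => ?_, ?_⟩
    · rw [← hv', e, orderOf_one] at ha
      exact hpp.ne_one ha.symm
    · rw [hv', centralizer_zpowers, hao]
      exact hA₁fix
  have hUx : x ^ p ^ d ∈ U := ⟨(⟨x, hx⟩ : P) ^ p ^ d, ⟨⟨x, hx⟩, rfl⟩, rfl⟩
  have hUc : Nat.card U = p := card_line hA2 hUA (fun e => hx1 (Subgroup.mem_bot.mp (e ▸ hUx))) hUeq
  have hUl : zpowers (x ^ p ^ d) = U :=
    Subgroup.eq_of_le_of_card_ge (Subgroup.zpowers_le.mpr hUx) (by rw [hline x hx hx1, hUc])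
  refine ⟨x, hx, hx1, ?_⟩
  rw [centralizer_zpowers, hUl]
  by_cases hab : ∀ S : Sylow p G, IsMulCommutative (S : Subgroup G)
  · obtain ⟨S, hAS, hSE, -, hNS, -⟩ := abelian_tau2_sylow hG hM hE hp hab hAE hA hA2
    -- `P` is a conjugate of `S` under `E`
    obtain ⟨e, he, hle⟩ := CfsgLib.pi_le_conj_hall (π := ({p} : Set ℕ))
      (solvable_of_le hE.1 (solvable_of_ne_top hG hM.1))
      ⟨hSE, fun t ht hd => card_dvd_of_pgroup S.2 ht hd, fun t ht htp hd =>
        S.not_dvd_index (by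
          rw [Set.mem_singleton_iff] at htp
          rw [htp] at hd
          exact hd.trans (Dvd.intro _ (Subgroup.relIndex_mul_index hSE)))⟩
      hPE fun t ht hd => card_dvd_of_pgroup hPp ht hd
    have hEA : E ≤ normalizer (A : Set G) :=
      (Cfsg.Agent.S1418.result hG M hM E hE p hp A ⟨hAE, hA, hA2⟩).1.1
    have hSeq : (S : Subgroup G) = P := by
      refine eq_of_sylow hPi ?_ hSE S.2
      refine (inv_smul_smul_conj hle).trans (le_of_eq ?_)
      exact conj_smul_eq_of_mem_normalizer (inv_mem (hNS (hEA he)))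
    refine line_good hG hM hE hAE hA hA2 hp hUA hUc fun n hn => mem_normalizer_of_conj_smul ?_
    refine Subgroup.eq_of_le_of_card_ge ?_ (CfsgLib.card_conj_smul n U).ge
    rintro _ ⟨_, ⟨_, ⟨v, rfl⟩, rfl⟩, rfl⟩
    refine ⟨(⟨MulAut.conj n (v : G), ?_⟩ : P) ^ p ^ d, ⟨_, rfl⟩, ?_⟩
    · exact hSeq.le ((Subgroup.mem_normalizer_iff.mp (hNS hn) _).mp (hSeq.ge v.2))
    · show (MulAut.conj n (v : G)) ^ p ^ d = MulAut.conj n ((v : G) ^ p ^ d)
      rw [map_pow]
  · push Not at hab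
    obtain ⟨S₀, hS₀⟩ := hab
    have hS : ∀ S : Sylow p G, ¬ IsMulCommutative (S : Subgroup G) := by
      intro S hS
      obtain ⟨g, hg⟩ := MulAction.exists_smul_eq G S S₀
      refine hS₀ ⟨⟨fun a b => Subtype.ext ?_⟩⟩
      have hm : ∀ c : (S₀ : Subgroup G), g⁻¹ * c * g ∈ (S : Subgroup G) := fun c => by
        have hc : (c : G) ∈ ((g • S : Sylow p G) : Subgroup G) := by rw [hg]; exact c.2
        have hc' : (c : G) ∈ MulAut.conj g • (S : Subgroup G) := hc
        rwa [CfsgLib.mem_conj_smul_iff] at hc'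
      haveI := hS
      have this : g⁻¹ * (a : G) * g * (g⁻¹ * b * g) = g⁻¹ * b * g * (g⁻¹ * a * g) :=
        congrArg Subtype.val (mul_comm' (⟨_, hm a⟩ : (S : Subgroup G)) ⟨_, hm b⟩)
      calc (a : G) * b = g * (g⁻¹ * a * g * (g⁻¹ * b * g)) * g⁻¹ := by group
        _ = g * (g⁻¹ * b * g * (g⁻¹ * a * g)) * g⁻¹ := by rw [this]
        _ = b * a := by group
    obtain ⟨-, ⟨hA₁'c, -⟩, hgood⟩ := Cfsg.Agent.S1419.result hG M hM E hE p hp hS A ⟨hAE, hA, hA2⟩
    refine (hgood U (hUA.trans hAE) hUc fun hEq => ?_).1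
    rcases d with _ | d
    · -- `P = A`, so the powers fill `A`
      refine hUeq (le_antisymm hUA fun a ha => ⟨(⟨a, hAP ha⟩ : P) ^ p ^ 0, ⟨⟨a, hAP ha⟩, rfl⟩, ?_⟩)
      simp
    obtain ⟨g, hgP, hgM⟩ := hexc.exists_move hG hM hPM hPp hPiM
    obtain ⟨S, hPS⟩ := hPp.exists_le_sylow
    haveI := hA.1
    obtain ⟨C, hC, hpow⟩ := powers_cyclic hG hexc.two S hPS hAP (fun a ha b hb =>
      congrArg Subtype.val (mul_comm' (⟨b, hb⟩ : P) ⟨a, hAP ha⟩)) (hS S)
    have hUC : ∀ n ∈ normalizer (P : Set G), MulAut.conj n • U = U := by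
      intro n hn
      have h1 : U ≤ C := by
        rintro _ ⟨_, ⟨v, rfl⟩, rfl⟩
        show (v : G) ^ p ^ (d + 1) ∈ C
        rw [pow_succ, pow_mul]
        exact hpow _ (P.pow_mem v.2 _)
      have h2 : MulAut.conj n • U ≤ C := by
        rintro _ ⟨_, ⟨_, ⟨v, rfl⟩, rfl⟩, rfl⟩
        show MulAut.conj n ((v : G) ^ p ^ (d + 1)) ∈ C
        rw [map_pow, pow_succ, pow_mul]
        exact hpow _ (P.pow_mem ((Subgroup.mem_normalizer_iff.mp hn _).mp v.2) _)
      exact eq_of_card_cyclic hC h2 h1 (CfsgLib.card_conj_smul n U)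
    have hMN : M ≤ normalizer (sigmaCore M : Set G) := le_normalizer_sigmaCore hG hM le_rfl
    have hA₁1 : A ⊓ centralizer (sigmaCore M : Set G) ≠ ⊥ := fun e => by
      rw [e, Subgroup.card_bot] at hA₁'c
      exact hpp.ne_one hA₁'c.symm
    have hEA : E ≤ normalizer (A : Set G) :=
      (Cfsg.Agent.S1418.result hG M hM E hE p hp A ⟨hAE, hA, hA2⟩).1.1
    have hNA₁ : normalizer ((A ⊓ centralizer (sigmaCore M : Set G) : Subgroup G) : Set G) = M := by
      refine normalizer_eq hG hM hA₁1 (fun e => hM.1 (top_le_iff.mp (e ▸ inf_le_left.trans (hAE.trans hE.1))))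
        fun m hm => ?_
      obtain ⟨e, he, s, hs, rfl⟩ := hE.2.2.2 m hm
      refine mul_mem (mem_normalizer_of_conj_smul ?_) (Subgroup.centralizer_le_normalizer _ fun a ha => (ha.2 s hs).symm)
      rw [Subgroup.smul_inf, conj_smul_eq_of_mem_normalizer (hEA he), conj_smul_eq_of_mem_normalizer
        (CfsgLib.CharP.normalizer_le_normalizer_centralizer _ (hMN (hE.1 he)))]
    exact hgM (hNA₁.le (hEq ▸ mem_normalizer_of_conj_smul (hUC g hgP)))

/-- B–G 14.4 (b) for `κ(M) ≠ ∅`: a cyclic subgroup of `U` of full exponent acting freely on `M_σ`. -/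
theorem kappa_free_exponent {M K U : Subgroup G} (hM : IsCoatom M) (h : IsSigmaDecomposition M K U) (hK1 : K ≠ ⊥) :
    ∃ U₀ : Subgroup G, U₀ ≤ U ∧ Monoid.exponent U₀ = Monoid.exponent U ∧
      ∀ u ∈ U₀, u ∈ sigmaHat M → u = 1 := by
  obtain ⟨d, hs⟩ := decomp_split hG hM h hK1
  haveI hUc := hs.comm
  have hUE : U ≤ U ⊔ K := le_sup_left
  set n := Monoid.exponent U with hn
  -- the lines away from `τ₂(M)` are free
  have hgood : ∀ (q : ℕ) [Fact q.Prime] (w : G), w ∈ U → orderOf w = q → q ∉ tau2 M →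
      sigmaCore M ⊓ centralizer ({w} : Set G) = ⊥ := by
    intro q _ w hw hwo hq2
    have hW : Nat.card (zpowers w) = q := by rw [Nat.card_zpowers, hwo]
    obtain ⟨hκ, hσ⟩ := decomp_U_primes hG hM h q Fact.out (hwo ▸ Subgroup.orderOf_dvd_natCard _ hw)
    have hWM : zpowers w ≤ M := Subgroup.zpowers_le.mpr (h.compl.1 hw)
    by_contra hb
    exact hκ (kappa_of_bad hG hM (tau1_or_tau3 hG hM hσ (rank_one_of_not_sigma hG hM hσ hq2) hW hWM) hW hWM
      (by rwa [← centralizer_zpowers]))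
  have hmain : ∀ s : Finset ℕ, s ⊆ n.primeFactors → ∃ z ∈ U, orderOf z = n ∧
      ∀ q ∈ s, sigmaCore M ⊓ centralizer ({z ^ (n / q)} : Set G) = ⊥ := by
    intro s
    induction s using Finset.induction with
    | empty =>
      intro _
      obtain ⟨z, hz⟩ := Monoid.exists_orderOf_eq_exponent (G := U) Monoid.ExponentExists.of_finite
      exact ⟨z, z.2, by rw [Subgroup.orderOf_coe, hz], fun q hq => absurd hq (Finset.notMem_empty q)⟩
    | @insert p s hps ih =>
      intro hsub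
      obtain ⟨z, hz, hzo, hzs⟩ := ih ((Finset.subset_insert p s).trans hsub)
      have hpn := hsub (Finset.mem_insert_self p s)
      have hpp : p.Prime := Nat.prime_of_mem_primeFactors hpn
      have hpd : p ∣ n := Nat.dvd_of_mem_primeFactors hpn
      haveI := Fact.mk hpp
      by_cases hp2 : p ∈ tau2 M
      swap
      · refine ⟨z, hz, hzo, fun q hq => ?_⟩
        rcases Finset.mem_insert.mp hq with rfl | hq
        · refine hgood q _ (U.pow_mem hz _) ?_ hp2
          rw [← hzo]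
          exact orderOf_pow_orderOf_div (orderOf_pos z).ne' (hzo.symm ▸ hpd)
        · exact hzs q hq
      -- replace the `p`-part of `z`
      have hW : Nat.card (zpowers (z ^ (n / p))) = p := by
        rw [Nat.card_zpowers, ← hzo]
        exact orderOf_pow_orderOf_div (orderOf_pos z).ne' (hzo.symm ▸ hpd)
      have hWU : zpowers (z ^ (n / p)) ≤ U := Subgroup.zpowers_le.mpr (U.pow_mem hz _)
      obtain ⟨A, hAE, hA, hA2, -⟩ := exists_line_two hG hM hs.hE hp2 hW (hWU.trans hUE)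
      have hEA : U ⊔ K ≤ normalizer (A : Set G) :=
        (Cfsg.Agent.S1418.result hG M hM (U ⊔ K) hs.hE p hp2 A ⟨hAE, hA, hA2⟩).1.1
      have hpκ : p ∉ kappa M := fun hk => kappa_not_tau2 hG hM hk hp2
      have hAU : A ≤ U := normal_le_hall (solvable_of_le hs.hE.1 (solvable_of_ne_top hG hM.1)) hs.hallU hAE hEA
        fun r hr hd => by
          show r ∉ kappa M
          rw [card_dvd_of_pgroup (isPGroup_of_exp hA.2) hr hd]
          exact hpκ
      obtain ⟨P, hAP, hPU, hPp, hPi⟩ := exists_sylow_ge (p := p) hAU (isPGroup_of_exp hA.2)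
      have hPiE : ¬ p ∣ P.relIndex (U ⊔ K) := by
        rw [← Subgroup.relIndex_mul_relIndex P U (U ⊔ K) hPU hUE]
        exact fun hd => (hpp.dvd_mul.mp hd).elim hPi (hs.hallU.2.2 p hpp hpκ)
      obtain ⟨y, hyP, e, hyo, hexp, hfix⟩ :=
        exists_max_good hG hM hs.hE hp2 hAE hA hA2 hAP (hPU.trans hUE) hPp hPiE
      have hyU : y ∈ U := hPU hyP
      obtain ⟨i, j, hi, hj, hij⟩ := CfsgLib.ClassPiCount.exists_parts ({p} : Set ℕ) z
      -- the `p`-part lies in `P`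
      have hzP : z ^ i ∈ P := by
        obtain ⟨m, hm, hle⟩ := CfsgLib.pi_le_conj_hall (π := ({p} : Set ℕ)) (solvable_of_le h.compl.1
          (solvable_of_ne_top hG hM.1)) ⟨hPU, fun t ht hd => card_dvd_of_pgroup hPp ht hd,
            fun t ht htp hd => hPi (by rw [Set.mem_singleton_iff] at htp; rwa [htp] at hd)⟩
          (U := zpowers (z ^ i)) (Subgroup.zpowers_le.mpr (U.pow_mem hz i))
          fun t ht hd => hi t ht (by rwa [Nat.card_zpowers] at hd)
        have hc : m * z ^ i * m⁻¹ = z ^ i := by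
          rw [show m * z ^ i = z ^ i * m from
            congrArg Subtype.val (mul_comm' (⟨m, hm⟩ : U) ⟨_, U.pow_mem hz i⟩), mul_inv_cancel_right]
        exact hc ▸ hle ⟨z ^ i, mem_zpowers _, rfl⟩
      have hiord : orderOf (z ^ i) ∣ p ^ (e + 1) := orderOf_dvd_of_pow_eq_one (hexp _ hzP)
      set m := orderOf (z ^ j) with hm
      have hmp : m.Coprime p := (Nat.Prime.coprime_iff_not_dvd hpp).mpr (fun hd => hj p hpp hd rfl) |>.symm
      have hcy : Commute (z ^ j) y :=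
        congrArg Subtype.val (mul_comm' (⟨_, U.pow_mem hz j⟩ : U) ⟨y, hyU⟩)
      have hzy : orderOf (z ^ j * y) = m * p ^ (e + 1) := by
        rw [hcy.orderOf_mul_eq_mul_orderOf_of_coprime (by rw [hyo]; exact hmp.pow_right _), hyo]
      have hn' : m * p ^ (e + 1) = n := by
        refine Nat.dvd_antisymm (hzy ▸ ?_) ?_
        · rw [hn, ← Subgroup.orderOf_mk (z ^ j * y) (U.mul_mem (U.pow_mem hz j) hyU)]
          exact Monoid.order_dvd_exponent _
        · rw [← hzo]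
          nth_rw 1 [← hij]
          rw [mul_comm m]
          exact ((Commute.pow_pow (Commute.refl z) i j).orderOf_mul_dvd_mul_orderOf).trans (mul_dvd_mul hiord dvd_rfl)
      refine ⟨z ^ j * y, U.mul_mem (U.pow_mem hz j) hyU, hzy.trans hn', fun q hq => ?_⟩
      rcases Finset.mem_insert.mp hq with rfl | hq'
      · have hdiv : n / q = q ^ e * m := by
          rw [← hn', show m * q ^ (e + 1) = (q ^ e * m) * q by ring, Nat.mul_div_cancel _ hpp.pos]
        have h1 : (z ^ j) ^ (q ^ e * m) = 1 :=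
          orderOf_dvd_iff_pow_eq_one.mp (dvd_mul_left m (q ^ e))
        rw [hdiv, hcy.mul_pow, h1, one_mul, pow_mul, eq_bot_iff, ← hfix]
        refine le_inf inf_le_left (inf_le_right.trans ?_)
        intro c hc
        rw [Subgroup.mem_centralizer_singleton_iff] at hc ⊢
        obtain ⟨k, hk⟩ := exists_pow_eq_self_of_coprime (x := y ^ q ^ e) (n := m) (by
          refine Nat.Coprime.coprime_dvd_right (orderOf_dvd_of_pow_eq_one ?_) hmp
          rw [← pow_mul, ← pow_succ, ← hyo, pow_orderOf_eq_one])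
        rw [← hk]
        exact ((show Commute c ((y ^ q ^ e) ^ m) from hc).pow_right k).eq
      · have hqn := hsub (Finset.mem_insert_of_mem hq')
        have hqp : q ≠ p := fun e' => hps (e' ▸ hq')
        have hqd : q ∣ n := Nat.dvd_of_mem_primeFactors hqn
        have hpdiv : p ^ (e + 1) ∣ n / q := by
          refine (Nat.Coprime.pow_left _ ((Nat.coprime_primes hpp (Nat.prime_of_mem_primeFactors hqn)).mpr
            hqp.symm)).dvd_of_dvd_mul_right ?_
          rw [Nat.div_mul_cancel hqd, ← hn']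
          exact dvd_mul_left _ _
        have h1 : y ^ (n / q) = 1 := orderOf_dvd_iff_pow_eq_one.mp (hyo ▸ hpdiv)
        have h2 : (z ^ i) ^ (n / q) = 1 := orderOf_dvd_iff_pow_eq_one.mp (hiord.trans hpdiv)
        have h3 : z ^ (n / q) = (z ^ j) ^ (n / q) := by
          conv_lhs => rw [← hij]
          rw [(Commute.pow_pow (Commute.refl z) i j).mul_pow, h2, one_mul]
        rw [hcy.mul_pow, h1, mul_one, ← h3]
        exact hzs q hq'
  obtain ⟨z, hz, hzo, hzs⟩ := hmain n.primeFactors subset_rfl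
  refine ⟨zpowers z, Subgroup.zpowers_le.mpr hz, by rw [IsCyclic.exponent_eq_card, Nat.card_zpowers, hzo], ?_⟩
  rintro u hu ⟨-, x, hx, hx1, hux⟩
  by_contra hu1
  obtain ⟨q, hq, hqd⟩ := exists_prime_dvd_order hu1
  haveI := Fact.mk hq
  obtain ⟨W, hW, hWu, -⟩ := exists_line_of_element hqd
  have hWz : W ≤ zpowers z := hWu.trans (Subgroup.zpowers_le.mpr hu)
  have hqn : q ∣ n := by rw [← hzo, ← Nat.card_zpowers, ← hW]; exact Subgroup.card_dvd_of_le hWz
  have hline : W = zpowers (z ^ (n / q)) := eq_of_card_cyclic inferInstance hWz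
    (Subgroup.zpowers_le.mpr (pow_mem (mem_zpowers z) _))
    (by rw [hW, Nat.card_zpowers, ← hzo, orderOf_pow_orderOf_div (orderOf_pos z).ne' (hzo.symm ▸ hqn)])
  refine hx1 (Subgroup.mem_bot.mp ((hzs q (Nat.mem_primeFactors.mpr ⟨hq, hqn, ?_⟩)).le ⟨hx, ?_⟩))
  · rw [← hzo]; exact (orderOf_pos z).ne'
  · rw [centralizer_zpowers, ← hline]
    intro w hw
    obtain ⟨k, rfl⟩ := Subgroup.mem_zpowers_iff.mp (hWu hw)
    exact ((show Commute u x from hux).zpow_left k).eq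

/-- When `κ(M) = ∅`, `U` is a complement to which the Frobenius type criterion applies. -/
theorem bot_criterion {M U : Subgroup G} (hM : IsCoatom M) (h : IsSigmaDecomposition M ⊥ U) :
    (∃ A₀ : Subgroup G, A₀ ≤ U ∧ U ≤ normalizer (A₀ : Set G) ∧ IsMulCommutative A₀ ∧
      ∀ x ∈ sigmaCore M, x ≠ 1 → U ⊓ centralizer ({x} : Set G) ≤ A₀) ∧
    ∃ U₀ : Subgroup G, U₀ ≤ U ∧ Monoid.exponent U₀ = Monoid.exponent U ∧
      ∀ e ∈ U₀, e ≠ 1 → sigmaCore M ⊓ centralizer ({e} : Set G) = ⊥ := by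
  obtain ⟨hE, -⟩ := decomp_data hG hM h
  rw [sup_bot_eq] at hE
  refine frobenius_type_criterion hG hM hE fun e he he1 hτ => ?_
  by_contra hb
  obtain ⟨q, hq, hqd⟩ := exists_prime_dvd_order he1
  haveI := Fact.mk hq
  obtain ⟨W, hW, hWe, hCW⟩ := exists_line_of_element hqd
  have hWM : W ≤ M := hWe.trans (Subgroup.zpowers_le.mpr (hE.1 he))
  have hk := kappa_of_bad hG hM (hτ q hq hqd) hW hWM fun e' => hb (le_bot_iff.mp ((inf_le_inf_left _ hCW).trans e'.le))
  exact h.hall.2.2 q hq hk (by rw [Subgroup.relIndex_bot_left]; exact hk.2.1)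

/-- B–G 14.4 (a). -/
theorem hat_generates_abelian {M K U : Subgroup G} (hM : IsCoatom M) (h : IsSigmaDecomposition M K U) :
    IsMulCommutative (closure ((U : Set G) ∩ sigmaHat M)) := by
  have key : ∀ A : Subgroup G, IsMulCommutative A → closure ((U : Set G) ∩ sigmaHat M) ≤ A →
      IsMulCommutative (closure ((U : Set G) ∩ sigmaHat M)) := fun A hA hle =>
    ⟨⟨fun a b => Subtype.ext (congrArg (fun t : A => (t : G)) (hA.is_comm.comm ⟨a, hle a.2⟩ ⟨b, hle b.2⟩))⟩⟩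
  by_cases hK : K = ⊥
  · subst hK
    obtain ⟨⟨A₀, -, -, hA₀, hle⟩, -⟩ := bot_criterion hG hM h
    refine key A₀ hA₀ ((Subgroup.closure_le _).mpr ?_)
    rintro u ⟨hu, -, x, hx, hx1, hux⟩
    exact hle x hx hx1 ⟨hu, Subgroup.mem_centralizer_singleton_iff.mpr hux⟩
  · exact key U (decomp_split hG hM h hK).2.comm ((Subgroup.closure_le _).mpr fun u hu => hu.1)

/-- B–G 14.4 (b). -/
theorem free_exponent {M K U : Subgroup G} (hM : IsCoatom M) (h : IsSigmaDecomposition M K U) :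
    ∃ U₀ : Subgroup G, U₀ ≤ U ∧ Monoid.exponent U₀ = Monoid.exponent U ∧ ∀ u ∈ U₀, u ∈ sigmaHat M → u = 1 := by
  by_cases hK : K = ⊥
  · subst hK
    obtain ⟨-, U₀, hle, hexp, hfix⟩ := bot_criterion hG hM h
    refine ⟨U₀, hle, hexp, ?_⟩
    rintro u hu ⟨-, x, hx, hx1, hux⟩
    by_contra hu1
    exact hx1 (Subgroup.mem_bot.mp ((hfix u hu hu1).le ⟨hx, Subgroup.mem_centralizer_singleton_iff.mpr hux.symm⟩))
  · exact kappa_free_exponent hG hM h hK

/-- B–G 14.4 (c). -/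
theorem centralizer_unique_of_fixed {M K U : Subgroup G} (hM : IsCoatom M) (h : IsSigmaDecomposition M K U)
    {X : Subgroup G} (hXU : X ≤ U) (hX : X ≠ ⊥) (hXc : sigmaCore M ⊓ centralizer (X : Set G) ≠ ⊥) :
    centralizer (X : Set G) ≤ M ∧ ∀ L : Subgroup G, IsCoatom L → centralizer (X : Set G) ≤ L → L = M := by
  obtain ⟨hE, -⟩ := decomp_data hG hM h
  have hUE : U ≤ U ⊔ K := le_sup_left
  obtain ⟨⟨x, hx, hxX⟩, hx1'⟩ := Subgroup.ne_bot_iff_exists_ne_one.mp hXc
  have hx1 : x ≠ 1 := fun e => hx1' (Subtype.ext e)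
  have hτ : ∀ u ∈ X, u ≠ 1 → (∀ p : ℕ, p.Prime → p ∣ orderOf u → p ∈ tau2 M) ∧ centralizer ({u} : Set G) ≤ M := by
    intro u hu hu1
    have hux : u ∈ M ⊓ centralizer ({x} : Set G) :=
      ⟨h.compl.1 (hXU hu), Subgroup.mem_centralizer_singleton_iff.mpr (hxX u hu)⟩
    have hprimes : ∀ p : ℕ, p.Prime → p ∣ orderOf u → p ∉ kappa M ∧ p ∉ sigma M := fun p hp hd =>
      decomp_U_primes hG hM h p hp (hd.trans (Subgroup.orderOf_dvd_natCard _ (hXU hu)))
    rcases sigma_element_dichotomy hG hM hx hx1 hux hu1 (fun p hp hd => (hprimes p hp hd).2) with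
      ⟨hκ, -⟩ | ⟨hτ, -, hC, -⟩
    · obtain ⟨p, hp, hpd⟩ := exists_prime_dvd_order hu1
      exact absurd (hκ p hp hpd) (hprimes p hp hpd).1
    · exact ⟨hτ, hC⟩
  obtain ⟨p, hp, P, hPX, hP⟩ := exists_prime_subgroup hX
  haveI := Fact.mk hp
  obtain ⟨u, huo, huP⟩ := exists_gen hP
  have huX : u ∈ X := hPX (huP ▸ mem_zpowers u)
  have hu1 : u ≠ 1 := fun e => by rw [e, orderOf_one] at huo; exact hp.ne_one huo.symm
  refine ⟨(Subgroup.centralizer_le (Set.singleton_subset_iff.mpr huX)).trans (hτ u huX hu1).2, fun L hL hCL => ?_⟩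
  have hp2 : p ∈ tau2 M := (hτ u huX hu1).1 p hp (huo ▸ dvd_rfl)
  obtain ⟨A, hAE, hA, hA2, -⟩ := exists_line_two hG hM hE hp2 hP ((hPX.trans hXU).trans hUE)
  have hAX : A ≤ centralizer (X : Set G) := Subgroup.le_centralizer_iff.mp fun v hv => by
    by_cases hv1 : v = 1
    · rw [hv1]; exact one_mem _
    · exact tau2_element_centralizes hG hM hE hp2 hAE hA hA2 (hUE (hXU hv)) (hτ v hv hv1).1
  by_contra hne
  exact hXc (le_bot_iff.mp ((le_inf inf_le_left (inf_le_right.trans hCL)).trans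
    (sigma_meet_bot hG hM hp2 (hAE.trans hE.1) hA hA2 hL hne (hAX.trans hCL)).le))

/-- The `σ'`-part of an element of `A(M) ∖ M_σ`. -/
theorem sigmaA_part {M K U : Subgroup G} (hM : IsCoatom M) (h : IsSigmaDecomposition M K U) {a : G}
    (ha : a ∈ sigmaA M U \ (sigmaCore M : Set G)) {i j : ℕ} (hij : a ^ i * a ^ j = a)
    (hi : ∀ p : ℕ, p.Prime → p ∣ orderOf (a ^ i) → p ∈ sigma M)
    (hj : ∀ p : ℕ, p.Prime → p ∣ orderOf (a ^ j) → p ∉ sigma M) :
    centralizer ({a ^ j} : Set G) ≤ M ∧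
      ∀ L : Subgroup G, IsCoatom L → centralizer ({a ^ j} : Set G) ≤ L → L = M := by
  obtain ⟨⟨⟨haM, y, hy, hy1, hay⟩, haW⟩, has⟩ := ha
  have hj1 : a ^ j ≠ 1 := fun e => has (by
    rw [SetLike.mem_coe, ← hij, e, mul_one]
    exact mem_sigmaCore_of_order hG hM (M.pow_mem haM i) hi)
  have hnκ : ∀ p : ℕ, p.Prime → p ∣ orderOf (a ^ j) → p ∉ kappa M := by
    intro p hp hd hk
    have hUn : U ≤ normalizer (sigmaCore M : Set G) := h.compl.1.trans (le_normalizer_sigmaCore hG hM le_rfl)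
    have hUs : U ⊓ sigmaCore M = ⊥ := le_bot_iff.mp ((inf_le_inf_left _ le_sup_right).trans h.compl.2.2.1.le)
    have h1 := (hd.trans (orderOf_pow_dvd j)).trans (Subgroup.orderOf_dvd_natCard _ haW)
    rw [card_complIn (complIn_sup hUn hUs)] at h1
    rcases hp.dvd_mul.mp h1 with h2 | h2
    · exact (decomp_U_primes hG hM h p hp h2).1 hk
    · exact hk.2.2.1 ((sigmaCore_hall hG hM).1.2.1 p hp h2)
  rcases sigma_element_dichotomy hG hM hy hy1 ⟨M.pow_mem haM j, Subgroup.mem_centralizer_singleton_iff.mpr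
      ((show Commute a y from hay).pow_left j).eq⟩ hj1 hj with ⟨hκ, -⟩ | ⟨-, -, hC, hu⟩
  · obtain ⟨p, hp, hpd⟩ := exists_prime_dvd_order hj1
    exact absurd (hκ p hp hpd) (hnκ p hp hpd)
  · exact ⟨hC, hu⟩

theorem mem_normalizer_set {T : Set G} {g : G} (h1 : ∀ n ∈ T, g * n * g⁻¹ ∈ T) (h2 : ∀ n ∈ T, g⁻¹ * n * g ∈ T) :
    g ∈ normalizer T := by
  show ∀ n : G, n ∈ T ↔ g * n * g⁻¹ ∈ T
  refine fun n => ⟨h1 n, fun hn => ?_⟩
  have := h2 _ hn
  rwa [show g⁻¹ * (g * n * g⁻¹) * g = n by group] at this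

/-- `A(M) ∖ M_σ` is invariant under `M`. -/
theorem sigmaA_diff_conj {M K U : Subgroup G} (hM : IsCoatom M) (h : IsSigmaDecomposition M K U) {m a : G}
    (hm : m ∈ M) (ha : a ∈ sigmaA M U \ (sigmaCore M : Set G)) :
    m * a * m⁻¹ ∈ sigmaA M U \ (sigmaCore M : Set G) := by
  obtain ⟨⟨⟨haM, y, hy, hy1, hay⟩, haW⟩, has⟩ := ha
  have hmN := le_normalizer_sigmaCore hG hM le_rfl hm
  refine ⟨⟨⟨M.mul_mem (M.mul_mem hm haM) (M.inv_mem hm), m * y * m⁻¹,
    (Subgroup.mem_normalizer_iff.mp hmN y).mp hy, fun e => hy1 (conj_eq_one_iff.mp e), ?_⟩,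
    (Subgroup.mem_normalizer_iff.mp (decomp_sup_normal hG hM h hm) a).mp haW⟩,
    fun hc => has ((Subgroup.mem_normalizer_iff.mp hmN a).mpr hc)⟩
  calc m * a * m⁻¹ * (m * y * m⁻¹) = m * (a * y) * m⁻¹ := by group
    _ = m * (y * a) * m⁻¹ := by rw [hay]
    _ = _ := by group

/-- B–G 14.4 (d). -/
theorem sigmaA_diff_ti {M K U : Subgroup G} (hM : IsCoatom M) (h : IsSigmaDecomposition M K U) :
    IsTISubset (sigmaA M U \ (sigmaCore M : Set G)) := by
  intro g hg a ha ha'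
  refine absurd ?_ hg
  obtain ⟨i, j, hi, hj, hij⟩ := CfsgLib.ClassPiCount.exists_parts (sigma M) a
  obtain ⟨-, hu⟩ := sigmaA_part hG hM h ha hij hi hj
  obtain ⟨hC, -⟩ := sigmaA_part hG hM h ha' (i := i) (j := j) (by rw [conj_pow, conj_pow,
      show g * a ^ i * g⁻¹ * (g * a ^ j * g⁻¹) = g * (a ^ i * a ^ j) * g⁻¹ by group, hij])
    (fun p hp hd => by rw [conj_pow, orderOf_conj] at hd; exact hi p hp hd)
    (fun p hp hd => by rw [conj_pow, orderOf_conj] at hd; exact hj p hp hd)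
  rw [conj_pow, ← conj_centralizer_singleton] at hC
  have e := hu _ (conj_isCoatom hM g⁻¹) (inv_smul_smul_conj hC)
  have hgM : g⁻¹ ∈ M := normalizer_coatom hG hM ▸ mem_normalizer_of_conj_smul e
  refine mem_normalizer_set hG (fun n hn => sigmaA_diff_conj hG hM h (inv_mem_iff.mp hgM) hn) fun n hn => ?_
  have := sigmaA_diff_conj hG hM h hgM hn
  rwa [inv_inv] at this

end CfsgLib.MinSimpleOdd
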