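import Cfsg.Agent.Lib.MinSimpleOdd.Exceptional

/-!
Elementary abelian subgroups of order `p²` in maximal subgroups (B–G 12.3, 12.5).
-/

set_option autoImplicit false
set_option linter.unusedSectionVars false
set_option maxHeartbeats 1000000

namespace CfsgLib.MinSimpleOdd

open Subgroup Cfsg
open scoped Pointwise commutatorElement

universe u
variable {G : Type u} [Group G] [Finite G] {p : ℕ} [Fact p.Prime]

/-- No subgroup of order `p` of `A` has its normalizer in `M` alone. -/
def NoneUnique (M : Subgroup G) (p : ℕ) (A : Subgroup G) : Prop :=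
  ∀ A₀ : Subgroup G, A₀ ≤ A → Nat.card A₀ = p →
    ∃ L : Subgroup G, IsCoatom L ∧ normalizer (A₀ : Set G) ≤ L ∧ L ≠ M

theorem uniq_of_rank_three (hG : IsMinSimpleOddOrder G) {R : Subgroup G} (hR : IsPGroup p R)
    (h : ¬ PRankLE p 2 R) : InUniqueMaximal R := by
  obtain ⟨B, hBR, hBc, hBe, hBcard⟩ := exists_elementary_of_not_pRankLE h
  haveI := hBc
  exact uniq_mono (uniq_of_abelian_three hG (isPGroup_of_exp hBe)
    fun hr => absurd hBcard (not_lt.mpr (card_le_of_pRankLE hr le_rfl hBc hBe))) hBR (pgroup_ne_top hG hR)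

theorem exists_order_prime {A : Subgroup G} (hA : IsPGroup p A) (h1 : A ≠ ⊥) :
    ∃ A₀ : Subgroup G, A₀ ≤ A ∧ Nat.card A₀ = p := by
  obtain ⟨z, hz, hzo, -⟩ := exists_central hA h1
  exact ⟨zpowers z, Subgroup.zpowers_le.mpr hz, by rw [Nat.card_zpowers, hzo]⟩

theorem le_normalizer_of_le {A₀ A : Subgroup G} (hA : IsElementaryAbelian p A) (h : A₀ ≤ A) :
    A ≤ normalizer (A₀ : Set G) := fun a ha => Subgroup.centralizer_le_normalizer _ fun b hb =>
  congrArg Subtype.val (hA.1.is_comm.comm ⟨b, h hb⟩ ⟨a, ha⟩)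

theorem not_dvd_index_of_sigma (hG : IsMinSimpleOddOrder G) {M P : Subgroup G} (hM : IsCoatom M)
    (hp : p ∈ sigma M) (hPM : P ≤ M) (hidx : ¬ p ∣ P.relIndex M) : ¬ p ∣ P.index := by
  obtain ⟨S, hSM, -, hSi, -⟩ := exists_sigma_sylow hp
  rw [← Subgroup.relIndex_mul_index hPM]
  intro h
  rcases (Fact.out : p.Prime).dvd_mul.mp h with h | h
  · exact hidx h
  · exact hSi (h.trans (Subgroup.index_dvd_of_le hSM))

theorem sigma_conj {M : Subgroup G} (g : G) : sigma (MulAut.conj g • M) = sigma M := by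
  have key : ∀ (g : G) (M : Subgroup G), sigma M ⊆ sigma (MulAut.conj g • M) := by
    intro g M r hr
    haveI := Fact.mk hr.1
    obtain ⟨P, hPM, hPp, hPi, hN⟩ := exists_sigma_sylow hr
    have hle := conj_smul_mono hPM g
    have hp' : IsPGroup r ↥(MulAut.conj g • P) := IsPGroup.of_card (n := hPp.exists_card_eq.choose) (by
      rw [CfsgLib.card_conj_smul]; exact hPp.exists_card_eq.choose_spec)
    have hi : ¬ r ∣ (MulAut.conj g • P).index := by rwa [index_conj_smul]
    obtain ⟨T, hT, -⟩ := sylow_of_relIndex hle hp' fun h =>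
      hi (h.trans (Dvd.intro _ (Subgroup.relIndex_mul_index hle)))
    refine ⟨hr.1, by rw [CfsgLib.card_conj_smul]; exact hr.2.1, T, hT ▸ fun n hn => ?_⟩
    rw [CfsgLib.mem_conj_smul_iff]
    refine hN (mem_normalizer_of_conj_smul ?_)
    have := conj_smul_eq_of_mem_normalizer hn
    calc MulAut.conj (g⁻¹ * n * g) • P = MulAut.conj g⁻¹ • MulAut.conj n • MulAut.conj g • P := by
          rw [CfsgLib.conj_smul_mul, CfsgLib.conj_smul_mul, mul_assoc]
      _ = P := by rw [this, CfsgLib.conj_smul_mul, inv_mul_cancel, map_one, one_smul]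
  refine Set.Subset.antisymm ?_ (key g M)
  have := key g⁻¹ (MulAut.conj g • M)
  rwa [CfsgLib.conj_smul_mul, inv_mul_cancel, map_one, one_smul] at this

variable (hG : IsMinSimpleOddOrder G) {M : Subgroup G} (hM : IsCoatom M)

include hG hM

/-- `A` centralises the invariant `q`-subgroups of `M_σ` in a maximal subgroup `L` with `q ∉ σ(L)`. -/
theorem centralizes_fixed {L A : Subgroup G} (hL : IsCoatom L) (hA : IsMaxTwo p A) (hAL : A ≤ L)
    (hexc : p ∉ sigma L → ∃ A₀, Exc L p A A₀) {q : ℕ} [Fact q.Prime] (hqp : q ≠ p) (hq : q ∉ sigma L)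
    {X : Subgroup G} (hXL : X ≤ L) (hX : IsPGroup q X) (hAX : A ≤ normalizer (X : Set G)) :
    A ≤ centralizer (X : Set G) := by
  have hLN : L ≤ normalizer (sigmaCore L : Set G) := le_normalizer_piCoreOf_self _ _
  have hDX : ⁅X, A⁆ ≤ X := by
    rw [Subgroup.commutator_le]
    intro v hv a ha
    rw [commutatorElement_def, mul_assoc v, mul_assoc v]
    exact mul_mem hv (by
      have := (Subgroup.mem_normalizer_iff.mp (hAX ha) v⁻¹).mp (inv_mem hv)
      rwa [mul_assoc] at this ⊢)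
  suffices h : ⁅X, A⁆ = ⊥ by
    exact Subgroup.le_centralizer_iff.mp ((Subgroup.commutator_eq_bot_iff_le_centralizer (H₁ := X) (H₂ := A)).mp h)
  by_contra hne
  obtain ⟨k, hk⟩ := (hX.to_le hDX).exists_card_eq
  have hqd : q ∣ Nat.card ↥⁅X, A⁆ := hk ▸ dvd_pow_self q fun e => hne (Subgroup.card_eq_one.mp (by
    rw [hk, e, pow_zero]))
  by_cases hp : p ∈ sigma L
  · refine hq ((sigmaCore_hall hG hL).1.2.1 q Fact.out (hqd.trans (Subgroup.card_dvd_of_le ?_)))
    have hAs : A ≤ sigmaCore L := le_sigmaCore hG hL hAL fun r hr hd => by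
      rw [card_dvd_of_pgroup hA.isPGroup hr hd]; exact hp
    rw [Subgroup.commutator_le]
    intro v hv a ha
    rw [commutatorElement_def]
    exact mul_mem ((Subgroup.mem_normalizer_iff.mp (hLN (hXL hv)) a).mp (hAs ha)) (inv_mem (hAs ha))
  · obtain ⟨A₀, h⟩ := hexc hp
    have hn := h.normal hG hL
    have h1 : ⁅X, A⁆ ≤ sigmaCore L ⊔ A := by
      rw [Subgroup.commutator_le]
      intro v hv a ha
      rw [commutatorElement_def]
      exact mul_mem ((Subgroup.mem_normalizer_iff.mp (hn (hXL hv)) a).mp (Subgroup.mem_sup_right ha))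
        (inv_mem (Subgroup.mem_sup_right ha))
    have h2 := (hqd.trans (Subgroup.card_dvd_of_le h1)).trans (CfsgLib.Signalizer.card_sup_dvd (hAL.trans hLN))
    rcases (Fact.out : q.Prime).dvd_mul.mp h2 with h3 | h3
    · exact hqp (card_dvd_of_pgroup hA.isPGroup Fact.out h3)
    · exact hq ((sigmaCore_hall hG hL).1.2.1 q Fact.out h3)

variable {A : Subgroup G} (hAM : A ≤ M) (hAe : IsElementaryAbelian p A) (hA2 : Nat.card A = p ^ 2)

include hAM hAe hA2

theorem NoneUnique.isMaxTwo (hN : NoneUnique M p A) : IsMaxTwo p A := by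
  have hpp : p.Prime := Fact.out
  refine ⟨hAe, hA2, fun B hB hAB => (Subgroup.eq_of_le_of_card_ge hAB ?_).symm⟩
  by_contra hlt
  push Not at hlt
  rw [hA2] at hlt
  haveI := hB.1
  have hB3 : ¬ PRankLE p 2 B := fun h => absurd hlt (not_lt.mpr (card_le_of_pRankLE h le_rfl hB.1 hB.2))
  have hBA : B ≤ centralizer (A : Set G) := (Subgroup.le_centralizer B).trans (centralizer_anti hAB)
  have hAp := isPGroup_of_exp hAe.2
  have hAU : InUniqueMaximal A := uniq_transfer hG (isPGroup_of_exp hB.2) hB3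
    (uniq_of_abelian_three hG (isPGroup_of_exp hB.2) hB3) hAp
    (not_cyclic_of_elementary hAe.2 (by
      rw [hA2]
      calc p = p ^ 1 := (pow_one p).symm
        _ < _ := Nat.pow_lt_pow_right hpp.one_lt one_lt_two))
    fun h => absurd hlt (not_lt.mpr (card_le_of_pRankLE h hBA hB.1 hB.2))
  obtain ⟨A₀, hA₀, hA₀c⟩ := exists_order_prime hAp (uniq_ne_bot hG hAU)
  obtain ⟨L, hL, hle, hne⟩ := hN A₀ hA₀ hA₀c
  exact hne (uniq_eq hAU hL ((le_normalizer_of_le hAe hA₀).trans hle) hM hAM)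

theorem NoneUnique.rank_two (hN : NoneUnique M p A) : PRankLE p 2 M := by
  by_contra hr
  have hp : p ∈ sigma M := alpha_subset_sigma hG hM ⟨Fact.out, hr⟩
  have hA := hN.isMaxTwo hG hM hAM hAe hA2
  obtain ⟨P, hAP, hPM, hPp, hidx⟩ := exists_sylow_ge hAM hA.isPGroup
  have hP1 : P ≠ ⊥ := fun e => hA.ne_bot (le_bot_iff.mp (e ▸ hAP))
  have hPU : InUniqueMaximal P := uniq_of_rank_three hG hPp fun h => hr (pRankLE_of_sylow_rel hPM hPp hidx h)
  obtain ⟨z, hzP, hzo, hzc⟩ := exists_central hPp hP1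
  obtain ⟨L, hL, hle, hne⟩ := hN (zpowers z)
    (Subgroup.zpowers_le.mpr (hA.central_mem hAP (hzo ▸ pow_orderOf_eq_one z) hzc)) (by rw [Nat.card_zpowers, hzo])
  refine hne (uniq_eq hPU hL (le_trans (fun a ha => ?_) hle) hM hPM)
  refine Subgroup.centralizer_le_normalizer _ ?_
  rw [Subgroup.zpowers_eq_closure, Subgroup.centralizer_closure]
  exact Subgroup.mem_centralizer_singleton_iff.mpr (hzc a ha)

/-- The conjugates among the chosen maximal subgroups. -/
theorem NoneUnique.conj_fixed (hN : NoneUnique M p A) {A₀ : Subgroup G} (hA₀ : A₀ ≤ A)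
    (hA₀c : Nat.card A₀ = p) {g : G} (hL : normalizer (A₀ : Set G) ≤ MulAut.conj g • M)
    (hne : MulAut.conj g • M ≠ M) :
    p ∉ sigma M ∧ sigmaCore M ⊓ MulAut.conj g • M = ⊥ ∧ Group.IsNilpotent (sigmaCore M) := by
  have hA := hN.isMaxTwo hG hM hAM hAe hA2
  have hAL : A ≤ MulAut.conj g • M := (le_normalizer_of_le hAe hA₀).trans hL
  have hCA : centralizer (A : Set G) ≤ MulAut.conj g • M :=
    (centralizer_anti hA₀).trans ((Subgroup.centralizer_le_normalizer _).trans hL)
  have hgM : g ∉ M := fun hg => hne (smul_eq_self_of_mem hg)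
  have hp : p ∉ sigma M := by
    intro hp
    obtain ⟨P, hPM, hPp, hidx, hNP⟩ := exists_sigma_sylow hp
    obtain ⟨c, hc, e⟩ := conj_transitive hG hM hPM hPp hidx hNP _ A hA.isPGroup hA.ne_bot rfl 1 g
      (by rwa [map_one, one_smul]) hAL
    rw [map_one, one_smul] at e
    refine hne ?_
    have hcL : c ∈ MulAut.conj g • M := hCA hc
    rw [e, CfsgLib.mem_conj_smul_iff] at hcL
    exact e.trans (smul_eq_self_of_mem (by simpa [mul_assoc] using hcL))
  -- the hypothesis of §11, moved back to `M`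
  set g' := g⁻¹ with hg'
  have hback : ∀ {X : Subgroup G}, X ≤ MulAut.conj g • M → MulAut.conj g' • X ≤ M := fun {X} hX => by
    have := conj_smul_mono hX g'
    rwa [CfsgLib.conj_smul_mul, hg', inv_mul_cancel, map_one, one_smul] at this
  have hexc : Exc M p (MulAut.conj g' • A) (MulAut.conj g' • A₀) := by
    refine ⟨hp, hback hAL, hA.conj g', conj_smul_mono hA₀ g', by rw [CfsgLib.card_conj_smul, hA₀c],
      fun n hn => ?_⟩
    have h1 : g * n * g' ∈ MulAut.conj g • M := hL (mem_normalizer_of_conj_smul (by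
      have := congrArg (fun U : Subgroup G => MulAut.conj g • U) (conj_smul_eq_of_mem_normalizer hn)
      simp only [CfsgLib.conj_smul_mul, mul_assoc, hg', mul_inv_cancel, map_one, one_smul] at this ⊢
      exact this))
    rw [CfsgLib.mem_conj_smul_iff] at h1
    simpa [hg', mul_assoc] using h1
  refine ⟨hp, ?_, hexc.nilpotent hG hM⟩
  set Y := sigmaCore M ⊓ MulAut.conj g • M
  have h1 := sigma_ti hG hM hp (hback hAL) (hA.conj g') hexc.centralizer_le
    (g := g') (fun h => hgM (by simpa [hg'] using M.inv_mem h)) (conj_smul_mono hAM g')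
  have h2 : MulAut.conj g' • Y ≤ sigmaCore M ⊓ MulAut.conj g' • M := by
    refine le_inf (le_sigmaCore hG hM (hback inf_le_right) fun r hr hd => ?_)
      (conj_smul_mono (inf_le_left.trans (piCoreOf_le _ _)) g')
    rw [CfsgLib.card_conj_smul] at hd
    exact (sigmaCore_hall hG hM).1.2.1 r hr (hd.trans (Subgroup.card_dvd_of_le inf_le_left))
  rw [h1] at h2
  exact Subgroup.card_eq_one.mp (by rw [← CfsgLib.card_conj_smul g', le_bot_iff.mp h2, Subgroup.card_bot])

theorem NoneUnique.consequences (hN : NoneUnique M p A) :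
    p ∈ sigma M ∧ alphaCore M = ⊥ ∧ Group.IsNilpotent (sigmaCore M) := by
  haveI hMs := solvable_of_ne_top hG hM.1
  have hpp : p.Prime := Fact.out
  have hA := hN.isMaxTwo hG hM hAM hAe hA2
  haveI := hAe.1
  have hr2 := hN.rank_two hG hM hAM hAe hA2
  -- `A` centralises invariant subgroups of `M_σ` at suitable primes
  have key : ∀ {q : ℕ} [Fact q.Prime], q ∈ sigma M → q ≠ p →
      (∀ L : Subgroup G, IsCoatom L → q ∈ sigma L → ∃ g : G, L = MulAut.conj g • M) →
      ∀ Q : Subgroup G, Q ≤ sigmaCore M → IsPGroup q Q → A ≤ normalizer (Q : Set G) →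
        A ≤ centralizer (Q : Set G) := by
    intro q _ hqσ hqp hdis Q hQs hQ hAQ
    rw [Subgroup.le_centralizer_iff]
    rw [← CfsgLib.coprime_generated_by_centralizers hA.not_cyclic hAQ (by
      obtain ⟨k, hk⟩ := hQ.exists_card_eq
      rw [hA2, hk]
      exact Nat.Coprime.pow 2 k ((Nat.coprime_primes hpp Fact.out).mpr hqp.symm))]
    refine iSup₂_le fun a ha => ?_
    set X := Q ⊓ centralizer ({a} : Set G) with hX
    have hA₀ : zpowers a ≤ A := Subgroup.zpowers_le.mpr ha.1
    have hA₀c : Nat.card (zpowers a) = p := by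
      rw [Nat.card_zpowers, orderOf_eq_prime (hAe.2 a ha.1) ha.2]
    obtain ⟨L, hL, hle, hne⟩ := hN _ hA₀ hA₀c
    have hXL : X ≤ L := inf_le_right.trans (by
      rw [← Subgroup.centralizer_closure, ← Subgroup.zpowers_eq_closure]
      exact (Subgroup.centralizer_le_normalizer _).trans hle)
    have hAL : A ≤ L := (le_normalizer_of_le hAe hA₀).trans hle
    by_cases hc : ∃ g : G, L = MulAut.conj g • M
    · obtain ⟨g, rfl⟩ := hc
      obtain ⟨-, h2, -⟩ := hN.conj_fixed hG hM hAM hAe hA2 hA₀ hA₀c hle hne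
      rw [show X = ⊥ from le_bot_iff.mp (h2 ▸ le_inf (inf_le_left.trans hQs) hXL)]
      exact bot_le
    have hqL : q ∉ sigma L := fun h => hc (hdis L hL h)
    have hAX : A ≤ normalizer (X : Set G) := fun b hb => mem_normalizer_of_conj_smul (by
      have h2 : b ∈ normalizer (centralizer ({a} : Set G) : Set G) := by
        refine Subgroup.le_normalizer ?_
        exact Subgroup.mem_centralizer_singleton_iff.mpr
          (congrArg Subtype.val (hAe.1.is_comm.comm ⟨b, hb⟩ ⟨a, ha.1⟩))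
      rw [hX, Subgroup.smul_inf, conj_smul_eq_of_mem_normalizer (hAQ hb), conj_smul_eq_of_mem_normalizer h2])
    exact Subgroup.le_centralizer_iff.mp (centralizes_fixed hG hM hL hA hAL
      (fun hpL => ⟨zpowers a, hpL, hAL, hA, hA₀, hA₀c, hle⟩) hqp hqL hXL (hQ.to_le inf_le_left) hAX)
  obtain ⟨A₀, hA₀, hA₀c⟩ := exists_order_prime hA.isPGroup hA.ne_bot
  obtain ⟨L₀, hL₀, hle₀, hne₀⟩ := hN A₀ hA₀ hA₀c
  -- `α(M)` is empty
  have hα : ∀ q : ℕ, q ∉ alpha M := by
    intro q hq
    haveI := Fact.mk hq.1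
    have hqσ := alpha_subset_sigma hG hM hq
    have hqp : q ≠ p := fun e => hq.2 (e ▸ hr2)
    obtain ⟨P, hPM, hPp, hidx, -⟩ := exists_sigma_sylow hqσ
    have hP3 : ¬ PRankLE q 2 P := fun h => hq.2 (pRankLE_of_sylow_rel hPM hPp
      (fun hd => hidx (hd.trans (Dvd.intro _ (Subgroup.relIndex_mul_index hPM)))) h)
    have hdis : ∀ L : Subgroup G, IsCoatom L → q ∈ sigma L → ∃ g : G, L = MulAut.conj g • M := by
      intro L hL hqL
      obtain ⟨R, hRL, hRp, hRi, -⟩ := exists_sigma_sylow hqL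
      obtain ⟨g, hg⟩ := MulAction.exists_smul_eq G (hPp.toSylow hidx) (hRp.toSylow hRi)
      have hR : R = MulAut.conj g • P := (congrArg (fun U : Sylow q G => (U : Subgroup G)) hg).symm
      exact ⟨g, uniq_eq (uniq_conj (uniq_of_rank_three hG hPp hP3) g) hL (hR ▸ hRL) (conj_isCoatom hM g)
        (conj_smul_mono hPM g)⟩
    by_cases hcz : ∀ Q : Subgroup G, Q ≤ sigmaCore M → IsPGroup q Q → A ≤ normalizer (Q : Set G) →
        ¬ q ∣ Q.index → False
    · have hpσ : p ∈ sigma M := by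
        by_contra hp
        obtain ⟨Q, -, hQs, hQ, hQi, hAQ, -⟩ := exists_invariant_sylow hG hM hqσ hp hAM hA.isPGroup
          (bot_le : (⊥ : Subgroup G) ≤ sigmaCore M) IsPGroup.of_bot (by
            intro a _
            exact mem_normalizer_of_conj_smul (by rw [Subgroup.smul_bot]))
        exact hcz Q hQs hQ hAQ hQi
      -- inside `M_σ` the prime `p` is present: use `M_α` instead
      have hhall := isPiHall_core hG hM (π := alpha M) subset_rfl (alpha_subset_sigma hG hM)
      have hcop : (Nat.card A).Coprime (Nat.card (piCoreOf (alpha M) M)) := by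
        refine Nat.coprime_of_dvd fun r hr h1 h2 => ?_
        have := (hhall.1.2.1 r hr h2).2
        rw [card_dvd_of_pgroup hA.isPGroup hr h1] at this
        exact this hr2
      obtain ⟨Q, hQ, hAQ⟩ := CfsgLib.exists_invariant_hall ({q} : Set ℕ)
        (hAM.trans (le_normalizer_piCoreOf_self (alpha M) M)) hcop (solvable_of_le (piCoreOf_le _ _) hMs)
      have hQq : IsPGroup q Q := IsPGroup.of_card (n := (Nat.card Q).primeFactorsList.length)
        (Nat.eq_prime_pow_of_unique_prime_dvd Nat.card_pos.ne' fun {r} hr hd => hQ.2.1 r hr hd)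
      refine hcz Q (hQ.1.trans (le_sigmaCore hG hM (piCoreOf_le _ _) fun r hr hd =>
        alpha_subset_sigma hG hM (hhall.1.2.1 r hr hd))) hQq hAQ ?_
      rw [← Subgroup.relIndex_mul_index hQ.1]
      intro hd
      rcases hq.1.dvd_mul.mp hd with hd | hd
      · exact hQ.2.2 q hq.1 rfl hd
      · exact hhall.2.2 q hq.1 hq hd
    push Not at hcz
    obtain ⟨Q, hQs, hQ, hAQ, hQi, -⟩ := hcz
    have hQ3 : ¬ PRankLE q 2 Q := fun h => hP3 (pRankLE_of_sylow hQ hQi h (hPp.toSylow hidx))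
    have hc := Subgroup.le_centralizer_iff.mp (key hqσ hqp hdis Q hQs hQ hAQ)
    refine hne₀ (uniq_eq (uniq_of_rank_three hG hQ hQ3) hL₀ ?_ hM (hQs.trans (piCoreOf_le _ _)))
    exact hc.trans ((centralizer_anti hA₀).trans ((Subgroup.centralizer_le_normalizer _).trans hle₀))
  have hαc : piCore (alpha M) ↥M = ⊥ := by
    refine Subgroup.card_eq_one.mp (Nat.eq_one_iff_not_exists_prime_dvd.mpr fun r hr hd => ?_)
    exact hα r (card_piCore _ r hr hd)
  have hnil : Group.IsNilpotent (sigmaCore M) := by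
    haveI := derived_quotient_nilpotent hG hM (π := alpha M) subset_rfl
    set f := QuotientGroup.mk' (piCore (alpha M) ↥M)
    have hinj : Function.Injective f := by
      rw [← MonoidHom.ker_eq_bot_iff, QuotientGroup.ker_mk', hαc]
    have hle : (commutator ↥M).map f ≤ commutator _ := by
      rw [_root_.commutator_def, Subgroup.map_commutator]
      exact Subgroup.commutator_mono le_top le_top
    haveI := Group.nilpotent_of_mulEquiv (Subgroup.subgroupOfEquivOfLe hle)
    haveI : Group.IsNilpotent ↥(commutator ↥M) :=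
      Group.nilpotent_of_mulEquiv ((commutator ↥M).equivMapOfInjective f hinj).symm
    haveI : Group.IsNilpotent ↥(⁅M, M⁆ : Subgroup G) := Group.nilpotent_of_mulEquiv
      (((commutator ↥M).equivMapOfInjective M.subtype M.subtype_injective).trans
        (MulEquiv.subgroupCongr (Subgroup.map_subtype_commutator M)))
    exact Group.nilpotent_of_mulEquiv (Subgroup.subgroupOfEquivOfLe (core_le_derived hG hM subset_rfl :
      sigmaCore M ≤ ⁅M, M⁆))
  refine ⟨?_, by rw [alphaCore, hαc, Subgroup.map_bot], hnil⟩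
  by_contra hp
  refine not_centralizes_sigmaCore hG hM hp hAM hAe hA2 ?_
  refine le_of_invariant_parts (le_normalizer_sigmaCore hG hM hAM) (coprime_sigmaCore hG hM hp hA.isPGroup le_rfl)
    (solvable_of_le (piCoreOf_le _ _) hMs) fun r hr hd U hU hUs => ?_
  haveI := Fact.mk hr
  have hrσ := (sigmaCore_hall hG hM).1.2.1 r hr hd
  exact Subgroup.le_centralizer_iff.mp (key hrσ (fun e => hp (e ▸ hrσ))
    (fun L hL hrL => sigma_disjoint hG hM hL hnil hrσ hrL) U hUs (isPGroup_of_inv hU) hU.2.2)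

omit hAM hAe hA2

theorem exists_unique_normalizer {A : Subgroup G} (hAM : A ≤ M) (hAe : IsElementaryAbelian p A)
    (h : ¬ NoneUnique M p A) :
    ∃ A₀ : Subgroup G, A₀ ≤ A ∧ Nat.card A₀ = p ∧ normalizer (A₀ : Set G) ≤ M := by
  by_contra hall
  push Not at hall
  refine h fun A₀ hA₀ hA₀c => ?_
  have h1 : normalizer (A₀ : Set G) ≠ ⊤ := normalizer_ne_top hG (fun e => by
    rw [e, Subgroup.card_bot] at hA₀c
    exact (Fact.out : p.Prime).one_lt.ne hA₀c) (pgroup_ne_top hG ((isPGroup_of_exp hAe.2).to_le hA₀))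
  obtain ⟨L, hL, hle⟩ := exists_coatom_ge h1
  exact ⟨L, hL, hle, fun e => hall A₀ hA₀ hA₀c (e ▸ hle)⟩

/-- B–G 12.3: the centralizer of `A` lies in `M`. -/
theorem centralizer_two_le {A : Subgroup G} (hAM : A ≤ M) (hAe : IsElementaryAbelian p A)
    (hA2 : Nat.card A = p ^ 2) : centralizer (A : Set G) ≤ M := by
  have hpp : p.Prime := Fact.out
  by_cases hN : NoneUnique M p A
  swap
  · obtain ⟨A₀, hA₀, -, hle⟩ := exists_unique_normalizer hG hM hAM hAe hN
    exact (centralizer_anti hA₀).trans ((Subgroup.centralizer_le_normalizer _).trans hle)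
  have hA := hN.isMaxTwo hG hM hAM hAe hA2
  obtain ⟨hp, -, hn⟩ := hN.consequences hG hM hAM hAe hA2
  have hAs : A ≤ sigmaCore M := le_sigmaCore hG hM hAM fun r hr hd => by
    rw [card_dvd_of_pgroup hA.isPGroup hr hd]; exact hp
  set P := piCoreOf {p} (sigmaCore M) with hP
  have hAP : A ≤ P := le_piCoreOf_of_nilpotent hn hAs hA.isPGroup
  have hPp := isPGroup_piCoreOf p (sigmaCore M)
  have hMP : M ≤ normalizer (P : Set G) :=
    (le_normalizer_piCoreOf_self _ M).trans (normalizer_le_normalizer_piCoreOf _ _)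
  have hPM : P ≤ M := (piCoreOf_le _ _).trans (piCoreOf_le _ _)
  -- the subgroup `A ∩ C(P)` is normal in `M`
  set Z := A ⊓ centralizer (P : Set G) with hZ
  have hMZ : M ≤ normalizer (Z : Set G) := fun m hm => mem_normalizer_of_conj_smul (by
    refine Subgroup.eq_of_le_of_card_ge ?_ (CfsgLib.card_conj_smul m Z).ge
    rw [hZ, Subgroup.smul_inf]
    intro y hy
    have hyC : y ∈ centralizer (P : Set G) := by
      have := hy.2
      rwa [conj_smul_eq_of_mem_normalizer
        (CfsgLib.CharP.normalizer_le_normalizer_centralizer P (hMP hm))] at this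
    exact ⟨hA.central_mem hAP ((hA.conj m).1.2 y hy.1) hyC, hyC⟩)
  obtain ⟨z, hzP, hzo, hzc⟩ := exists_central hPp (fun e => hA.ne_bot (le_bot_iff.mp (e ▸ hAP)))
  have hzZ : z ∈ Z := ⟨hA.central_mem hAP (hzo ▸ pow_orderOf_eq_one z) hzc, hzc⟩
  have hZ1 : Z ≠ ⊥ := fun e => by
    rw [e, Subgroup.mem_bot] at hzZ
    rw [hzZ, orderOf_one] at hzo
    exact hpp.one_lt.ne hzo
  have hNZ : normalizer (Z : Set G) = M :=
    normalizer_eq hG hM hZ1 (fun e => hM.1 (top_le_iff.mp (e ▸ (inf_le_left.trans hAM)))) hMZ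
  exact (centralizer_anti (inf_le_left : Z ≤ A)).trans ((Subgroup.centralizer_le_normalizer _).trans hNZ.le)

/-- B–G 12.5: the hypothesis of §11 holds for `p ∈ τ₂(M)`. -/
theorem exists_exc (hp : p ∈ tau2 M) {A : Subgroup G} (hAM : A ≤ M) (hAe : IsElementaryAbelian p A)
    (hA2 : Nat.card A = p ^ 2) : ∃ A₀, Exc M p A A₀ := by
  obtain ⟨-, hσ, hr2, -⟩ := hp
  have hA : IsMaxTwo p A := ⟨hAe, hA2, fun _ h1 h2 => maximal_elementary hG hM hr2 hAM hAe hA2 h1 h2⟩
  obtain ⟨A₀, hA₀, hA₀c, hle⟩ := exists_unique_normalizer hG hM hAM hAe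
    fun hN => hσ (hN.consequences hG hM hAM hAe hA2).1
  exact ⟨A₀, hσ, hAM, hA, hA₀, hA₀c, hle⟩

/-- B–G 12.5 (d). -/
theorem sigma_meet_bot (hp : p ∈ tau2 M) {A : Subgroup G} (hAM : A ≤ M) (hAe : IsElementaryAbelian p A)
    (hA2 : Nat.card A = p ^ 2) {H : Subgroup G} (hH : IsCoatom H) (hne : H ≠ M) (hAH : A ≤ H) :
    sigmaCore M ⊓ H = ⊥ := by
  obtain ⟨A₀, hexc⟩ := exists_exc hG hM hp hAM hAe hA2
  by_cases hc : ∃ g : G, H = MulAut.conj g • M
  · obtain ⟨g, rfl⟩ := hc
    exact sigma_ti hG hM hexc.notσ hAM hexc.two hexc.centralizer_le (fun hg => hne (smul_eq_self_of_mem hg)) hAH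
  obtain ⟨P, hAP, hPM, hPp, hPidx⟩ := exists_sylow_ge hAM hexc.two.isPGroup
  obtain ⟨-, hfix, -⟩ := hexc.structure' hG hM hAP hPM hPp hPidx
  set D := sigmaCore M ⊓ H with hD
  have hAD : A ≤ normalizer (D : Set G) := fun a ha => mem_normalizer_of_conj_smul (by
    rw [hD, Subgroup.smul_inf, conj_smul_eq_of_mem_normalizer (le_normalizer_sigmaCore hG hM hAM ha),
      conj_smul_eq_of_mem_normalizer (Subgroup.le_normalizer (hAH ha))])
  rw [eq_bot_iff]
  refine le_trans ?_ hfix.le
  refine le_inf inf_le_left (le_of_invariant_parts hAD (coprime_sigmaCore hG hM hexc.notσ hexc.two.isPGroup inf_le_left)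
    (solvable_of_le inf_le_right (solvable_of_ne_top hG hH.1)) fun r hr hd U hU hUD => ?_)
  haveI := Fact.mk hr
  have hrσ := (sigmaCore_hall hG hM).1.2.1 r hr (hd.trans (Subgroup.card_dvd_of_le inf_le_left))
  refine Subgroup.le_centralizer_iff.mp (centralizes_fixed hG hM hH hexc.two hAH (fun hpH => ?_)
    (fun e => hexc.notσ (e ▸ hrσ)) (fun h => hc (sigma_disjoint hG hM hH (hexc.nilpotent hG hM) hrσ h))
    (hUD.trans inf_le_right) (isPGroup_of_inv hU) hU.2.2)
  refine exists_exc hG hH ⟨Fact.out, hpH, ?_, fun h1 => ?_⟩ hAH hAe hA2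
  · by_contra h2
    exact hpH (alpha_subset_sigma hG hH ⟨Fact.out, h2⟩)
  · have := card_le_of_pRankLE h1 hAH hAe.1 hAe.2
    rw [hA2, pow_one] at this
    have := Nat.lt_mul_self_iff.mpr (Fact.out : p.Prime).one_lt
    rw [pow_two] at *
    omega

end CfsgLib.MinSimpleOdd
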