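import Cfsg.Agent.Lib.MinSimpleOdd.TauTwo

/-!
`τ₂(M)` when the Sylow subgroups of `G` are nonabelian (B–G 12.7).
-/

set_option autoImplicit false
set_option linter.unusedSectionVars false
set_option maxHeartbeats 1000000

namespace CfsgLib.MinSimpleOdd

open Subgroup Cfsg
open scoped Pointwise commutatorElement IsMulCommutative

universe u
variable {G : Type u} [Group G] [Finite G] {p : ℕ} [Fact p.Prime]

/-- A maximal elementary subgroup that an element moves: the lines outside the fixed one form one orbit. -/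
theorem orbit_line {A K : Subgroup G} (hA : IsMaxTwo p A) (hK : IsPGroup p K) (hAK : A ≤ K)
    (hKA : K ≤ normalizer (A : Set G)) {z x n : G} (hzA : z ∈ A) (hz : orderOf z = p)
    (hzK : z ∈ centralizer (K : Set G)) (hxA : x ∈ A) (hxz : x ∉ zpowers z) (hn : n ∈ K)
    (hnx : n * x ≠ x * n) {X : Subgroup G} (hXA : X ≤ A) (hXc : Nat.card X = p) (hXz : X ≠ zpowers z) :
    ∃ l : ℤ, X = MulAut.conj (n ^ l) • zpowers x := by
  have hpp : p.Prime := Fact.out
  haveI := hA.1.1
  have hgen : ∀ c ∈ A, c ∉ zpowers z → A ≤ zpowers c ⊔ zpowers z := fun c hc hcz => by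
    have hle : zpowers c ⊔ zpowers z ≤ A := sup_le (Subgroup.zpowers_le.mpr hc) (Subgroup.zpowers_le.mpr hzA)
    refine (Subgroup.eq_of_le_of_card_ge hle ?_).ge
    obtain ⟨k, hk⟩ := (hA.isPGroup.to_le hle).exists_card_eq
    have hlt : zpowers z < zpowers c ⊔ zpowers z := lt_of_le_of_ne le_sup_right fun e =>
      hcz (e.ge (Subgroup.mem_sup_left (Subgroup.mem_zpowers c)))
    have h0 : Nat.card (zpowers z) < Nat.card ↥(zpowers c ⊔ zpowers z) :=
      Set.Finite.card_lt_card (Set.toFinite _) hlt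
    rw [Nat.card_zpowers, hz, hk] at h0
    rw [hA.2.1, hk]
    exact Nat.pow_le_pow_right hpp.pos ((Nat.pow_lt_pow_iff_right hpp.one_lt).mp (by rwa [pow_one]))
  set z₁ := x⁻¹ * (n * x * n⁻¹) with hz₁
  have hz₁A : z₁ ∈ A := mul_mem (inv_mem hxA) ((Subgroup.mem_normalizer_iff.mp (hKA hn) x).mp hxA)
  have hz₁1 : z₁ ≠ 1 := fun e => hnx (by
    rw [hz₁, inv_mul_eq_one, eq_mul_inv_iff_mul_eq, eq_comm] at e
    exact e)
  have hz₁z : z₁ ∈ zpowers z := by
    haveI : Group.IsNilpotent K := hK.isNilpotent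
    set L := ⁅A, K⁆
    have hne : L ≠ A := fun e => hA.ne_bot (CfsgLib.Transfer.eq_bot_of_le_commutator (P := K) hAK e.ge)
    have hle : L ≤ A := by
      rw [Subgroup.commutator_le]
      intro a ha k hk
      rw [commutatorElement_def, mul_assoc a, mul_assoc a]
      exact mul_mem ha (by
        have := (Subgroup.mem_normalizer_iff.mp (hKA hk) a⁻¹).mp (inv_mem ha)
        rwa [mul_assoc] at this ⊢)
    haveI : (L.subgroupOf K).Normal := by
      refine (Subgroup.normal_subgroupOf_iff_le_normalizer (hle.trans hAK)).mpr fun k hk =>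
        mem_normalizer_of_conj_smul ?_
      show MulAut.conj k • ⁅A, K⁆ = ⁅A, K⁆
      exact (Subgroup.map_commutator _ _ _).trans (by
        show ⁅MulAut.conj k • A, MulAut.conj k • K⁆ = _
        rw [conj_smul_eq_of_mem_normalizer (hKA hk), conj_smul_eq_of_mem_normalizer (Subgroup.le_normalizer hk)])
    have hmem : z₁ ∈ L := by
      have := Subgroup.commutator_mem_commutator (inv_mem hxA) hn (H₂ := K)
      rwa [commutatorElement_def, inv_inv, show x⁻¹ * n * x * n⁻¹ = z₁ by rw [hz₁]; group] at this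
    have hLne : L.subgroupOf K ≠ ⊥ := fun e => hz₁1 (by
      have : (⟨z₁, hAK hz₁A⟩ : K) ∈ L.subgroupOf K := hmem
      rw [e, Subgroup.mem_bot] at this
      exact congrArg Subtype.val this)
    obtain ⟨c, hc1⟩ := Subgroup.ne_bot_iff_exists_ne_one.mp
      (CfsgLib.inf_center_ne_bot_of_nilpotent (N := L.subgroupOf K) hLne)
    have hcL : ((c : K) : G) ∈ L := c.2.1
    have hc0 : ((c : K) : G) ≠ 1 := fun e => hc1 (Subtype.ext (Subtype.ext e))
    have hco : orderOf ((c : K) : G) = p := orderOf_eq_prime (hA.1.2 _ (hle hcL)) hc0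
    have hLc : zpowers ((c : K) : G) = L := Subgroup.eq_of_le_of_card_ge (Subgroup.zpowers_le.mpr hcL) (by
      obtain ⟨k, hk⟩ := (hA.isPGroup.to_le hle).exists_card_eq
      have h0 : Nat.card L < Nat.card A :=
        Set.Finite.card_lt_card (Set.toFinite _) (show L < A from lt_of_le_of_ne hle hne)
      rw [hA.2.1, hk] at h0
      rw [hk, Nat.card_zpowers, hco]
      calc p ^ k ≤ p ^ 1 := Nat.pow_le_pow_right hpp.pos (by
            have := (Nat.pow_lt_pow_iff_right hpp.one_lt).mp h0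
            omega)
        _ = p := pow_one p)
    have hcn : ((c : K) : G) * n = n * ((c : K) : G) :=
      (congrArg Subtype.val (Subgroup.mem_center_iff.mp c.2.2 ⟨n, hn⟩)).symm
    by_contra hcz
    have hcz' : ((c : K) : G) ∉ zpowers z := fun e => hcz ((hLc.ge.trans (Subgroup.zpowers_le.mpr e)) hmem)
    exact hnx (Subgroup.mem_centralizer_singleton_iff.mp (((hgen _ (hle hcL) hcz').trans (sup_le
      (Subgroup.zpowers_le.mpr (Subgroup.mem_centralizer_singleton_iff.mpr hcn))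
      (Subgroup.zpowers_le.mpr (Subgroup.mem_centralizer_singleton_iff.mpr (hzK n hn).symm)))) hxA)).symm
  have hz₁gen : zpowers z₁ = zpowers z := Subgroup.eq_of_le_of_card_ge (Subgroup.zpowers_le.mpr hz₁z)
    (by rw [Nat.card_zpowers, Nat.card_zpowers, hz, orderOf_eq_prime (hA.1.2 _ hz₁A) hz₁1])
  have hconj : ∀ l : ℤ, n ^ l * x * (n ^ l)⁻¹ = x * z₁ ^ l := fun l => by
    have hnz : Commute z₁ n := by
      obtain ⟨i, hi⟩ := Subgroup.mem_zpowers_iff.mp hz₁z
      rw [← hi]
      exact (show Commute z n from (hzK n hn).symm).zpow_left i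
    have h1 : x⁻¹ * n * x = z₁ * n := by rw [hz₁]; group
    have h2 : (x⁻¹ * n * x) ^ l = x⁻¹ * n ^ l * x := by simpa using conj_zpow (a := x⁻¹) (b := n) (i := l)
    rw [h1, hnz.mul_zpow] at h2
    rw [mul_inv_eq_iff_eq_mul, mul_assoc, h2]
    group
  obtain ⟨⟨a, haX⟩, hao⟩ := exists_prime_orderOf_dvd_card' (G := X) p (dvd_of_eq hXc.symm)
  rw [Subgroup.orderOf_mk] at hao
  have haX' : zpowers a = X := Subgroup.eq_of_le_of_card_ge (Subgroup.zpowers_le.mpr haX)
    (by rw [Nat.card_zpowers, hao, hXc])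
  have hxo : orderOf x = p := orderOf_eq_prime (hA.1.2 x hxA) fun e => hxz (e ▸ one_mem _)
  have haz : a ∉ zpowers z := fun h => hXz (Subgroup.eq_of_le_of_card_ge
    (haX' ▸ Subgroup.zpowers_le.mpr h) (by rw [Nat.card_zpowers, hz, hXc]))
  have hset : ((zpowers x ⊔ zpowers z₁ : Subgroup G) : Set G) = (zpowers x : Set G) * (zpowers z₁ : Set G) := by
    refine Subgroup.coe_mul_of_left_le_normalizer_right _ _ ?_
    refine le_trans ?_ (Subgroup.centralizer_le_normalizer _)
    refine Subgroup.zpowers_le.mpr ?_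
    rw [Subgroup.zpowers_eq_closure, Subgroup.centralizer_closure]
    exact Subgroup.mem_centralizer_singleton_iff.mpr (congrArg Subtype.val (mul_comm' (⟨x, hxA⟩ : A) ⟨z₁, hz₁A⟩))
  have hmem : a ∈ zpowers x ⊔ zpowers z₁ := by rw [hz₁gen]; exact hgen x hxA hxz (hXA haX)
  obtain ⟨b, hb, c, hc, e⟩ := Set.mem_mul.mp (hset ▸ hmem : a ∈ (zpowers x : Set G) * (zpowers z₁ : Set G))
  obtain ⟨j, rfl⟩ := Subgroup.mem_zpowers_iff.mp hc
  have hb1 : b ≠ 1 := fun e1 => haz (by
    rw [← e, e1, one_mul, ← hz₁gen]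
    exact Subgroup.zpow_mem_zpowers z₁ j)
  have hbA : b ∈ A := (Subgroup.zpowers_le.mpr hxA) hb
  have hbX : zpowers b = zpowers x := Subgroup.eq_of_le_of_card_ge (Subgroup.zpowers_le.mpr hb) (by
    rw [Nat.card_zpowers, Nat.card_zpowers, hxo, orderOf_eq_prime (hA.1.2 _ hbA) hb1])
  obtain ⟨m, hm⟩ := Subgroup.mem_zpowers_iff.mp (hbX.ge (Subgroup.mem_zpowers x))
  have ham : a ^ m = n ^ (j * m) * x * (n ^ (j * m))⁻¹ := by
    rw [hconj, ← e, (show Commute b (z₁ ^ j) from congrArg Subtype.val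
      (mul_comm' (⟨b, hbA⟩ : A) ⟨z₁ ^ j, zpow_mem hz₁A j⟩)).mul_zpow, hm, ← zpow_mul]
  refine ⟨j * m, (Subgroup.eq_of_le_of_card_ge ?_ ?_).symm⟩
  · rintro _ ⟨y, hy, rfl⟩
    obtain ⟨i, rfl⟩ := Subgroup.mem_zpowers_iff.mp hy
    show MulAut.conj (n ^ (j * m)) (x ^ i) ∈ X
    rw [map_zpow, MulAut.conj_apply, ← ham]
    exact zpow_mem (zpow_mem haX m) i
  · rw [CfsgLib.card_conj_smul, Nat.card_zpowers, hxo, hXc]

/-- `p`-th powers in a centraliser of `A` lie in a cyclic subgroup. -/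
theorem powers_cyclic (hG : IsMinSimpleOddOrder G) {A P : Subgroup G} (hA : IsMaxTwo p A) (S : Sylow p G)
    (hPS : P ≤ (S : Subgroup G)) (hAP : A ≤ P) (hc : A ≤ centralizer (P : Set G))
    (hS : ¬ IsMulCommutative (S : Subgroup G)) :
    ∃ C : Subgroup G, IsCyclic C ∧ ∀ a ∈ P, a ^ p ∈ C := by
  have hp2 : p ≠ 2 := p_ne_two hG.1 hA.isPGroup hA.ne_bot
  have hAS : A ≤ (S : Subgroup G) := hAP.trans hPS
  by_cases hr : PRankLE p 2 (S : Subgroup G)
  · rcases rank_two_structure hG S hr with hab | ⟨P₁, P₂, hsup, hcomm, -, -, hexp, hcyc, -⟩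
    · exact absurd hab hS
    refine ⟨P₂, hcyc, fun a ha => ?_⟩
    have hn : P₁ ≤ normalizer (P₂ : Set G) :=
      (Subgroup.le_centralizer_iff.mp fun b hb c hc => hcomm c hc b hb).trans
        (Subgroup.centralizer_le_normalizer _)
    have ha' := hPS ha
    rw [← hsup, ← SetLike.mem_coe, Subgroup.coe_mul_of_left_le_normalizer_right P₁ P₂ hn] at ha'
    obtain ⟨b, hb, c, hc', rfl⟩ := Set.mem_mul.mp ha'
    have hbp : b ^ p = 1 := congrArg Subtype.val (hexp ▸ Monoid.pow_exponent_eq_one (⟨b, hb⟩ : P₁) :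
      (⟨b, hb⟩ : P₁) ^ p = 1)
    rw [(show Commute b c from hcomm b hb c hc').mul_pow, hbp, one_mul]
    exact P₂.pow_mem hc' p
  · obtain ⟨-, x, hx, -, T, hT, hpow⟩ := narrow_data hp2 S.2 hr (E := A.subgroupOf (S : Subgroup G))
      ⟨⟨⟨fun a b => Subtype.ext (Subtype.ext (congrArg (fun t : A => (t : G))
          (hA.1.1.is_comm.comm ⟨((a : (S : Subgroup G)) : G), a.2⟩ ⟨((b : (S : Subgroup G)) : G), b.2⟩)))⟩⟩,
        fun a ha => Subtype.ext (hA.1.2 a ha)⟩
      (by rw [Nat.card_congr (Subgroup.subgroupOfEquivOfLe hAS).toEquiv, hA.2.1]) (by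
        intro B hB hle
        have h1 := hA.2.2 (B.map (S : Subgroup G).subtype) ⟨⟨⟨?_⟩⟩, ?_⟩ fun a ha => ⟨⟨a, hAS ha⟩, hle ha, rfl⟩
        · rw [← h1, Subgroup.subgroupOf, Subgroup.comap_map_eq_self_of_injective (Subgroup.subtype_injective _)]
        · rintro ⟨_, a, ha, rfl⟩ ⟨_, b, hb, rfl⟩
          exact Subtype.ext (congrArg (fun t : B => ((t : (S : Subgroup G)) : G))
            (hB.1.is_comm.comm ⟨a, ha⟩ ⟨b, hb⟩))
        · rintro _ ⟨a, ha, rfl⟩
          rw [← map_pow, hB.2 a ha, map_one])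
    haveI := hT
    refine ⟨T.map (S : Subgroup G).subtype,
      isCyclic_of_surjective (T.equivMapOfInjective _ (Subgroup.subtype_injective _)).toMonoidHom
        (MulEquiv.surjective _), fun a ha => ?_⟩
    exact ⟨(⟨a, hPS ha⟩ : (S : Subgroup G)) ^ p,
      hpow _ (Subgroup.mem_centralizer_singleton_iff.mpr (Subtype.ext (hc hx a ha))), by simp⟩

section Main

variable (hG : IsMinSimpleOddOrder G) {M : Subgroup G} (hM : IsCoatom M)

include hG hM

theorem exists_elementary_in_complement {E : Subgroup G} (hE : IsComplIn E (sigmaCore M) M)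
    (hp : p ∈ tau2 M) : ∃ B : Subgroup G, B ≤ E ∧ IsElementaryAbelian p B ∧ Nat.card B = p ^ 2 := by
  obtain ⟨-, hσ, hr2, hr1⟩ := hp
  obtain ⟨S⟩ : Nonempty (Sylow p E) := inferInstance
  set R := (S : Subgroup E).map E.subtype with hR
  have hRE : R ≤ E := Subgroup.map_subtype_le _
  have hRp : IsPGroup p R := S.2.map _
  have hMN : M ≤ normalizer (sigmaCore M : Set G) := le_normalizer_sigmaCore hG hM le_rfl
  have hidx : ¬ p ∣ R.relIndex M := by
    refine not_dvd_relIndex_of_factor hMN ?_ hE.1 (fun m hm => ?_) hRE (not_dvd_of_sylow E S)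
    · refine Nat.coprime_of_dvd fun r hr h1 h2 => hσ ?_
      rw [← (Nat.prime_dvd_prime_iff_eq hr Fact.out).mp h2]
      exact (sigmaCore_hall hG hM).1.2.1 r hr h1
    · obtain ⟨a, ha, b, hb, rfl⟩ := hE.2.2.2 m hm
      exact mul_mem (Subgroup.mem_sup_right ha) (Subgroup.mem_sup_left hb)
  obtain ⟨B, hBR, hBc, hBe, hBcard⟩ :=
    exists_elementary_of_not_pRankLE (fun h => hr1 (pRankLE_of_sylow_rel (hRE.trans hE.1) hRp hidx h))
  refine ⟨B, hBR.trans hRE, ⟨hBc, hBe⟩, ?_⟩
  obtain ⟨k, hk⟩ := (hRp.to_le hBR).exists_card_eq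
  have h2 := card_le_of_pRankLE hr2 ((hBR.trans hRE).trans hE.1) hBc hBe
  rw [hk] at hBcard h2 ⊢
  congr 1
  exact le_antisymm ((Nat.pow_le_pow_iff_right (Fact.out : p.Prime).one_lt).mp h2)
    ((Nat.pow_lt_pow_iff_right (Fact.out : p.Prime).one_lt).mp hBcard)

/-- Two primes of `τ₂(M)`: some Sylow `p`-subgroup of `G` lies in `M`. -/
theorem exists_sylow_le_of_two {q : ℕ} [Fact q.Prime] (hp : p ∈ tau2 M) (hq : q ∈ tau2 M) (hqp : q ≠ p)
    {A B : Subgroup G} (hAM : A ≤ M) (hA : IsElementaryAbelian p A) (hA2 : Nat.card A = p ^ 2)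
    (hBM : B ≤ M) (hB : IsElementaryAbelian q B) (hB2 : Nat.card B = q ^ 2)
    (hAB : A ≤ centralizer (B : Set G)) :
    ∃ S : Sylow p G, A ≤ (S : Subgroup G) ∧ (S : Subgroup G) ≤ centralizer (B : Set G) ∧
      (S : Subgroup G) ≤ M := by
  obtain ⟨A₀, hexA⟩ := exists_exc hG hM hp hAM hA hA2
  obtain ⟨B₀, hexB⟩ := exists_exc hG hM hq hBM hB hB2
  obtain ⟨Q, hQ, hBQ⟩ := exists_max_ge (show B ∈ invSubgroups ⊤ A {q} from
    ⟨le_top, fun r hr hd => card_dvd_of_pgroup hexB.two.isPGroup hr hd,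
      hAB.trans (Subgroup.centralizer_le_normalizer _)⟩)
  have hQp := isPGroup_of_inv hQ.1
  have hQ1 : Q ≠ ⊥ := fun e => hexB.two.ne_bot (le_bot_iff.mp (e ▸ hBQ))
  have hq2 : q ≠ 2 := p_ne_two hG.1 hexB.two.isPGroup hexB.two.ne_bot
  have hne : Q ⊓ centralizer (A : Set G) ≠ ⊥ := fun e => hexB.two.ne_bot
    (le_bot_iff.mp (e ▸ le_inf hBQ (Subgroup.le_centralizer_iff.mp hAB)))
  obtain ⟨S, hAS, -, hd⟩ := exists_sylow_derived_inv hG hexA.two hqp hQ hne
  have hnar : IsNarrow q Q := by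
    by_cases hr : PRankLE q 2 Q
    · exact Or.inl fun X hX he => by
        rw [← Subgroup.card_map_of_injective (K := X) Q.subtype_injective]
        exact card_le_of_pRankLE hr (Subgroup.map_subtype_le X) (Subgroup.map_isMulCommutative _ _) (by
          rintro _ ⟨b, hb, rfl⟩
          rw [← map_pow, he b hb, map_one])
    refine narrow_of_maximal hq2 hQp hr (E := B.subgroupOf Q)
      ⟨⟨⟨fun a b => Subtype.ext (Subtype.ext (congrArg (fun t : B => (t : G))
          (hB.1.is_comm.comm ⟨((a : Q) : G), a.2⟩ ⟨((b : Q) : G), b.2⟩)))⟩⟩,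
        fun a ha => Subtype.ext (hB.2 a ha)⟩
      (by rw [Nat.card_congr (Subgroup.subgroupOfEquivOfLe hBQ).toEquiv, hB2]) ?_
    intro C hC hle
    have h1 := hexB.two.2.2 (C.map Q.subtype) ⟨⟨⟨?_⟩⟩, ?_⟩ fun a ha => ⟨⟨a, hBQ ha⟩, hle ha, rfl⟩
    · rw [← h1, Subgroup.subgroupOf, Subgroup.comap_map_eq_self_of_injective (Subgroup.subtype_injective _)]
    · rintro ⟨_, a, ha, rfl⟩ ⟨_, b, hb, rfl⟩
      exact Subtype.ext (congrArg (fun t : C => ((t : Q) : G)) (hC.1.is_comm.comm ⟨a, ha⟩ ⟨b, hb⟩))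
    · rintro _ ⟨a, ha, rfl⟩
      rw [← map_pow, hC.2 a ha, map_one]
  have hc := (narrow_centralized hG S.2 hqp hq2 hQp hQ1 hnar hd).trans (centralizer_anti hBQ)
  exact ⟨S, hAS, hc, hc.trans hexB.centralizer_le⟩

variable {E A : Subgroup G} (hE : IsComplIn E (sigmaCore M) M) (hp : p ∈ tau2 M)
  (hS : ∀ S : Sylow p G, ¬ IsMulCommutative (S : Subgroup G)) (hAE : A ≤ E)
  (hA : IsElementaryAbelian p A) (hA2 : Nat.card A = p ^ 2)

include hE hp hS hAE hA hA2

/-- B–G 12.7 (a). -/
theorem tau2_unique (hnormal : ∀ {r : ℕ} [Fact r.Prime] {B : Subgroup G}, r ∈ tau2 M → B ≤ E →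
    IsElementaryAbelian r B → Nat.card B = r ^ 2 → E ≤ normalizer (B : Set G)) : tau2 M = {p} := by
  refine Set.Subset.antisymm (fun q hq => ?_) (Set.singleton_subset_iff.mpr hp)
  haveI := Fact.mk hq.1
  by_contra hqp
  rw [Set.mem_singleton_iff] at hqp
  obtain ⟨B, hBE, hB, hB2⟩ := exists_elementary_in_complement hG hM hE hq
  have hcop : (Nat.card A).Coprime (Nat.card B) := by
    rw [hA2, hB2]
    exact Nat.Coprime.pow 2 2 ((Nat.coprime_primes Fact.out hq.1).mpr (Ne.symm hqp))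
  have hdisj := disjoint_iff.mp (Subgroup.disjoint_of_coprime_natCard hcop)
  have hAB : A ≤ centralizer (B : Set G) := fun a ha b hb => by
    have h1 : b * a * b⁻¹ * a⁻¹ ∈ A :=
      mul_mem ((Subgroup.mem_normalizer_iff.mp (hnormal hp hAE hA hA2 (hBE hb)) a).mp ha) (inv_mem ha)
    have h2 : b * a * b⁻¹ * a⁻¹ ∈ B := by
      rw [show b * a * b⁻¹ * a⁻¹ = b * (a * b⁻¹ * a⁻¹) by group]
      exact mul_mem hb ((Subgroup.mem_normalizer_iff.mp (hnormal hq hBE hB hB2 (hAE ha)) b⁻¹).mp (inv_mem hb))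
    have h3 := hdisj.le ⟨h1, h2⟩
    rwa [Subgroup.mem_bot, mul_inv_eq_one, mul_inv_eq_iff_eq_mul] at h3
  obtain ⟨S, hAS, -, hSM⟩ := exists_sylow_le_of_two hG hM hp hq hqp (hAE.trans hE.1) hA hA2
    (hBE.trans hE.1) hB hB2 hAB
  obtain ⟨A₀, hexA⟩ := exists_exc hG hM hp (hAE.trans hE.1) hA hA2
  exact hS S (hexA.abelian hG hM hAS hSM S.2 fun hd =>
    S.not_dvd_index (hd.trans (Dvd.intro _ (Subgroup.relIndex_mul_index hSM))))

/-- B–G 12.7 (b), (c). -/
theorem nonabelian_structure :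
    ∃ A₀ : Subgroup G, A₀ = A ⊓ centralizer (sigmaCore M : Set G) ∧ Nat.card A₀ = p ∧
      fittingOf M = sigmaCore M ⊔ A₀ ∧
      ∀ X : Subgroup G, X ≤ A → Nat.card X = p → X ≠ A₀ →
        sigmaCore M ⊓ centralizer (X : Set G) = ⊥ ∧ ¬ centralizer (X : Set G) ≤ M := by
  have hpp : p.Prime := Fact.out
  have hAM : A ≤ M := hAE.trans hE.1
  obtain ⟨A₁, h⟩ := exists_exc hG hM hp hAM hA hA2
  haveI := hA.1
  have hMN : M ≤ normalizer (sigmaCore M : Set G) := le_normalizer_sigmaCore hG hM le_rfl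
  obtain ⟨P, hAP, hPM, hPp, hPi⟩ := exists_sylow_ge hAM h.two.isPGroup
  haveI hPab := h.abelian hG hM hAP hPM hPp hPi
  obtain ⟨hom, hfix, -⟩ := h.structure' hG hM hAP hPM hPp hPi
  obtain ⟨S, hPS⟩ := hPp.exists_le_sylow
  have hSM : (S : Subgroup G) ⊓ M = P :=
    eq_of_sylow hPi (le_inf hPS hPM) inf_le_right (S.2.to_le inf_le_left)
  have hne : P ≠ (S : Subgroup G) := fun e => hS S (e ▸ hPab)
  obtain ⟨g, ⟨hgS, hgP⟩, hgP'⟩ := SetLike.exists_of_lt (Transitivity.inf_normalizer_lt_qGroup S.2 hPS hne)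
  have hgM : g ∉ M := fun hg => hgP' (hSM.le ⟨hgS, hg⟩)
  set K := (S : Subgroup G) ⊓ normalizer (A : Set G) with hKdef
  have hAS : A ≤ (S : Subgroup G) := hAP.trans hPS
  have hAK : A ≤ K := le_inf hAS Subgroup.le_normalizer
  have hgK : g ∈ K := ⟨hgS, mem_normalizer_of_conj_smul (Subgroup.eq_of_le_of_card_ge (fun y hy =>
    (hom y (((conj_smul_mono hAP g).trans (conj_smul_eq_of_mem_normalizer hgP).le) hy)).mp
      ((h.two.conj g).1.2 y hy)) (CfsgLib.card_conj_smul g A).ge)⟩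
  obtain ⟨z, hzS, hzo, hzc⟩ := exists_central S.2 (fun e => h.two.ne_bot (le_bot_iff.mp (e ▸ hAS)))
  have hzA : z ∈ A := h.two.central_mem hAS (hzo ▸ pow_orderOf_eq_one z) hzc
  have hzK : z ∈ centralizer (K : Set G) := centralizer_anti inf_le_left hzc
  obtain ⟨⟨x, hxA₁⟩, hxo⟩ := exists_prime_orderOf_dvd_card' (G := A₁) p (dvd_of_eq h.card0.symm)
  rw [Subgroup.orderOf_mk] at hxo
  have hxA : x ∈ A := h.le0 hxA₁
  have hA₁x : zpowers x = A₁ := Subgroup.eq_of_le_of_card_ge (Subgroup.zpowers_le.mpr hxA₁)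
    (by rw [Nat.card_zpowers, hxo, h.card0])
  have hCA₁ : centralizer (A₁ : Set G) ≤ M := (Subgroup.centralizer_le_normalizer _).trans h.norm
  have hgz : g * z = z * g := hzc g hgS
  have hgx : g * x ≠ x * g := fun e => hgM (hCA₁ (by
    rw [← hA₁x, Subgroup.zpowers_eq_closure, Subgroup.centralizer_closure]
    exact Subgroup.mem_centralizer_singleton_iff.mpr e))
  have hxz : x ∉ zpowers z := fun hx => hgx (by
    obtain ⟨i, rfl⟩ := Subgroup.mem_zpowers_iff.mp hx
    exact ((show Commute g z from hgz).zpow_right i).eq)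
  have hgS' : ∀ l : ℤ, g ^ l ∈ (S : Subgroup G) := fun l => (S : Subgroup G).zpow_mem hgS l
  have hcone : ∀ y : G, zpowers y ≤ A → centralizer (zpowers y : Set G) = centralizer ({y} : Set G) := fun y _ => by
    rw [Subgroup.zpowers_eq_closure, Subgroup.centralizer_closure]
  -- the fixed line
  have hzfix : sigmaCore M ⊓ centralizer ({z} : Set G) = ⊥ := by
    by_contra hD1
    set D := sigmaCore M ⊓ centralizer ({z} : Set G) with hD
    obtain ⟨r, hr, hrd⟩ := Nat.exists_prime_and_dvd fun e => hD1 (Subgroup.card_eq_one.mp e)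
    haveI := Fact.mk hr
    have hrσ : r ∈ sigma M := (sigmaCore_hall hG hM).1.2.1 r hr (hrd.trans (Subgroup.card_dvd_of_le inf_le_left))
    have hPz : P ≤ centralizer ({z} : Set G) := fun a ha =>
      Subgroup.mem_centralizer_singleton_iff.mpr (hzc a (hPS ha))
    have hPD : P ≤ normalizer (D : Set G) := fun a ha => mem_normalizer_of_conj_smul (by
      rw [hD, Subgroup.smul_inf, conj_smul_eq_of_mem_normalizer (hMN (hPM ha)),
        conj_smul_eq_of_mem_normalizer (Subgroup.le_normalizer (hPz ha))])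
    obtain ⟨U, hU, hUP⟩ := CfsgLib.exists_invariant_hall ({r} : Set ℕ) hPD
      (coprime_sigmaCore hG hM h.notσ hPp inf_le_left)
      (solvable_of_le ((inf_le_left : D ≤ _).trans (piCoreOf_le _ _)) (solvable_of_ne_top hG hM.1))
    have hUq : IsPGroup r U := IsPGroup.of_card (n := (Nat.card U).primeFactorsList.length)
      (Nat.eq_prime_pow_of_unique_prime_dvd Nat.card_pos.ne' fun {t} ht htd => hU.2.1 t ht htd)
    have hU1 : U ≠ ⊥ := fun e => hU.2.2 r hr rfl (by rwa [e, Subgroup.relIndex_bot_left])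
    obtain ⟨Q, hUQ, hQs, hQ, hQi, hPQ, -⟩ := exists_invariant_sylow hG hM hrσ h.notσ hPM hPp
      (hU.1.trans inf_le_left) hUq hUP
    have hQ₂ : IsPGroup r ↥(MulAut.conj g • Q) := IsPGroup.of_card (n := hQ.exists_card_eq.choose) (by
      rw [CfsgLib.card_conj_smul]; exact hQ.exists_card_eq.choose_spec)
    have hS₂ : P ≤ normalizer ((MulAut.conj g • Q : Subgroup G) : Set G) := le_normalizer_smul (by
      rw [conj_smul_eq_of_mem_normalizer (inv_mem hgP)]; exact hPQ)
    have hH : centralizer ({z} : Set G) ≠ ⊤ := fun e => by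
      have h1 : z ∈ Subgroup.center G := Subgroup.mem_center_iff.mpr fun y =>
        Subgroup.mem_centralizer_singleton_iff.mp (e.ge (Subgroup.mem_top y))
      rw [center_eq_bot hG, Subgroup.mem_bot] at h1
      rw [h1, orderOf_one] at hzo
      exact hpp.one_lt.ne hzo
    have hgU : MulAut.conj g • U ≤ centralizer ({z} : Set G) :=
      (conj_smul_mono (hU.1.trans inf_le_right) g).trans
        (conj_smul_eq_of_mem_normalizer (Subgroup.le_normalizer (Subgroup.mem_centralizer_singleton_iff.mpr hgz))).le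
    have hgU1 : MulAut.conj g • U ≠ ⊥ := fun e => hU1 (Subgroup.card_eq_one.mp (by
      rw [← CfsgLib.card_conj_smul g, e, Subgroup.card_bot]))
    have hle := le_of_meet hG hM hrσ h.notσ h.two hPp hAP h.centralizer_le (hQs.trans (piCoreOf_le _ _)) hQ hQi hPQ
      hQ₂ (by rwa [index_conj_smul]) hS₂ hH hPz
      (fun e => hU1 (le_bot_iff.mp (e ▸ le_inf (hU.1.trans inf_le_right) hUQ)))
      (fun e => hgU1 (le_bot_iff.mp (e ▸ le_inf hgU (conj_smul_mono hUQ g))))
    exact hgM (mem_of_sigma_sylow hG hM hrσ hle hQ₂ (by rwa [index_conj_smul])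
      (fun e => hgU1 (le_bot_iff.mp (e ▸ conj_smul_mono hUQ g)))
      (conj_smul_mono (hQs.trans (piCoreOf_le _ _)) g))
  -- every line except `A₁` is fixed-point-free
  have hall : ∀ X : Subgroup G, X ≤ A → Nat.card X = p → X ≠ A₁ →
      sigmaCore M ⊓ centralizer (X : Set G) = ⊥ := by
    intro X hXA hXc hX
    by_cases hXz : X = zpowers z
    · rw [hXz, hcone z (Subgroup.zpowers_le.mpr hzA)]
      exact hzfix
    obtain ⟨l, hl⟩ := orbit_line h.two (S.2.to_le inf_le_left) hAK inf_le_right hzA hzo hzK hxA hxz hgK hgx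
      hXA hXc hXz
    have hlM : g ^ l ∉ M := fun hm => hX (by
      have hlP : g ^ l ∈ P := hSM.le ⟨hgS' l, hm⟩
      rw [hl, hA₁x]
      exact conj_smul_eq_of_mem_normalizer (Subgroup.centralizer_le_normalizer _ fun a ha =>
        congrArg Subtype.val (mul_comm' (⟨a, hAP (h.le0 ha)⟩ : P) ⟨g ^ l, hlP⟩)))
    rw [hl, hA₁x]
    refine h.fpf hG hM hlM ?_
    have : MulAut.conj (g ^ l) • A = A :=
      conj_smul_eq_of_mem_normalizer ((normalizer (A : Set G)).zpow_mem hgK.2 l)
    rw [← this]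
    exact conj_smul_mono hAM _
  have hcen : sigmaCore M ≤ centralizer (A₁ : Set G) := by
    rw [← CfsgLib.coprime_generated_by_centralizers h.two.not_cyclic (hAM.trans hMN)
      (coprime_sigmaCore hG hM h.notσ h.two.isPGroup le_rfl)]
    refine iSup₂_le fun a ha => ?_
    have hac : Nat.card (zpowers a) = p := by rw [Nat.card_zpowers, orderOf_eq_prime (hA.2 a ha.1) ha.2]
    rw [← hcone a (Subgroup.zpowers_le.mpr ha.1)]
    by_cases e : zpowers a = A₁
    · rw [e]; exact inf_le_right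
    · rw [hall _ (Subgroup.zpowers_le.mpr ha.1) hac e]; exact bot_le
  have hA₁eq : A ⊓ centralizer (sigmaCore M : Set G) = A₁ := by
    refine (Subgroup.eq_of_le_of_card_ge (le_inf h.le0 (Subgroup.le_centralizer_iff.mp hcen)) ?_).symm
    obtain ⟨k, hk⟩ := (h.two.isPGroup.to_le (inf_le_left : A ⊓ centralizer (sigmaCore M : Set G) ≤ A)).exists_card_eq
    have hlt : A ⊓ centralizer (sigmaCore M : Set G) < A := lt_of_le_of_ne inf_le_left fun e => by
      refine sigmaCore_ne_bot hG hM (le_bot_iff.mp ?_)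
      rw [← hfix]
      exact le_inf le_rfl (Subgroup.le_centralizer_iff.mp (e.ge.trans inf_le_right))
    have h0 : Nat.card ↥(A ⊓ centralizer (sigmaCore M : Set G)) < Nat.card A :=
      Set.Finite.card_lt_card (Set.toFinite _) hlt
    rw [hk, hA2] at h0
    rw [hk, h.card0]
    calc p ^ k ≤ p ^ 1 := Nat.pow_le_pow_right hpp.pos (by
          have := (Nat.pow_lt_pow_iff_right hpp.one_lt).mp h0
          omega)
      _ = p := pow_one p
  refine ⟨A₁, hA₁eq.symm, h.card0, ?_, fun X hXA hXc hX => ⟨hall X hXA hXc hX, fun hle => ?_⟩⟩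
  · -- the Fitting subgroup
    have hMA : M ≤ normalizer (A₁ : Set G) := fun m hm => by
      obtain ⟨e, he, s, hs, rfl⟩ := hE.2.2.2 m hm
      refine mul_mem ?_ (Subgroup.centralizer_le_normalizer _ (hcen hs))
      have heA : e ∈ normalizer (A : Set G) := mem_normalizer_of_conj_smul (by
        refine Subgroup.eq_of_le_of_card_ge ?_ (CfsgLib.card_conj_smul e A).ge
        intro y hy
        have h1 : y ∈ sigmaCore M ⊔ A := by
          obtain ⟨a, ha, rfl⟩ := hy
          exact (Subgroup.mem_normalizer_iff.mp (h.normal hG hM (hE.1 he)) a).mp (Subgroup.mem_sup_right ha)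
        obtain ⟨t, ht, a, ha, rfl⟩ := Set.mem_mul.mp
          ((Subgroup.coe_mul_of_right_le_normalizer_left (sigmaCore M) A (hAM.trans hMN)) ▸ h1 :
            y ∈ (sigmaCore M : Set G) * (A : Set G))
        have hyE : t * a ∈ E :=
          ((conj_smul_mono hAE e).trans (conj_smul_eq_of_mem_normalizer (Subgroup.le_normalizer he)).le) hy
        have := hE.2.2.1.le ⟨(Subgroup.mul_mem_cancel_right E (hAE ha)).mp hyE, ht⟩
        rw [Subgroup.mem_bot] at this
        rwa [this, one_mul])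
      refine mem_normalizer_of_conj_smul ?_
      rw [← hA₁eq, Subgroup.smul_inf, conj_smul_eq_of_mem_normalizer heA,
        conj_smul_eq_of_mem_normalizer
          (CfsgLib.CharP.normalizer_le_normalizer_centralizer _ (hMN (hE.1 he)))]
    have hF := fittingOf_nilpotent M
    have hFM := fittingOf_le M
    have hsF : sigmaCore M ≤ fittingOf M :=
      le_fittingOf_of_normal (piCoreOf_le _ _) hMN (h.nilpotent hG hM)
    refine le_antisymm ?_ (sup_le hsF (le_fittingOf_of_normal (h.le0.trans hAM) hMA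
      (h.two.isPGroup.to_le h.le0).isNilpotent))
    refine Subgroup.relIndex_eq_one.mp (Nat.eq_one_iff_not_exists_prime_dvd.mpr fun r hr hd => ?_)
    haveI := Fact.mk hr
    obtain ⟨T⟩ : Nonempty (Sylow r ↥(fittingOf M)) := inferInstance
    set R := (T : Subgroup ↥(fittingOf M)).map (fittingOf M).subtype with hR
    have hRF : R ≤ fittingOf M := Subgroup.map_subtype_le _
    suffices hle : R ≤ sigmaCore M ⊔ A₁ by
      refine not_dvd_of_sylow (fittingOf M) T (hd.trans ?_)
      rw [← Subgroup.relIndex_mul_relIndex R ((sigmaCore M ⊔ A₁) ⊓ fittingOf M) (fittingOf M) (le_inf hle hRF)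
        inf_le_right, Subgroup.inf_relIndex_right]
      exact Dvd.intro_left _ rfl
    have hRr : IsPGroup r R := T.2.map _
    by_cases hrσ : r ∈ sigma M
    · exact (le_sigmaCore hG hM (hRF.trans hFM) fun t ht htd => by
        rw [card_dvd_of_pgroup hRr ht htd]; exact hrσ).trans le_sup_left
    rcases eq_or_ne R ⊥ with hR1 | hR1
    · rw [hR1]; exact bot_le
    set L := piCoreOf {r} (fittingOf M) with hL
    have hRL : R ≤ L := le_piCoreOf_of_nilpotent hF hRF hRr
    have hLp := isPGroup_piCoreOf r (fittingOf M)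
    have hLF : L ≤ fittingOf M := piCoreOf_le _ _
    have hLM : L ≤ M := hLF.trans hFM
    have hML : M ≤ normalizer (L : Set G) :=
      (le_normalizer_fittingOf M).trans (normalizer_le_normalizer_piCoreOf _ _)
    have hLC : L ≤ centralizer (sigmaCore M : Set G) := fun y hy s hs =>
      CfsgLib.ProductNilpotent.commute_of_coprime hF (hsF hs) (hLF hy)
        ((coprime_sigmaCore hG hM hrσ hLp le_rfl).symm.coprime_dvd_left (Subgroup.orderOf_dvd_natCard _ hs)
          |>.coprime_dvd_right (Subgroup.orderOf_dvd_natCard _ hy))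
    have hL1 : L ≠ ⊥ := fun e => hR1 (le_bot_iff.mp (e ▸ hRL))
    have hr2 : r ≠ 2 := p_ne_two hG.1 hLp hL1
    have hLcy : IsCyclic L := by
      by_contra hnc
      obtain ⟨B, hBL, -, hB, hB2⟩ := exists_elementary_two hr2 hLp hnc
      exact not_centralizes_sigmaCore hG hM hrσ (hBL.trans hLM) hB hB2
        (Subgroup.le_centralizer_iff.mp (hBL.trans hLC))
    obtain ⟨Y, hYL, hYc⟩ := exists_order_prime hLp hL1
    haveI := hLcy
    have hMY : M ≤ normalizer (Y : Set G) := fun m hm => mem_normalizer_of_conj_smul (by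
      have hle : MulAut.conj m • Y ≤ L := (conj_smul_mono hYL m).trans (conj_smul_eq_of_mem_normalizer (hML hm)).le
      have e : (MulAut.conj m • Y).subgroupOf L = Y.subgroupOf L := CfsgLib.PowerGraph.subgroup_eq_of_card (by
        rw [Nat.card_congr (Subgroup.subgroupOfEquivOfLe hle).toEquiv,
          Nat.card_congr (Subgroup.subgroupOfEquivOfLe hYL).toEquiv, CfsgLib.card_conj_smul])
      have := congrArg (fun U : Subgroup L => U.map L.subtype) e
      rwa [Subgroup.map_subgroupOf_eq_of_le hle, Subgroup.map_subgroupOf_eq_of_le hYL] at this)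
    have hY1 : Y ≠ ⊥ := fun e => by
      rw [e, Subgroup.card_bot] at hYc
      exact hr.one_lt.ne hYc
    have hNY : normalizer (Y : Set G) = M :=
      normalizer_eq hG hM hY1 (fun e => hM.1 (top_le_iff.mp (e ▸ hYL.trans hLM))) hMY
    obtain ⟨⟨hrr2, hrr1⟩, -⟩ := order_p_normalizer_le hG hM hrσ hYc hNY.le
    have hrp : r = p := by
      have := tau2_unique hG hM hE hp hS hAE hA hA2 (fun {s} _ {B} hs hBE hB hB2 => by
        obtain ⟨B₀, hexc⟩ := exists_exc hG hM hs (hBE.trans hE.1) hB hB2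
        intro e he
        refine mem_normalizer_of_conj_smul (Subgroup.eq_of_le_of_card_ge ?_ (CfsgLib.card_conj_smul e B).ge)
        intro y hy
        have h1 : y ∈ sigmaCore M ⊔ B := by
          obtain ⟨a, ha, rfl⟩ := hy
          exact (Subgroup.mem_normalizer_iff.mp (hexc.normal hG hM (hE.1 he)) a).mp (Subgroup.mem_sup_right ha)
        obtain ⟨t, ht, a, ha, rfl⟩ := Set.mem_mul.mp
          ((Subgroup.coe_mul_of_right_le_normalizer_left (sigmaCore M) B ((hBE.trans hE.1).trans hMN)) ▸ h1 :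
            y ∈ (sigmaCore M : Set G) * (B : Set G))
        have hyE : t * a ∈ E :=
          ((conj_smul_mono hBE e).trans (conj_smul_eq_of_mem_normalizer (Subgroup.le_normalizer he)).le) hy
        have := hE.2.2.1.le ⟨(Subgroup.mul_mem_cancel_right E (hBE ha)).mp hyE, ht⟩
        rw [Subgroup.mem_bot] at this
        rwa [this, one_mul])
      exact this.le (show r ∈ tau2 M from ⟨hr, hrσ, hrr2, hrr1⟩)
    subst hrp
    -- `L` has order `p`
    have hLP : L ≤ P := le_sup_right.trans (eq_of_sylow hPi le_sup_left (sup_le hPM hLM)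
      (hPp.to_sup_of_normal_right' hLp (hPM.trans hML))).le
    have hΩ : ∀ y ∈ L, y ^ r = 1 → y ∈ A₁ := fun y hy hyp =>
      hA₁eq.le ⟨(hom y (hLP hy)).mp hyp, hLC hy⟩
    obtain ⟨C, hC, hpow⟩ := powers_cyclic hG h.two S hPS hAP (fun a ha b hb =>
      congrArg Subtype.val (mul_comm' (⟨b, hb⟩ : P) ⟨a, hAP ha⟩)) (hS S)
    have hexp : ∀ y ∈ L, y ^ r = 1 := by
      by_contra hne
      push Not at hne
      obtain ⟨y, hy, hyp⟩ := hne
      obtain ⟨k, hk⟩ := hPp ⟨y, hLP hy⟩
      have hk' : y ^ r ^ k = 1 := congrArg Subtype.val hk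
      -- a power of `y` of order `r` is an `r`-th power
      obtain ⟨j, hj, hj'⟩ : ∃ j, (y ^ r ^ (j + 1)) ^ r = 1 ∧ y ^ r ^ (j + 1) ≠ 1 := by
        have hex : ∃ k, y ^ r ^ k = 1 := ⟨k, hk'⟩
        classical
        have h0 := Nat.find_spec hex
        have hk2 : 2 ≤ Nat.find hex := by
          by_contra hlt
          push Not at hlt
          interval_cases h : Nat.find hex
          · rw [pow_zero, pow_one] at h0
            exact hyp (by rw [h0, one_pow])
          · rw [pow_one] at h0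
            exact hyp h0
        refine ⟨Nat.find hex - 2, ?_, fun e => ?_⟩
        · rw [← pow_mul, ← pow_succ, show Nat.find hex - 2 + 1 + 1 = Nat.find hex by omega]
          exact h0
        · exact Nat.find_min hex (show Nat.find hex - 2 + 1 < Nat.find hex by omega) e
      set w := y ^ r ^ (j + 1) with hw
      have hwA₁ : w ∈ A₁ := hΩ w (L.pow_mem hy _) hj
      have hwC : w ∈ C := by
        rw [hw, pow_succ, pow_mul]
        exact hpow _ (P.pow_mem (hLP hy) _)
      have hgwC : MulAut.conj g w ∈ C := by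
        rw [hw, pow_succ, pow_mul, map_pow]
        exact hpow _ ((Subgroup.mem_normalizer_iff.mp hgP _).mp (P.pow_mem (hLP hy) _))
      have hwA : w ∈ A := h.le0 hwA₁
      have hwo : orderOf w = r := orderOf_eq_prime hj hj'
      have hwA₁' : zpowers w = zpowers x := by
        rw [hA₁x]
        exact Subgroup.eq_of_le_of_card_ge (Subgroup.zpowers_le.mpr hwA₁) (by rw [Nat.card_zpowers, hwo, h.card0])
      haveI := hC
      have e : zpowers (⟨MulAut.conj g w, hgwC⟩ : C) = zpowers (⟨w, hwC⟩ : C) := by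
        refine CfsgLib.PowerGraph.subgroup_eq_of_card ?_
        rw [Nat.card_zpowers, Nat.card_zpowers, Subgroup.orderOf_mk, Subgroup.orderOf_mk, MulEquiv.orderOf_eq]
      obtain ⟨i, hi⟩ := Subgroup.mem_zpowers_iff.mp (e.le (Subgroup.mem_zpowers _))
      have hi' : w ^ i = MulAut.conj g w := congrArg Subtype.val hi
      refine hgM (h.norm (mem_normalizer_of_conj_smul (Subgroup.eq_of_le_of_card_ge ?_
        (CfsgLib.card_conj_smul g A₁).ge)))
      rw [← hA₁x, ← hwA₁']
      rintro _ ⟨v, hv, rfl⟩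
      obtain ⟨t, rfl⟩ := Subgroup.mem_zpowers_iff.mp hv
      show MulAut.conj g (w ^ t) ∈ zpowers w
      rw [map_zpow, ← hi', ← zpow_mul]
      exact Subgroup.zpow_mem_zpowers w _
    exact (hRL.trans fun y hy => hΩ y hy (hexp y hy)).trans le_sup_right
  · -- the centraliser of `X` is not in `M`
    by_cases hXz : X = zpowers z
    · refine hgM (hle ?_)
      rw [hXz, hcone z (Subgroup.zpowers_le.mpr hzA)]
      exact Subgroup.mem_centralizer_singleton_iff.mpr hgz
    obtain ⟨l, hl⟩ := orbit_line h.two (S.2.to_le inf_le_left) hAK inf_le_right hzA hzo hzK hxA hxz hgK hgx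
      hXA hXc hXz
    rw [hA₁x] at hl
    set w := g ^ l
    have hlM : w ∉ M := fun hm => hX (by
      have hlP : w ∈ P := hSM.le ⟨hgS' l, hm⟩
      rw [hl]
      exact conj_smul_eq_of_mem_normalizer (Subgroup.centralizer_le_normalizer _ fun a ha =>
        congrArg Subtype.val (mul_comm' (⟨a, hAP (h.le0 ha)⟩ : P) ⟨w, hlP⟩)))
    have h1 : MulAut.conj w • sigmaCore M ≤ M := by
      refine le_trans ?_ hle
      rintro _ ⟨s, hs, rfl⟩ a ha
      rw [hl] at ha
      obtain ⟨b, hb, rfl⟩ := ha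
      show MulAut.conj w b * MulAut.conj w s = MulAut.conj w s * MulAut.conj w b
      rw [← map_mul, ← map_mul, hcen hs b hb]
    have h2 : MulAut.conj w • sigmaCore M = sigmaCore M :=
      Subgroup.eq_of_le_of_card_ge (le_sigmaCore hG hM h1 fun r hr hd => by
        rw [CfsgLib.card_conj_smul] at hd
        exact (sigmaCore_hall hG hM).1.2.1 r hr hd) (CfsgLib.card_conj_smul w _).ge
    have hN : normalizer (sigmaCore M : Set G) = M := normalizer_eq hG hM (sigmaCore_ne_bot hG hM)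
      (fun e => hM.1 (top_le_iff.mp (e ▸ piCoreOf_le _ _))) hMN
    exact hlM (hN.le (mem_normalizer_of_conj_smul h2))

end Main

end CfsgLib.MinSimpleOdd
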