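import Cfsg.Agent.Lib.MinSimpleOdd.SigmaPrime
import Cfsg.Agent.Lib.InvariantComplement
import Cfsg.Agent.S1414
import Cfsg.Agent.S1416
import Cfsg.Agent.S1417
import Cfsg.Agent.S1419
import Cfsg.Agent.S1451

/-!
The Frobenius type criterion for a complement of `M_σ` (B–G 12.11).
-/

set_option autoImplicit false
set_option linter.unusedSectionVars false
set_option linter.style.haveILetI false
set_option maxHeartbeats 1000000

namespace CfsgLib.MinSimpleOdd

open Subgroup Cfsg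
open scoped Pointwise commutatorElement IsMulCommutative

universe u v
variable {G : Type u} [Group G] [Finite G] {p : ℕ} [Fact p.Prime]

/-- The product over a cyclic group of fixed-point-free automorphisms. -/
theorem prod_pow_eq_one {V : Type u} [CommGroup V] (f : MulAut V) {r : ℕ} (hf : f ^ r = 1)
    (hfree : ∀ v : V, f v = v → v = 1) (v : V) : ∏ i ∈ Finset.range r, (f ^ i) v = 1 := by
  refine hfree _ ?_
  rw [map_prod]
  rcases r with _ | r
  · rfl
  rw [Finset.prod_range_succ, Finset.prod_range_succ' (fun i => (f ^ i) v),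
    show f ((f ^ r) v) = (f ^ 0) v by rw [← MulAut.mul_apply, ← pow_succ', hf, pow_zero]]
  congr 1
  exact Finset.prod_congr rfl fun i _ => by rw [← MulAut.mul_apply, ← pow_succ']

/-- A noncyclic group of order `r²` does not act fixed-point-freely on a coprime abelian group. -/
theorem exists_fixed_of_commuting {V : Type u} [CommGroup V] (β ζ : MulAut V) {r : ℕ} (hr : r.Prime)
    (hβ : β ^ r = 1) (hζ : ζ ^ r = 1) (hc : Commute β ζ)
    (hfree : ∀ i j : ℕ, (¬ r ∣ i ∨ ¬ r ∣ j) → ∀ v : V, (β ^ i * ζ ^ j) v = v → v = 1) (v : V) :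
    v ^ r = 1 := by
  have hline : ∀ c : ℕ, ∏ t ∈ Finset.range r, (β ^ t * (ζ ^ t) ^ c) v = 1 := fun c => by
    have h1 := prod_pow_eq_one (β * ζ ^ c) (r := r)
      (by rw [(hc.pow_right c).mul_pow, hβ, ← pow_mul, mul_comm c r, pow_mul, hζ, one_pow, mul_one])
      (fun w hw => hfree 1 c (Or.inl hr.not_dvd_one) w (by rwa [pow_one])) v
    rw [← h1]
    refine Finset.prod_congr rfl fun t _ => ?_
    rw [(hc.pow_right c).mul_pow, ← pow_mul, ← pow_mul, mul_comm t c]
  have h2 : ∏ c ∈ Finset.range r, ∏ t ∈ Finset.range r, (β ^ t * (ζ ^ t) ^ c) v = 1 :=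
    Finset.prod_eq_one fun c _ => hline c
  rw [Finset.prod_comm, ← Finset.prod_erase_mul _ _ (Finset.mem_range.mpr hr.pos)] at h2
  rw [Finset.prod_eq_one (fun t ht => ?_), one_mul] at h2
  · simpa using h2
  obtain ⟨ht0, htr⟩ := Finset.mem_erase.mp ht
  have htd : ¬ r ∣ t := fun d => absurd (Nat.le_of_dvd (Nat.pos_of_ne_zero ht0) d)
    (not_le.mpr (Finset.mem_range.mp htr))
  simp only [MulAut.mul_apply]
  rw [← map_prod, prod_pow_eq_one (ζ ^ t) (r := r) (by rw [← pow_mul, mul_comm, pow_mul, hζ, one_pow])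
    (fun w hw => hfree 0 t (Or.inr htd) w (by rwa [pow_zero, one_mul])) v, map_one]

/-- An eigenvector of maximal order for a coprime group acting on an abelian `p`-group. -/
theorem exists_eigen {V : Type u} [CommGroup V] {W : Type v} [Group W] [Finite W] (φ : W →* MulAut V) (d : ℕ)
    (hexp : ∀ v : V, v ^ p ^ (d + 1) = 1) (hW : (Nat.card W).Coprime p) {x l : V} (hx : x ^ p ^ d = l)
    (hl : l ≠ 1) (hline : ∀ w, ∃ k : ℕ, φ w l = l ^ k) :
    ∃ y : V, y ^ p ^ d = l ^ Nat.card W ∧ orderOf y = p ^ (d + 1) ∧ ∀ w, φ w y ∈ zpowers y := by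
  classical
  have := Fintype.ofFinite W
  have hlp : l ^ p = 1 := by rw [← hx, ← pow_mul, ← pow_succ, hexp]
  have hlo : orderOf l = p := orderOf_eq_prime hlp hl
  choose k hk using hline
  have hkey : ∀ w w' : W, k (w * w') ≡ k w * k w' [MOD p] := fun w w' => by
    rw [← hlo, ← pow_eq_pow_iff_modEq, ← hk, map_mul, MulAut.mul_apply, hk w', map_pow, hk w, ← pow_mul]
  have hk1 : k 1 ≡ 1 [MOD p] := by
    rw [← hlo, ← pow_eq_pow_iff_modEq, ← hk, map_one, MulAut.one_apply, pow_one]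
  have hpow : ∀ {a b : ℕ}, a ≡ b [MOD p] → a ^ p ^ d ≡ b ^ p ^ d [MOD p ^ (d + 1)] := fun {a b} h => by
    have h' : (p : ℤ) ∣ (b : ℤ) - a := Nat.modEq_iff_dvd.mp h
    have := dvd_sub_pow_of_dvd_sub (R := ℤ) h' d
    refine Nat.modEq_iff_dvd.mpr ?_
    push_cast
    exact this
  have hfer : ∀ a : ℕ, a ^ p ^ d ≡ a [MOD p] := fun a => by
    rw [← ZMod.natCast_eq_natCast_iff, Nat.cast_pow, ZMod.pow_card_pow]
  set t : W → ℕ := fun w => k w ^ p ^ d with ht
  set y : V := ∏ w : W, (φ w x) ^ t w⁻¹ with hy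
  have hact : ∀ v : W, φ v y = y ^ t v := fun v => by
    rw [hy, map_prod, ← Finset.prod_pow]
    refine Fintype.prod_equiv (Equiv.mulLeft v) _ _ fun w => ?_
    simp only [Equiv.coe_mulLeft]
    rw [map_pow, ← MulAut.mul_apply, ← map_mul, ← pow_mul, pow_eq_pow_iff_modEq]
    refine Nat.ModEq.of_dvd (orderOf_dvd_of_pow_eq_one (hexp _)) ?_
    simp only [ht]
    rw [← mul_pow]
    refine hpow ?_
    have := hkey (v * w)⁻¹ v
    rwa [show (v * w)⁻¹ * v = w⁻¹ by group] at this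
  have hyd : y ^ p ^ d = l ^ Nat.card W := by
    rw [hy, ← Finset.prod_pow, Nat.card_eq_fintype_card, ← Finset.card_univ, ← Finset.prod_const]
    refine Finset.prod_congr rfl fun w _ => ?_
    rw [← pow_mul, mul_comm, pow_mul, ← map_pow, hx, hk, ← pow_mul]
    conv_rhs => rw [← pow_one l]
    rw [pow_eq_pow_iff_modEq, hlo]
    refine ((Nat.ModEq.refl (k w)).mul (hfer (k w⁻¹))).trans ?_
    have := hkey w w⁻¹
    rw [mul_inv_cancel] at this
    exact this.symm.trans hk1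
  refine ⟨y, hyd, orderOf_eq_prime_pow ?_ (hexp y), fun w => ⟨t w, by simp [hact w]⟩⟩
  rw [hyd, ← orderOf_dvd_iff_pow_eq_one, hlo]
  exact (Fact.out : p.Prime).coprime_iff_not_dvd.mp hW.symm

/-- An abelian `p`-subgroup with a `p'`-group of automorphisms has invariant cyclic subgroups of maximal order. -/
theorem exists_invariant_cyclic {P H : Subgroup G} (hPc : IsMulCommutative P) (hHP : H ≤ normalizer (P : Set G))
    (hcop : ¬ p ∣ (centralizer (P : Set G)).relIndex H) {d : ℕ} (hexp : ∀ v ∈ P, v ^ p ^ (d + 1) = 1)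
    {x : G} (hx : x ∈ P) (hl : x ^ p ^ d ≠ 1) (hH : H ≤ normalizer (zpowers (x ^ p ^ d) : Set G)) :
    ∃ y ∈ P, orderOf y = p ^ (d + 1) ∧ H ≤ normalizer (zpowers y : Set G) ∧
      zpowers (y ^ p ^ d) = zpowers (x ^ p ^ d) := by
  haveI := hPc
  set f := (P.normalizerMonoidHom).comp (Subgroup.inclusion hHP) with hf
  haveI : Finite (MulAut P) := Finite.of_injective (fun g => (g : P → P)) DFunLike.coe_injective
  set W := f.range with hW
  have hker : f.ker = (centralizer (P : Set G)).subgroupOf H := by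
    ext h
    rw [hf, ← MonoidHom.comap_ker, Subgroup.normalizerMonoidHom_ker]
    rfl
  have hWc : (Nat.card W).Coprime p := by
    rw [hW, ← Subgroup.index_ker, hker]
    exact ((Fact.out : p.Prime).coprime_iff_not_dvd.mpr hcop).symm
  have hlp : (x ^ p ^ d) ^ p = 1 := by rw [← pow_mul, ← pow_succ, hexp x hx]
  obtain ⟨y, hyd, hyo, hyW⟩ := exists_eigen (V := P) (W := W) W.subtype d
    (fun v => Subtype.ext (hexp v v.2)) hWc (x := ⟨x, hx⟩) rfl (fun e => hl (congrArg Subtype.val e)) (by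
      rintro ⟨_, h, rfl⟩
      have hmem : (h : G) * x ^ p ^ d * (h : G)⁻¹ ∈ zpowers (x ^ p ^ d) :=
        (Subgroup.mem_normalizer_iff.mp (hH h.2) _).mp (Subgroup.mem_zpowers _)
      obtain ⟨k, hk⟩ := (Submonoid.mem_powers_iff _ _).mp
        ((mem_powers_iff_mem_zpowers).mpr hmem)
      exact ⟨k, Subtype.ext (show (h : G) * x ^ p ^ d * (h : G)⁻¹ = (x ^ p ^ d) ^ k from hk.symm)⟩)
  refine ⟨y, y.2, by rw [Subgroup.orderOf_coe, hyo], fun h hh => ?_, ?_⟩
  · refine mem_normalizer_of_conj_smul (Subgroup.eq_of_le_of_card_ge ?_ (CfsgLib.card_conj_smul h _).ge)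
    rintro _ ⟨z, ⟨i, rfl⟩, rfl⟩
    obtain ⟨j, hj⟩ := hyW ⟨f ⟨h, hh⟩, ⟨⟨h, hh⟩, rfl⟩⟩
    have hj' : (y : G) ^ j = h * y * h⁻¹ := congrArg Subtype.val hj
    show MulAut.conj h ((y : G) ^ i) ∈ _
    rw [map_zpow, MulAut.conj_apply, ← hj', ← zpow_mul]
    exact Subgroup.zpow_mem_zpowers _ _
  · have hyd' : (y : G) ^ p ^ d = (x ^ p ^ d) ^ Nat.card W := congrArg Subtype.val hyd
    refine Subgroup.eq_of_le_of_card_ge (Subgroup.zpowers_le.mpr (hyd' ▸ Subgroup.pow_mem _
      (Subgroup.mem_zpowers _) _)) ?_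
    rw [Nat.card_zpowers, Nat.card_zpowers, orderOf_eq_prime hlp hl]
    refine (orderOf_eq_prime ?_ ?_).ge
    · rw [← pow_mul, ← pow_succ]
      exact hexp y y.2
    · rw [hyd', Ne, ← orderOf_dvd_iff_pow_eq_one, orderOf_eq_prime hlp hl]
      exact (Fact.out : p.Prime).coprime_iff_not_dvd.mp hWc.symm

/-- An abelian group has an exponent element. -/
theorem exists_max_order {P : Subgroup G} (hP : IsPGroup p P) (hPc : IsMulCommutative P) (h1 : P ≠ ⊥) :
    ∃ d : ℕ, (∀ v ∈ P, v ^ p ^ (d + 1) = 1) ∧ ∃ x ∈ P, x ^ p ^ d ≠ 1 := by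
  haveI := hPc
  obtain ⟨x, hx⟩ := Monoid.exists_orderOf_eq_exponent (G := P) Monoid.ExponentExists.of_finite
  obtain ⟨k, hk⟩ := IsPGroup.iff_orderOf.mp hP x
  rcases k with _ | d
  · refine absurd ?_ h1
    rw [Subgroup.eq_bot_iff_forall]
    intro v hv
    have := Monoid.pow_exponent_eq_one (⟨v, hv⟩ : P)
    rw [← hx, hk, pow_zero, pow_one] at this
    exact congrArg Subtype.val this
  refine ⟨d, fun v hv => ?_, x, x.2, fun e => ?_⟩
  · rw [← hk, hx]
    exact congrArg Subtype.val (Monoid.pow_exponent_eq_one (⟨v, hv⟩ : P))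
  · have h2 := orderOf_dvd_of_pow_eq_one (show x ^ p ^ d = 1 from Subtype.ext e)
    rw [hk] at h2
    exact Nat.lt_irrefl d (Nat.pow_dvd_pow_iff_le_right (Fact.out : p.Prime).one_lt |>.mp h2)

/-- Subgroups of prime order inside a group of order `p²`. -/
theorem card_line {A X : Subgroup G} (hA : Nat.card A = p ^ 2) (hX : X ≤ A) (h0 : X ≠ ⊥) (h1 : X ≠ A) :
    Nat.card X = p := by
  obtain ⟨k, hk, hc⟩ := (Nat.dvd_prime_pow Fact.out).mp (hA ▸ Subgroup.card_dvd_of_le hX)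
  interval_cases k
  · exact absurd (Subgroup.card_eq_one.mp (by rw [hc, pow_zero])) h0
  · rw [hc, pow_one]
  · exact absurd (Subgroup.eq_of_le_of_card_ge hX (by rw [hc, hA])) h1

/-- A Hall subgroup containing a given subgroup. -/
theorem exists_hall_ge {π : Set ℕ} {M U : Subgroup G} (hM : Group.IsSolvable M) (hUM : U ≤ M)
    (hU : ∀ r : ℕ, r.Prime → r ∣ Nat.card U → r ∈ π) : ∃ H : Subgroup G, IsPiHallOf π H M ∧ U ≤ H := by
  obtain ⟨H, hH⟩ := CfsgLib.exists_isPiHallOf π hM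
  obtain ⟨m, hm, hle⟩ := CfsgLib.pi_le_conj_hall hM hH hUM hU
  refine ⟨MulAut.conj m⁻¹ • H, ⟨(conj_smul_mono hH.1 _).trans (smul_eq_self_of_mem (inv_mem hm)).le,
    fun r hr hd => hH.2.1 r hr (by rwa [CfsgLib.card_conj_smul] at hd), fun r hr hπ hd => hH.2.2 r hr hπ ?_⟩, ?_⟩
  · have h0 : MulAut.conj m⁻¹ • H ≤ M := (conj_smul_mono hH.1 _).trans (smul_eq_self_of_mem (inv_mem hm)).le
    have h1 := Subgroup.card_mul_index ((MulAut.conj m⁻¹ • H).subgroupOf M)
    have h2 := Subgroup.card_mul_index (H.subgroupOf M)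
    rw [Nat.card_congr (Subgroup.subgroupOfEquivOfLe h0).toEquiv, CfsgLib.card_conj_smul, ← h2,
      Nat.card_congr (Subgroup.subgroupOfEquivOfLe hH.1).toEquiv] at h1
    have h3 := mul_left_cancel₀ Nat.card_pos.ne' h1
    rwa [Subgroup.relIndex, ← h3]
  · have := conj_smul_mono hle m⁻¹
    rwa [CfsgLib.conj_smul_mul, inv_mul_cancel, map_one, one_smul] at this

/-- A normal `π`-subgroup lies in every Hall `π`-subgroup. -/
theorem normal_le_hall {π : Set ℕ} {M H Y : Subgroup G} (hM : Group.IsSolvable M) (hH : IsPiHallOf π H M)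
    (hYM : Y ≤ M) (hn : M ≤ normalizer (Y : Set G)) (hY : ∀ r : ℕ, r.Prime → r ∣ Nat.card Y → r ∈ π) : Y ≤ H := by
  obtain ⟨m, hm, hle⟩ := CfsgLib.pi_le_conj_hall hM hH hYM hY
  rwa [conj_smul_eq_of_mem_normalizer (hn hm)] at hle

section Main

variable (hG : IsMinSimpleOddOrder G) {M : Subgroup G} (hM : IsCoatom M)

include hG hM

/-- A complement of `M_σ` containing a given `σ(M)'`-subgroup. -/
theorem exists_complement_ge {U : Subgroup G} (hUM : U ≤ M)
    (hU : ∀ r : ℕ, r.Prime → r ∣ Nat.card U → r ∉ sigma M) :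
    ∃ E : Subgroup G, IsComplIn E (sigmaCore M) M ∧ U ≤ E := by
  obtain ⟨E, hE, hUE⟩ := exists_hall_ge (π := {r | r ∉ sigma M}) (solvable_of_ne_top hG hM.1) hUM
    fun r hr hd => hU r hr hd
  have hsM : sigmaCore M ≤ M := piCoreOf_le _ _
  have hcop : (Nat.card E).Coprime (Nat.card (sigmaCore M)) :=
    Nat.coprime_of_dvd fun r hr h1 h2 => hE.2.1 r hr h1 ((sigmaCore_hall hG hM).1.2.1 r hr h2)
  refine ⟨E, ⟨hE.1, hsM, disjoint_iff.mp (Subgroup.disjoint_of_coprime_natCard hcop), fun m hm => ?_⟩, hUE⟩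
  have htop : M ≤ E ⊔ sigmaCore M := by
    refine Subgroup.relIndex_eq_one.mp (Nat.eq_one_iff_not_exists_prime_dvd.mpr fun r hr hd => ?_)
    by_cases hrσ : r ∈ sigma M
    · exact (sigmaCore_hall hG hM).1.2.2 r hr hrσ (hd.trans (Subgroup.relIndex_dvd_of_le_left M le_sup_right))
    · exact hE.2.2 r hr hrσ (hd.trans (Subgroup.relIndex_dvd_of_le_left M le_sup_left))
  have h1 := htop hm
  rw [← SetLike.mem_coe, Subgroup.coe_mul_of_left_le_normalizer_right E (sigmaCore M)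
    (le_normalizer_sigmaCore hG hM hE.1)] at h1
  obtain ⟨a, ha, b, hb, rfl⟩ := Set.mem_mul.mp h1
  exact ⟨a, ha, b, hb, rfl⟩

variable {E : Subgroup G} (hE : IsComplIn E (sigmaCore M) M)

include hE

theorem tau_cases {r : ℕ} (hr : r.Prime) (hd : r ∣ Nat.card E) :
    r ∈ tau1 M ∨ r ∈ tau2 M ∨ r ∈ tau3 M := by
  haveI := Fact.mk hr
  have hσ := complement_sigma' hG hM hE r hr hd
  have h2 : PRankLE r 2 M := by
    by_contra h
    exact hσ (alpha_subset_sigma hG hM ⟨hr, h⟩)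
  by_cases h1 : PRankLE r 1 M
  · by_cases hd' : r ∣ Nat.card ↥⁅M, M⁆
    · exact Or.inr (Or.inr ⟨hr, hσ, hd', h1⟩)
    · exact Or.inl ⟨hr, hσ, hd.trans (Subgroup.card_dvd_of_le hE.1), hd', h1⟩
  · exact Or.inr (Or.inl ⟨hr, hσ, h2, h1⟩)

theorem meet_eq_complement {H : Subgroup G} (hEH : E ≤ H) (h : sigmaCore M ⊓ H = ⊥) : M ⊓ H = E := by
  refine le_antisymm (fun m hm => ?_) (le_inf hE.1 hEH)
  obtain ⟨a, ha, b, hb, rfl⟩ := hE.2.2.2 m hm.1
  have := h.le ⟨hb, (Subgroup.mul_mem_cancel_left H (hEH ha)).mp hm.2⟩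
  rw [Subgroup.mem_bot] at this
  rwa [this, mul_one]

/-- A `τ₂(M)`-prime with abelian Sylow subgroups of `G`. -/
theorem abelian_tau2_sylow (hp : p ∈ tau2 M) (hab : ∀ S : Sylow p G, IsMulCommutative (S : Subgroup G))
    {A : Subgroup G} (hAE : A ≤ E) (hA : IsElementaryAbelian p A) (hA2 : Nat.card A = p ^ 2) :
    ∃ S : Sylow p G, A ≤ (S : Subgroup G) ∧ (S : Subgroup G) ≤ E ∧
      (∀ x ∈ (S : Subgroup G), x ^ p = 1 ↔ x ∈ A) ∧
      normalizer (A : Set G) ≤ normalizer ((S : Subgroup G) : Set G) ∧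
      ⁅normalizer (A : Set G), normalizer (A : Set G)⁆ ≤ centralizer (A : Set G) := by
  have hpp : p.Prime := Fact.out
  obtain ⟨⟨hEA, -⟩, ⟨hCA, hNE, -⟩, -⟩ := Cfsg.Agent.S1418.result hG M hM E hE p hp A ⟨hAE, hA, hA2⟩
  obtain ⟨A₀, hexc⟩ := exists_exc hG hM hp (hAE.trans hE.1) hA hA2
  obtain ⟨S, hAS⟩ := hexc.two.isPGroup.exists_le_sylow
  haveI := hab S
  have hSC : (S : Subgroup G) ≤ centralizer (A : Set G) := fun s hs a ha =>
    congrArg Subtype.val (mul_comm' (⟨a, hAS ha⟩ : (S : Subgroup G)) ⟨s, hs⟩)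
  have hSE : (S : Subgroup G) ≤ E := hNE ▸ hSC.trans hCA
  have hCE : centralizer (A : Set G) ≤ E := hNE ▸ hCA
  have hSM : (S : Subgroup G) ≤ M := hSE.trans hE.1
  obtain ⟨hom, -, -⟩ := hexc.structure' hG hM hAS hSM S.2
    fun hd => S.not_dvd_index (hd.trans (Dvd.intro _ (Subgroup.relIndex_mul_index hSM)))
  set N := normalizer (A : Set G) with hN
  have hA1 : A ≠ ⊥ := hexc.two.ne_bot
  have hNtop : N ≠ ⊤ := normalizer_ne_top hG hA1 (pgroup_ne_top hG hexc.two.isPGroup)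
  haveI := solvable_of_ne_top hG hNtop
  have hAN : A ≤ N := Subgroup.le_normalizer
  -- the Fitting subgroup of `N` has rank two
  have hrk : RankLE 2 (fittingSubgroup N) := by
    intro q hq B hBc hBe
    haveI := Fact.mk hq
    set B' := B.map (N.subtype.comp (fittingSubgroup N).subtype) with hB'
    have hinj : Function.Injective (N.subtype.comp (fittingSubgroup N).subtype) :=
      N.subtype_injective.comp (fittingSubgroup N).subtype_injective
    haveI hB'c : IsMulCommutative B' := Subgroup.map_isMulCommutative _ _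
    have hB'e : ∀ b ∈ B', b ^ q = 1 := by
      rintro _ ⟨b, hb, rfl⟩
      rw [← map_pow, hBe b hb, map_one]
    rw [← Subgroup.card_map_of_injective (K := B) hinj]
    have hB'F : B' ≤ fittingOf N := by
      rintro _ ⟨b, -, rfl⟩
      exact ⟨b, b.2, rfl⟩
    by_cases hqp : q = p
    · subst hqp
      have hr2 : PRankLE q 2 (S : Subgroup G) := pRankLE_mono hSM hp.2.2.1
      exact card_le_of_pRankLE (pRankLE_of_sylow S.2 S.not_dvd_index hr2 (fittingOf N)) hB'F hB'c hB'e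
    set L := piCoreOf {q} (fittingOf N) with hL
    have hB'L : B' ≤ L := le_piCoreOf_of_nilpotent (fittingOf_nilpotent N) hB'F (isPGroup_of_exp hB'e)
    have hLN : L ≤ N := (piCoreOf_le _ _).trans (fittingOf_le N)
    have hNL : N ≤ normalizer (L : Set G) :=
      (le_normalizer_fittingOf N).trans (normalizer_le_normalizer_piCoreOf _ _)
    have hLA : L ≤ centralizer (A : Set G) := centralizes_of_normalize hLN (hAN.trans hNL)
      (coprime_pGroups hq hpp hqp (isPGroup_piCoreOf q _) hexc.two.isPGroup)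
    have hBM : B' ≤ M := hB'L.trans (hLA.trans (hCE.trans hE.1))
    rcases eq_or_ne B' ⊥ with e | e
    · rw [show B.map (N.subtype.comp (fittingSubgroup N).subtype) = ⊥ from e, Subgroup.card_bot]
      exact Nat.one_le_pow _ _ hq.pos
    refine card_le_of_pRankLE ?_ hBM hB'c hB'e
    by_contra h
    obtain ⟨k, hk⟩ := (isPGroup_of_exp hB'e).exists_card_eq
    exact complement_sigma' hG hM hE q hq ((hk ▸ dvd_pow_self q fun e' => e (Subgroup.card_eq_one.mp
      (by rw [hk, e', pow_zero]))).trans (Subgroup.card_dvd_of_le (hB'L.trans (hLA.trans hCE))))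
      (alpha_subset_sigma hG hM ⟨hq, h⟩)
  -- hence `N'` is nilpotent
  obtain ⟨hnil, -, -⟩ := Cfsg.Agent.S1451.result (G := N) (odd_subgroup hG.1 N) (Or.inr hrk)
  set D := ⁅N, N⁆ with hD
  haveI hDn : Group.IsNilpotent D := Group.nilpotent_of_mulEquiv
    (((commutator ↥N).equivMapOfInjective N.subtype N.subtype_injective).trans
      (MulEquiv.subgroupCongr (Subgroup.map_subtype_commutator N)))
  have hDN : D ≤ N := Subgroup.commutator_le_self N
  have hNS : normalizer ((S : Subgroup G) : Set G) ≤ N := fun n hn => mem_normalizer_of_conj_smul (by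
    refine Subgroup.eq_of_le_of_card_ge ?_ (CfsgLib.card_conj_smul n A).ge
    rintro _ ⟨a, ha, rfl⟩
    refine (hom _ ((Subgroup.mem_normalizer_iff.mp hn a).mp (hAS ha))).mp ?_
    show MulAut.conj n a ^ p = 1
    rw [← map_pow, hA.2 a ha, map_one])
  have hSD : (S : Subgroup G) ≤ D := (le_derived_normalizer hG S).trans (Subgroup.commutator_mono hNS hNS)
  set O := piCoreOf {p} D with hO
  have hOS : O = (S : Subgroup G) :=
    S.3 (isPGroup_piCoreOf p D) (le_piCoreOf_of_nilpotent hDn hSD S.2)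
  have hND : N ≤ normalizer (D : Set G) := fun n hn => mem_normalizer_of_conj_smul
    ((Subgroup.map_commutator _ _ _).trans (by
      show ⁅MulAut.conj n • N, MulAut.conj n • N⁆ = _
      rw [conj_smul_eq_of_mem_normalizer (Subgroup.le_normalizer hn)]))
  have hNO : N ≤ normalizer (O : Set G) := hND.trans (normalizer_le_normalizer_piCoreOf _ _)
  refine ⟨S, hAS, hSE, hom, hOS ▸ hNO, ?_⟩
  -- every Sylow subgroup of `N'` centralises `A`
  refine Subgroup.relIndex_eq_one.mp (Nat.eq_one_iff_not_exists_prime_dvd.mpr fun r hr hd => ?_)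
  haveI := Fact.mk hr
  obtain ⟨T⟩ : Nonempty (Sylow r D) := inferInstance
  set R := (T : Subgroup D).map D.subtype with hR
  refine not_dvd_of_sylow D T (hd.trans (Subgroup.relIndex_dvd_of_le_left D ?_))
  by_cases hrp : r = p
  · subst hrp
    exact ((le_piCoreOf_of_nilpotent hDn (Subgroup.map_subtype_le _) (T.2.map _)).trans hOS.le).trans hSC
  have hRn : R ≤ piCoreOf {r} D := le_piCoreOf_of_nilpotent hDn (Subgroup.map_subtype_le _) (T.2.map _)
  refine hRn.trans (centralizes_of_normalize ((piCoreOf_le _ _).trans hDN) (hAN.trans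
    (hND.trans (normalizer_le_normalizer_piCoreOf _ _))) (coprime_pGroups hr hpp hrp (isPGroup_piCoreOf r _)
      hexc.two.isPGroup))

end Main

/-- Every element of order prime to `τ₂(M)` acts fixed-point-freely on `M_σ`. -/
def FpfHyp (M E : Subgroup G) : Prop :=
  ∀ e ∈ E, e ≠ 1 → (∀ r : ℕ, r.Prime → r ∣ orderOf e → r ∈ tau1 M ∪ tau3 M) →
    sigmaCore M ⊓ centralizer ({e} : Set G) = ⊥

section Lines

variable (hG : IsMinSimpleOddOrder G) {M : Subgroup G} (hM : IsCoatom M)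
  {E : Subgroup G} (hE : IsComplIn E (sigmaCore M) M) {A : Subgroup G} (hAE : A ≤ E)
  (hA : IsElementaryAbelian p A) (hA2 : Nat.card A = p ^ 2) (hp : p ∈ tau2 M)

include hG hM hE hAE hA hA2 hp

theorem line_good {X : Subgroup G} (hXA : X ≤ A) (hXc : Nat.card X = p)
    (hN : normalizer (A : Set G) ≤ normalizer (X : Set G)) :
    sigmaCore M ⊓ centralizer (X : Set G) = ⊥ := by
  obtain ⟨-, ⟨-, -, hne⟩, huniq⟩ := Cfsg.Agent.S1418.result hG M hM E hE p hp A ⟨hAE, hA, hA2⟩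
  by_contra hb
  obtain ⟨hle, hu⟩ := huniq X hXA hXc hb
  refine hne fun n hn => ?_
  have h1 : centralizer (X : Set G) ≤ MulAut.conj n • M := by
    have := conj_smul_mono hle n
    rwa [conj_smul_eq_of_mem_normalizer (CfsgLib.CharP.normalizer_le_normalizer_centralizer _ (hN hn))] at this
  have h2 := hu _ (conj_isCoatom hM n) h1
  rw [← normalizer_coatom hG hM]
  exact mem_normalizer_of_conj_smul h2

variable (hab : ∀ S : Sylow p G, IsMulCommutative (S : Subgroup G)) (hfpf : FpfHyp M E)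

include hab hfpf

theorem complement_fixes_lines
    (hno : ∀ X : Subgroup G, X ≤ A → Nat.card X = p → ¬ normalizer (A : Set G) ≤ normalizer (X : Set G))
    {X : Subgroup G} (hXA : X ≤ A) : E ≤ normalizer (X : Set G) := by
  have hpp : p.Prime := Fact.out
  haveI := hA.1
  obtain ⟨S, hAS, hSE, hom, hNS, hcomm⟩ := abelian_tau2_sylow hG hM hE hp hab hAE hA hA2
  obtain ⟨⟨hEA, -⟩, ⟨hCA, hNE, -⟩, -⟩ := Cfsg.Agent.S1418.result hG M hM E hE p hp A ⟨hAE, hA, hA2⟩
  obtain ⟨A₀, hexc⟩ := exists_exc hG hM hp (hAE.trans hE.1) hA hA2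
  haveI := hab S
  have hSC : (S : Subgroup G) ≤ centralizer (A : Set G) := fun s hs a ha =>
    congrArg Subtype.val (mul_comm' (⟨a, hAS ha⟩ : (S : Subgroup G)) ⟨s, hs⟩)
  have hCM : centralizer (A : Set G) ≤ M := hexc.centralizer_le
  have hCE : centralizer (A : Set G) ≤ E := hNE ▸ hCA
  set N := normalizer (A : Set G) with hN
  have hCX : centralizer (A : Set G) ≤ normalizer (X : Set G) :=
    (centralizer_anti hXA).trans (Subgroup.centralizer_le_normalizer _)
  -- elements of `N` act trivially or fixed-point-freely on `A`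
  have hirr : ∀ w ∈ N, w ∉ centralizer (A : Set G) → A ⊓ centralizer ({w} : Set G) = ⊥ := by
    intro w hw hwC
    by_contra hne
    refine hno _ inf_le_left (card_line hA2 inf_le_left hne fun e => hwC fun a ha =>
      Subgroup.mem_centralizer_singleton_iff.mp (e.ge ha).2) fun n hn => ?_
    refine mem_normalizer_of_conj_smul (Subgroup.eq_of_le_of_card_ge ?_ (CfsgLib.card_conj_smul n _).ge)
    rintro _ ⟨a, ⟨ha, hac⟩, rfl⟩
    have han : n * a * n⁻¹ ∈ A := (Subgroup.mem_normalizer_iff.mp hn a).mp ha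
    refine ⟨han, Subgroup.mem_centralizer_singleton_iff.mpr ?_⟩
    have h1 : a * w = w * a := Subgroup.mem_centralizer_singleton_iff.mp hac
    have h2 := hcomm (Subgroup.commutator_mem_commutator (inv_mem hn) hw (H₁ := N) (H₂ := N)) a ha
    rw [commutatorElement_def, inv_inv] at h2
    show n * a * n⁻¹ * w = w * (n * a * n⁻¹)
    calc n * a * n⁻¹ * w = n * (a * (n⁻¹ * w * n * w⁻¹)) * w * n⁻¹ := by group
      _ = n * ((n⁻¹ * w * n * w⁻¹) * a) * w * n⁻¹ := by rw [h2]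
      _ = w * n * w⁻¹ * (a * w) * n⁻¹ := by group
      _ = w * n * w⁻¹ * (w * a) * n⁻¹ := by rw [h1]
      _ = _ := by group
  by_contra hmove
  set St := E ⊓ normalizer (X : Set G) with hSt
  obtain ⟨r, hr, hrd⟩ : ∃ r, r.Prime ∧ r ∣ St.relIndex E := Nat.exists_prime_and_dvd fun e =>
    hmove ((Subgroup.relIndex_eq_one.mp e).trans inf_le_right)
  haveI := Fact.mk hr
  obtain ⟨R', -, hRE, hRr, hRi⟩ := exists_sylow_ge (p := r) (R := (⊥ : Subgroup G)) (X := E) bot_le IsPGroup.of_bot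
  have hRX : ¬ R' ≤ normalizer (X : Set G) := fun hle => hRi (hrd.trans
    (Subgroup.relIndex_dvd_of_le_left E (le_inf hRE hle)))
  have hrp : r ≠ p := by
    rintro rfl
    refine S.not_dvd_index (hrd.trans ((Subgroup.relIndex_dvd_of_le_left E
      (le_inf hSE (hSC.trans hCX))).trans ?_))
    exact Dvd.intro _ (Subgroup.relIndex_mul_index hSE)
  have hrE : r ∣ Nat.card E := hrd.trans (Subgroup.relIndex_dvd_card _ _)
  have hrσ := complement_sigma' hG hM hE r hr hrE
  have hRM : R' ≤ M := hRE.trans hE.1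
  have hrτ2 : r ∉ tau2 M := fun hτ => hRX fun x hx => hCX (tau2_element_centralizes hG hM hE hp hAE hA hA2
    (hRE hx) fun t ht htd => by
      rw [card_dvd_of_pgroup hRr ht (htd.trans (Subgroup.orderOf_dvd_natCard _ hx))]; exact hτ)
  have hτ13 : r ∈ tau1 M ∪ tau3 M := by
    rcases tau_cases hG hM hE hr hrE with h | h | h
    · exact Or.inl h
    · exact absurd h hrτ2
    · exact Or.inr h
  have hr1 : PRankLE r 1 M := hτ13.elim (fun h => h.2.2.2.2) fun h => h.2.2.2
  haveI hRcy := cyclic_of_pRankLE_one (odd_subgroup hG.1 R') hRr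
    (pRankLE_of_injective R'.subtype R'.subtype_injective (X := M) (fun t => hRM t.2) hr1)
  obtain ⟨Y, hYR, hYc⟩ := exists_order_prime hRr fun e => hRX (e ▸ bot_le)
  obtain ⟨⟨y, hyY⟩, hyo⟩ := exists_prime_orderOf_dvd_card' (G := Y) r (dvd_of_eq hYc.symm)
  rw [Subgroup.orderOf_mk] at hyo
  have hYy : zpowers y = Y := Subgroup.eq_of_le_of_card_ge (Subgroup.zpowers_le.mpr hyY)
    (by rw [Nat.card_zpowers, hyo, hYc])
  have hy1 : y ≠ 1 := fun e => by
    rw [e, orderOf_one] at hyo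
    exact hr.one_lt.ne hyo
  have hyE : y ∈ E := hRE (hYR hyY)
  have hsfix : sigmaCore M ⊓ centralizer ({y} : Set G) = ⊥ := hfpf y hyE hy1 fun t ht htd => by
    rw [(Nat.prime_dvd_prime_iff_eq ht hr).mp (hyo ▸ htd)]; exact hτ13
  have hAM : A ≤ M := hAE.trans hE.1
  have hyC : y ∈ centralizer (A : Set G) := by
    by_contra hyC
    obtain ⟨P₀, hAP₀, hP₀M, hP₀p, hP₀i⟩ := exists_sylow_ge hAM hexc.two.isPGroup
    obtain ⟨-, hfix, -⟩ := hexc.structure' hG hM hAP₀ hP₀M hP₀p hP₀i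
    have hcent := centralizes_of_fpf (p := r) hyo (hEA hyE) (le_normalizer_sigmaCore hG hM le_rfl (hE.1 hyE))
      (le_normalizer_sigmaCore hG hM hAM) (coprime_sigmaCore hG hM hp.2.1 hexc.two.isPGroup le_rfl)
      (hirr y (hEA hyE) hyC) hsfix
    exact sigmaCore_ne_bot hG hM (le_bot_iff.mp (hfix ▸ le_inf le_rfl (Subgroup.le_centralizer_iff.mp hcent)))
  -- an element inducing an automorphism of order `r`
  obtain ⟨z, hzR, hzC, hzr⟩ : ∃ z ∈ R', z ∉ centralizer (A : Set G) ∧ z ^ r ∈ centralizer (A : Set G) := by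
    obtain ⟨x, hxR, hxC⟩ : ∃ x ∈ R', x ∉ centralizer (A : Set G) := by
      by_contra hall
      push Not at hall
      exact hRX fun x hx => hCX (hall x hx)
    classical
    obtain ⟨k, hk⟩ := hRr ⟨x, hxR⟩
    have hex : ∃ k, x ^ r ^ k ∈ centralizer (A : Set G) := ⟨k, by
      rw [show x ^ r ^ k = 1 from congrArg Subtype.val hk]; exact one_mem _⟩
    have h0 := Nat.find_spec hex
    obtain ⟨j, hj⟩ : ∃ j, Nat.find hex = j + 1 := ⟨Nat.find hex - 1, by
      have : Nat.find hex ≠ 0 := fun e => by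
        rw [e, pow_zero, pow_one] at h0
        exact hxC h0
      omega⟩
    refine ⟨x ^ r ^ j, R'.pow_mem hxR _, Nat.find_min hex (by omega), ?_⟩
    rw [← pow_mul, ← pow_succ, ← hj]
    exact h0
  -- `N(Y)` covers `N / C(A)`
  have hYN : ¬ normalizer (Y : Set G) ≤ M := by
    intro hle
    refine (Cfsg.Agent.S1418.result hG M hM E hE p hp A ⟨hAE, hA, hA2⟩).2.1.2.2 fun n hn => ?_
    obtain ⟨T, hYT, hTC, hTr, hTi⟩ := exists_sylow_ge (p := r) (R := Y) (X := centralizer (A : Set G))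
      (by rw [← hYy]; exact Subgroup.zpowers_le.mpr hyC) (hRr.to_le hYR)
    have hnC : n ∈ normalizer (centralizer (A : Set G) : Set G) :=
      CfsgLib.CharP.normalizer_le_normalizer_centralizer _ hn
    obtain ⟨c, hc, hcle⟩ := CfsgLib.pi_le_conj_hall (π := ({r} : Set ℕ)) (U := MulAut.conj n • T)
      (solvable_of_le hCM (solvable_of_ne_top hG hM.1))
      ⟨hTC, fun t ht hd => card_dvd_of_pgroup hTr ht hd, fun t ht htr hd => hTi (htr ▸ hd)⟩
      ((conj_smul_mono hTC n).trans (conj_smul_eq_of_mem_normalizer hnC).le)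
      fun t ht hd => by rw [CfsgLib.card_conj_smul] at hd; exact card_dvd_of_pgroup hTr ht hd
    rw [CfsgLib.conj_smul_mul] at hcle
    have hTM : T ≤ M := hTC.trans hCM
    haveI := cyclic_of_pRankLE_one (odd_subgroup hG.1 T) hTr
      (pRankLE_of_injective T.subtype T.subtype_injective (X := M) (fun t => hTM t.2) hr1)
    have hcn : c * n ∈ normalizer (Y : Set G) := mem_normalizer_of_conj_smul (by
      have hle2 : MulAut.conj (c * n) • Y ≤ T := (conj_smul_mono hYT _).trans hcle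
      have e : (MulAut.conj (c * n) • Y).subgroupOf T = Y.subgroupOf T := CfsgLib.PowerGraph.subgroup_eq_of_card (by
        rw [Nat.card_congr (Subgroup.subgroupOfEquivOfLe hle2).toEquiv,
          Nat.card_congr (Subgroup.subgroupOfEquivOfLe hYT).toEquiv, CfsgLib.card_conj_smul])
      have := congrArg (fun U : Subgroup T => U.map T.subtype) e
      rwa [Subgroup.map_subgroupOf_eq_of_le hle2, Subgroup.map_subgroupOf_eq_of_le hYT] at this)
    have := M.mul_mem (M.inv_mem (hCM hc)) (hle hcn)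
    rwa [inv_mul_cancel_left] at this
  have hY1 : Y ≠ ⊥ := fun e => by
    rw [e, Subgroup.card_bot] at hYc
    exact hr.one_lt.ne hYc
  obtain ⟨L, hL, hNL⟩ := exists_coatom_ge (normalizer_ne_top hG hY1 (pgroup_ne_top hG (hRr.to_le hYR)))
  have hAY : A ≤ normalizer (Y : Set G) := by
    refine le_trans ?_ (Subgroup.centralizer_le_normalizer _)
    rw [← hYy, Subgroup.zpowers_eq_closure, Subgroup.centralizer_closure]
    exact fun a ha => Subgroup.mem_centralizer_singleton_iff.mpr (hyC a ha)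
  have hAL : A ≤ L := hAY.trans hNL
  have hRY : R' ≤ normalizer (Y : Set G) := fun x hx => Subgroup.centralizer_le_normalizer _ (fun b hb => by
    exact congrArg Subtype.val (mul_comm' (⟨b, hYR hb⟩ : R') ⟨x, hx⟩))
  have hRL : R' ≤ L := hRY.trans hNL
  have hzL : z ∈ L := hRL hzR
  have hzN : z ∈ N := hEA (hRE hzR)
  have hzr' : IsPGroup r ↥(zpowers z) := hRr.to_le (Subgroup.zpowers_le.mpr hzR)
  have hbad : ∀ a ∈ A, a * z * a⁻¹ * z⁻¹ ∈ A := fun a ha => by
    rw [show a * z * a⁻¹ * z⁻¹ = a * (z * a⁻¹ * z⁻¹) by group]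
    exact mul_mem ha ((Subgroup.mem_normalizer_iff.mp hzN _).mp (inv_mem ha))
  have hpL : p ∣ Nat.card L := (hA2 ▸ dvd_pow_self p two_ne_zero).trans (Subgroup.card_dvd_of_le hAL)
  have hpr2 : ∀ Z : Subgroup G, PRankLE p 2 Z := fun Z =>
    pRankLE_of_sylow S.2 S.not_dvd_index (pRankLE_mono (hSE.trans hE.1) hp.2.2.1) Z
  have hrLσ : r ∉ sigma L := by
    intro hrL
    have hzs : z ∈ sigmaCore L := le_sigmaCore hG hL (Subgroup.zpowers_le.mpr hzL) (fun t ht htd => by
      rw [card_dvd_of_pgroup hzr' ht htd]; exact hrL) (Subgroup.mem_zpowers z)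
    have hLn : L ≤ normalizer (sigmaCore L : Set G) := le_normalizer_piCoreOf_self _ _
    refine hzC fun a ha => ?_
    have h1 := hbad a ha
    suffices a * z * a⁻¹ * z⁻¹ = 1 by rwa [mul_inv_eq_one, mul_inv_eq_iff_eq_mul] at this
    by_cases hpL' : p ∈ sigma L
    · have hpb : p ∉ beta L := fun hb => hb.1.2 (hpr2 L)
      obtain ⟨⟨P, K, hKn, hKP⟩⟩ : Nonempty (HasNormalPComplement p ↥(sigmaCore L)) :=
        ⟨((Cfsg.Agent.S1414.result hG L hL).2.2.2.2 p hpp hpL hpb).2.1⟩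
      haveI := hKn
      have hKc : ¬ p ∣ Nat.card K := by
        rw [← hKP.index_eq_card]
        exact P.not_dvd_index
      have has : a ∈ sigmaCore L := le_sigmaCore hG hL hAL (fun t ht htd => by
        rw [card_dvd_of_pgroup hexc.two.isPGroup ht htd]; exact hpL') ha
      have hzK : (⟨z, hzs⟩ : sigmaCore L) ∈ K := by
        rw [← QuotientGroup.eq_one_iff, ← orderOf_eq_one_iff]
        refine Nat.eq_one_of_dvd_coprimes ?_ (orderOf_map_dvd (QuotientGroup.mk' K) _) (orderOf_dvd_natCard _)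
        rw [Subgroup.orderOf_mk, ← Subgroup.index_eq_card, hKP.symm.index_eq_card]
        obtain ⟨i, hi⟩ := hzr'.exists_card_eq
        obtain ⟨j, hj⟩ := P.2.exists_card_eq
        rw [← Nat.card_zpowers, hi, hj]
        exact Nat.Coprime.pow i j ((Nat.coprime_primes hr hpp).mpr hrp)
      have hcK : (⟨a * z * a⁻¹ * z⁻¹, mul_mem (mul_mem (mul_mem has hzs) (inv_mem has)) (inv_mem hzs)⟩ :
          sigmaCore L) ∈ K := K.mul_mem (hKn.conj_mem _ hzK ⟨a, has⟩) (K.inv_mem hzK)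
      rw [← orderOf_eq_one_iff]
      refine Nat.eq_one_of_dvd_coprimes ?_ (Subgroup.orderOf_dvd_natCard _ h1)
        (by simpa only [Subgroup.orderOf_mk] using Subgroup.orderOf_dvd_natCard _ hcK)
      rw [hA2]
      exact (hpp.coprime_iff_not_dvd.mpr hKc).pow_left 2
    · have h2 : a * z * a⁻¹ * z⁻¹ ∈ sigmaCore L :=
        mul_mem ((Subgroup.mem_normalizer_iff.mp (hLn (hAL ha)) z).mp hzs) (inv_mem hzs)
      exact Subgroup.disjoint_def.mp (Subgroup.disjoint_of_coprime_natCard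
        (coprime_sigmaCore hG hL hpL' hexc.two.isPGroup le_rfl)) h1 h2
  obtain ⟨⟨hrr2, hrr1⟩, -⟩ := order_p_normalizer_le hG hL hrLσ hYc hNL
  have hrτL : r ∈ tau2 L := ⟨hr, hrLσ, hrr2, hrr1⟩
  by_cases hpσL : p ∈ sigma L
  swap
  · -- both primes in `τ₂(L)`
    have hpτL : p ∈ tau2 L := ⟨hpp, hpσL, hpr2 L, fun h1 => by
      have := card_le_of_pRankLE h1 hAL hA.1 hA.2
      rw [hA2] at this
      exact absurd ((Nat.pow_le_pow_iff_right hpp.one_lt).mp this) (by omega)⟩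
    obtain ⟨E', hE', hUE'⟩ := exists_complement_ge hG hL (U := A ⊔ zpowers z)
      (sup_le hAL (Subgroup.zpowers_le.mpr hzL)) fun t ht htd => by
        rcases ht.dvd_mul.mp (htd.trans (CfsgLib.Signalizer.card_sup_dvd (Subgroup.zpowers_le.mpr hzN))) with h | h
        · rw [card_dvd_of_pgroup hzr' ht h]; exact hrLσ
        · rw [card_dvd_of_pgroup hexc.two.isPGroup ht h]; exact hpσL
    exact hzC (tau2_element_centralizes hG hL hE' hpτL (le_sup_left.trans hUE') hA hA2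
      (hUE' (Subgroup.mem_sup_right (Subgroup.mem_zpowers z))) fun t ht htd => by
        rw [card_dvd_of_pgroup hzr' ht (by rwa [Nat.card_zpowers])]; exact hrτL)
  -- `L` normalises `A`
  obtain ⟨B₀, hB₀L, hB₀c, hB₀e, hB₀card⟩ := exists_elementary_of_not_pRankLE hrr1
  have hB₀2 : Nat.card B₀ = r ^ 2 := by
    obtain ⟨k, hk⟩ := (isPGroup_of_exp hB₀e).exists_card_eq
    have h2 := card_le_of_pRankLE hrr2 hB₀L hB₀c hB₀e
    rw [hk] at hB₀card h2 ⊢
    congr 1
    exact le_antisymm ((Nat.pow_le_pow_iff_right hr.one_lt).mp h2)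
      ((Nat.pow_lt_pow_iff_right hr.one_lt).mp hB₀card)
  obtain ⟨B₀', hexcB⟩ := exists_exc hG hL hrτL hB₀L ⟨hB₀c, hB₀e⟩ hB₀2
  set O := piCoreOf {p} (sigmaCore L) with hO
  have hAO : A ≤ O := le_piCoreOf_of_nilpotent (hexcB.nilpotent hG hL)
    (le_sigmaCore hG hL hAL fun t ht htd => by
      rw [card_dvd_of_pgroup hexc.two.isPGroup ht htd]; exact hpσL) hexc.two.isPGroup
  have hOp := isPGroup_piCoreOf p (sigmaCore L)
  obtain ⟨S', hOS'⟩ := hOp.exists_le_sylow
  haveI := hab S'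
  have hLA : L ≤ N := fun l hl => mem_normalizer_of_conj_smul (by
    refine Subgroup.eq_of_le_of_card_ge ?_ (CfsgLib.card_conj_smul l A).ge
    rintro _ ⟨a, ha, rfl⟩
    have h1 : MulAut.conj l a ∈ O := (Subgroup.mem_normalizer_iff.mp
      ((le_normalizer_piCoreOf_self _ L).trans (normalizer_le_normalizer_piCoreOf _ _) hl) a).mp (hAO ha)
    refine hexc.two.mem_of_centralizes ?_ fun b hb =>
      congrArg Subtype.val (mul_comm' (⟨b, hOS' (hAO hb)⟩ : (S' : Subgroup G)) ⟨_, hOS' h1⟩)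
    show MulAut.conj l a ^ p = 1
    rw [← map_pow, hA.2 a ha, map_one])
  -- an abelian Sylow `r`-subgroup of `L`
  obtain ⟨T, hRT, hTL, hTr, hTi⟩ := exists_sylow_ge hRL hRr
  haveI hTc := sigma'_pgroup_commutative hG hL hTL hTr hrLσ
  have hTnc : ¬ IsCyclic T := fun hc => hrr1 (pRankLE_of_sylow_rel hTL hTr hTi fun U _ he => by
    haveI := hc
    rw [pow_one]
    exact Nat.le_of_dvd hr.pos (IsCyclic.exponent_eq_card (α := U) ▸
      Monoid.exponent_dvd_of_forall_pow_eq_one fun u => Subtype.ext (he u u.2)))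
  obtain ⟨B, hBT, -, hB, hB2⟩ := exists_elementary_two (p_ne_two hG.1 hTr fun e => hTnc (e ▸ inferInstance)) hTr hTnc
  obtain ⟨b, hbB, hbM⟩ : ∃ b ∈ B, b ∉ M := by
    by_contra hall
    push Not at hall
    have := card_le_of_pRankLE hr1 (fun b hb => hall b hb) hB.1 hB.2
    rw [hB2] at this
    exact absurd ((Nat.pow_le_pow_iff_right hr.one_lt).mp this) (by omega)
  have hbN : b ∈ N := hLA (hTL (hBT hbB))
  have hbz : Commute b z := congrArg Subtype.val (mul_comm' (⟨b, hBT hbB⟩ : T) ⟨z, hRT hzR⟩)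
  set φ := A.normalizerMonoidHom with hφ
  have hker : ∀ (w : G) (hw : w ∈ N), φ ⟨w, hw⟩ = 1 ↔ w ∈ centralizer (A : Set G) := fun w hw => by
    rw [hφ, ← MonoidHom.mem_ker, Subgroup.normalizerMonoidHom_ker, Subgroup.mem_subgroupOf]
  obtain ⟨a, ha, ha1⟩ : ∃ a ∈ A, a ≠ 1 := by
    by_contra hall
    push Not at hall
    exact hexc.two.ne_bot ((Subgroup.eq_bot_iff_forall A).mpr hall)
  refine ha1 ?_
  have hfix := exists_fixed_of_commuting (φ ⟨b, hbN⟩) (φ ⟨z, hzN⟩) hr
    (by rw [← map_pow]; exact (hker _ (N.pow_mem hbN r)).mpr (by rw [hB.2 b hbB]; exact one_mem _))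
    (by rw [← map_pow]; exact (hker _ (N.pow_mem hzN r)).mpr hzr)
    ((show Commute (⟨b, hbN⟩ : N) ⟨z, hzN⟩ from Subtype.ext hbz).map φ) (fun i j hij v hv => by
      rw [← map_pow, ← map_pow, ← map_mul] at hv
      set w := b ^ i * z ^ j with hw
      have hwN : w ∈ N := mul_mem (N.pow_mem hbN i) (N.pow_mem hzN j)
      have hvw : w * (v : G) * w⁻¹ = v := congrArg Subtype.val hv
      by_cases hwC : w ∈ centralizer (A : Set G)
      · exfalso
        have hbi : b ^ i ∈ M := by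
          have := M.mul_mem (hCM hwC) (M.inv_mem (M.pow_mem (hRM hzR) j))
          rwa [hw, mul_inv_cancel_right] at this
        have hri : r ∣ i := by
          by_contra hni
          obtain ⟨m, hm⟩ := exists_pow_eq_self_of_coprime (x := b) (n := i) (by
            exact Nat.Coprime.coprime_dvd_right (orderOf_dvd_of_pow_eq_one (hB.2 b hbB))
              (hr.coprime_iff_not_dvd.mpr hni).symm)
          exact hbM (hm ▸ M.pow_mem hbi m)
        have hrj : ¬ r ∣ j := hij.resolve_left fun h => h hri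
        obtain ⟨i', rfl⟩ := hri
        rw [hw, pow_mul, hB.2 b hbB, one_pow, one_mul] at hwC
        refine hzC ?_
        have hg : z ^ Nat.gcd j r ∈ centralizer (A : Set G) := by
          rw [← zpow_natCast, Nat.gcd_eq_gcd_ab, zpow_add, zpow_mul, zpow_mul, zpow_natCast, zpow_natCast]
          exact mul_mem (zpow_mem hwC _) (zpow_mem hzr _)
        rwa [(hr.coprime_iff_not_dvd.mpr hrj).symm.gcd_eq_one, pow_one] at hg
      · have := (hirr w hwN hwC).le (show (v : G) ∈ A ⊓ centralizer ({w} : Set G) from ⟨v.2,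
          Subgroup.mem_centralizer_singleton_iff.mpr (by nth_rw 1 [← hvw]; group)⟩)
        exact Subtype.ext (Subgroup.mem_bot.mp this)) ⟨a, ha⟩
  have h1 : a ^ r = 1 := congrArg Subtype.val hfix
  rw [← orderOf_eq_one_iff]
  exact Nat.eq_one_of_dvd_coprimes ((Nat.coprime_primes hr hpp).mpr hrp) (orderOf_dvd_of_pow_eq_one h1)
    (orderOf_dvd_of_pow_eq_one (hA.2 a ha))

/-- An invariant cyclic subgroup of maximal order acting fixed-point-freely on `M_σ`. -/
theorem abelian_good_cyclic :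
    ∃ (S : Sylow p G) (d : ℕ) (y : G), (S : Subgroup G) ≤ E ∧ E ≤ normalizer ((S : Subgroup G) : Set G) ∧
      y ∈ (S : Subgroup G) ∧ orderOf y = p ^ (d + 1) ∧ (∀ v ∈ (S : Subgroup G), v ^ p ^ (d + 1) = 1) ∧
      E ≤ normalizer (zpowers y : Set G) ∧ sigmaCore M ⊓ centralizer ({y ^ p ^ d} : Set G) = ⊥ := by
  have hpp : p.Prime := Fact.out
  obtain ⟨S, hAS, hSE, hom, hNS, -⟩ := abelian_tau2_sylow hG hM hE hp hab hAE hA hA2
  obtain ⟨⟨hEA, -⟩, -, -⟩ := Cfsg.Agent.S1418.result hG M hM E hE p hp A ⟨hAE, hA, hA2⟩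
  obtain ⟨A₀, hexc⟩ := exists_exc hG hM hp (hAE.trans hE.1) hA hA2
  haveI hSc := hab S
  have hSM : (S : Subgroup G) ≤ M := hSE.trans hE.1
  obtain ⟨-, -, A₁, -, hA₁, -, hA₁c, -, -, hA₁fix, -⟩ := hexc.structure' hG hM hAS hSM S.2
    fun hd => S.not_dvd_index (hd.trans (Dvd.intro _ (Subgroup.relIndex_mul_index hSM)))
  obtain ⟨d, hexp, x, hx, hx1⟩ := exists_max_order S.2 hSc
    fun e => hexc.two.ne_bot (le_bot_iff.mp (e ▸ hAS))
  set U : Subgroup G := (powMonoidHom (p ^ d) : (S : Subgroup G) →* (S : Subgroup G)).range.map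
    (S : Subgroup G).subtype with hU
  have hmemU : ∀ v ∈ (S : Subgroup G), v ^ p ^ d ∈ U := fun v hv =>
    ⟨(⟨v, hv⟩ : (S : Subgroup G)) ^ p ^ d, ⟨⟨v, hv⟩, rfl⟩, rfl⟩
  have hUA : U ≤ A := by
    rintro _ ⟨_, ⟨v, rfl⟩, rfl⟩
    refine (hom _ (SetLike.coe_mem _)).mp ?_
    show ((v : G) ^ p ^ d) ^ p = 1
    rw [← pow_mul, ← pow_succ]
    exact hexp v v.2
  have hNU : normalizer (A : Set G) ≤ normalizer (U : Set G) := fun n hn => mem_normalizer_of_conj_smul (by
    refine Subgroup.eq_of_le_of_card_ge ?_ (CfsgLib.card_conj_smul n U).ge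
    rintro _ ⟨_, ⟨_, ⟨v, rfl⟩, rfl⟩, rfl⟩
    show MulAut.conj n ((v : G) ^ p ^ d) ∈ U
    rw [map_pow]
    exact hmemU _ ((Subgroup.mem_normalizer_iff.mp (hNS hn) _).mp v.2))
  obtain ⟨L, hLU, hLc, hEL, hLfix⟩ : ∃ L : Subgroup G, L ≤ U ∧ Nat.card L = p ∧
      E ≤ normalizer (L : Set G) ∧ sigmaCore M ⊓ centralizer (L : Set G) = ⊥ := by
    by_cases hUeq : U = A
    · by_cases hex : ∃ X : Subgroup G, X ≤ A ∧ Nat.card X = p ∧ normalizer (A : Set G) ≤ normalizer (X : Set G)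
      · obtain ⟨X, hXA, hXc, hNX⟩ := hex
        exact ⟨X, hUeq ▸ hXA, hXc, hEA.trans hNX, line_good hG hM hE hAE hA hA2 hp hXA hXc hNX⟩
      · push Not at hex
        exact ⟨A₁, hUeq ▸ hA₁, hA₁c, complement_fixes_lines hG hM hE hAE hA hA2 hp hab hfpf hex hA₁, hA₁fix⟩
    · have hUc := card_line hA2 hUA (fun e => hx1 (Subgroup.mem_bot.mp (e ▸ hmemU x hx))) hUeq
      exact ⟨U, le_rfl, hUc, hEA.trans hNU, line_good hG hM hE hAE hA hA2 hp hUA hUc hNU⟩
  obtain ⟨⟨l, hlL⟩, hlo⟩ := exists_prime_orderOf_dvd_card' (G := L) p (dvd_of_eq hLc.symm)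
  rw [Subgroup.orderOf_mk] at hlo
  have hlL' : zpowers l = L := Subgroup.eq_of_le_of_card_ge (Subgroup.zpowers_le.mpr hlL)
    (by rw [Nat.card_zpowers, hlo, hLc])
  obtain ⟨_, ⟨v, rfl⟩, hv⟩ := hLU hlL
  have hv' : (v : G) ^ p ^ d = l := hv
  obtain ⟨y, hyS, hyo, hEy, hyd⟩ := exists_invariant_cyclic hSc (hEA.trans hNS) (fun hd => by
      refine S.not_dvd_index (hd.trans ((Subgroup.relIndex_dvd_of_le_left E ?_).trans
        (Dvd.intro _ (Subgroup.relIndex_mul_index hSE))))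
      exact Subgroup.le_centralizer _) hexp v.2
    (fun e => by rw [← hv', e, orderOf_one] at hlo; exact hpp.one_lt.ne hlo)
    (by rw [hv', hlL']; exact hEL)
  refine ⟨S, d, y, hSE, hEA.trans hNS, hyS, hyo, hexp, hEy, ?_⟩
  rw [← Subgroup.centralizer_closure, ← Subgroup.zpowers_eq_closure, hyd, hv', hlL']
  exact hLfix

end Lines

section Conclude

variable (hG : IsMinSimpleOddOrder G) {M : Subgroup G} (hM : IsCoatom M)
  {E : Subgroup G} (hE : IsComplIn E (sigmaCore M) M) (hfpf : FpfHyp M E)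

include hG hM hE hfpf

/-- An element with a fixed point is a `τ₂(M)`-element. -/
theorem tau2_of_fixed {e : G} (he : e ∈ E) {x : G} (hx : x ∈ sigmaCore M) (hx1 : x ≠ 1)
    (hex : e * x = x * e) : ∀ r : ℕ, r.Prime → r ∣ orderOf e → r ∈ tau2 M := by
  intro r hr hd
  have hrE : r ∣ Nat.card E := hd.trans (Subgroup.orderOf_dvd_natCard _ he)
  by_contra hτ
  have hτ13 : r ∈ tau1 M ∪ tau3 M := by
    rcases tau_cases hG hM hE hr hrE with h | h | h
    · exact Or.inl h
    · exact absurd h hτ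
    · exact Or.inr h
  obtain ⟨k, hk⟩ := hd
  have hk0 : k ≠ 0 := fun e0 => (orderOf_pos e).ne' (by rw [hk, e0, mul_zero])
  set w := e ^ k with hw
  have hwo : orderOf w = r := by
    rw [hw, orderOf_pow' e hk0, hk, Nat.gcd_eq_right (Dvd.intro_left r rfl),
      Nat.mul_div_cancel _ (Nat.pos_of_ne_zero hk0)]
  have := hfpf w (E.pow_mem he k) (fun e1 => by rw [e1, orderOf_one] at hwo; exact hr.one_lt.ne hwo)
    fun t ht htd => by rw [(Nat.prime_dvd_prime_iff_eq ht hr).mp (hwo ▸ htd)]; exact hτ13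
  exact hx1 (Subgroup.mem_bot.mp (this.le ⟨hx,
    Subgroup.mem_centralizer_singleton_iff.mpr ((show Commute e x from hex).pow_left k).eq.symm⟩))

/-- The test for a subgroup of full exponent acting fixed-point-freely. -/
theorem full_exponent_fpf {E₀ : Subgroup G} (hE₀ : E₀ ≤ E)
    (h2 : ∀ r : ℕ, r.Prime → r ∉ tau2 M → ¬ r ∣ E₀.relIndex E)
    (h1 : ∀ r : ℕ, r.Prime → r ∈ tau2 M →
      (∃ y ∈ E₀, ∀ v ∈ E, (∃ k, orderOf v = r ^ k) → orderOf v ∣ orderOf y) ∧
      ∀ e ∈ E₀, orderOf e = r → sigmaCore M ⊓ centralizer ({e} : Set G) = ⊥) :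
    Monoid.exponent E₀ = Monoid.exponent E ∧
      ∀ e ∈ E₀, e ≠ 1 → sigmaCore M ⊓ centralizer ({e} : Set G) = ⊥ := by
  haveI hEs : Group.IsSolvable E := solvable_of_le hE.1 (solvable_of_ne_top hG hM.1)
  constructor
  · refine Nat.dvd_antisymm (Monoid.exponent_dvd_of_forall_pow_eq_one fun e => Subtype.ext
      (by simpa using congrArg Subtype.val (Monoid.pow_exponent_eq_one (⟨e, hE₀ e.2⟩ : E)))) ?_
    have key : ∀ v ∈ E, ∀ r k : ℕ, r.Prime → orderOf v = r ^ k → ∃ y ∈ E₀, r ^ k ∣ orderOf y := by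
      intro v hv r k hr hvo
      haveI := Fact.mk hr
      by_cases hτ : r ∈ tau2 M
      · obtain ⟨⟨y, hy, hyd⟩, -⟩ := h1 r hr hτ
        exact ⟨y, hy, hvo ▸ hyd v hv ⟨k, hvo⟩⟩
      obtain ⟨T, -, hTE₀, hTr, hTi⟩ := exists_sylow_ge (p := r) (R := (⊥ : Subgroup G)) (X := E₀) bot_le
        IsPGroup.of_bot
      have hTE : ¬ r ∣ T.relIndex E := by
        rw [← Subgroup.relIndex_mul_relIndex T E₀ E hTE₀ hE₀]
        exact fun hd => (hr.dvd_mul.mp hd).elim hTi (h2 r hr hτ)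
      obtain ⟨m, -, hle⟩ := CfsgLib.pi_le_conj_hall (π := ({r} : Set ℕ)) hEs
        ⟨hTE₀.trans hE₀, fun t ht hd => card_dvd_of_pgroup hTr ht hd, fun t ht htr hd => hTE (htr ▸ hd)⟩
        (U := zpowers v) (Subgroup.zpowers_le.mpr hv) fun t ht hd => by
          rw [Nat.card_zpowers, hvo] at hd
          exact (Nat.prime_dvd_prime_iff_eq ht hr).mp (ht.dvd_of_dvd_pow hd)
      refine ⟨MulAut.conj m v, hTE₀ (hle (Subgroup.smul_mem_pointwise_smul v _ _ (Subgroup.mem_zpowers v))), ?_⟩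
      rw [MulEquiv.orderOf_eq, hvo]
    refine Monoid.exponent_dvd.mpr fun v => ?_
    rw [← Subgroup.orderOf_coe, Nat.dvd_iff_prime_pow_dvd_dvd]
    intro r k hr hd
    obtain ⟨m, hm⟩ := hd
    have hm0 : m ≠ 0 := fun e0 => (orderOf_pos (v : G)).ne' (by rw [hm, e0, mul_zero])
    have hvo : orderOf ((v : G) ^ m) = r ^ k := by
      rw [orderOf_pow' _ hm0, hm, Nat.gcd_eq_right (Dvd.intro_left _ rfl),
        Nat.mul_div_cancel _ (Nat.pos_of_ne_zero hm0)]
    obtain ⟨y, hy, hyd⟩ := key _ (E.pow_mem v.2 m) r k hr hvo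
    exact hyd.trans ((Subgroup.orderOf_mk y hy).symm ▸ Monoid.order_dvd_exponent (⟨y, hy⟩ : E₀))
  · intro e he he1
    rw [eq_bot_iff]
    rintro x ⟨hx, hxe⟩
    rw [Subgroup.mem_bot]
    by_contra hx1
    have hex : e * x = x * e := (Subgroup.mem_centralizer_singleton_iff.mp hxe).symm
    obtain ⟨r, hr, hd⟩ := Nat.exists_prime_and_dvd fun e0 => he1 (orderOf_eq_one_iff.mp e0)
    have hτ := tau2_of_fixed hG hM hE hfpf (hE₀ he) hx hx1 hex r hr hd
    obtain ⟨k, hk⟩ := hd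
    have hk0 : k ≠ 0 := fun e0 => (orderOf_pos e).ne' (by rw [hk, e0, mul_zero])
    have hwo : orderOf (e ^ k) = r := by
      rw [orderOf_pow' e hk0, hk, Nat.gcd_eq_right (Dvd.intro_left r rfl),
        Nat.mul_div_cancel _ (Nat.pos_of_ne_zero hk0)]
    exact hx1 (Subgroup.mem_bot.mp (((h1 r hr hτ).2 _ (E₀.pow_mem he k) hwo).le ⟨hx,
      Subgroup.mem_centralizer_singleton_iff.mpr ((show Commute e x from hex).pow_left k).eq.symm⟩))

/-- B–G 12.11 when the Sylow subgroups at the primes of `τ₂(M)` are abelian. -/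
theorem criterion_abelian (hab : ∀ (r : ℕ) (_ : Fact r.Prime), r ∈ tau2 M →
      ∀ S : Sylow r G, IsMulCommutative (S : Subgroup G)) :
    (∃ A₀ : Subgroup G, A₀ ≤ E ∧ E ≤ normalizer (A₀ : Set G) ∧ IsMulCommutative A₀ ∧
      ∀ x ∈ sigmaCore M, x ≠ 1 → E ⊓ centralizer ({x} : Set G) ≤ A₀) ∧
    ∃ E₀ : Subgroup G, E₀ ≤ E ∧ Monoid.exponent E₀ = Monoid.exponent E ∧
      ∀ e ∈ E₀, e ≠ 1 → sigmaCore M ⊓ centralizer ({e} : Set G) = ⊥ := by
  haveI hEs : Group.IsSolvable E := solvable_of_le hE.1 (solvable_of_ne_top hG hM.1)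
  have hdata : ∀ (r : ℕ) (hr : r ∈ tau2 M), ∃ (y : G) (d : ℕ),
      IsMulCommutative (piCoreOf {r} E) ∧ ¬ r ∣ (piCoreOf {r} E).relIndex E ∧
      y ∈ piCoreOf {r} E ∧ orderOf y = r ^ (d + 1) ∧ (∀ v ∈ piCoreOf {r} E, v ^ r ^ (d + 1) = 1) ∧
      E ≤ normalizer (zpowers y : Set G) ∧ sigmaCore M ⊓ centralizer ({y ^ r ^ d} : Set G) = ⊥ := by
    intro r hr
    haveI := Fact.mk hr.1
    obtain ⟨A, hAE, hA, hA2⟩ := exists_elementary_in_complement hG hM hE hr
    obtain ⟨S, d, y, hSE, hES, hyS, hyo, hexp, hEy, hfix⟩ :=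
      abelian_good_cyclic hG hM hE hAE hA hA2 hr (hab r inferInstance hr) hfpf
    have hO : piCoreOf {r} E = (S : Subgroup G) := S.3 (isPGroup_piCoreOf r E)
      (le_piCoreOf hSE hES fun t ht htd => card_dvd_of_pgroup S.2 ht htd)
    rw [hO]
    exact ⟨y, d, hab r inferInstance hr S,
      fun hd => S.not_dvd_index (hd.trans (Dvd.intro _ (Subgroup.relIndex_mul_index hSE))),
      hyS, hyo, hexp, hEy, hfix⟩
  set P : ℕ → Subgroup G := fun r => piCoreOf {r} E with hP
  have hPE : ∀ r, P r ≤ E := fun r => piCoreOf_le _ _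
  have hEP : ∀ r, E ≤ normalizer (P r : Set G) := fun r => le_normalizer_piCoreOf_self _ _
  have hinvSup : ∀ f : {r // r ∈ tau2 M} → Subgroup G, (∀ i, E ≤ normalizer (f i : Set G)) →
      E ≤ normalizer ((⨆ i, f i : Subgroup G) : Set G) := fun f hf e he => mem_normalizer_of_conj_smul (by
    refine Subgroup.eq_of_le_of_card_ge ?_ (CfsgLib.card_conj_smul e _).ge
    rw [Subgroup.pointwise_smul_subset_iff]
    refine iSup_le fun i => ?_
    rw [← Subgroup.pointwise_smul_subset_iff]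
    exact (conj_smul_eq_of_mem_normalizer (hf i he)).le.trans (le_iSup f i))
  constructor
  · set A₀ : Subgroup G := ⨆ i : {r // r ∈ tau2 M}, P i.1 with hA₀
    refine ⟨A₀, iSup_le fun i => hPE _, hinvSup _ fun i => hEP _, ?_, ?_⟩
    · refine Subgroup.le_centralizer_iff_isMulCommutative.mp (iSup_le fun i => ?_)
      refine Subgroup.le_centralizer_iff.mp (iSup_le fun j => ?_)
      by_cases e : j = i
      · subst e
        obtain ⟨-, -, hc, -⟩ := hdata j.1 j.2
        haveI := hc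
        exact Subgroup.le_centralizer _
      · haveI := Fact.mk i.2.1
        haveI := Fact.mk j.2.1
        exact centralizes_of_normalize ((hPE _).trans (hEP _)) ((hPE _).trans (hEP _))
          (coprime_pGroups j.2.1 i.2.1 (fun e' => e (Subtype.ext e')) (isPGroup_piCoreOf _ _) (isPGroup_piCoreOf _ _))
    rintro x hx hx1 e ⟨he, hec⟩
    have hτ := tau2_of_fixed hG hM hE hfpf he hx hx1 (Subgroup.mem_centralizer_singleton_iff.mp hec)
    haveI : (A₀.subgroupOf E).Normal := (Subgroup.normal_subgroupOf_iff_le_normalizer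
      (iSup_le fun i => hPE _)).mpr (hinvSup _ fun i => hEP _)
    have h1 : zpowers (⟨e, he⟩ : E) ≤ A₀.subgroupOf E := by
      refine Subgroup.relIndex_eq_one.mp (Nat.eq_one_iff_not_exists_prime_dvd.mpr fun r hr hd => ?_)
      have hre : r ∣ orderOf e := by
        have := hd.trans (Subgroup.relIndex_dvd_card _ _)
        rwa [Nat.card_zpowers, Subgroup.orderOf_mk] at this
      obtain ⟨-, -, -, hi, -⟩ := hdata r (hτ r hr hre)
      exact hi ((hd.trans (Subgroup.relIndex_dvd_index_of_normal _ _)).trans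
        (Subgroup.relIndex_dvd_of_le_left E (le_iSup (fun i : {r // r ∈ tau2 M} => P i.1) ⟨r, hτ r hr hre⟩)))
    exact h1 (Subgroup.mem_zpowers _)
  · choose y d hc hi hy hyo hexp hEy hfix using hdata
    obtain ⟨H, hH⟩ := CfsgLib.exists_isPiHallOf {r | r ∉ tau2 M} hEs
    set Y : Subgroup G := ⨆ i : {r // r ∈ tau2 M}, zpowers (y i.1 i.2) with hY
    have hyE : ∀ i : {r // r ∈ tau2 M}, zpowers (y i.1 i.2) ≤ E := fun i =>
      Subgroup.zpowers_le.mpr (hPE i.1 (hy i.1 i.2))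
    refine ⟨H ⊔ Y, sup_le hH.1 (iSup_le hyE), full_exponent_fpf hG hM hE hfpf (sup_le hH.1 (iSup_le hyE))
      (fun r hr hτ hd => hH.2.2 r hr hτ (hd.trans (Subgroup.relIndex_dvd_of_le_left E le_sup_left)))
      fun p hpr hτ => ?_⟩
    haveI := Fact.mk hpr
    refine ⟨⟨y p hτ, Subgroup.mem_sup_right (le_iSup (fun i : {r // r ∈ tau2 M} => zpowers (y i.1 i.2)) ⟨p, hτ⟩
      (Subgroup.mem_zpowers _)), fun v hv ⟨k, hk⟩ => ?_⟩, fun e he heo => ?_⟩
    · rw [hyo]
      refine orderOf_dvd_of_pow_eq_one (hexp p hτ v ?_)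
      haveI : ((P p).subgroupOf E).Normal := (Subgroup.normal_subgroupOf_iff_le_normalizer (hPE p)).mpr (hEP p)
      have h1 : zpowers (⟨v, hv⟩ : E) ≤ (P p).subgroupOf E := by
        refine Subgroup.relIndex_eq_one.mp (Nat.eq_one_iff_not_exists_prime_dvd.mpr fun t ht htd => ?_)
        have h2 := htd.trans (Subgroup.relIndex_dvd_card _ _)
        rw [Nat.card_zpowers, Subgroup.orderOf_mk, hk] at h2
        have h3 := (Nat.prime_dvd_prime_iff_eq ht hpr).mp (ht.dvd_of_dvd_pow h2)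
        subst h3
        exact hi t hτ (htd.trans (Subgroup.relIndex_dvd_index_of_normal _ _))
      exact h1 (Subgroup.mem_zpowers _)
    -- `⟨y⟩` is the Sylow `p`-subgroup of `H ⊔ Y`
    have hHp : ∀ r : ℕ, r.Prime → r ∣ Nat.card H → r ∈ {r : ℕ | r ≠ p} := fun r hr hd hrp =>
      hH.2.1 r hr hd (hrp ▸ hτ)
    obtain ⟨K, hK, hHK⟩ := exists_hall_ge (π := {r : ℕ | r ≠ p}) hEs hH.1 hHp
    set Z := zpowers (y p hτ) with hZ
    have hsup : H ⊔ Y ≤ Z ⊔ K := by
      refine sup_le (hHK.trans le_sup_right) (iSup_le fun i => ?_)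
      by_cases ei : i.1 = p
      · obtain ⟨i, hi'⟩ := i
        subst ei
        exact le_sup_left
      · haveI := Fact.mk i.2.1
        exact (normal_le_hall hEs hK (hyE i) (hEy i.1 i.2) fun t ht htd => by
          rw [Nat.card_zpowers, hyo] at htd
          rw [(Nat.prime_dvd_prime_iff_eq ht i.2.1).mp (ht.dvd_of_dvd_pow htd)]
          exact ei).trans le_sup_right
    have hKZ : K ≤ normalizer (Z : Set G) := hK.1.trans (hEy p hτ)
    have heZK : e ∈ Z ⊔ K := hsup he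
    rw [← SetLike.mem_coe, Subgroup.coe_mul_of_right_le_normalizer_left Z K hKZ] at heZK
    obtain ⟨a, ha, b, hb, rfl⟩ := Set.mem_mul.mp heZK
    have hbn : b ∈ normalizer (Z : Set G) := hKZ hb
    have hpowK : ∀ n : ℕ, ∃ a' ∈ Z, (a * b) ^ n = a' * b ^ n := fun n => by
      induction n with
      | zero => exact ⟨1, one_mem _, by simp⟩
      | succ n ih =>
        obtain ⟨a', ha', e'⟩ := ih
        refine ⟨a' * (b ^ n * a * (b ^ n)⁻¹), mul_mem ha'
          ((Subgroup.mem_normalizer_iff.mp ((normalizer (Z : Set G)).pow_mem hbn n) a).mp ha), ?_⟩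
        rw [pow_succ, e', pow_succ]
        group
    obtain ⟨a', ha', e'⟩ := hpowK p
    have he1 : (a * b) ^ p = 1 := heo ▸ pow_orderOf_eq_one _
    rw [he1] at e'
    have hb1 : b = 1 := by
      have hbp : b ^ p ∈ Z ⊓ K := by
        refine ⟨?_, K.pow_mem hb p⟩
        show b ^ p ∈ Z
        rw [eq_inv_of_mul_eq_one_right e'.symm]
        exact inv_mem ha'
      have hcop : (Nat.card Z).Coprime (Nat.card K) := by
        rw [hZ, Nat.card_zpowers, hyo]
        exact ((Fact.out : p.Prime).coprime_iff_not_dvd.mpr fun h => hK.2.1 p Fact.out h rfl).pow_left _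
      rw [disjoint_iff.mp (Subgroup.disjoint_of_coprime_natCard hcop), Subgroup.mem_bot] at hbp
      rw [← orderOf_eq_one_iff]
      exact Nat.eq_one_of_dvd_coprimes
        ((Fact.out : p.Prime).coprime_iff_not_dvd.mpr fun h => hK.2.1 p Fact.out h rfl)
        (orderOf_dvd_of_pow_eq_one hbp) (Subgroup.orderOf_dvd_natCard _ hb)
    subst hb1
    rw [mul_one] at heo ⊢
    have e2 : zpowers (⟨a, ha⟩ : Z) = zpowers (⟨y p hτ ^ p ^ d p hτ, Subgroup.pow_mem _ (Subgroup.mem_zpowers _) _⟩ : Z) := by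
      refine CfsgLib.PowerGraph.subgroup_eq_of_card ?_
      rw [Nat.card_zpowers, Nat.card_zpowers, Subgroup.orderOf_mk, Subgroup.orderOf_mk, heo,
        orderOf_pow' _ (pow_ne_zero _ hpr.ne_zero), hyo, pow_succ, Nat.gcd_eq_right (Dvd.intro _ rfl),
        Nat.mul_div_cancel_left _ (pow_pos hpr.pos _)]
    obtain ⟨j, hj⟩ := Subgroup.mem_zpowers_iff.mp (e2.ge (Subgroup.mem_zpowers _))
    have hj' : a ^ j = y p hτ ^ p ^ d p hτ := congrArg Subtype.val hj
    rw [eq_bot_iff, ← hfix p hτ]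
    rintro c ⟨hc1, hc2⟩
    refine ⟨hc1, Subgroup.mem_centralizer_singleton_iff.mpr ?_⟩
    rw [← hj']
    exact ((show Commute c a from Subgroup.mem_centralizer_singleton_iff.mp hc2).zpow_right j).eq

end Conclude

section NonAbelian

variable (hG : IsMinSimpleOddOrder G) {M : Subgroup G} (hM : IsCoatom M)
  {E : Subgroup G} (hE : IsComplIn E (sigmaCore M) M) (hfpf : FpfHyp M E)

include hG hM hE hfpf

/-- B–G 12.11 when the Sylow subgroups at the prime of `τ₂(M)` are nonabelian. -/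
theorem criterion_nonabelian (hp : p ∈ tau2 M) (hS : ∀ S : Sylow p G, ¬ IsMulCommutative (S : Subgroup G)) :
    (∃ A₀ : Subgroup G, A₀ ≤ E ∧ E ≤ normalizer (A₀ : Set G) ∧ IsMulCommutative A₀ ∧
      ∀ x ∈ sigmaCore M, x ≠ 1 → E ⊓ centralizer ({x} : Set G) ≤ A₀) ∧
    ∃ E₀ : Subgroup G, E₀ ≤ E ∧ Monoid.exponent E₀ = Monoid.exponent E ∧
      ∀ e ∈ E₀, e ≠ 1 → sigmaCore M ⊓ centralizer ({e} : Set G) = ⊥ := by
  have hpp : p.Prime := Fact.out
  haveI hEs : Group.IsSolvable E := solvable_of_le hE.1 (solvable_of_ne_top hG hM.1)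
  obtain ⟨A, hAE, hA, hA2⟩ := exists_elementary_in_complement hG hM hE hp
  obtain ⟨hτ, ⟨hA₁c, -⟩, hgood⟩ := Cfsg.Agent.S1419.result hG M hM E hE p hp hS A ⟨hAE, hA, hA2⟩
  obtain ⟨⟨hEA, -⟩, -, -⟩ := Cfsg.Agent.S1418.result hG M hM E hE p hp A ⟨hAE, hA, hA2⟩
  obtain ⟨A₀, hexc⟩ := exists_exc hG hM hp (hAE.trans hE.1) hA hA2
  set A₁ := A ⊓ centralizer (sigmaCore M : Set G) with hA₁
  haveI := hA.1
  have hMN : M ≤ normalizer (sigmaCore M : Set G) := le_normalizer_sigmaCore hG hM le_rfl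
  have hEA₁ : E ≤ normalizer (A₁ : Set G) := fun e he => mem_normalizer_of_conj_smul (by
    rw [hA₁, Subgroup.smul_inf, conj_smul_eq_of_mem_normalizer (hEA he), conj_smul_eq_of_mem_normalizer
      (CfsgLib.CharP.normalizer_le_normalizer_centralizer _ (hMN (hE.1 he)))])
  have hA₁1 : A₁ ≠ ⊥ := fun e => by
    rw [e, Subgroup.card_bot] at hA₁c
    exact hpp.one_lt.ne hA₁c
  have hA₁M : A₁ ≤ M := inf_le_left.trans (hAE.trans hE.1)
  have hNA₁ : normalizer (A₁ : Set G) = M :=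
    normalizer_eq hG hM hA₁1 (fun e => hM.1 (top_le_iff.mp (e ▸ hA₁M))) fun m hm => by
      obtain ⟨e, he, s, hs, rfl⟩ := hE.2.2.2 m hm
      exact mul_mem (hEA₁ he) (Subgroup.centralizer_le_normalizer _ fun a ha => (ha.2 s hs).symm)
  obtain ⟨P, hAP, hPE, hPp, hPi⟩ := exists_sylow_ge hAE hexc.two.isPGroup
  have hPM : P ≤ M := hPE.trans hE.1
  haveI hPc := sigma'_pgroup_commutative hG hM hPM hPp hp.2.1
  have hPiM : ¬ p ∣ P.relIndex M := by
    rw [← Subgroup.relIndex_mul_relIndex P E M hPE hE.1]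
    exact fun hd => (hpp.dvd_mul.mp hd).elim hPi ((complement_hall hG hM hE).2.2 p hpp hp.2.1)
  obtain ⟨hom, -, -⟩ := hexc.structure' hG hM hAP hPM hPp hPiM
  obtain ⟨g, hgP, hgM⟩ := hexc.exists_move hG hM hPM hPp hPiM
  obtain ⟨S, hPS⟩ := hPp.exists_le_sylow
  obtain ⟨C, hC, hpow⟩ := powers_cyclic hG hexc.two S hPS hAP (fun a ha b hb =>
    congrArg Subtype.val (mul_comm' (⟨b, hb⟩ : P) ⟨a, hAP ha⟩)) (hS S)
  haveI := hC
  -- a conjugation normalising `P` fixes the lines of proper powers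
  have hmove : ∀ n ∈ normalizer (P : Set G), ∀ x ∈ P, ∀ j : ℕ, orderOf (x ^ p ^ (j + 1)) = p →
      n ∈ normalizer (zpowers (x ^ p ^ (j + 1)) : Set G) := by
    intro n hn x hx j ho
    set w := x ^ p ^ (j + 1) with hw
    have hwC : w ∈ C := by
      rw [hw, pow_succ, pow_mul]
      exact hpow _ (P.pow_mem hx _)
    have hnwC : MulAut.conj n w ∈ C := by
      rw [hw, pow_succ, pow_mul, map_pow]
      exact hpow _ ((Subgroup.mem_normalizer_iff.mp hn _).mp (P.pow_mem hx _))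
    have e : zpowers (⟨MulAut.conj n w, hnwC⟩ : C) = zpowers (⟨w, hwC⟩ : C) := by
      refine CfsgLib.PowerGraph.subgroup_eq_of_card ?_
      rw [Nat.card_zpowers, Nat.card_zpowers, Subgroup.orderOf_mk, Subgroup.orderOf_mk, MulEquiv.orderOf_eq]
    obtain ⟨i, hi⟩ := Subgroup.mem_zpowers_iff.mp (e.le (Subgroup.mem_zpowers _))
    have hi' : w ^ i = MulAut.conj n w := congrArg Subtype.val hi
    refine mem_normalizer_of_conj_smul (Subgroup.eq_of_le_of_card_ge ?_ (CfsgLib.card_conj_smul n _).ge)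
    rintro _ ⟨v, hv, rfl⟩
    obtain ⟨t, rfl⟩ := Subgroup.mem_zpowers_iff.mp hv
    show MulAut.conj n (w ^ t) ∈ zpowers w
    rw [map_zpow, ← hi', ← zpow_mul]
    exact Subgroup.zpow_mem_zpowers w _
  have hkey : ∀ x ∈ P, ∀ j : ℕ, orderOf (x ^ p ^ (j + 1)) = p → zpowers (x ^ p ^ (j + 1)) ≠ A₁ :=
    fun x hx j ho e => hgM (hNA₁.le (e ▸ hmove g hgP x hx j ho))
  have hfix : ∀ X : Subgroup G, X ≤ E → Nat.card X = p → X ≠ A₁ →
      sigmaCore M ⊓ centralizer (X : Set G) = ⊥ := fun X h1 h2 h3 => (hgood X h1 h2 h3).1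
  refine ⟨⟨A₁, inf_le_left.trans hAE, hEA₁,
    ⟨⟨fun a b => Subtype.ext (show (a : G) * (b : G) = b * a from
      congrArg (fun t : A => (t : G)) (mul_comm' (⟨a, a.2.1⟩ : A) ⟨b, b.2.1⟩))⟩⟩, ?_⟩, ?_⟩
  · rintro x hx hx1 e ⟨he, hec⟩
    have hτe := tau2_of_fixed hG hM hE hfpf he hx hx1 (Subgroup.mem_centralizer_singleton_iff.mp hec)
    obtain ⟨m, hm, hle⟩ := CfsgLib.pi_le_conj_hall (π := ({p} : Set ℕ)) (U := zpowers e) hEs
      ⟨hPE, fun t ht hd => card_dvd_of_pgroup hPp ht hd, fun t ht htp hd => hPi (htp ▸ hd)⟩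
      (Subgroup.zpowers_le.mpr he) fun t ht hd => by
        rw [Nat.card_zpowers] at hd
        exact hτ.le (hτe t ht hd)
    have hvP : MulAut.conj m e ∈ P := hle (Subgroup.smul_mem_pointwise_smul e _ _ (Subgroup.mem_zpowers e))
    set v := MulAut.conj m e with hv
    set x' := MulAut.conj m x with hx'
    have hx's : x' ∈ sigmaCore M := (Subgroup.mem_normalizer_iff.mp (hMN (hE.1 hm)) x).mp hx
    have hx'1 : x' ≠ 1 := fun h => hx1 ((MulAut.conj m).injective (h.trans (map_one _).symm))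
    have hvx : Commute v x' := by
      show v * x' = x' * v
      rw [hv, hx', ← map_mul, ← map_mul, Subgroup.mem_centralizer_singleton_iff.mp hec]
    obtain ⟨k, hk⟩ := IsPGroup.iff_orderOf.mp hPp ⟨v, hvP⟩
    rw [Subgroup.orderOf_mk] at hk
    have hline : ∀ w ∈ P, orderOf w = p → Commute w x' → zpowers w = A₁ := fun w hw hwo hwx => by
      by_contra hne
      have := (hfix _ (Subgroup.zpowers_le.mpr (hPE hw)) (by rw [Nat.card_zpowers, hwo]) hne).le
        (show x' ∈ sigmaCore M ⊓ centralizer (zpowers w : Set G) from ⟨hx's, fun a ha => by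
          obtain ⟨i, rfl⟩ := Subgroup.mem_zpowers_iff.mp ha
          exact (hwx.zpow_left i).eq⟩)
      exact hx'1 (Subgroup.mem_bot.mp this)
    rcases k with _ | _ | k
    · rw [pow_zero, orderOf_eq_one_iff] at hk
      rw [(MulAut.conj m).injective (hk.trans (map_one _).symm)]
      exact one_mem _
    · rw [zero_add, pow_one] at hk
      exact (Subgroup.mem_normalizer_iff.mp (hEA₁ hm) e).mpr
        ((hline v hvP hk hvx).le (Subgroup.mem_zpowers v))
    · have hwo : orderOf (v ^ p ^ (k + 1)) = p := by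
        rw [orderOf_pow' _ (pow_ne_zero _ hpp.ne_zero), hk, pow_succ p (k + 1),
          Nat.gcd_eq_right (Dvd.intro _ rfl), Nat.mul_div_cancel_left _ (pow_pos hpp.pos _)]
      exact absurd (hline _ (P.pow_mem hvP _) hwo (hvx.pow_left _)) (hkey v hvP k hwo)
  -- the subgroup of full exponent
  obtain ⟨d, hexp, x, hx, hx1⟩ := exists_max_order hPp hPc fun e => hexc.two.ne_bot (le_bot_iff.mp (e ▸ hAP))
  set NP := E ⊓ normalizer (P : Set G) with hNP
  set K := coreP p E with hK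
  have hKE : K ≤ E := piCoreOf_le _ _
  have hEK : E ≤ normalizer (K : Set G) := le_normalizer_piCoreOf_self _ _
  have hfrat : E ≤ K ⊔ NP := by
    obtain ⟨Q, -, -, hle, -, hQP⟩ := exists_frattini hG.1 hEs hPE hPp hPi
    rwa [hQP ((hA2 ▸ dvd_pow_self p two_ne_zero).trans (Subgroup.card_dvd_of_le hAE))
      (pRankLE_mono hE.1 hp.2.2.1)] at hle
  have hKA : K ≤ centralizer (A : Set G) := centralizes_of_normalize (hKE.trans hEA) (hAE.trans hEK) (by
    rw [hA2]; exact (coprime_coreP p E).pow_right 2)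
  have hcopP : ¬ p ∣ (centralizer (P : Set G)).relIndex NP := fun hd => hPi (hd.trans (by
    rw [← Subgroup.relIndex_mul_relIndex P NP E (le_inf hPE Subgroup.le_normalizer) inf_le_left]
    exact Dvd.dvd.mul_right (Subgroup.relIndex_dvd_of_le_left NP (Subgroup.le_centralizer P)) _))
  obtain ⟨l, x₀, hx₀, hxl, hl1, hlA, hNl, hlA₁⟩ : ∃ l x₀, x₀ ∈ P ∧ x₀ ^ p ^ d = l ∧ l ≠ 1 ∧ l ∈ A ∧
      NP ≤ normalizer (zpowers l : Set G) ∧ zpowers l ≠ A₁ := by
    have hlA : ∀ x ∈ P, x ^ p ^ d ∈ A := fun x hx => (hom _ (P.pow_mem hx _)).mp (by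
      rw [← pow_mul, ← pow_succ]; exact hexp x hx)
    rcases d with _ | d
    · obtain ⟨K₀, hK₀1, hK₀2⟩ := CfsgLib.exists_complement_of_exponent (p := p) (E := A)
        (fun a => Subtype.ext (hA.2 a a.2)) (A₁.subgroupOf A)
      set f := (A.normalizerMonoidHom).comp (Subgroup.inclusion ((inf_le_left : NP ≤ E).trans hEA)) with hf
      haveI : Finite (MulAut A) := Finite.of_injective (fun h => (h : A → A)) DFunLike.coe_injective
      have hWc : (Nat.card f.range).Coprime (Nat.card A) := by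
        rw [hA2, ← Subgroup.index_ker]
        refine (hpp.coprime_iff_not_dvd.mpr fun hd => hcopP (hd.trans ?_)).symm.pow_right 2
        rw [Subgroup.relIndex]
        refine Subgroup.index_dvd_of_le fun n hn => ?_
        rw [hf, ← MonoidHom.comap_ker, Subgroup.normalizerMonoidHom_ker]
        exact centralizer_anti hAP hn
      obtain ⟨W, hW, hW1, hW2⟩ := CfsgLib.exists_invariant_complement f.range.subtype hWc (U := A₁.subgroupOf A)
        (by
          rintro ⟨_, n, rfl⟩ u hu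
          exact (Subgroup.mem_normalizer_iff.mp (hEA₁ n.2.1) _).mp hu) hK₀1 hK₀2
      have hWc' : Nat.card W = p := by
        have h := (Subgroup.isComplement'_of_disjoint_and_mul_eq_univ (disjoint_iff.mpr hW1)
          (by rw [← Subgroup.mul_normal, hW2, Subgroup.coe_top])).card_mul_card
        rw [Nat.card_congr (Subgroup.subgroupOfEquivOfLe (inf_le_left : A₁ ≤ A)).toEquiv, hA₁c, hA2, pow_two] at h
        exact mul_left_cancel₀ hpp.ne_zero h
      obtain ⟨⟨⟨l, hlA'⟩, hlW⟩, hlo⟩ := exists_prime_orderOf_dvd_card' (G := W) p (dvd_of_eq hWc'.symm)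
      rw [Subgroup.orderOf_mk, Subgroup.orderOf_mk] at hlo
      have hgen : zpowers (⟨l, hlA'⟩ : A) = W := Subgroup.eq_of_le_of_card_ge (Subgroup.zpowers_le.mpr hlW)
        (by rw [Nat.card_zpowers, Subgroup.orderOf_mk, hlo, hWc'])
      refine ⟨l, l, hAP hlA', by rw [pow_zero, pow_one], fun e => ?_, hlA', fun n hn => ?_, fun e => ?_⟩
      · rw [e, orderOf_one] at hlo; exact hpp.one_lt.ne hlo
      · refine mem_normalizer_of_conj_smul (Subgroup.eq_of_le_of_card_ge ?_ (CfsgLib.card_conj_smul n _).ge)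
        rintro _ ⟨v, hv, rfl⟩
        obtain ⟨i, rfl⟩ := Subgroup.mem_zpowers_iff.mp hv
        have h := hgen.ge (hW ⟨f ⟨n, hn⟩, ⟨⟨n, hn⟩, rfl⟩⟩ _ hlW)
        obtain ⟨j, hj⟩ := Subgroup.mem_zpowers_iff.mp h
        have hj' : l ^ j = n * l * n⁻¹ := congrArg Subtype.val hj
        show MulAut.conj n (l ^ i) ∈ zpowers l
        rw [map_zpow, MulAut.conj_apply, ← hj', ← zpow_mul]
        exact Subgroup.zpow_mem_zpowers l _
      · have h := hW1.le (show (⟨l, hlA'⟩ : A) ∈ A₁.subgroupOf A ⊓ W from ⟨e.le (Subgroup.mem_zpowers l), hlW⟩)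
        rw [Subgroup.mem_bot] at h
        rw [show l = 1 from congrArg Subtype.val h, orderOf_one] at hlo
        exact hpp.one_lt.ne hlo
    · have hlo : orderOf (x ^ p ^ (d + 1)) = p := orderOf_eq_prime (by
        rw [← pow_mul, ← pow_succ]; exact hexp x hx) hx1
      exact ⟨_, x, hx, rfl, hx1, hlA x hx, fun n hn => hmove n hn.2 x hx d hlo, hkey x hx d hlo⟩
  subst hxl
  obtain ⟨y, hyP, hyo, hNy, hyd⟩ := exists_invariant_cyclic hPc inf_le_right hcopP hexp hx₀ hl1 hNl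
  set L := zpowers (x₀ ^ p ^ d) with hL
  have hLA : L ≤ A := Subgroup.zpowers_le.mpr hlA
  have hlp : orderOf (x₀ ^ p ^ d) = p := orderOf_eq_prime (hA.2 _ hlA) hl1
  have hLc : Nat.card L = p := by rw [hL, Nat.card_zpowers, hlp]
  have hEL : E ≤ normalizer (L : Set G) := hfrat.trans (sup_le
    (hKA.trans ((centralizer_anti hLA).trans (Subgroup.centralizer_le_normalizer _))) hNl)
  obtain ⟨Hn, hHn⟩ := CfsgLib.exists_isPiHallOf {r : ℕ | r ≠ p}
    (solvable_of_le (inf_le_left.trans hE.1 : NP ≤ M) (solvable_of_ne_top hG hM.1))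
  set Z := zpowers y with hZ
  have hZE : Z ≤ E := Subgroup.zpowers_le.mpr (hPE hyP)
  have hHE : Hn ≤ E := hHn.1.trans inf_le_left
  have hE₀E : K ⊔ (Z ⊔ Hn) ≤ E := sup_le hKE (sup_le hZE hHE)
  refine ⟨_, hE₀E, full_exponent_fpf hG hM hE hfpf hE₀E ?_ ?_⟩
  · intro r hr hrτ hd
    have hrp : r ≠ p := fun e => hrτ (e ▸ hp)
    haveI hKn : (K.subgroupOf E).Normal := (Subgroup.normal_subgroupOf_iff_le_normalizer hKE).mpr hEK
    set φ := (QuotientGroup.mk' (K.subgroupOf E)).comp (Subgroup.inclusion (inf_le_left : NP ≤ E)) with hφ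
    have hsurj : Function.Surjective φ := fun q => by
      obtain ⟨⟨e, he⟩, rfl⟩ := QuotientGroup.mk'_surjective (K.subgroupOf E) q
      have hmem := hfrat he
      rw [sup_comm, ← SetLike.mem_coe, Subgroup.coe_mul_of_left_le_normalizer_right NP K
        ((inf_le_left : NP ≤ E).trans hEK)] at hmem
      obtain ⟨n, hn, k, hk, rfl⟩ := Set.mem_mul.mp hmem
      refine ⟨⟨n, hn⟩, ?_⟩
      rw [hφ, MonoidHom.comp_apply, QuotientGroup.mk'_eq_mk']
      exact ⟨⟨k, hKE hk⟩, hk, rfl⟩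
    refine hHn.2.2 r hr hrp (hd.trans ((Subgroup.index_dvd_of_le ?_).trans
      ((Subgroup.index_comap_of_surjective _ (QuotientGroup.mk'_surjective (K.subgroupOf E))).dvd.trans
        (Subgroup.index_map_dvd (Hn.subgroupOf NP) hsurj))))
    rintro ⟨e, he⟩ ⟨⟨h, hh⟩, hhH, heq⟩
    rw [hφ, MonoidHom.comp_apply, QuotientGroup.mk'_eq_mk'] at heq
    obtain ⟨⟨k, hkE⟩, hk, hek⟩ := heq
    have hek' : h * k = e := congrArg Subtype.val hek
    show e ∈ K ⊔ (Z ⊔ Hn)
    rw [← hek']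
    exact mul_mem (Subgroup.mem_sup_right (Subgroup.mem_sup_right hhH)) (Subgroup.mem_sup_left hk)
  · intro r hr hrτ
    obtain rfl : r = p := hτ.le hrτ
    refine ⟨⟨y, Subgroup.mem_sup_right (Subgroup.mem_sup_left (Subgroup.mem_zpowers y)), fun v hv ⟨k, hk⟩ => ?_⟩,
      fun e he heo => ?_⟩
    · obtain ⟨m, -, hle⟩ := CfsgLib.pi_le_conj_hall (π := ({r} : Set ℕ)) (U := zpowers v) hEs
        ⟨hPE, fun t ht hd => card_dvd_of_pgroup hPp ht hd, fun t ht htp hd => hPi (htp ▸ hd)⟩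
        (Subgroup.zpowers_le.mpr hv) fun t ht hd => by
          rw [Nat.card_zpowers, hk] at hd
          exact (Nat.prime_dvd_prime_iff_eq ht hpp).mp (ht.dvd_of_dvd_pow hd)
      rw [hyo, ← MulEquiv.orderOf_eq (MulAut.conj m) v]
      exact orderOf_dvd_of_pow_eq_one (hexp _ (hle (Subgroup.smul_mem_pointwise_smul v _ _ (Subgroup.mem_zpowers v))))
    -- `⟨y⟩` is a Sylow subgroup of `E₀`
    have hZi : ¬ r ∣ Z.relIndex (K ⊔ (Z ⊔ Hn)) := by
      intro hd
      have h1 : Nat.card ↥(K ⊔ (Z ⊔ Hn)) ∣ Nat.card Z * (Nat.card Hn * Nat.card K) := by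
        refine (CfsgLib.Signalizer.card_sup_dvd ((sup_le hZE hHE).trans hEK)).trans ?_
        calc Nat.card ↥(Z ⊔ Hn) * Nat.card K ∣ Nat.card Hn * Nat.card Z * Nat.card K :=
              mul_dvd_mul_right (CfsgLib.Signalizer.card_sup_dvd (hHn.1.trans hNy)) _
          _ = Nat.card Z * (Nat.card Hn * Nat.card K) := by ring
      rw [← Subgroup.card_mul_index (Z.subgroupOf (K ⊔ (Z ⊔ Hn))), Nat.card_congr (Subgroup.subgroupOfEquivOfLe
        ((le_sup_left : Z ≤ Z ⊔ Hn).trans le_sup_right)).toEquiv] at h1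
      rcases hpp.dvd_mul.mp (hd.trans (Nat.dvd_of_mul_dvd_mul_left Nat.card_pos h1)) with h | h
      · exact hHn.2.1 r hpp h rfl
      · exact (hpp.coprime_iff_not_dvd.mp (coprime_coreP r E).symm) h
    obtain ⟨m, hm, hle⟩ := CfsgLib.pi_le_conj_hall (π := ({r} : Set ℕ)) (U := zpowers e)
      (solvable_of_le hE₀E hEs)
      ⟨(le_sup_left : Z ≤ Z ⊔ Hn).trans le_sup_right, fun t ht hd => card_dvd_of_pgroup
        (hPp.to_le (Subgroup.zpowers_le.mpr hyP)) ht hd, fun t ht htp hd => hZi (htp ▸ hd)⟩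
      (Subgroup.zpowers_le.mpr he) fun t ht hd => by
        rw [Nat.card_zpowers, heo] at hd
        exact (Nat.prime_dvd_prime_iff_eq ht hpp).mp hd
    have hwZ : MulAut.conj m e ∈ Z := hle (Subgroup.smul_mem_pointwise_smul e _ _ (Subgroup.mem_zpowers e))
    have e2 : (zpowers (MulAut.conj m e)).subgroupOf Z = L.subgroupOf Z := by
      refine CfsgLib.PowerGraph.subgroup_eq_of_card ?_
      rw [Nat.card_congr (Subgroup.subgroupOfEquivOfLe (Subgroup.zpowers_le.mpr hwZ)).toEquiv,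
        Nat.card_congr (Subgroup.subgroupOfEquivOfLe (show L ≤ Z from hyd ▸
          Subgroup.zpowers_le.mpr (Subgroup.pow_mem _ (Subgroup.mem_zpowers y) _))).toEquiv,
        Nat.card_zpowers, MulEquiv.orderOf_eq, heo, hLc]
    have hwL : MulAut.conj m e ∈ L :=
      e2.le (show (⟨_, hwZ⟩ : Z) ∈ (zpowers (MulAut.conj m e)).subgroupOf Z from Subgroup.mem_zpowers _)
    have heL : e ∈ L := (Subgroup.mem_normalizer_iff.mp (hEL (hE₀E hm)) e).mpr hwL
    have heq : zpowers e = L := Subgroup.eq_of_le_of_card_ge (Subgroup.zpowers_le.mpr heL)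
      (by rw [hLc, Nat.card_zpowers, heo])
    rw [← Subgroup.centralizer_closure, ← Subgroup.zpowers_eq_closure, heq]
    exact hfix L (hLA.trans hAE) hLc hlA₁

end NonAbelian

/-- B–G 12.11. -/
theorem frobenius_type_criterion (hG : IsMinSimpleOddOrder G) {M : Subgroup G} (hM : IsCoatom M)
    {E : Subgroup G} (hE : IsComplIn E (sigmaCore M) M) (hfpf : FpfHyp M E) :
    (∃ A₀ : Subgroup G, A₀ ≤ E ∧ E ≤ normalizer (A₀ : Set G) ∧ IsMulCommutative A₀ ∧
      ∀ x ∈ sigmaCore M, x ≠ 1 → E ⊓ centralizer ({x} : Set G) ≤ A₀) ∧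
    ∃ E₀ : Subgroup G, E₀ ≤ E ∧ Monoid.exponent E₀ = Monoid.exponent E ∧
      ∀ e ∈ E₀, e ≠ 1 → sigmaCore M ⊓ centralizer ({e} : Set G) = ⊥ := by
  by_cases h : ∃ (r : ℕ) (_ : Fact r.Prime), r ∈ tau2 M ∧ ∃ S : Sylow r G, ¬ IsMulCommutative (S : Subgroup G)
  · obtain ⟨r, hr, hτ, S, hS⟩ := h
    haveI := hr
    refine criterion_nonabelian hG hM hE hfpf hτ fun T hT => hS ⟨⟨fun a b => ?_⟩⟩
    haveI := hT
    exact (S.equiv T).injective (by rw [map_mul, map_mul, mul_comm'])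
  · refine criterion_abelian hG hM hE hfpf fun r hr hτ S => ?_
    by_contra hS
    exact h ⟨r, hr, hτ, S, hS⟩

end CfsgLib.MinSimpleOdd
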