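import Cfsg.Agent.Lib.MinSimpleOdd.NonNilpotentCore

/-!
Hall subgroups of `M_σ`: their centralisers and fusion (B–G 15.1, 15.4, 15.5).
-/

set_option autoImplicit false
set_option linter.unusedSectionVars false
set_option linter.style.haveILetI false
set_option maxHeartbeats 1000000

namespace CfsgLib.MinSimpleOdd

open Subgroup Cfsg
open scoped Pointwise commutatorElement IsMulCommutative

universe u
variable {G : Type u} [Group G] [Finite G]

theorem fittingHallOf_le (M : Subgroup G) : fittingHallOf M ≤ M := Subgroup.map_subtype_le _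

theorem fittingHallOf_nilpotent (M : Subgroup G) : Group.IsNilpotent (fittingHallOf M) := by
  haveI : Group.IsNilpotent (fittingHall M) := CfsgLib.FittingHall.fittingHall_isNilpotent
  exact Group.nilpotent_of_mulEquiv (Subgroup.equivMapOfInjective _ M.subtype M.subtype_injective)

theorem le_normalizer_fittingHallOf (M : Subgroup G) : M ≤ normalizer (fittingHallOf M : Set G) := fun m hm =>
  Subgroup.le_normalizer_map M.subtype
    ⟨⟨m, hm⟩, (Subgroup.normalizer_eq_top (H := fittingHall M)) ▸ Subgroup.mem_top _, rfl⟩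

/-- A subgroup containing a Sylow subgroup for every prime is everything. -/
theorem le_of_sylows {F X : Subgroup G}
    (h : ∀ r : ℕ, r.Prime → ∃ R : Subgroup G, R ≤ F ∧ ¬ r ∣ R.relIndex F ∧ R ≤ X) : F ≤ X := by
  have h1 : (F ⊓ X).relIndex F = 1 := Nat.eq_one_iff_not_exists_prime_dvd.mpr fun r hr hd => by
    obtain ⟨R, hRF, hRi, hRX⟩ := h r hr
    exact hRi (hd.trans (Subgroup.relIndex_dvd_of_le_left F (le_inf hRF hRX)))
  exact (Subgroup.relIndex_eq_one.mp h1).trans inf_le_right

/-- In a group with a normal subgroup of nilpotent quotient, a compatible Hall subgroup controls its fusion. -/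
theorem hall_fusion_of_nilpotent_quotient {S : Type u} [Group S] [Finite S] (T H : Subgroup S) [T.Normal]
    [Group.IsNilpotent (S ⧸ T)] (hH : (Nat.card H).Coprime H.index) (hT : T ≤ H ∨ T ⊓ H = ⊥) {x s : S}
    (hx : x ∈ H) (hs : s * x * s⁻¹ ∈ H) :
    ∃ h ∈ normalizer (H : Set S), h * x * h⁻¹ = s * x * s⁻¹ := by
  set f := QuotientGroup.mk' T with hf
  have hcop : (Nat.card (H.map f)).Coprime (H.map f).index :=
    (hH.coprime_dvd_left (Subgroup.card_map_dvd H f)).coprime_dvd_right
      (Subgroup.index_map_dvd H (QuotientGroup.mk'_surjective T))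
  haveI hn : (H.map f).Normal := hall_normal_of_nilpotent _ hcop
  rcases hT with hT | hT
  · have he : H = (H.map f).comap f := by
      rw [Subgroup.comap_map_eq_self]
      rwa [hf, QuotientGroup.ker_mk']
    haveI : H.Normal := he ▸ inferInstance
    exact ⟨s, Subgroup.normalizer_eq_top (H := H) ▸ Subgroup.mem_top s, rfl⟩
  · obtain ⟨C, hC⟩ := Subgroup.exists_right_complement'_of_coprime hcop
    haveI : C.Normal := hall_normal_of_nilpotent C (by
      rw [hC.index_eq_card, ← hC.symm.index_eq_card]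
      exact hcop.symm)
    obtain ⟨⟨⟨a, ha⟩, ⟨b, hb⟩⟩, hab⟩ := hC.2 (f s)
    obtain ⟨h, hh, rfl⟩ := ha
    refine ⟨h, Subgroup.le_normalizer hh, ?_⟩
    have hc : b * f x = f x * b :=
      (Subgroup.commute_of_normal_of_disjoint (H.map f) C hn inferInstance hC.disjoint (f x) b ⟨x, hx, rfl⟩ hb).eq.symm
    have h1 : f ((h * x * h⁻¹)⁻¹ * (s * x * s⁻¹)) = 1 := by
      simp only [map_mul, map_inv]
      rw [← hab]
      show (f h * f x * (f h)⁻¹)⁻¹ * (f h * b * f x * (f h * b)⁻¹) = 1
      rw [mul_assoc (f h) b (f x), hc]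
      group
    have h2 : (h * x * h⁻¹)⁻¹ * (s * x * s⁻¹) ∈ T ⊓ H :=
      ⟨(QuotientGroup.eq_one_iff _).mp h1, H.mul_mem (H.inv_mem (H.mul_mem (H.mul_mem hh hx) (H.inv_mem hh))) hs⟩
    rw [hT, Subgroup.mem_bot, inv_mul_eq_one] at h2
    exact h2

variable {M H : Subgroup G}

/-- B–G 15.1 (a): a `σ'`-group centralising a nontrivial Hall subgroup of `M_σ` is a cyclic `τ₂`-group. -/
theorem cyclic_tau2_of_centralizes (hG : IsMinSimpleOddOrder G) (hM : IsCoatom M) (hH : H ≤ sigmaCore M)
    (hH1 : H ≠ ⊥) (hHall : (Nat.card H).Coprime (H.relIndex (sigmaCore M))) {X : Subgroup G} (hXM : X ≤ M)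
    (hXH : X ≤ centralizer (H : Set G)) (hXσ : ∀ r : ℕ, r.Prime → r ∣ Nat.card X → r ∉ sigma M) :
    IsCyclic X ∧ ∀ r : ℕ, r.Prime → r ∣ Nat.card X → r ∈ Cfsg.tau2 M := by
  obtain ⟨E, hE, hXE⟩ := exists_complement_ge hG hM hXM hXσ
  have hHX : H ≤ centralizer (X : Set G) := Subgroup.le_centralizer_iff.mp hXH
  haveI hMs := solvable_of_ne_top hG hM.1
  have htau : ∀ t : ℕ, t.Prime → t ∣ Nat.card X → t ∈ Cfsg.tau2 M := by
    intro t ht htd
    haveI := Fact.mk ht
    by_contra hτ
    obtain ⟨z, hz⟩ := exists_prime_orderOf_dvd_card' t htd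
    set Z := zpowers (z : G)
    have hZc : Nat.card Z = t := by rw [Nat.card_zpowers, Subgroup.orderOf_coe, hz]
    have hZX : Z ≤ X := Subgroup.zpowers_le.mpr z.2
    have hbad : H ≤ sigmaCore M ⊓ centralizer (Z : Set G) := le_inf hH (hHX.trans (centralizer_anti hZX))
    have hk : t ∈ kappa M := kappa_of_bad hG hM
      (tau1_or_tau3 hG hM (hXσ t ht htd) (rank_one_of_not_sigma hG hM (hXσ t ht htd) hτ) hZc (hZX.trans hXM))
      hZc (hZX.trans hXM) fun e => hH1 (le_bot_iff.mp (hbad.trans e.le))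
    obtain ⟨K, hK⟩ := CfsgLib.exists_isPiHallOf (kappa M) (M := M) inferInstance
    obtain ⟨e, he, heK⟩ := conj_into_hall hG hM.1 hK (hZX.trans hXM) (pi_of_card hZc hk)
    have hK1 : K ≠ ⊥ := fun e' => ne_bot_of_card (q := t) (X := MulAut.conj e • Z)
      (by rw [CfsgLib.card_conj_smul, hZc]) (le_bot_iff.mp (heK.trans e'.le))
    have d := kappaData_of_hall hG hM hK hK1
    have hfix : MulAut.conj e • H ≤ fixedCore M K := by
      have h1 := conj_smul_mono hbad e
      rw [Subgroup.smul_inf, conj_smul_eq_of_mem_normalizer (le_normalizer_sigmaCore hG hM le_rfl he),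
        ← centralizer_conj_smul, fixed_of_line hG hM d.prime heK (t := t) (by rw [CfsgLib.card_conj_smul, hZc])] at h1
      exact h1
    obtain ⟨r, hr, hrd⟩ := Nat.exists_prime_and_dvd fun e' => hH1 (Subgroup.card_eq_one.mp e')
    haveI := Fact.mk hr
    obtain ⟨P₀⟩ : Nonempty (Sylow r ↥(MulAut.conj e • H : Subgroup G)) := inferInstance
    set R := (P₀ : Subgroup ↥(MulAut.conj e • H : Subgroup G)).map (MulAut.conj e • H : Subgroup G).subtype with hR
    have hRH : R ≤ MulAut.conj e • H := Subgroup.map_subtype_le _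
    have hHs : MulAut.conj e • H ≤ sigmaCore M := hfix.trans inf_le_left
    have hRi : ¬ r ∣ R.relIndex (sigmaCore M) := by
      rw [← Subgroup.relIndex_mul_relIndex R _ _ hRH hHs]
      intro h
      rcases hr.dvd_mul.mp h with h | h
      · exact not_dvd_of_sylow _ P₀ h
      · refine hr.ne_one (Nat.eq_one_of_dvd_coprimes hHall hrd ?_)
        have hcard := card_map_mk (T := (⊥ : Subgroup G)) (X := H) bot_le (by
          intro y _; rw [Subgroup.normalizer_eq_top]; exact Subgroup.mem_top y)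
        have h3 : (MulAut.conj e • H).relIndex (sigmaCore M) = H.relIndex (sigmaCore M) := by
          conv_lhs => rw [← conj_smul_eq_of_mem_normalizer (le_normalizer_sigmaCore hG hM le_rfl he)]
          exact Subgroup.relIndex_pointwise_smul (MulAut.conj e) H (sigmaCore M)
        rwa [h3] at h
    obtain ⟨P, hP, -⟩ := sylow_of_relIndex (hRH.trans hHs) (P₀.2.map _) hRi
    obtain ⟨c, hc⟩ := exists_prime_orderOf_dvd_card' r
      (show r ∣ Nat.card (MulAut.conj e • H : Subgroup G) by rwa [CfsgLib.card_conj_smul])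
    obtain ⟨-, hnot⟩ := d.fixed_line_uniq hG (X := zpowers (c : G)) (q := r)
      (by rw [Nat.card_zpowers, Subgroup.orderOf_coe, hc]) (Subgroup.zpowers_le.mpr (hfix c.2))
    exact (hnot P).2.2 (hP.le.trans (hRH.trans hfix))
  refine ⟨?_, htau⟩
  have hlines : ∀ (t : ℕ) (T : Subgroup G), t.Prime → T ≤ X → Nat.card T = t → X ≤ centralizer (T : Set G) := by
    intro t T ht hTX hT
    haveI := Fact.mk ht
    have hτ := htau t ht (hT ▸ Subgroup.card_dvd_of_le hTX)
    obtain ⟨A, hAE, hA, hA2⟩ := exists_elementary_in_complement hG hM hE hτ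
    have hTA : T ≤ A := (Cfsg.Agent.S1418.result hG M hM E hE t hτ A ⟨hAE, hA, hA2⟩).1.2 T (hTX.trans hXE) hT
    intro y hy
    exact centralizer_anti hTA (tau2_element_centralizes hG hM hE hτ hAE hA hA2 (hXE hy) fun r hr hd =>
      htau r hr (hd.trans (Subgroup.orderOf_dvd_natCard _ hy)))
  have hsyl : ∀ (t : ℕ) (T : Subgroup G), t.Prime → T ≤ X → IsPGroup t T → IsCyclic T := by
    intro t T ht hTX hT
    haveI := Fact.mk ht
    by_contra hnc
    have hT1 : T ≠ ⊥ := fun e => hnc (e ▸ inferInstance)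
    obtain ⟨B, hBT, -, hB, hB2⟩ := exists_elementary_two (p_ne_two hG.1 hT hT1) hT hnc
    have hτ := htau t ht (((dvd_pow_self t two_ne_zero).trans hB2.symm.dvd).trans
      (Subgroup.card_dvd_of_le (hBT.trans hTX)))
    refine hH1 (le_bot_iff.mp ((le_inf hH (hHX.trans (centralizer_anti (hBT.trans hTX)))).trans
      (tau2_fixed_bot hG hM hτ ((hBT.trans hTX).trans hXM) hB hB2).le))
  haveI : IsMulCommutative X := by
    refine ⟨⟨fun a b => Subtype.ext ?_⟩⟩
    have hder : (⁅X, X⁆ : Subgroup G) = ⊥ := by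
      refine Subgroup.card_eq_one.mp (Nat.eq_one_iff_not_exists_prime_dvd.mpr fun t ht htd => ?_)
      haveI := Fact.mk ht
      obtain ⟨P⟩ : Nonempty (Sylow t X) := inferInstance
      set T := (P : Subgroup X).map X.subtype with hT
      have hTX : T ≤ X := Subgroup.map_subtype_le _
      have hTc := hsyl t T ht hTX (P.2.map _)
      haveI := cyclic_isCommutative hTc
      refine not_dvd_derived_of_burnside hTX (P.2.map _) (not_dvd_of_sylow X P)
        (le_centralizer_of_sylows fun v hv => ?_) htd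
      haveI := Fact.mk hv
      obtain ⟨V⟩ : Nonempty (Sylow v ↥(X ⊓ normalizer (T : Set G))) := inferInstance
      refine ⟨_, Subgroup.map_subtype_le _, not_dvd_of_sylow _ V, ?_⟩
      set V' := (V : Subgroup ↥(X ⊓ normalizer (T : Set G))).map (X ⊓ normalizer (T : Set G)).subtype
      have hV'X : V' ≤ X := (Subgroup.map_subtype_le _).trans inf_le_left
      have hV'N : V' ≤ normalizer (T : Set G) := (Subgroup.map_subtype_le _).trans inf_le_right
      rcases eq_or_ne T ⊥ with h | h
      · rw [h]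
        intro y _ z hz
        rw [Subgroup.coe_bot, Set.mem_singleton_iff] at hz
        rw [hz, one_mul, mul_one]
      by_cases hvt : v = t
      · subst hvt
        haveI := cyclic_isCommutative (hsyl v _ hv (sup_le hV'X hTX) (IsPGroup.to_sup_of_normal_right' (V.2.map _)
          (P.2.map _) hV'N))
        exact (le_sup_left.trans (Subgroup.le_centralizer (V' ⊔ T))).trans (centralizer_anti le_sup_right)
      · obtain ⟨T₁, hT₁, hT₁c⟩ := exists_sub_card (P.2.map _) h
        refine centralizes_cyclic (P.2.map _) hTc hV'N (coprime_pGroups ht hv (Ne.symm hvt) (P.2.map _) (V.2.map _))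
          hT₁ (ne_bot_of_card hT₁c) (hV'X.trans (hlines t T₁ ht (hT₁.trans hTX) hT₁c))
    exact (Subgroup.commutator_eq_bot_iff_le_centralizer.mp hder a.2 b b.2).symm
  haveI : Group.IsNilpotent X := CommGroup.isNilpotent
  haveI : IsZGroup X := ⟨fun t ht S' => by
    haveI := hsyl t ((S' : Subgroup X).map X.subtype) ht (Subgroup.map_subtype_le _) (S'.2.map _)
    exact isCyclic_of_surjective ((S' : Subgroup X).equivMapOfInjective X.subtype X.subtype_injective).symm.toMonoidHom
      (MulEquiv.surjective _)⟩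
  infer_instance

/-- B–G 15.1 (a). -/
theorem centralizer_hall_eq (hG : IsMinSimpleOddOrder G) (hM : IsCoatom M) (hH : H ≤ sigmaCore M)
    (hH1 : H ≠ ⊥) (hHall : (Nat.card H).Coprime (H.relIndex (sigmaCore M))) :
    ∃ X : Subgroup G, IsCyclic X ∧ (∀ p : ℕ, p.Prime → p ∣ Nat.card X → p ∈ Cfsg.tau2 M) ∧
      M ⊓ centralizer (H : Set G) = (sigmaCore M ⊓ centralizer (H : Set G)) ⊔ X := by
  haveI hMs := solvable_of_ne_top hG hM.1
  set C := M ⊓ centralizer (H : Set G) with hC
  have hsM : sigmaCore M ≤ M := piCoreOf_le _ _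
  obtain ⟨X, hX⟩ := CfsgLib.exists_isPiHallOf {r | r ∉ sigma M} (M := C) (solvable_of_le inf_le_left hMs)
  obtain ⟨hc, ht⟩ := cyclic_tau2_of_centralizes hG hM hH hH1 hHall (hX.1.trans inf_le_left)
    (hX.1.trans inf_le_right) hX.2.1
  refine ⟨X, hc, ht, ?_⟩
  set S := sigmaCore M ⊓ centralizer (H : Set G) with hS
  have hSC : S ≤ C := inf_le_inf_right _ hsM
  refine le_antisymm ?_ (sup_le hSC hX.1)
  refine le_of_sylows fun r hr => ?_
  haveI := Fact.mk hr
  by_cases hrσ : r ∈ sigma M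
  · obtain ⟨P⟩ : Nonempty (Sylow r C) := inferInstance
    refine ⟨(P : Subgroup C).map C.subtype, Subgroup.map_subtype_le _, not_dvd_of_sylow C P,
      le_sup_of_le_left (le_inf ?_ ?_)⟩
    · exact pgroup_le_sigmaCore hG hM hrσ (P.2.map _) ((Subgroup.map_subtype_le _).trans inf_le_left)
    · exact (Subgroup.map_subtype_le _).trans inf_le_right
  · obtain ⟨P⟩ : Nonempty (Sylow r X) := inferInstance
    refine ⟨(P : Subgroup X).map X.subtype, (Subgroup.map_subtype_le _).trans hX.1, ?_,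
      le_sup_of_le_right (Subgroup.map_subtype_le _)⟩
    rw [← Subgroup.relIndex_mul_relIndex _ X C (Subgroup.map_subtype_le _) hX.1]
    intro h
    rcases hr.dvd_mul.mp h with h | h
    · exact not_dvd_of_sylow X P h
    · exact hX.2.2 r hr hrσ h

/-- A normal subgroup `T` of `M` inside `M_σ` with nilpotent quotient, inside or away from a Hall subgroup. -/
theorem exists_core_quotient (hG : IsMinSimpleOddOrder G) (hM : IsCoatom M) (hH : H ≤ sigmaCore M)
    (hHall : (Nat.card H).Coprime (H.relIndex (sigmaCore M))) :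
    ∃ T : Subgroup ↥(sigmaCore M), ∃ _ : T.Normal, Group.IsNilpotent (↥(sigmaCore M) ⧸ T) ∧
      (T ≤ H.subgroupOf (sigmaCore M) ∨ T ⊓ H.subgroupOf (sigmaCore M) = ⊥) := by
  set S := sigmaCore M with hS
  by_cases hn : Group.IsNilpotent S
  · haveI := hn
    exact ⟨⊥, inferInstance, Group.nilpotent_of_surjective _ (QuotientGroup.mk'_surjective ⊥), Or.inl bot_le⟩
  haveI := solvable_of_ne_top hG hM.1
  obtain ⟨K, hK⟩ := CfsgLib.exists_isPiHallOf (kappa M) (M := M) inferInstance
  obtain ⟨U, hKU⟩ := exists_sigmaDecomposition hG hM (kappaHall_cyclic hG hM hK) hK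
  obtain ⟨-, q, Q, nd⟩ := exists_nonNilData hG hM hKU hn
  haveI := Fact.mk nd.hq
  obtain ⟨D, hD, -, hDn, -⟩ := nd.exists_compl hG
  haveI hQ'n : (Q.subgroupOf S).Normal :=
    (Subgroup.normal_subgroupOf_iff_le_normalizer nd.le).mpr ((piCoreOf_le _ _).trans nd.normal)
  refine ⟨Q.subgroupOf S, hQ'n, ?_, ?_⟩
  · haveI := hDn
    haveI : Group.IsNilpotent (D.subgroupOf S) :=
      Group.nilpotent_of_mulEquiv (Subgroup.subgroupOfEquivOfLe hD.2.1).symm
    exact Group.nilpotent_of_mulEquiv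
      ((isComplement'_subgroupOf nd.coprime_card hD).symm.QuotientMulEquiv).symm
  · by_cases hqH : q ∣ Nat.card H
    · left
      obtain ⟨P₀⟩ : Nonempty (Sylow q H) := inferInstance
      set R := (P₀ : Subgroup H).map H.subtype with hR
      have hRi : ¬ q ∣ R.relIndex S := by
        rw [← Subgroup.relIndex_mul_relIndex R H S (Subgroup.map_subtype_le _) hH]
        intro h
        rcases nd.hq.dvd_mul.mp h with h | h
        · exact not_dvd_of_sylow H P₀ h
        · exact nd.hq.ne_one (Nat.eq_one_of_dvd_coprimes hHall hqH h)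
      have hRQ : R ⊔ Q = R := eq_of_sylow hRi le_sup_left (sup_le ((Subgroup.map_subtype_le _).trans hH) nd.le)
        ((P₀.2.map _).to_sup_of_normal_right' nd.pgroup
          (((Subgroup.map_subtype_le _).trans (hH.trans (piCoreOf_le _ _))).trans nd.normal))
      intro y hy
      exact Subgroup.mem_subgroupOf.mpr
        ((le_sup_right.trans hRQ.le).trans (Subgroup.map_subtype_le _) (Subgroup.mem_subgroupOf.mp hy))
    · right
      refine disjoint_iff.mp (Subgroup.disjoint_of_coprime_natCard ?_)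
      rw [Nat.card_congr (Subgroup.subgroupOfEquivOfLe nd.le).toEquiv,
        Nat.card_congr (Subgroup.subgroupOfEquivOfLe hH).toEquiv]
      refine Nat.coprime_of_dvd fun r hr h1 h2 => ?_
      rw [card_dvd_of_pgroup nd.pgroup hr h1] at h2
      exact hqH h2

/-- B–G 15.1 (b): `N_M(H)` controls fusion in `H`. -/
theorem hall_fusion (hG : IsMinSimpleOddOrder G) (hM : IsCoatom M) (hH : H ≤ sigmaCore M)
    (hHall : (Nat.card H).Coprime (H.relIndex (sigmaCore M))) {x : G} (hx : x ∈ H) {g : G}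
    (hgx : g * x * g⁻¹ ∈ H) : ∃ n ∈ M ⊓ normalizer (H : Set G), n * x * n⁻¹ = g * x * g⁻¹ := by
  by_cases hx1 : x = 1
  · exact ⟨1, one_mem _, by rw [hx1]; group⟩
  set S := sigmaCore M with hS
  have hsM : S ≤ M := piCoreOf_le _ _
  have hxg : x ∈ MulAut.conj g⁻¹ • M := by
    rw [CfsgLib.mem_conj_smul_iff, inv_inv]
    exact hsM (hH hgx)
  obtain ⟨c, hc, hcM, -, -⟩ := conj_of_mem hG hM (hH hx) hx1 hxg
  have hmM : g * c ∈ M := by
    have e : MulAut.conj (g * c) • M = M := by
      rw [← CfsgLib.conj_smul_mul, ← hcM, CfsgLib.conj_smul_mul, mul_inv_cancel, map_one, one_smul]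
    rw [← normalizer_coatom hG hM]
    exact mem_normalizer_of_conj_smul e
  have hmx : g * c * x * (g * c)⁻¹ = g * x * g⁻¹ := by
    rw [mul_assoc g c x, Subgroup.mem_centralizer_singleton_iff.mp hc]
    group
  set m := g * c with hm
  -- Frattini
  have hHπ : IsPiHallOf {r | r ∣ Nat.card H} H S :=
    ⟨hH, fun r _ hd => hd, fun r hr hd h => hr.ne_one (Nat.eq_one_of_dvd_coprimes hHall hd h)⟩
  have hmS : MulAut.conj m • S = S := conj_smul_eq_of_mem_normalizer (le_normalizer_sigmaCore hG hM le_rfl hmM)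
  obtain ⟨s, hs, hsH⟩ := conj_into_hall hG (ne_top_of_le_ne_top hM.1 hsM) hHπ
    ((conj_smul_mono hH m).trans hmS.le) (fun r _ hd => by rwa [CfsgLib.card_conj_smul] at hd)
  rw [CfsgLib.conj_smul_mul] at hsH
  have hn₁ : s * m ∈ normalizer (H : Set G) := mem_normalizer_of_conj_smul
    (Subgroup.eq_of_le_of_card_ge hsH (CfsgLib.card_conj_smul _ H).ge)
  have hy' : s * m * x * (s * m)⁻¹ ∈ H := (Subgroup.mem_normalizer_iff.mp hn₁ x).mp hx
  have hy : g * x * g⁻¹ ∈ H := hgx
  obtain ⟨T, hTn, hTq, hTH⟩ := exists_core_quotient hG hM hH hHall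
  haveI := hTq
  obtain ⟨h, hh, he⟩ := hall_fusion_of_nilpotent_quotient T (H.subgroupOf S) (by
      rw [Nat.card_congr (Subgroup.subgroupOfEquivOfLe hH).toEquiv]; exact hHall) hTH
    (x := (⟨_, hH hy'⟩ : S)) (s := (⟨s, hs⟩ : S)⁻¹) hy' (by
      show s⁻¹ * (s * m * x * (s * m)⁻¹) * s⁻¹⁻¹ ∈ H
      rwa [show s⁻¹ * (s * m * x * (s * m)⁻¹) * s⁻¹⁻¹ = m * x * m⁻¹ by group, hmx])
  refine ⟨(h : G) * (s * m), ⟨mul_mem (hsM h.2) (mul_mem (hsM hs) hmM), mul_mem ?_ hn₁⟩, ?_⟩
  · refine mem_normalizer_of_conj_smul (Subgroup.eq_of_le_of_card_ge ?_ (CfsgLib.card_conj_smul _ H).ge)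
    rintro _ ⟨y, hy0, rfl⟩
    exact (Subgroup.mem_normalizer_iff.mp hh ⟨y, hH hy0⟩).mp hy0
  · have := congrArg Subtype.val he
    calc (h : G) * (s * m) * x * ((h : G) * (s * m))⁻¹ = (h : G) * (s * m * x * (s * m)⁻¹) * (h : G)⁻¹ := by group
      _ = s⁻¹ * (s * m * x * (s * m)⁻¹) * s⁻¹⁻¹ := this
      _ = g * x * g⁻¹ := by rw [show s⁻¹ * (s * m * x * (s * m)⁻¹) * s⁻¹⁻¹ = m * x * m⁻¹ by group, hmx]

end CfsgLib.MinSimpleOdd
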