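import Cfsg.Agent.Lib.MinSimpleOdd.PrimeRegularTau3
import Cfsg.Agent.Lib.OddLocal.FittingHall

/-!
Centralisers of the elements of `M_σ` and the sets `x R(x)` (B–G §14).
-/

set_option autoImplicit false
set_option linter.unusedSectionVars false
set_option linter.style.haveILetI false
set_option maxHeartbeats 1000000

namespace CfsgLib.MinSimpleOdd

open Subgroup Cfsg
open scoped Pointwise commutatorElement IsMulCommutative

universe u
variable {G : Type u} [Group G] [Finite G]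

theorem eq_of_mul_eq_mul_pi {π : Set ℕ} {x r y s : G} (hxr : Commute x r) (hys : Commute y s)
    (hx : ∀ p : ℕ, p.Prime → p ∣ orderOf x → p ∈ π) (hy : ∀ p : ℕ, p.Prime → p ∣ orderOf y → p ∈ π)
    (hr : ∀ p : ℕ, p.Prime → p ∣ orderOf r → p ∉ π) (hs : ∀ p : ℕ, p.Prime → p ∣ orderOf s → p ∉ π)
    (he : x * r = y * s) : x = y := by
  have hcop : (orderOf x * orderOf y).Coprime (orderOf r * orderOf s) := Nat.coprime_of_dvd fun p hp h1 h2 => by
    have h1' : p ∈ π := (hp.dvd_mul.mp h1).elim (hx p hp) (hy p hp)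
    exact (hp.dvd_mul.mp h2).elim (fun h => hr p hp h h1') fun h => hs p hp h h1'
  obtain ⟨m, hm1, hm0⟩ := Nat.chineseRemainder hcop 1 0
  have h1 : ∀ z : G, orderOf z ∣ orderOf x * orderOf y → z ^ m = z := fun z hz =>
    (pow_eq_pow_iff_modEq.mpr (hm1.of_dvd hz)).trans (pow_one z)
  have h0 : ∀ z : G, orderOf z ∣ orderOf r * orderOf s → z ^ m = 1 := fun z hz =>
    orderOf_dvd_iff_pow_eq_one.mp (hz.trans (Nat.modEq_zero_iff_dvd.mp hm0))
  have := congrArg (· ^ m) he
  simp only [hxr.mul_pow, hys.mul_pow, h1 x (dvd_mul_right _ _), h1 y (dvd_mul_left _ _),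
    h0 r (dvd_mul_right _ _), h0 s (dvd_mul_left _ _), mul_one] at this
  exact this

theorem exists_line_of_element {x : G} {q : ℕ} [Fact q.Prime] (hq : q ∣ orderOf x) :
    ∃ X : Subgroup G, Nat.card X = q ∧ X ≤ zpowers x ∧ centralizer ({x} : Set G) ≤ centralizer (X : Set G) := by
  refine ⟨zpowers (x ^ (orderOf x / q)), by rw [Nat.card_zpowers, orderOf_pow_orderOf_div (orderOf_pos x).ne' hq],
    Subgroup.zpowers_le.mpr (pow_mem (mem_zpowers x) _), ?_⟩
  rw [centralizer_zpowers]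
  exact Subgroup.centralizer_le (SetLike.coe_subset_coe.mpr (Subgroup.zpowers_le.mpr (pow_mem (mem_zpowers x) _)))

theorem exists_prime_dvd_order {x : G} (hx : x ≠ 1) : ∃ q : ℕ, q.Prime ∧ q ∣ orderOf x :=
  Nat.exists_prime_and_dvd fun h => hx (orderOf_eq_one_iff.mp h)

theorem orderOf_conj (g x : G) : orderOf (g * x * g⁻¹) = orderOf x := by
  rw [← MulAut.conj_apply]
  exact MulEquiv.orderOf_eq _ x

section Fitting

variable (hG : IsMinSimpleOddOrder G) {M : Subgroup G} (hM : IsCoatom M)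

include hG hM

/-- The largest normal nilpotent Hall subgroup lies in `M_σ`. -/
theorem fittingHallOf_le_sigmaCore : fittingHallOf M ≤ sigmaCore M := by
  have hFM : fittingHallOf M ≤ M := Subgroup.map_subtype_le _
  haveI : (fittingHall ↥M).Normal := fittingHall_normal _
  haveI hnil : Group.IsNilpotent ↥(fittingHallOf M) := by
    haveI := CfsgLib.FittingHall.fittingHall_isNilpotent (M := ↥M)
    exact Group.nilpotent_of_mulEquiv ((fittingHall ↥M).equivMapOfInjective M.subtype M.subtype_injective)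
  refine le_sigmaCore hG hM hFM fun r hr hd => ?_
  haveI := Fact.mk hr
  by_contra hrs
  have hMF : M ≤ normalizer (fittingHallOf M : Set G) := fun m hm => by
    have := Subgroup.le_normalizer_map (H := fittingHall ↥M) M.subtype (Subgroup.mem_map_of_mem M.subtype
      (show (⟨m, hm⟩ : M) ∈ normalizer (fittingHall ↥M : Set M) by
        rw [Subgroup.normalizer_eq_top]; exact Subgroup.mem_top _))
    exact this
  set S := piCoreOf {r} (fittingHallOf M) with hS
  have hSF : S ≤ fittingHallOf M := piCoreOf_le _ _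
  have hSr : IsPGroup r S := isPGroup_piCoreOf r _
  obtain ⟨T, -, hTF, hT, hTi⟩ := exists_sylow_ge (p := r) (bot_le : (⊥ : Subgroup G) ≤ fittingHallOf M) IsPGroup.of_bot
  have hTS : T ≤ S := le_piCoreOf_of_nilpotent hnil hTF hT
  have hSi : ¬ r ∣ S.relIndex M := fun h => by
    rw [← Subgroup.relIndex_mul_relIndex S _ M hSF hFM] at h
    rcases hr.dvd_mul.mp h with h | h
    · exact hTi (h.trans (Subgroup.relIndex_dvd_of_le_left _ hTS))
    · have hcop := CfsgLib.FittingHall.fittingHall_coprime (M := ↥M)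
      have e1 : Nat.card (fittingHall ↥M) = Nat.card ↥(fittingHallOf M) :=
        (Subgroup.card_map_of_injective M.subtype_injective).symm
      have e2 : (fittingHall ↥M).index = (fittingHallOf M).relIndex M := by
        rw [fittingHallOf, Subgroup.relIndex, Subgroup.subgroupOf,
          Subgroup.comap_map_eq_self_of_injective M.subtype_injective]
      rw [e1, e2] at hcop
      exact hr.ne_one (Nat.eq_one_of_dvd_coprimes hcop hd h)
  have hS1 : S ≠ ⊥ := fun e => hTi (by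
    have hT0 : T = ⊥ := le_bot_iff.mp (e ▸ hTS)
    rw [hT0, Subgroup.relIndex_bot_left]
    exact hd)
  have hNS : normalizer (S : Set G) ≤ M := by
    have hle : M ≤ normalizer (S : Set G) := hMF.trans (normalizer_le_normalizer_piCoreOf _ _)
    rcases hM.le_iff.mp hle with h | h
    · exact absurd h (normalizer_ne_top hG hS1 (pgroup_ne_top hG hSr))
    · exact h.le
  obtain ⟨P, hP, -⟩ := sylow_of_relIndex (hSF.trans hFM) hSr hSi
  exact hrs ⟨hr, hd.trans (Subgroup.card_dvd_of_le hFM), P, by rw [hP]; exact hNS⟩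

theorem fittingHallOf_eq (hn : Group.IsNilpotent (sigmaCore M)) : fittingHallOf M = sigmaCore M := by
  refine le_antisymm (fittingHallOf_le_sigmaCore hG hM) (Subgroup.map_mono ?_)
  refine le_sSup ⟨inferInstance, ?_, ?_⟩
  · haveI := hn
    haveI : Group.IsNilpotent ↥((piCore (sigma M) ↥M).map M.subtype) := hn
    exact Group.nilpotent_of_mulEquiv ((piCore (sigma M) ↥M).equivMapOfInjective M.subtype M.subtype_injective).symm
  · have h := (sigmaCore_hall hG hM).1
    have e1 : Nat.card (piCore (sigma M) ↥M) = Nat.card ↥(sigmaCore M) :=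
      (Subgroup.card_map_of_injective M.subtype_injective).symm
    have e2 : (piCore (sigma M) ↥M).index = (sigmaCore M).relIndex M := by
      rw [sigmaCore, Subgroup.relIndex, Subgroup.subgroupOf,
        Subgroup.comap_map_eq_self_of_injective M.subtype_injective]
    rw [e1, e2]
    exact Nat.coprime_of_dvd fun p hp h1 h2 => h.2.2 p hp (h.2.1 p hp h1) h2

theorem order_sigma {x : G} (hx : x ∈ sigmaCore M) : ∀ p : ℕ, p.Prime → p ∣ orderOf x → p ∈ sigma M :=
  fun p hp hd => (sigmaCore_hall hG hM).1.2.1 p hp (hd.trans (Subgroup.orderOf_dvd_natCard _ hx))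

theorem mem_sigmaCore_of_order {x : G} (hx : x ∈ M) (h : ∀ p : ℕ, p.Prime → p ∣ orderOf x → p ∈ sigma M) :
    x ∈ sigmaCore M :=
  le_sigmaCore hG hM (Subgroup.zpowers_le.mpr hx) (fun r hr hd => h r hr (by rwa [Nat.card_zpowers] at hd))
    (mem_zpowers x)

end Fitting

theorem sigmaCore_conj (hG : IsMinSimpleOddOrder G) {M : Subgroup G} (hM : IsCoatom M) (g : G) :
    sigmaCore (MulAut.conj g • M) = MulAut.conj g • sigmaCore M := by
  have key : ∀ (g : G) (L : Subgroup G), IsCoatom L →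
      MulAut.conj g • sigmaCore L ≤ sigmaCore (MulAut.conj g • L) := fun g L hL =>
    le_sigmaCore hG (conj_isCoatom hL g) (conj_smul_mono (piCoreOf_le _ _) g) fun r hr hd => by
      rw [CfsgLib.card_conj_smul] at hd
      rw [sigma_conj]
      exact (sigmaCore_hall hG hL).1.2.1 r hr hd
  refine le_antisymm ?_ (key g M hM)
  have h := conj_smul_mono (key g⁻¹ _ (conj_isCoatom hM g)) g
  rwa [CfsgLib.conj_smul_mul g⁻¹ g M, inv_mul_cancel, map_one, one_smul, CfsgLib.conj_smul_mul, mul_inv_cancel,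
    map_one, one_smul] at h

theorem conj_centralizer_singleton (g x : G) :
    MulAut.conj g • centralizer ({x} : Set G) = centralizer ({g * x * g⁻¹} : Set G) := by
  ext z
  rw [CfsgLib.mem_conj_smul_iff, Subgroup.mem_centralizer_singleton_iff, Subgroup.mem_centralizer_singleton_iff]
  constructor
  · intro h
    calc z * (g * x * g⁻¹) = g * ((g⁻¹ * z * g) * x) * g⁻¹ := by group
      _ = g * (x * (g⁻¹ * z * g)) * g⁻¹ := by rw [h]
      _ = g * x * g⁻¹ * z := by group
  · intro h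
    calc g⁻¹ * z * g * x = g⁻¹ * (z * (g * x * g⁻¹)) * g := by group
      _ = g⁻¹ * (g * x * g⁻¹ * z) * g := by rw [h]
      _ = x * (g⁻¹ * z * g) := by group

/-- The maximal subgroup over `C(x)` for `x ∈ M_σ` with `C(x) ≰ M`. -/
structure SigmaOver (M : Subgroup G) (x : G) (N : Subgroup G) : Prop where
  hN : IsCoatom N
  le : centralizer ({x} : Set G) ≤ N
  uniq : ∀ L : Subgroup G, IsCoatom L → centralizer ({x} : Set G) ≤ L → L = N
  nil : Group.IsNilpotent (sigmaCore N)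
  compl : IsComplIn (M ⊓ N) (sigmaCore N) N
  tau2 : ∀ r : ℕ, r.Prime → r ∣ orderOf x → r ∈ tau2 N
  ne : sigmaCore N ⊓ centralizer ({x} : Set G) ≠ ⊥
  bot : sigmaCore N ⊓ M = ⊥

theorem exists_sigmaOver (hG : IsMinSimpleOddOrder G) {M : Subgroup G} (hM : IsCoatom M) {x : G}
    (hx : x ∈ sigmaCore M) (hx1 : x ≠ 1) (hxM : ¬ centralizer ({x} : Set G) ≤ M) : ∃ N, SigmaOver M x N := by
  have hxm : x ∈ M := piCoreOf_le _ _ hx
  obtain ⟨q, hq, hqd⟩ := exists_prime_dvd_order hx1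
  haveI := Fact.mk hq
  obtain ⟨X, hXc, hXx, hCX⟩ := exists_line_of_element hqd
  have hXM : X ≤ M := hXx.trans (Subgroup.zpowers_le.mpr hxm)
  have hqM : q ∈ sigma M := order_sigma hG hM hx q hq hqd
  obtain ⟨N, hN, hNX⟩ := exists_coatom_ge (normalizer_ne_top hG (ne_bot_of_card hXc)
    (pgroup_ne_top hG (isPGroup_of_card hXc)))
  have hCN : centralizer ({x} : Set G) ≤ N := hCX.trans ((Subgroup.centralizer_le_normalizer _).trans hNX)
  have hNM : N ≠ M := fun e => hxM (e ▸ hCN)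
  obtain ⟨hqN, hbot, E, hE, hEM⟩ := overgroup_data hG hM hN hNM hqM hXc hXM hNX
  have hNE : N ⊓ M = E := meet_eq_complement hG hN hE hEM hbot
  have hxN : x ∈ N := hCN (Subgroup.mem_centralizer_singleton_iff.mpr rfl)
  have hxE : x ∈ E := hNE.le ⟨hxN, hxm⟩
  have hne : sigmaCore N ⊓ centralizer ({x} : Set G) ≠ ⊥ := by
    intro he
    refine hxM fun n hn => ?_
    obtain ⟨e, hee, b, hb, rfl⟩ := hE.2.2.2 n (hCN hn)
    have hxb : x * b * x⁻¹ ∈ sigmaCore N :=
      (Subgroup.mem_normalizer_iff.mp (le_normalizer_sigmaCore hG hN le_rfl hxN) b).mp hb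
    have h1 : x * e * x⁻¹ * (x * b * x⁻¹) = e * b := by
      rw [show x * e * x⁻¹ * (x * b * x⁻¹) = x * (e * b) * x⁻¹ by group,
        ← Subgroup.mem_centralizer_singleton_iff.mp hn, mul_inv_cancel_right]
    have h2 : e⁻¹ * (x * e * x⁻¹) = b * (x * b * x⁻¹)⁻¹ := by
      rw [eq_mul_inv_iff_mul_eq, mul_assoc, h1, inv_mul_cancel_left]
    have h3 : e⁻¹ * (x * e * x⁻¹) ∈ E ⊓ sigmaCore N :=
      ⟨E.mul_mem (E.inv_mem hee) (E.mul_mem (E.mul_mem hxE hee) (E.inv_mem hxE)),
        h2 ▸ (sigmaCore N).mul_mem hb ((sigmaCore N).inv_mem hxb)⟩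
    rw [hE.2.2.1, Subgroup.mem_bot] at h3
    rw [h3] at h2
    have hbc : b ∈ centralizer ({x} : Set G) := by
      rw [Subgroup.mem_centralizer_singleton_iff]
      exact (mul_inv_eq_iff_eq_mul.mp (mul_inv_eq_one.mp h2.symm).symm).symm
    have hb1 : b = 1 := Subgroup.mem_bot.mp (he ▸ ⟨hb, hbc⟩)
    rw [hb1, mul_one]
    exact hEM hee
  have hτ : ∀ r : ℕ, r.Prime → r ∣ orderOf x → r ∈ tau2 N := by
    intro r hr hrd
    haveI := Fact.mk hr
    obtain ⟨Y, hYc, hYx, hCY⟩ := exists_line_of_element hrd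
    have hrs : r ∉ sigma N := complement_sigma' hG hN hE r hr (hrd.trans (Subgroup.orderOf_dvd_natCard _ hxE))
    by_contra hr2
    have hYN : Y ≤ N := hYx.trans (Subgroup.zpowers_le.mpr hxN)
    have hbad : sigmaCore N ⊓ centralizer (Y : Set G) ≠ ⊥ := fun e =>
      hne (le_bot_iff.mp (e ▸ inf_le_inf_left _ hCY))
    have h13 := tau1_or_tau3 hG hN hrs (rank_one_of_not_sigma hG hN hrs hr2) hYc hYN
    obtain ⟨L, hL, hLY⟩ := exists_coatom_ge (normalizer_ne_top hG (ne_bot_of_card hYc)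
      (pgroup_ne_top hG (isPGroup_of_card hYc)))
    have hrL : r ∈ sigma L := by
      rcases h13 with h | h
      · exact tau1_bad_sigma hG hN hL h hYc hYN hbad hLY
      · exact tau3_bad_sigma hG hN hL h hYc hYN hbad hLY
    have hCL : centralizer (Y : Set G) ≤ L := (Subgroup.centralizer_le_normalizer _).trans hLY
    have := eq_of_sigma hG hM hL (order_sigma hG hM hx r hr hrd) hrL
      (hYx.trans (Subgroup.zpowers_le.mpr hxm)) hYc hCL
    exact hxM ((hCY.trans hCL).trans this.le)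
  refine ⟨N, hN, hCN, ?_, tau2_nilpotent hG hN hqN, ?_, hτ, hne, hbot⟩
  · obtain ⟨⟨y, hy⟩, hy1⟩ := Subgroup.ne_bot_iff_exists_ne_one.mp hne
    exact (tau2_element_uniq hG hN hE hxN hx1 hτ ⟨hxN, y, hy.1, fun e => hy1 (Subtype.ext e),
      (Subgroup.mem_centralizer_singleton_iff.mp hy.2).symm⟩).2
  · rw [inf_comm, hNE]
    exact hE

variable (hG : IsMinSimpleOddOrder G) {M : Subgroup G} (hM : IsCoatom M) {x : G}

include hG hM

/-- The centraliser of `x ∈ M_σ` is transitive on the conjugates of `M` containing `x`. -/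
theorem conj_of_mem (hx : x ∈ sigmaCore M) (hx1 : x ≠ 1) {g : G} (hg : x ∈ MulAut.conj g • M) :
    ∃ c ∈ centralizer ({x} : Set G), MulAut.conj g • M = MulAut.conj c • M ∧
      (centralizer ({x} : Set G) ≤ M → MulAut.conj g • M = M) ∧ ∀ N, SigmaOver M x N → c ∈ sigmaCore N := by
  obtain ⟨q, hq, hqd⟩ := exists_prime_dvd_order hx1
  haveI := Fact.mk hq
  obtain ⟨X, hXc, hXx, hCX⟩ := exists_line_of_element hqd
  have hxm : x ∈ M := piCoreOf_le _ _ hx
  have hXM : X ≤ M := hXx.trans (Subgroup.zpowers_le.mpr hxm)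
  have hqM : q ∈ sigma M := order_sigma hG hM hx q hq hqd
  obtain ⟨P, hPM, hP, hPi, hPN⟩ := exists_sigma_sylow hqM
  have hXg : MulAut.conj g⁻¹ • X ≤ M := by
    have h := conj_smul_mono (hXx.trans (Subgroup.zpowers_le.mpr hg)) g⁻¹
    rwa [CfsgLib.conj_smul_mul, inv_mul_cancel, map_one, one_smul] at h
  obtain ⟨m, hm, c, hc, he⟩ := conj_eq_mul hG hM hPM hP hPi hPN (isPGroup_of_card hXc) (ne_bot_of_card hXc) hXM hXg
  have hgc : MulAut.conj g • M = MulAut.conj c⁻¹ • M := by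
    rw [show g = c⁻¹ * m⁻¹ by rw [← mul_inv_rev, ← he, inv_inv], ← CfsgLib.conj_smul_mul,
      smul_eq_self_of_mem (inv_mem hm)]
  obtain ⟨y, hy, hyX⟩ := exists_gen hXc
  have hyc : centralizer ({y} : Set G) = centralizer (X : Set G) := by rw [centralizer_zpowers, hyX]
  by_cases hXle : centralizer (X : Set G) ≤ M
  · have he' : MulAut.conj g • M = M := by rw [hgc, smul_eq_self_of_mem (inv_mem (hXle hc))]
    exact ⟨1, one_mem _, by rw [he', map_one, one_smul], fun _ => he', fun N _ => one_mem _⟩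
  have hyM : y ∈ sigmaCore M := (hXx.trans (Subgroup.zpowers_le.mpr hx)) (hyX ▸ mem_zpowers y)
  obtain ⟨N, hN⟩ := exists_sigmaOver hG hM hyM (fun e => by rw [e, orderOf_one] at hy; exact hq.ne_one hy.symm)
    (hyc ▸ hXle)
  obtain ⟨e, hee, b, hb, hcb⟩ := hN.compl.2.2.2 c (hN.le (hyc ▸ hc))
  have hgb : MulAut.conj g • M = MulAut.conj b⁻¹ • M := by
    rw [hgc, hcb, mul_inv_rev, ← CfsgLib.conj_smul_mul, smul_eq_self_of_mem (inv_mem hee.1)]
  have hxN : x ∈ N := hN.le (hyc ▸ hCX (Subgroup.mem_centralizer_singleton_iff.mpr rfl))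
  have hbc : b⁻¹ ∈ centralizer ({x} : Set G) := by
    have hbN : b ∈ N := piCoreOf_le _ _ hb
    have h1 : b * x * b⁻¹ ∈ M := by
      have := hg
      rw [hgb, CfsgLib.mem_conj_smul_iff] at this
      simpa using this
    have h2 : b * x * b⁻¹ * x⁻¹ ∈ (M ⊓ N) ⊓ sigmaCore N := by
      refine ⟨⟨M.mul_mem h1 (M.inv_mem hxm), N.mul_mem (N.mul_mem (N.mul_mem hbN hxN) (N.inv_mem hbN)) (N.inv_mem hxN)⟩, ?_⟩
      have := (sigmaCore N).mul_mem hb ((Subgroup.mem_normalizer_iff.mp (le_normalizer_sigmaCore hG hN.hN le_rfl hxN) b⁻¹).mp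
        ((sigmaCore N).inv_mem hb))
      rwa [show b * x * b⁻¹ * x⁻¹ = b * (x * b⁻¹ * x⁻¹) by group]
    rw [hN.compl.2.2.1, Subgroup.mem_bot] at h2
    rw [Subgroup.mem_centralizer_singleton_iff]
    have h3 : b * x = x * b := mul_inv_eq_iff_eq_mul.mp (mul_inv_eq_one.mp h2)
    exact ((show Commute b x from h3).inv_left).eq
  refine ⟨b⁻¹, hbc, hgb, fun hxM => by rw [hgb, smul_eq_self_of_mem (hxM hbc)], fun N₀ hN₀ => ?_⟩
  have : N₀ = N := (hN₀.uniq N hN.hN (hCX.trans (hyc ▸ hN.le))).symm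
  exact this ▸ (sigmaCore N).inv_mem hb

theorem supportR_eq_bot (h : centralizer ({x} : Set G) ≤ M) : supportR M x = ⊥ := by
  rw [supportR, dif_neg fun h' => h'.1 h]

theorem SigmaOver.not_le {N : Subgroup G} (hN : SigmaOver M x N) : ¬ centralizer ({x} : Set G) ≤ M := fun h => by
  have hNM := hN.uniq M hM h
  have hb := hN.bot
  rw [← hNM] at hb
  exact sigmaCore_ne_bot hG hM (le_bot_iff.mp ((le_inf le_rfl (piCoreOf_le _ _)).trans hb.le))

theorem supportR_eq {N : Subgroup G} (hN : SigmaOver M x N) :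
    supportR M x = sigmaCore N ⊓ centralizer ({x} : Set G) := by
  have hu : ∃! L : Subgroup G, IsCoatom L ∧ centralizer ({x} : Set G) ≤ L :=
    ⟨N, ⟨hN.hN, hN.le⟩, fun L hL => hN.uniq L hL.1 hL.2⟩
  rw [supportR, dif_pos ⟨hN.not_le hG hM, hu⟩]
  have hs := Classical.choose_spec hu.exists
  rw [hN.uniq _ hs.1 hs.2, fittingHallOf_eq hG hN.hN hN.nil]

theorem supportR_cases (hx : x ∈ sigmaCore M) (hx1 : x ≠ 1) :
    (centralizer ({x} : Set G) ≤ M ∧ supportR M x = ⊥) ∨
      ∃ N, SigmaOver M x N ∧ supportR M x = sigmaCore N ⊓ centralizer ({x} : Set G) := by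
  by_cases h : centralizer ({x} : Set G) ≤ M
  · exact Or.inl ⟨h, supportR_eq_bot hG hM h⟩
  · obtain ⟨N, hN⟩ := exists_sigmaOver hG hM hx hx1 h
    exact Or.inr ⟨N, hN, supportR_eq hG hM hN⟩

theorem supportR_le_centralizer (hx : x ∈ sigmaCore M) (hx1 : x ≠ 1) :
    supportR M x ≤ centralizer ({x} : Set G) := by
  rcases supportR_cases hG hM hx hx1 with ⟨-, h⟩ | ⟨N, -, h⟩
  · exact h ▸ bot_le
  · exact h ▸ inf_le_right

/-- `R(x)` acts regularly on the conjugates of `M` through `x`. -/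
theorem supportR_regular (hx : x ∈ sigmaCore M) (hx1 : x ≠ 1) {g : G} (hg : x ∈ MulAut.conj g • M) :
    ∃! r : G, r ∈ supportR M x ∧ MulAut.conj r • M = MulAut.conj g • M := by
  obtain ⟨c, hc, hgc, hle, hN'⟩ := conj_of_mem hG hM hx hx1 hg
  rcases supportR_cases hG hM hx hx1 with ⟨hCM, h⟩ | ⟨N, hN, h⟩
  · refine ⟨1, ⟨one_mem _, by rw [map_one, one_smul, hle hCM]⟩, fun r hr => ?_⟩
    exact Subgroup.mem_bot.mp (h ▸ hr.1)
  · refine ⟨c, ⟨h ▸ ⟨hN' N hN, hc⟩, hgc.symm⟩, fun r hr => ?_⟩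
    have hr1 : r ∈ sigmaCore N := (h.le hr.1).1
    have hn : c⁻¹ * r ∈ M := by
      rw [← normalizer_coatom hG hM]
      refine mem_normalizer_of_conj_smul ?_
      rw [← CfsgLib.conj_smul_mul, hr.2, hgc, CfsgLib.conj_smul_mul, inv_mul_cancel, map_one, one_smul]
    have h5 : c⁻¹ * r ∈ sigmaCore N ⊓ M :=
      ⟨(sigmaCore N).mul_mem ((sigmaCore N).inv_mem (hN' N hN)) hr1, hn⟩
    rw [hN.bot] at h5
    have := Subgroup.mem_bot.mp h5
    exact (inv_mul_eq_one.mp this).symm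

theorem supportR_order (hx : x ∈ sigmaCore M) (hx1 : x ≠ 1) {r : G} (hr : r ∈ supportR M x) :
    ∀ p : ℕ, p.Prime → p ∣ orderOf r → p ∉ sigma M := by
  intro p hp hd hpM
  rcases supportR_cases hG hM hx hx1 with ⟨-, h⟩ | ⟨N, hN, h⟩
  · have hr0 : r = 1 := Subgroup.mem_bot.mp (h ▸ hr)
    rw [hr0, orderOf_one] at hd
    exact hp.ne_one (Nat.dvd_one.mp hd)
  · haveI := Fact.mk hp
    obtain ⟨g, hg⟩ := sigma_disjointness hG hM hN.hN hpM (order_sigma hG hN.hN (h.le hr).1 p hp hd)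
    obtain ⟨q, hq, hqd⟩ := exists_prime_dvd_order hx1
    exact (hN.tau2 q hq hqd).2.1 (by rw [hg, sigma_conj]; exact order_sigma hG hM hx q hq hqd)

omit hM

/-- The cosets `x R(x)` are disjoint. -/
theorem support_mul_inj {M N : Subgroup G} (hM : IsCoatom M) (hN : IsCoatom N) {x y r s : G}
    (hx : x ∈ sigmaCore M) (hx1 : x ≠ 1) (hy : y ∈ sigmaCore N) (hy1 : y ≠ 1) (hr : r ∈ supportR M x)
    (hs : s ∈ supportR N y) (he : x * r = y * s) : x = y := by
  have hxr : Commute x r := (Subgroup.mem_centralizer_singleton_iff.mp (supportR_le_centralizer hG hM hx hx1 hr)).symm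
  have hys : Commute y s := (Subgroup.mem_centralizer_singleton_iff.mp (supportR_le_centralizer hG hN hy hy1 hs)).symm
  have hrπ := supportR_order hG hM hx hx1 hr
  by_cases hMN : ∃ g : G, N = MulAut.conj g • M
  · obtain ⟨g, hg⟩ := hMN
    have hσ : sigma N = sigma M := by rw [hg, sigma_conj]
    exact eq_of_mul_eq_mul_pi hxr hys (order_sigma hG hM hx) (hσ ▸ order_sigma hG hN hy) hrπ
      (hσ ▸ supportR_order hG hN hy hy1 hs) he
  push Not at hMN
  have hyπ : ∀ p : ℕ, p.Prime → p ∣ orderOf y → p ∉ sigma M := fun p hp hd h => by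
    haveI := Fact.mk hp
    obtain ⟨g, hg⟩ := sigma_disjointness hG hM hN h (order_sigma hG hN hy p hp hd)
    exact hMN g hg
  exfalso
  by_cases hsπ : ∀ p : ℕ, p.Prime → p ∣ orderOf s → p ∈ sigma M
  swap
  · push Not at hsπ
    obtain ⟨p, hp, hpd, hpM⟩ := hsπ
    rcases supportR_cases hG hN hy hy1 with ⟨-, h⟩ | ⟨L, hL, h⟩
    · have hs0 : s = 1 := Subgroup.mem_bot.mp (h ▸ hs)
      rw [hs0, orderOf_one] at hpd
      exact hp.ne_one (Nat.dvd_one.mp hpd)
    have hsL : s ∈ sigmaCore L := (h.le hs).1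
    have hπ : ∀ p' : ℕ, p'.Prime → p' ∣ orderOf s → p' ∉ sigma M := fun p' hp' hd hM' => by
      haveI := Fact.mk hp'
      obtain ⟨g, hg⟩ := sigma_disjointness hG hM hL.hN hM' (order_sigma hG hL.hN hsL p' hp' hd)
      exact hpM (by rw [← sigma_conj (M := M) g, ← hg]; exact order_sigma hG hL.hN hsL p hp hpd)
    refine hx1 (eq_of_mul_eq_mul_pi (π := sigma M) hxr (Commute.one_left (y * s)) (order_sigma hG hM hx)
      (by simp only [orderOf_one]; exact fun p hp hd => absurd (Nat.dvd_one.mp hd) hp.ne_one) hrπ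
      (fun p' hp' hd => ?_) (by rw [he, one_mul]))
    exact (hp'.dvd_mul.mp (hd.trans hys.orderOf_mul_dvd_mul_orderOf)).elim (hyπ p' hp') (hπ p' hp')
  -- `x = s` and `r = y`
  have hxs : x = s := eq_of_mul_eq_mul_pi hxr hys.symm (order_sigma hG hM hx) hsπ hrπ hyπ (by rw [he, hys.eq])
  have hry : r = y := by
    rw [hxs] at he
    exact mul_left_cancel (he.trans hys.eq)
  subst hxs hry
  rcases supportR_cases hG hN hy hy1 with ⟨-, h⟩ | ⟨L, hL, h⟩
  · exact hx1 (Subgroup.mem_bot.mp (h ▸ hs))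
  rcases supportR_cases hG hM hx hx1 with ⟨-, h'⟩ | ⟨L', hL', h'⟩
  · exact hy1 (Subgroup.mem_bot.mp (h' ▸ hr))
  obtain ⟨q, hq, hqd⟩ := exists_prime_dvd_order hx1
  haveI := Fact.mk hq
  obtain ⟨g, hg⟩ := sigma_disjointness hG hM hL.hN (order_sigma hG hM hx q hq hqd)
    (order_sigma hG hL.hN (h.le hs).1 q hq hqd)
  obtain ⟨c, hc, hgc, -, hcN⟩ := conj_of_mem hG hM hx hx1 (g := g) (hg ▸ piCoreOf_le _ _ (h.le hs).1)
  have hrL : r ∈ L := hL.le (Subgroup.mem_centralizer_singleton_iff.mpr rfl)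
  rw [hg, hgc, CfsgLib.mem_conj_smul_iff] at hrL
  have hr' : r ∈ sigmaCore L' := (h'.le hr).1
  have hc' := hcN L' hL'

  have h5 : c⁻¹ * r * c ∈ sigmaCore L' ⊓ M :=
    ⟨(sigmaCore L').mul_mem ((sigmaCore L').mul_mem ((sigmaCore L').inv_mem hc') hr') hc', hrL⟩
  rw [hL'.bot, Subgroup.mem_bot] at h5
  exact hy1 (conj_eq_one_iff (a := c⁻¹) (b := r) |>.mp (by rw [inv_inv]; exact h5))

end CfsgLib.MinSimpleOdd
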