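import Cfsg.Agent.Lib.MinSimpleOdd.Tau3Bad
import Cfsg.Agent.Lib.MinSimpleOdd.DecompBasics
import Cfsg.Agent.Lib.MinSimpleOdd.SigmaElement

/-!
The Hall `κ(M)`-subgroups act in prime manner on `M_σ` (B–G 14.2).
-/

set_option autoImplicit false
set_option linter.unusedSectionVars false
set_option linter.style.haveILetI false
set_option maxHeartbeats 1000000

namespace CfsgLib.MinSimpleOdd

open Subgroup Cfsg
open scoped Pointwise commutatorElement IsMulCommutative

universe u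
variable {G : Type u} [Group G] [Finite G]

/-- `M_σ ∩ C(K)`. -/
def fixedCore (M K : Subgroup G) : Subgroup G := sigmaCore M ⊓ centralizer (K : Set G)

/-- No `τ₃(M)`-line has fixed points on `M_σ`. -/
def NoTau3Bad (M : Subgroup G) : Prop :=
  ∀ (t : ℕ) (P : Subgroup G), t ∈ tau3 M → Nat.card P = t → P ≤ M → sigmaCore M ⊓ centralizer (P : Set G) = ⊥

variable (hG : IsMinSimpleOddOrder G) {M : Subgroup G} (hM : IsCoatom M)

include hG hM

theorem bad_conj {W : Subgroup G} (hbad : sigmaCore M ⊓ centralizer (W : Set G) ≠ ⊥) {m : G} (hm : m ∈ M) :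
    sigmaCore M ⊓ centralizer ((MulAut.conj m • W : Subgroup G) : Set G) ≠ ⊥ := by
  obtain ⟨⟨y, hy⟩, hy1⟩ := Subgroup.ne_bot_iff_exists_ne_one.mp hbad
  intro h
  refine hy1 (Subtype.ext ?_)
  have h1 : m * y * m⁻¹ ∈ sigmaCore M ⊓ centralizer ((MulAut.conj m • W : Subgroup G) : Set G) := by
    refine ⟨(Subgroup.mem_normalizer_iff.mp (le_normalizer_sigmaCore hG hM le_rfl hm) y).mp hy.1, fun w hw => ?_⟩
    rw [SetLike.mem_coe, CfsgLib.mem_conj_smul_iff] at hw
    calc w * (m * y * m⁻¹) = m * ((m⁻¹ * w * m) * y) * m⁻¹ := by group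
      _ = m * (y * (m⁻¹ * w * m)) * m⁻¹ := by rw [hy.2 _ hw]
      _ = m * y * m⁻¹ * w := by group
  rw [h, Subgroup.mem_bot] at h1
  exact conj_eq_one_iff.mp h1

theorem kappa_of_bad {t : ℕ} [Fact t.Prime] (ht : t ∈ tau1 M ∨ t ∈ tau3 M) {W : Subgroup G} (hW : Nat.card W = t)
    (hWM : W ≤ M) (hbad : sigmaCore M ⊓ centralizer (W : Set G) ≠ ⊥) : t ∈ kappa M := by
  have hr1 : PRankLE t 1 M := ht.elim (fun h => h.2.2.2.2) fun h => h.2.2.2
  have hts : t ∉ sigma M := ht.elim (fun h => h.2.1) fun h => h.2.1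
  refine ⟨Fact.out, hW ▸ Subgroup.card_dvd_of_le hWM, hts, fun P => ?_⟩
  have hPM : (P : Subgroup M).map M.subtype ≤ M := Subgroup.map_subtype_le _
  have hP' : IsPGroup t ↥((P : Subgroup M).map M.subtype) := P.2.map _
  haveI := rank_one_cyclic hG hr1 hP' hPM
  refine ⟨isCyclic_of_surjective _
    ((P : Subgroup M).equivMapOfInjective M.subtype M.subtype_injective).symm.surjective, ?_⟩
  obtain ⟨m, hm, hmW⟩ := CfsgLib.pi_le_conj_hall (solvable_of_ne_top hG hM.1) (H := (P : Subgroup M).map M.subtype)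
    (π := {t}) ⟨hPM, pi_of_pgroup hP' rfl, fun r _ hr => by
      rw [Set.mem_singleton_iff] at hr
      subst hr
      exact not_dvd_of_sylow M P⟩ hWM (pi_of_card hW rfl)
  obtain ⟨⟨y, hy⟩, hy1⟩ := Subgroup.ne_bot_iff_exists_ne_one.mp (bad_conj hG hM hbad hm)
  obtain ⟨x, hx, hxW⟩ := exists_gen (W := MulAut.conj m • W) (t := t) (by rw [CfsgLib.card_conj_smul, hW])
  have hxm : x ∈ MulAut.conj m • W := hxW ▸ mem_zpowers x
  obtain ⟨x', hx', rfl⟩ := hmW hxm
  refine ⟨x', hx', ?_, y, hy.1, fun e => hy1 (Subtype.ext e), hy.2 _ hxm⟩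
  rintro rfl
  rw [map_one, orderOf_one] at hx
  exact (Fact.out : t.Prime).ne_one hx.symm

theorem exists_bad_of_kappa {t : ℕ} [Fact t.Prime] (h : t ∈ kappa M) :
    ∃ W : Subgroup G, W ≤ M ∧ Nat.card W = t ∧ sigmaCore M ⊓ centralizer (W : Set G) ≠ ⊥ := by
  obtain ⟨P⟩ : Nonempty (Sylow t M) := inferInstance
  obtain ⟨-, x, hxP, hx1, y, hy, hy1, hxy⟩ := h.2.2.2 P
  have hd : t ∣ orderOf (x : G) := by
    obtain ⟨k, hk⟩ := P.2.exists_card_eq
    have h1 := Subgroup.orderOf_dvd_natCard _ hxP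
    rw [hk] at h1
    obtain ⟨j, -, hj⟩ := (Nat.dvd_prime_pow Fact.out).mp h1
    rw [Subgroup.orderOf_coe, hj]
    exact dvd_pow_self t fun e => hx1 (orderOf_eq_one_iff.mp (by rw [hj, e, pow_zero]))
  obtain ⟨W, hW, hWx, hCW⟩ := exists_line_of_element hd
  refine ⟨W, hWx.trans (Subgroup.zpowers_le.mpr x.2), hW, fun e => hy1 ?_⟩
  exact Subgroup.mem_bot.mp (e ▸ (⟨hy, hCW (Subgroup.mem_centralizer_singleton_iff.mpr hxy.symm)⟩ :
    y ∈ sigmaCore M ⊓ centralizer (W : Set G)))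

omit hM in
theorem conj_into_hall {π : Set ℕ} {E H W : Subgroup G} (hE : E ≠ ⊤) (hH : IsPiHallOf π H E) (hWE : W ≤ E)
    (hW : ∀ r : ℕ, r.Prime → r ∣ Nat.card W → r ∈ π) : ∃ e ∈ E, MulAut.conj e • W ≤ H :=
  CfsgLib.pi_le_conj_hall (solvable_of_ne_top hG hE) hH hWE hW

theorem complement_ne_top {E : Subgroup G} (hE : IsComplIn E (sigmaCore M) M) : E ≠ ⊤ := fun e =>
  hM.1 (top_le_iff.mp (e ▸ hE.1))

theorem tau1_bad_all {t s : ℕ} [Fact t.Prime] [Fact s.Prime] (ht : t ∈ tau1 M) (hs : s ∈ tau1 M)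
    {W V : Subgroup G} (hW : Nat.card W = t) (hWM : W ≤ M) (hbad : sigmaCore M ⊓ centralizer (W : Set G) ≠ ⊥)
    (hV : Nat.card V = s) (hVM : V ≤ M) : sigmaCore M ⊓ centralizer (V : Set G) ≠ ⊥ := by
  obtain ⟨E, hE, hVE⟩ := exists_complement_ge hG hM hVM (pi_of_card hV (π := {r | r ∉ sigma M}) hs.2.1)
  obtain ⟨E₁, hE₁, hVE₁⟩ := exists_hall_ge (π := tau1 M) (solvable_of_le hE.1 (solvable_of_ne_top hG hM.1)) hVE
    (pi_of_card hV hs)
  obtain ⟨m, hm, hmW⟩ := conj_into_hall hG hM.1 (complement_hall hG hM hE) hWM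
    (pi_of_card hW (π := {r | r ∉ sigma M}) ht.2.1)
  obtain ⟨e, he, heW⟩ := conj_into_hall hG (complement_ne_top hG hM hE) hE₁ hmW
    (by rw [CfsgLib.card_conj_smul]; exact pi_of_card hW ht)
  haveI := cyclic_isCommutative (tau1_hall_cyclic hG hM hE hE₁)
  have hsub := tau1_centralizer_le hG hM ht hs.2.1 (P := MulAut.conj e • MulAut.conj m • W)
    (by rw [CfsgLib.card_conj_smul, CfsgLib.card_conj_smul, hW]) (heW.trans (hE₁.1.trans hE.1)) hV hVM
    ((hVE₁.trans (Subgroup.le_centralizer E₁)).trans (Subgroup.centralizer_le (SetLike.coe_subset_coe.mpr heW)))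
  intro h
  exact bad_conj hG hM (bad_conj hG hM hbad hm) (hE.1 he) (le_bot_iff.mp ((le_inf inf_le_left hsub).trans h.le))

theorem kappa_eq_tau1 (hno : NoTau3Bad M) (hne : (kappa M).Nonempty) : kappa M = tau1 M := by
  obtain ⟨t₀, ht₀⟩ := hne
  haveI := Fact.mk ht₀.1
  obtain ⟨W₀, hW₀M, hW₀, hbad⟩ := exists_bad_of_kappa hG hM ht₀
  have h1 : t₀ ∈ tau1 M := (kappa_tau hG hM ht₀).resolve_right fun h => hbad (hno t₀ W₀ h hW₀ hW₀M)
  ext t
  constructor <;> intro ht
  · haveI := Fact.mk ht.1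
    obtain ⟨W, hWM, hW, hb⟩ := exists_bad_of_kappa hG hM ht
    exact (kappa_tau hG hM ht).resolve_right fun h => hb (hno t W h hW hWM)
  · haveI := Fact.mk ht.1
    obtain ⟨w, hw⟩ := exists_prime_orderOf_dvd_card' t ht.2.2.1
    have hW : Nat.card (zpowers (w : G)) = t := by rw [Nat.card_zpowers, Subgroup.orderOf_coe, hw]
    have hWM : zpowers (w : G) ≤ M := Subgroup.zpowers_le.mpr w.2
    exact kappa_of_bad hG hM (Or.inl ht) hW hWM (tau1_bad_all hG hM h1 ht hW₀ hW₀M hbad hW hWM)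

/-- A `τ₁`-line with fixed points on `M_σ` centralises only `τ₁`-lines outside `M_σ`. -/
theorem tau1_of_centralized (hno : NoTau3Bad M) {t s : ℕ} [Fact t.Prime] [Fact s.Prime] (ht : t ∈ tau1 M)
    {W Z : Subgroup G} (hW : Nat.card W = t) (hWM : W ≤ M) (hbad : sigmaCore M ⊓ centralizer (W : Set G) ≠ ⊥)
    (hZ : Nat.card Z = s) (hZM : Z ≤ M) (hs : s ∉ sigma M) (hZW : Z ≤ centralizer (W : Set G)) : s ∈ tau1 M := by
  have hsub := tau1_centralizer_le hG hM ht hs hW hWM hZ hZM hZW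
  have hZbad : sigmaCore M ⊓ centralizer (Z : Set G) ≠ ⊥ := fun e =>
    hbad (le_bot_iff.mp ((le_inf inf_le_left hsub).trans e.le))
  have hs2 : s ∉ tau2 M := by
    intro h2
    obtain ⟨E, hE, hZE⟩ := exists_complement_ge hG hM hZM (pi_of_card hZ (π := {r | r ∉ sigma M}) hs)
    obtain ⟨z, hz, hzZ⟩ := exists_gen hZ
    obtain ⟨⟨y, hy⟩, hy1⟩ := Subgroup.ne_bot_iff_exists_ne_one.mp hZbad
    obtain ⟨-, huniq⟩ := tau2_element_uniq hG hM hE (hZM (hzZ ▸ mem_zpowers z))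
      (fun e => by rw [e, orderOf_one] at hz; exact (Fact.out : s.Prime).ne_one hz.symm)
      (fun r hr hd => by rw [hz] at hd; rwa [(Nat.prime_dvd_prime_iff_eq hr Fact.out).mp hd])
      ⟨hZM (hzZ ▸ mem_zpowers z), y, hy.1, fun e => hy1 (Subtype.ext e), hy.2 z (hzZ ▸ mem_zpowers z)⟩
    rw [centralizer_zpowers, hzZ] at huniq
    have hNZ := normalizer_le_of_uniq hG (ne_bot_of_card hZ) (pgroup_ne_top hG (isPGroup_of_card hZ)) huniq
    obtain ⟨L, hL, hNW⟩ := exists_coatom_ge (normalizer_ne_top hG (ne_bot_of_card hW)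
      (pgroup_ne_top hG (isPGroup_of_card hW)))
    have htL := tau1_bad_sigma hG hM hL ht hW hWM hbad hNW
    have hnc : M ≠ L := fun e => ht.2.1 (e ▸ htL)
    have hCW := (Subgroup.centralizer_le_normalizer _).trans hNW
    have hZL : Z ≤ L := hZW.trans hCW
    by_cases hsL : s ∈ sigma L
    · obtain ⟨-, hb, -⟩ := overgroup_data hG hL hM hnc hsL hZ hZL hNZ
      exact hbad (le_bot_iff.mp ((le_inf inf_le_left (inf_le_right.trans hCW)).trans hb.le))
    · have hWs : W ≤ sigmaCore L := pgroup_le_sigmaCore hG hL htL (isPGroup_of_card hW) (Subgroup.le_normalizer.trans hNW)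
      have hbL : sigmaCore L ⊓ centralizer (Z : Set G) ≠ ⊥ := fun e =>
        ne_bot_of_card hW (le_bot_iff.mp ((le_inf hWs (Subgroup.le_centralizer_iff.mp hZW)).trans e.le))
      by_cases hs2L : s ∈ tau2 L
      · obtain ⟨F, hF, hZF⟩ := exists_complement_ge hG hL hZL (pi_of_card hZ (π := {r | r ∉ sigma L}) hsL)
        obtain ⟨⟨y', hy'⟩, hy'1⟩ := Subgroup.ne_bot_iff_exists_ne_one.mp hbL
        obtain ⟨-, huL⟩ := tau2_element_uniq hG hL hF (hZL (hzZ ▸ mem_zpowers z))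
          (fun e => by rw [e, orderOf_one] at hz; exact (Fact.out : s.Prime).ne_one hz.symm)
          (fun r hr hd => by rw [hz] at hd; rwa [(Nat.prime_dvd_prime_iff_eq hr Fact.out).mp hd])
          ⟨hZL (hzZ ▸ mem_zpowers z), y', hy'.1, fun e => hy'1 (Subtype.ext e), hy'.2 z (hzZ ▸ mem_zpowers z)⟩
        rw [centralizer_zpowers, hzZ] at huL
        exact hnc (huL M hM ((Subgroup.centralizer_le_normalizer _).trans hNZ))
      · exact hs (bad_sigma hG hL hM (tau1_or_tau3 hG hL hsL (rank_one_of_not_sigma hG hL hsL hs2L) hZ hZL) hZ hZL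
          hbL hNZ)
  exact (tau1_or_tau3 hG hM hs (rank_one_of_not_sigma hG hM hs hs2) hZ hZM).resolve_right
    fun h => hZbad (hno s Z h hZ hZM)

/-- A `σ'`-subgroup of rank one whose lines have equal fixed points acts in prime manner. -/
theorem prime_manner_of_lines {K F : Subgroup G} (hKM : K ≤ M)
    (hK : ∀ r : ℕ, r.Prime → r ∣ Nat.card K → r ∉ sigma M ∧ PRankLE r 1 M)
    (hF : ∀ (r : ℕ) (W : Subgroup G), r.Prime → W ≤ K → Nat.card W = r →
      sigmaCore M ⊓ centralizer (W : Set G) = F) (hK1 : K ≠ ⊥) :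
    fixedCore M K = F ∧ ∀ k ∈ K, k ≠ 1 → sigmaCore M ⊓ centralizer ({k} : Set G) = F := by
  obtain ⟨r₀, hr₀, W₀, hW₀K, hW₀⟩ := exists_prime_subgroup hK1
  have hle : F ≤ centralizer (K : Set G) := by
    rw [Subgroup.le_centralizer_iff]
    refine le_centralizer_of_sylows fun t ht => ?_
    haveI := Fact.mk ht
    obtain ⟨T, -, hTK, hT, hTi⟩ := exists_sylow_ge (p := t) (bot_le : (⊥ : Subgroup G) ≤ K) IsPGroup.of_bot
    refine ⟨T, hTK, hTi, ?_⟩
    by_cases hT1 : T = ⊥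
    · exact hT1 ▸ bot_le
    obtain ⟨W, hWT, hW⟩ := exists_sub_card hT hT1
    obtain ⟨hts, hr1⟩ := hK t ht (hW ▸ Subgroup.card_dvd_of_le (hWT.trans hTK))
    obtain ⟨x, hx, hxW⟩ := exists_gen hW
    have hTM : T ≤ M := hTK.trans hKM
    have h := cyclic_sylow_prime_action hG hM hts hr1 hT (rank_one_cyclic hG hr1 hT hTM) hTM (x := x)
      (hWT (hxW ▸ mem_zpowers x)) (fun e => by rw [e, orderOf_one] at hx; exact ht.ne_one hx.symm)
    rw [centralizer_zpowers, hxW, hF t W ht (hWT.trans hTK) hW] at h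
    exact Subgroup.le_centralizer_iff.mp (h.le.trans inf_le_right)
  have hFs : F ≤ sigmaCore M := (hF r₀ W₀ hr₀ hW₀K hW₀).ge.trans inf_le_left
  refine ⟨le_antisymm ((inf_le_inf_left _ (Subgroup.centralizer_le (SetLike.coe_subset_coe.mpr hW₀K))).trans
    (hF r₀ W₀ hr₀ hW₀K hW₀).le) (le_inf hFs hle), fun k hk hk1 => le_antisymm ?_
      (le_inf hFs (hle.trans (Subgroup.centralizer_le (Set.singleton_subset_iff.mpr hk))))⟩
  obtain ⟨t, ht, htd⟩ := exists_prime_dvd_order hk1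
  haveI := Fact.mk ht
  obtain ⟨W, hW, hWk, hCW⟩ := exists_line_of_element htd
  exact (inf_le_inf_left _ hCW).trans (hF t W ht (hWk.trans (Subgroup.zpowers_le.mpr hk)) hW).le

/-- The conclusions of B–G 14.2 for a Hall `κ(M)`-subgroup. -/
structure KappaData (M K : Subgroup G) : Prop where
  hM : IsCoatom M
  ne : K ≠ ⊥
  hall : IsPiHallOf (kappa M) K M
  fixed_ne : fixedCore M K ≠ ⊥
  prime : ∀ k ∈ K, k ≠ 1 → sigmaCore M ⊓ centralizer ({k} : Set G) = fixedCore M K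
  normal : ∀ (t : ℕ) (Z : Subgroup G), t.Prime → Z ≤ K → Nat.card Z = t → K ≤ normalizer (Z : Set G)
  normN : ∀ (t : ℕ) (Z : Subgroup G), t.Prime → Z ≤ K → Nat.card Z = t →
    M ⊓ normalizer (Z : Set G) = K ⊔ fixedCore M K
  meet : ∀ (t : ℕ) (Z L : Subgroup G), t.Prime → Z ≤ K → Nat.card Z = t → IsCoatom L →
    normalizer (Z : Set G) ≤ L → (∀ g : G, L ≠ MulAut.conj g • M) ∧ t ∈ sigma L ∧ M ⊓ L = K ⊔ fixedCore M K

theorem fixed_of_line {K : Subgroup G} (hprime : ∀ k ∈ K, k ≠ 1 → sigmaCore M ⊓ centralizer ({k} : Set G) = fixedCore M K)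
    {t : ℕ} [Fact t.Prime] {Z : Subgroup G} (hZK : Z ≤ K) (hZ : Nat.card Z = t) :
    sigmaCore M ⊓ centralizer (Z : Set G) = fixedCore M K := by
  obtain ⟨z, hz, hzZ⟩ := exists_gen hZ
  rw [← hzZ, ← centralizer_zpowers]
  exact hprime z (hZK (hzZ ▸ mem_zpowers z))
    (fun e => by rw [e, orderOf_one] at hz; exact (Fact.out : t.Prime).ne_one hz.symm)

theorem line_meet {K : Subgroup G} (hKM : K ≤ M) (hprime : ∀ k ∈ K, k ≠ 1 → sigmaCore M ⊓ centralizer ({k} : Set G) = fixedCore M K)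
    (hne : fixedCore M K ≠ ⊥) {t : ℕ} [Fact t.Prime] {Z L : Subgroup G} (hZK : Z ≤ K) (hZ : Nat.card Z = t)
    (ht : t ∈ tau1 M ∨ t ∈ tau3 M) (hL : IsCoatom L) (hNL : normalizer (Z : Set G) ≤ L) :
    (∀ g : G, L ≠ MulAut.conj g • M) ∧ t ∈ sigma L ∧ sigmaCore M ⊓ L = fixedCore M K ∧
      Z ≤ sigmaCore L ⊓ M := by
  have hZM : Z ≤ M := hZK.trans hKM
  have hfix := fixed_of_line hG hM hprime hZK hZ
  have htL := bad_sigma hG hM hL ht hZ hZM (hfix ▸ hne) hNL
  have hnc : ∀ g : G, L ≠ MulAut.conj g • M := fun g e =>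
    ht.elim (fun h => h.2.1) (fun h => h.2.1) (by rwa [e, sigma_conj] at htL)
  have hZL : Z ≤ sigmaCore L ⊓ M :=
    le_inf (pgroup_le_sigmaCore hG hL htL (isPGroup_of_card hZ) (Subgroup.le_normalizer.trans hNL)) hZM
  refine ⟨hnc, htL, le_antisymm ?_ ?_, hZL⟩
  · exact (le_inf inf_le_left ((meet_commute hG hM hL hnc).trans (Subgroup.centralizer_le
      (SetLike.coe_subset_coe.mpr hZL)))).trans hfix.le
  · exact hfix.ge.trans (inf_le_inf_left _ ((Subgroup.centralizer_le_normalizer _).trans hNL))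

theorem kappaData_of_hall {K : Subgroup G} (hK : IsPiHallOf (kappa M) K M) (hK1 : K ≠ ⊥) : KappaData M K := by
  have hMs := solvable_of_ne_top hG hM.1
  have hKs : ∀ r : ℕ, r.Prime → r ∣ Nat.card K → r ∉ sigma M := fun r hr hd => (hK.2.1 r hr hd).2.2.1
  obtain ⟨E, hE, hKE⟩ := exists_complement_ge hG hM hK.1 hKs
  have hEs := solvable_of_le hE.1 hMs
  have hrank : ∀ r : ℕ, r.Prime → r ∣ Nat.card K → r ∉ sigma M ∧ PRankLE r 1 M := fun r hr hd => by
    haveI := Fact.mk hr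
    exact ⟨hKs r hr hd, kappa_rank_one (hK.2.1 r hr hd)⟩
  have hCcomm : ∀ (t : ℕ) (Z : Subgroup G), t.Prime → Z ≤ K → Nat.card Z = t →
      fixedCore M K ≤ normalizer (Z : Set G) := fun t Z _ hZK _ =>
    inf_le_right.trans ((Subgroup.centralizer_le (SetLike.coe_subset_coe.mpr hZK)).trans
      (Subgroup.centralizer_le_normalizer _))
  by_cases hno : NoTau3Bad M
  · -- `κ(M) = τ₁(M)`
    have hkne : (kappa M).Nonempty := by
      obtain ⟨r, hr, W, hWK, hW⟩ := exists_prime_subgroup hK1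
      exact ⟨r, hK.2.1 r hr (hW ▸ Subgroup.card_dvd_of_le hWK)⟩
    have hκ : kappa M = tau1 M := kappa_eq_tau1 hG hM hno hkne
    have hKE₁ : IsPiHallOf (tau1 M) K E := by
      refine ⟨hKE, fun r hr hd => hκ ▸ hK.2.1 r hr hd, fun r hr hr1 hd => hK.2.2 r hr (hκ ▸ hr1) ?_⟩
      rw [← Subgroup.relIndex_mul_relIndex K E M hKE hE.1]
      exact dvd_mul_of_dvd_left hd _
    haveI := cyclic_isCommutative (tau1_hall_cyclic hG hM hE hKE₁)
    have hτ : ∀ (t : ℕ) (Z : Subgroup G), t.Prime → Z ≤ K → Nat.card Z = t → t ∈ tau1 M :=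
      fun t Z ht hZK hZ => hκ ▸ hK.2.1 t ht (hZ ▸ Subgroup.card_dvd_of_le hZK)
    have hbad : ∀ (t : ℕ) (Z : Subgroup G), t.Prime → Z ≤ K → Nat.card Z = t →
        sigmaCore M ⊓ centralizer (Z : Set G) ≠ ⊥ := by
      intro t Z ht hZK hZ
      haveI := Fact.mk ht
      obtain ⟨s, hs⟩ := hkne
      haveI := Fact.mk hs.1
      obtain ⟨W, hWM, hW, hWb⟩ := exists_bad_of_kappa hG hM hs
      exact tau1_bad_all hG hM (hκ ▸ hs) (hτ t Z ht hZK hZ) hW hWM hWb hZ (hZK.trans hK.1)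
    obtain ⟨r₀, hr₀, W₀, hW₀K, hW₀⟩ := exists_prime_subgroup hK1
    haveI := Fact.mk hr₀
    have hcK : K ≤ centralizer (K : Set G) := Subgroup.le_centralizer K
    have hlines : ∀ (r : ℕ) (W : Subgroup G), r.Prime → W ≤ K → Nat.card W = r →
        sigmaCore M ⊓ centralizer (W : Set G) = sigmaCore M ⊓ centralizer (W₀ : Set G) := by
      intro r W hr hWK hW
      haveI := Fact.mk hr
      have key : ∀ {a b : ℕ} [Fact a.Prime] [Fact b.Prime] {A B : Subgroup G}, A ≤ K → B ≤ K → Nat.card A = a →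
          Nat.card B = b → sigmaCore M ⊓ centralizer (A : Set G) ≤ sigmaCore M ⊓ centralizer (B : Set G) := by
        intro a b hfa hfb A B hAK hBK hA hB
        exact le_inf inf_le_left (tau1_centralizer_le hG hM (hτ a A hfa.out hAK hA)
          (hKs b hfb.out (hB ▸ Subgroup.card_dvd_of_le hBK)) hA (hAK.trans hK.1) hB (hBK.trans hK.1)
          ((hBK.trans hcK).trans (Subgroup.centralizer_le (SetLike.coe_subset_coe.mpr hAK))))
      exact le_antisymm (key hWK hW₀K hW hW₀) (key hW₀K hWK hW₀ hW)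
    obtain ⟨hfix, hprime⟩ := prime_manner_of_lines hG hM hK.1 hrank hlines hK1
    rw [← hfix] at hprime
    have hne : fixedCore M K ≠ ⊥ := hfix ▸ hbad r₀ W₀ hr₀ hW₀K hW₀
    have hnormal : ∀ (t : ℕ) (Z : Subgroup G), t.Prime → Z ≤ K → Nat.card Z = t → K ≤ normalizer (Z : Set G) :=
      fun t Z _ hZK _ => (hcK.trans (Subgroup.centralizer_le (SetLike.coe_subset_coe.mpr hZK))).trans
        (Subgroup.centralizer_le_normalizer _)
    have hnormN : ∀ (t : ℕ) (Z : Subgroup G), t.Prime → Z ≤ K → Nat.card Z = t →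
        M ⊓ normalizer (Z : Set G) = K ⊔ fixedCore M K := by
      intro t Z ht hZK hZ
      haveI := Fact.mk ht
      refine le_antisymm (fun n hn => ?_) (le_inf (sup_le hK.1 (inf_le_left.trans (piCoreOf_le _ _)))
        (sup_le (hnormal t Z ht hZK hZ) (hCcomm t Z ht hZK hZ)))
      have hnc : n ∈ centralizer (Z : Set G) := centralizes_of_not_dvd (hτ t Z ht hZK hZ).2.2.2.1
        (isPGroup_of_card hZ) (hZK.trans hK.1) (inf_le_left : M ⊓ normalizer (Z : Set G) ≤ M) inf_le_right hn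
      obtain ⟨z, hz, hzZ⟩ := exists_gen hZ
      have hzK : z ∈ K := hZK (hzZ ▸ mem_zpowers z)
      have hzn : n * z = z * n := (hnc z (hzZ ▸ mem_zpowers z)).symm
      obtain ⟨e, he, b, hb, rfl⟩ := hE.2.2.2 n hn.1
      have hzM : z ∈ M := hK.1 hzK
      have hzb : z * b * z⁻¹ ∈ sigmaCore M :=
        (Subgroup.mem_normalizer_iff.mp (le_normalizer_sigmaCore hG hM le_rfl hzM) b).mp hb
      have h1 : z * e * z⁻¹ * (z * b * z⁻¹) = e * b := by
        rw [show z * e * z⁻¹ * (z * b * z⁻¹) = z * (e * b) * z⁻¹ by group, ← hzn, mul_inv_cancel_right]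
      have h2 : e⁻¹ * (z * e * z⁻¹) = b * (z * b * z⁻¹)⁻¹ := by
        rw [eq_mul_inv_iff_mul_eq, mul_assoc, h1, inv_mul_cancel_left]
      have h3 : e⁻¹ * (z * e * z⁻¹) ∈ E ⊓ sigmaCore M :=
        ⟨E.mul_mem (E.inv_mem he) (E.mul_mem (E.mul_mem (hKE hzK) he) (E.inv_mem (hKE hzK))),
          h2 ▸ (sigmaCore M).mul_mem hb ((sigmaCore M).inv_mem hzb)⟩
      rw [hE.2.2.1, Subgroup.mem_bot] at h3
      have hbC : b ∈ fixedCore M K := by
        rw [← hprime z hzK (fun e => by rw [e, orderOf_one] at hz; exact ht.ne_one hz.symm)]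
        refine ⟨hb, Subgroup.mem_centralizer_singleton_iff.mpr ?_⟩
        have h4 := h2.symm.trans h3
        exact (mul_inv_eq_iff_eq_mul.mp (mul_inv_eq_one.mp h4).symm).symm
      refine mul_mem (Subgroup.mem_sup_left ?_) (Subgroup.mem_sup_right hbC)
      -- `e` lies in `C_E(z) = K`
      have hez : e ∈ centralizer (Z : Set G) := by
        rw [← hzZ, ← centralizer_zpowers]
        exact Subgroup.mem_centralizer_singleton_iff.mpr (mul_inv_eq_iff_eq_mul.mp (inv_mul_eq_one.mp h3).symm).symm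
      set D := E ⊓ centralizer (Z : Set G) with hD
      have hKD : K ≤ D := le_inf hKE (hcK.trans (Subgroup.centralizer_le (SetLike.coe_subset_coe.mpr hZK)))
      have hidx : K.relIndex D = 1 := by
        refine Nat.eq_one_iff_not_exists_prime_dvd.mpr fun s hs hd => ?_
        haveI := Fact.mk hs
        have hds : s ∣ Nat.card D := hd.trans (Subgroup.relIndex_dvd_card (H := K) (K := D))
        obtain ⟨w, hw⟩ := exists_prime_orderOf_dvd_card' s hds
        have hwc : Nat.card (zpowers (w : G)) = s := by rw [Nat.card_zpowers, Subgroup.orderOf_coe, hw]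
        have hsE : s ∣ Nat.card E := hds.trans (Subgroup.card_dvd_of_le inf_le_left)
        have hs1 := tau1_of_centralized hG hM hno (hτ t Z ht hZK hZ) hZ (hZK.trans hK.1)
          (hbad t Z ht hZK hZ) hwc (Subgroup.zpowers_le.mpr (hE.1 w.2.1))
          (complement_sigma' hG hM hE s hs hsE) (Subgroup.zpowers_le.mpr w.2.2)
        exact hKE₁.2.2 s hs hs1 (hd.trans (Dvd.intro _ (Subgroup.relIndex_mul_relIndex K D E hKD inf_le_left)))
      exact Subgroup.relIndex_eq_one.mp hidx ⟨he, hez⟩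
    refine ⟨hM, hK1, hK, hne, hprime, hnormal, hnormN, ?_⟩
    intro t Z L ht hZK hZ hL hNL
    haveI := Fact.mk ht
    obtain ⟨hnc, htL, hmeet, hZH⟩ := line_meet hG hM hK.1 hprime hne hZK hZ (Or.inl (hτ t Z ht hZK hZ)) hL hNL
    refine ⟨hnc, htL, le_antisymm ?_ ((hnormN t Z ht hZK hZ).ge.trans (inf_le_inf_left _ hNL))⟩
    rw [← hnormN t Z ht hZK hZ]
    refine le_inf inf_le_left ?_
    -- `Lσ ∩ M` is a cyclic `τ₁(M)`-group containing `Z`
    set H := sigmaCore L ⊓ M with hH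
    have hHτ : ∀ r : ℕ, r.Prime → r ∣ Nat.card H → r ∈ tau1 M := by
      intro r hr hd
      haveI := Fact.mk hr
      obtain ⟨w, hw⟩ := exists_prime_orderOf_dvd_card' r hd
      have hwc : Nat.card (zpowers (w : G)) = r := by rw [Nat.card_zpowers, Subgroup.orderOf_coe, hw]
      have hwH : zpowers (w : G) ≤ H := Subgroup.zpowers_le.mpr w.2
      obtain ⟨h13, -⟩ := meet_data hG hL hM (not_conj_symm hG hnc) (hmeet ▸ hne) hwc hwH
      refine h13.resolve_right fun h3 => hne ?_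
      have hle : fixedCore M K ≤ sigmaCore M ⊓ centralizer (zpowers (w : G) : Set G) :=
        le_inf inf_le_left ((hmeet.ge.trans (meet_commute hG hM hL hnc)).trans
          (Subgroup.centralizer_le (SetLike.coe_subset_coe.mpr hwH)))
      exact le_bot_iff.mp (hle.trans (hno r _ h3 hwc (hwH.trans inf_le_right)).le)
    obtain ⟨F, hF, hHF⟩ := exists_complement_ge hG hM (inf_le_right : H ≤ M) fun r hr hd => (hHτ r hr hd).2.1
    obtain ⟨F₁, hF₁, hHF₁⟩ := exists_hall_ge (π := tau1 M) (solvable_of_le hF.1 hMs) hHF hHτ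
    have hHc : IsCyclic H := by
      haveI := tau1_hall_cyclic hG hM hF hF₁
      exact isCyclic_of_injective (Subgroup.inclusion hHF₁) (Subgroup.inclusion_injective hHF₁)
    intro n hn
    refine normalizer_le_of_cyclic hHc hZH (mem_normalizer_of_conj_smul ?_)
    rw [hH, Subgroup.smul_inf, conj_smul_eq_of_mem_normalizer (le_normalizer_sigmaCore hG hL le_rfl hn.2),
      smul_eq_self_of_mem hn.1]
  · -- a `τ₃`-line with fixed points
    simp only [NoTau3Bad, not_forall] at hno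
    obtain ⟨p, P, hp, hP, hPM, hbadP⟩ := hno
    haveI := Fact.mk hp.1
    obtain ⟨m, hm, hmP⟩ := conj_into_hall hG hM.1 (complement_hall hG hM hE) hPM
      (pi_of_card hP (π := {r | r ∉ sigma M}) hp.2.1)
    obtain ⟨H, d⟩ := exists_tau3Bad hG hM hp hE (P := MulAut.conj m • P) (by rw [CfsgLib.card_conj_smul, hP]) hmP
      (bad_conj hG hM hbadP hm)
    obtain ⟨hfix', hprime'⟩ := d.prime_manner hG
    have hKeq : K = E := by
      refine le_antisymm hKE (Subgroup.relIndex_eq_one.mp (Nat.eq_one_iff_not_exists_prime_dvd.mpr fun s hs hd => ?_))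
      haveI := Fact.mk hs
      obtain ⟨w, hw⟩ := exists_prime_orderOf_dvd_card' s (hd.trans (Subgroup.relIndex_dvd_card (H := K) (K := E)))
      have hwc : Nat.card (zpowers (w : G)) = s := by rw [Nat.card_zpowers, Subgroup.orderOf_coe, hw]
      have hwE : zpowers (w : G) ≤ E := Subgroup.zpowers_le.mpr w.2
      have hsσ : s ∉ sigma M := complement_sigma' hG hM hE s hs (hwc ▸ Subgroup.card_dvd_of_le hwE)
      have hsκ : s ∈ kappa M := kappa_of_bad hG hM
        (tau1_or_tau3 hG hM hsσ (rank_one_of_not_sigma hG hM hsσ (d.not_tau2 hG)) hwc (hwE.trans hE.1))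
        hwc (hwE.trans hE.1) (by rw [d.fixed_eq hG hwc hwE]; exact d.bad)
      exact hK.2.2 s hs hsκ (hd.trans (Dvd.intro _ (Subgroup.relIndex_mul_relIndex K E M hKE hE.1)))
    subst hKeq
    have hprime : ∀ k ∈ K, k ≠ 1 → sigmaCore M ⊓ centralizer ({k} : Set G) = fixedCore M K := fun k hk hk1 =>
      (hprime' k hk hk1).trans hfix'.symm
    have hne : fixedCore M K ≠ ⊥ := fun e => d.bad (hfix'.symm.trans e)
    have hnormal : ∀ (t : ℕ) (Z : Subgroup G), t.Prime → Z ≤ K → Nat.card Z = t → K ≤ normalizer (Z : Set G) := by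
      intro t Z ht hZK hZ
      haveI := Fact.mk ht
      rcases kappa_tau hG hM (hK.2.1 t ht (hZ ▸ Subgroup.card_dvd_of_le hZK)) with h1 | h3
      swap
      · exact tau3_normalized hG hM hE hZK (pi_of_card hZ h3)
      refine le_trans ?_ (Subgroup.centralizer_le_normalizer _)
      refine le_centralizer_of_sylows fun s hs => ?_
      haveI := Fact.mk hs
      obtain ⟨F₁, hF₁, hZF₁⟩ := exists_hall_ge (π := tau1 M) hEs hZK (pi_of_card hZ h1)
      by_cases hsd : s ∣ Nat.card K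
      swap
      · exact ⟨⊥, bot_le, by rwa [Subgroup.relIndex_bot_left], bot_le⟩
      rcases kappa_tau hG hM (hK.2.1 s hs hsd) with hs1 | hs3
      · obtain ⟨S, -, hSF, hS, hSi⟩ := exists_sylow_ge (p := s) (bot_le : (⊥ : Subgroup G) ≤ F₁) IsPGroup.of_bot
        refine ⟨S, hSF.trans hF₁.1, fun hd => ?_, ?_⟩
        · rw [← Subgroup.relIndex_mul_relIndex S F₁ K hSF hF₁.1] at hd
          rcases hs.dvd_mul.mp hd with h | h
          · exact hSi h
          · exact hF₁.2.2 s hs hs1 h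
        · haveI := cyclic_isCommutative (tau1_hall_cyclic hG hM hE hF₁)
          exact (hSF.trans (Subgroup.le_centralizer F₁)).trans (Subgroup.centralizer_le (SetLike.coe_subset_coe.mpr hZF₁))
      · obtain ⟨S, -, hSK, hS, hSi⟩ := exists_sylow_ge (p := s) (bot_le : (⊥ : Subgroup G) ≤ K) IsPGroup.of_bot
        refine ⟨S, hSK, hSi, Subgroup.le_centralizer_iff.mp ?_⟩
        have hS1 : S ≠ ⊥ := fun e => hSi (by rw [e, Subgroup.relIndex_bot_left]; exact hsd)
        obtain ⟨V, hVS, hV⟩ := exists_sub_card hS hS1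
        obtain ⟨H', d'⟩ := exists_tau3Bad hG hM hs3 hE hV (hVS.trans hSK)
          (by rw [d.fixed_eq hG hV (hVS.trans hSK)]; exact d.bad)
        refine centralizes_cyclic hS (rank_one_cyclic hG hs3.2.2.2 hS (hSK.trans hE.1))
          (hZK.trans (tau3_normalized hG hM hE hSK (pi_of_pgroup hS hs3))) ?_ hVS (ne_bot_of_card hV)
          (d'.tau1_centralizes hG h1 hZ hZK)
        refine coprime_pGroups hs ht (fun e => h1.2.2.2.1 ?_) hS (isPGroup_of_card hZ)
        exact e ▸ hs3.2.2.1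
    have hnormN : ∀ (t : ℕ) (Z : Subgroup G), t.Prime → Z ≤ K → Nat.card Z = t →
        M ⊓ normalizer (Z : Set G) = K ⊔ fixedCore M K := by
      intro t Z ht hZK hZ
      haveI := Fact.mk ht
      refine le_antisymm (fun n hn => ?_) (le_inf (sup_le hK.1 (inf_le_left.trans (piCoreOf_le _ _)))
        (sup_le (hnormal t Z ht hZK hZ) (hCcomm t Z ht hZK hZ)))
      obtain ⟨e, he, b, hb, rfl⟩ := hE.2.2.2 n hn.1
      have hbN : b ∈ normalizer (Z : Set G) := by
        have h' := mul_mem (inv_mem (hnormal t Z ht hZK hZ he)) hn.2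
        rwa [inv_mul_cancel_left] at h'
      refine mul_mem (Subgroup.mem_sup_left he) (Subgroup.mem_sup_right ?_)
      rw [← fixed_of_line hG hM hprime hZK hZ]
      refine ⟨hb, fun z hz => ?_⟩
      have h1 : b * z * b⁻¹ * z⁻¹ ∈ Z := mul_mem ((Subgroup.mem_normalizer_iff.mp hbN z).mp hz) (inv_mem hz)
      have h2 : b * z * b⁻¹ * z⁻¹ ∈ sigmaCore M := by
        have h3 := (sigmaCore M).mul_mem hb ((Subgroup.mem_normalizer_iff.mp
          (le_normalizer_sigmaCore hG hM le_rfl (hK.1 (hZK hz))) b⁻¹).mp ((sigmaCore M).inv_mem hb))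
        rwa [show b * z * b⁻¹ * z⁻¹ = b * (z * b⁻¹ * z⁻¹) by group]
      have h4 : b * z * b⁻¹ * z⁻¹ ∈ K ⊓ sigmaCore M := ⟨hZK h1, h2⟩
      rw [decomp_inf hG hM hK, Subgroup.mem_bot] at h4
      exact (mul_inv_eq_iff_eq_mul.mp (mul_inv_eq_one.mp h4)).symm
    refine ⟨hM, hK1, hK, hne, hprime, hnormal, hnormN, ?_⟩
    intro t Z L ht hZK hZ hL hNL
    haveI := Fact.mk ht
    obtain ⟨hnc, htL, hmeet, -⟩ := line_meet hG hM hK.1 hprime hne hZK hZ
      (kappa_tau hG hM (hK.2.1 t ht (hZ ▸ Subgroup.card_dvd_of_le hZK))) hL hNL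
    refine ⟨hnc, htL, le_antisymm (fun n hn => ?_) ((hnormN t Z ht hZK hZ).ge.trans (inf_le_inf_left _ hNL))⟩
    obtain ⟨e, he, b, hb, rfl⟩ := hE.2.2.2 n hn.1
    have hbL : b ∈ L := by
      have h' := mul_mem (inv_mem (hNL (hnormal t Z ht hZK hZ he))) hn.2
      rwa [inv_mul_cancel_left] at h'
    exact mul_mem (Subgroup.mem_sup_left he) (Subgroup.mem_sup_right (hmeet ▸ ⟨hb, hbL⟩))

end CfsgLib.MinSimpleOdd
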