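import Cfsg.Agent.Lib.MinSimpleOdd.KappaFacts2
import Cfsg.Agent.Lib.ClassPiCount

/-!
The partition of the non-identity elements (B–G 14.10).
-/

set_option autoImplicit false
set_option linter.unusedSectionVars false
set_option linter.style.haveILetI false
set_option maxHeartbeats 1000000

namespace CfsgLib.MinSimpleOdd

open Subgroup Cfsg
open scoped Pointwise commutatorElement IsMulCommutative

universe u
variable {G : Type u} [Group G] [Finite G]

variable (hG : IsMinSimpleOddOrder G)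

include hG

theorem exists_sigma_maximal {q : ℕ} [Fact q.Prime] (hq : q ∣ Nat.card G) :
    ∃ M : Subgroup G, IsCoatom M ∧ q ∈ sigma M := by
  obtain ⟨S⟩ : Nonempty (Sylow q G) := inferInstance
  have hS : (S : Subgroup G) ≠ ⊥ := fun e => S.not_dvd_index (by rw [e, Subgroup.index_bot]; exact hq)
  obtain ⟨M, hM, hSM, hN⟩ := exists_maximal_normalizer hG S hS
  obtain ⟨T, hT, -⟩ := sylow_of_relIndex (p := q) hSM S.2
    fun h => S.not_dvd_index (h.trans (Dvd.intro _ (Subgroup.relIndex_mul_index hSM)))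
  refine ⟨M, hM, Fact.out, ?_, T, by rw [hT]; exact hN⟩
  obtain ⟨k, hk⟩ := S.2.exists_card_eq
  refine dvd_trans ?_ (Subgroup.card_dvd_of_le hSM)
  rw [hk]
  exact dvd_pow_self q fun e => hS (Subgroup.card_eq_one.mp (by rw [hk, e, pow_zero]))

/-- Every non-identity element has a non-trivial `σ(N)`-part inside some maximal `N` containing it. -/
theorem exists_sigma_part {g : G} (hg : g ≠ 1) : ∃ (N : Subgroup G) (x x' : G), IsCoatom N ∧ x ∈ sigmaCore N ∧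
    x ≠ 1 ∧ x' ∈ N ⊓ centralizer ({x} : Set G) ∧ (∀ p : ℕ, p.Prime → p ∣ orderOf x' → p ∉ sigma N) ∧
    g = x * x' := by
  obtain ⟨q, hq, hqd⟩ := exists_prime_dvd_order hg
  haveI := Fact.mk hq
  obtain ⟨M₀, hM₀, hqM⟩ := exists_sigma_maximal hG (hqd.trans (orderOf_dvd_natCard g))
  obtain ⟨i, j, hi, hj, hij⟩ := CfsgLib.ClassPiCount.exists_parts (sigma M₀) g
  have hij' : Commute (g ^ i) (g ^ j) := Commute.pow_pow (Commute.refl g) i j
  set x := g ^ i with hxdef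
  set x' := g ^ j with hx'def
  have hx1 : x ≠ 1 := fun e => by
    rw [e, one_mul] at hij
    rw [← hij] at hqd
    exact hj q hq hqd hqM
  obtain ⟨h, hh⟩ := sigma_conj_into hG hM₀ (Y := zpowers x) (Subgroup.zpowers_ne_bot.mpr hx1)
    (fun r hr hd => hi r hr (by rwa [Nat.card_zpowers] at hd))
  set N := MulAut.conj h⁻¹ • M₀ with hNdef
  have hN : IsCoatom N := conj_isCoatom hM₀ _
  have hσN : sigma N = sigma M₀ := sigma_conj _
  have hxN : x ∈ sigmaCore N := by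
    rw [hNdef, sigmaCore_conj hG hM₀]
    exact inv_smul_smul_conj hh (mem_zpowers x)
  have hfin : ∀ N₂ : Subgroup G, IsCoatom N₂ → sigma N₂ = sigma M₀ → g ∈ N₂ →
      ∃ (N : Subgroup G) (x x' : G), IsCoatom N ∧ x ∈ sigmaCore N ∧
      x ≠ 1 ∧ x' ∈ N ⊓ centralizer ({x} : Set G) ∧ (∀ p : ℕ, p.Prime → p ∣ orderOf x' → p ∉ sigma N) ∧
      g = x * x' := fun N₂ hN₂ hσ₂ hgN => by
    refine ⟨N₂, x, x', hN₂, mem_sigmaCore_of_order hG hN₂ (N₂.pow_mem hgN i) (fun r hr hd => hσ₂ ▸ hi r hr hd), hx1,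
      ⟨N₂.pow_mem hgN j, Subgroup.mem_centralizer_singleton_iff.mpr hij'.symm.eq⟩,
      fun r hr hd => hσ₂ ▸ hj r hr hd, hij.symm⟩
  have hgc : g ∈ centralizer ({x} : Set G) :=
    Subgroup.mem_centralizer_singleton_iff.mpr (Commute.pow_self g i).symm.eq
  by_cases hgN : g ∈ N
  · exact hfin N hN hσN hgN
  obtain ⟨N', hN'⟩ := exists_sigmaOver hG hN hxN hx1 fun h => hgN (h hgc)
  have hgN' : g ∈ N' := hN'.le hgc
  obtain ⟨a, b, ha, hb, hab⟩ := CfsgLib.ClassPiCount.exists_parts (sigma N') g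
  by_cases hy : g ^ a = 1
  · rw [hy, one_mul] at hab
    obtain ⟨n, -, hn⟩ := conj_into_hall hG hN'.hN.1 (complement_hall hG hN'.hN hN'.compl)
      (W := zpowers g) (Subgroup.zpowers_le.mpr hgN')
      (fun r hr hd => by rw [Nat.card_zpowers, ← hab] at hd; exact hb r hr hd)
    refine hfin (MulAut.conj n⁻¹ • N) (conj_isCoatom hN _) ((sigma_conj _).trans hσN) ?_
    exact inv_smul_smul_conj (hn.trans inf_le_left) (mem_zpowers g)
  · exact ⟨N', g ^ a, g ^ b, hN'.hN, mem_sigmaCore_of_order hG hN'.hN (N'.pow_mem hgN' a) ha, hy,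
      ⟨N'.pow_mem hgN' b, Subgroup.mem_centralizer_singleton_iff.mpr
        (Commute.pow_pow (Commute.refl g) b a).eq⟩, fun r hr hd => hb r hr hd, hab.symm⟩

theorem tildeOf_conj {M : Subgroup G} (hM : IsCoatom M) (g : G) :
    tildeOf (MulAut.conj g • M) ((sigmaCore (MulAut.conj g • M) : Set G) \ {1}) =
      tildeOf M ((sigmaCore M : Set G) \ {1}) := by
  ext z
  rw [mem_tildeOf_iff hG (conj_isCoatom hM g), mem_tildeOf_iff hG hM]
  refine exists_congr fun H => and_congr_left fun _ => ⟨?_, ?_⟩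
  · rintro ⟨a, rfl⟩
    exact ⟨a * g, by rw [CfsgLib.conj_smul_mul]⟩
  · rintro ⟨a, rfl⟩
    exact ⟨a * g⁻¹, by rw [CfsgLib.conj_smul_mul, inv_mul_cancel_right]⟩

theorem self_mem_tildeOf {M : Subgroup G} (hM : IsCoatom M) {x r : G} (hx : x ∈ sigmaCore M) (hx1 : x ≠ 1)
    (hr : r ∈ supportR M x) : x * r ∈ tildeOf M ((sigmaCore M : Set G) \ {1}) :=
  (mem_tildeOf_iff hG hM _).mpr ⟨M, ⟨1, by rw [map_one, one_smul]⟩, x, hx, hx1, r, hr, rfl⟩

/-- The `τ₂` alternative of B–G 14.7 (h) puts `x x'` in some `L̃_σ`. -/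
theorem mem_tilde_of_tau2 {N L : Subgroup G} (hN : IsCoatom N) {x x' : G} (hx : x ∈ sigmaCore N)
    (hx' : x' ∈ N ⊓ centralizer ({x} : Set G)) (hx'1 : x' ≠ 1)
    (hσ : ∀ p : ℕ, p.Prime → p ∣ orderOf x' → p ∉ sigma N) (hL : IsCoatom L)
    (hLσ : ∀ p : ℕ, p.Prime → p ∣ orderOf x' → p ∈ sigma L) (hC : centralizer ({x'} : Set G) ≤ N)
    (hu : ∀ L : Subgroup G, IsCoatom L → centralizer ({x'} : Set G) ≤ L → L = N) :
    ∃ L' : Subgroup G, IsCoatom L' ∧ x * x' ∈ tildeOf L' ((sigmaCore L' : Set G) \ {1}) := by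
  obtain ⟨h, hh⟩ := sigma_conj_into hG hL (Y := zpowers x') (Subgroup.zpowers_ne_bot.mpr hx'1)
    (fun r hr hd => hLσ r hr (by rwa [Nat.card_zpowers] at hd))
  have hL' : IsCoatom (MulAut.conj h⁻¹ • L) := conj_isCoatom hL _
  have hx'L : x' ∈ sigmaCore (MulAut.conj h⁻¹ • L) := by
    rw [sigmaCore_conj hG hL]
    exact inv_smul_smul_conj hh (mem_zpowers x')
  obtain ⟨N', hN'⟩ := exists_sigmaOver hG hL' hx'L hx'1 fun hle => by
    obtain ⟨p, hp, hpd⟩ := exists_prime_dvd_order hx'1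
    exact hσ p hp hpd (hu _ hL' hle ▸ order_sigma hG hL' hx'L p hp hpd)
  have e : N' = N := (hN'.uniq N hN hC).symm
  subst e
  have hxx : x * x' = x' * x := (Subgroup.mem_centralizer_singleton_iff.mp hx'.2).symm
  refine ⟨_, hL', hxx ▸ self_mem_tildeOf hG hL' hx'L hx'1 ?_⟩
  rw [supportR_eq hG hL' hN']
  exact ⟨hx, Subgroup.mem_centralizer_singleton_iff.mpr hxx⟩

variable {M K : Subgroup G}

theorem KappaPair.mem_hat {L : Subgroup G} (p : KappaPair M K L) {x x' : G} (hx : x ∈ sigmaCore M) (hx1 : x ≠ 1)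
    (hx' : x' ∈ M ⊓ centralizer ({x} : Set G)) (hx'1 : x' ≠ 1)
    (hκ : ∀ q : ℕ, q.Prime → q ∣ orderOf x' → q ∈ kappa M) :
    ∃ m ∈ M, m * (x * x') * m⁻¹ ∈ (↑(K ⊔ fixedCore M K) : Set G) \ ((K : Set G) ∪ (fixedCore M K : Set G)) := by
  have hM := p.left.hM
  obtain ⟨m, hm, hmx⟩ := conj_into_hall hG hM.1 p.left.hall (W := zpowers x') (Subgroup.zpowers_le.mpr hx'.1)
    (fun r hr hd => hκ r hr (by rwa [Nat.card_zpowers] at hd))
  have hk : m * x' * m⁻¹ ∈ K := hmx ⟨x', mem_zpowers x', rfl⟩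
  have hk1 : m * x' * m⁻¹ ≠ 1 := fun e => hx'1 (conj_eq_one_iff.mp e)
  have hc1 : m * x * m⁻¹ ≠ 1 := fun e => hx1 (conj_eq_one_iff.mp e)
  have hc : m * x * m⁻¹ ∈ fixedCore M K := by
    rw [← p.left.prime _ hk hk1]
    refine ⟨(Subgroup.mem_normalizer_iff.mp (le_normalizer_sigmaCore hG hM le_rfl hm) x).mp hx,
      Subgroup.mem_centralizer_singleton_iff.mpr ?_⟩
    calc m * x * m⁻¹ * (m * x' * m⁻¹) = m * (x * x') * m⁻¹ := by group
      _ = m * (x' * x) * m⁻¹ := by rw [Subgroup.mem_centralizer_singleton_iff.mp hx'.2]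
      _ = _ := by group
  have e : m * (x * x') * m⁻¹ = m * x * m⁻¹ * (m * x' * m⁻¹) := by group
  refine ⟨m, hm, ?_, ?_⟩
  · rw [e]
    exact Subgroup.mul_mem _ (Subgroup.mem_sup_right hc) (Subgroup.mem_sup_left hk)
  · rw [e]
    rintro (h | h)
    · refine hc1 (Subgroup.mem_bot.mp (p.left.inf_bot hG ▸ (⟨?_, hc⟩ : _ ∈ K ⊓ fixedCore M K)))
      have := K.mul_mem h (K.inv_mem hk)
      rwa [mul_inv_cancel_right] at this
    · refine hk1 (Subgroup.mem_bot.mp (p.left.inf_bot hG ▸ (⟨hk, ?_⟩ : _ ∈ K ⊓ fixedCore M K)))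
      have := (fixedCore M K).mul_mem ((fixedCore M K).inv_mem hc) h
      rwa [inv_mul_cancel_left] at this

/-- B–G 14.10: the covering. -/
theorem exists_tilde_or_kappa {g : G} (hg : g ≠ 1) :
    (∃ L : Subgroup G, IsCoatom L ∧ g ∈ tildeOf L ((sigmaCore L : Set G) \ {1})) ∨
      ∃ (N : Subgroup G) (x x' : G), IsCoatom N ∧ x ∈ sigmaCore N ∧ x ≠ 1 ∧
        x' ∈ N ⊓ centralizer ({x} : Set G) ∧ x' ≠ 1 ∧
        (∀ p : ℕ, p.Prime → p ∣ orderOf x' → p ∈ kappa N) ∧ g = x * x' := by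
  obtain ⟨N, x, x', hN, hx, hx1, hx', hσ, rfl⟩ := exists_sigma_part hG hg
  by_cases hx'1 : x' = 1
  · subst hx'1
    exact Or.inl ⟨N, hN, self_mem_tildeOf hG hN hx hx1 (one_mem _)⟩
  rcases sigma_element_dichotomy hG hN hx hx1 hx' hx'1 hσ with ⟨hκ, -⟩ | ⟨-, ⟨L, hL, hLσ⟩, hC, hu⟩
  · exact Or.inr ⟨N, x, x', hN, hx, hx1, hx', hx'1, hκ, rfl⟩
  · exact Or.inl (mem_tilde_of_tau2 hG hN hx hx' hx'1 hσ hL hLσ hC hu)

theorem conj_mem_tildeOf {L : Subgroup G} (hL : IsCoatom L) {z : G} (hz : z ∈ tildeOf L ((sigmaCore L : Set G) \ {1}))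
    (a : G) : a * z * a⁻¹ ∈ tildeOf L ((sigmaCore L : Set G) \ {1}) := by
  obtain ⟨H, ⟨b, rfl⟩, x, hx, hx1, r, hr, rfl⟩ := (mem_tildeOf_iff hG hL z).mp hz
  refine (mem_tildeOf_iff hG hL _).mpr ⟨MulAut.conj a • MulAut.conj b • L, ⟨a * b, (CfsgLib.conj_smul_mul ..).symm⟩,
    a * x * a⁻¹, ?_, fun e => hx1 (conj_eq_one_iff.mp e), a * r * a⁻¹, ?_, by group⟩
  · rw [sigmaCore_conj hG (conj_isCoatom hL b), CfsgLib.mem_conj_smul_iff]
    simpa [mul_assoc] using hx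
  · rw [supportR_conj hG (conj_isCoatom hL b) hx hx1, CfsgLib.mem_conj_smul_iff]
    simpa [mul_assoc] using hr

theorem KappaPair.cover_in {L : Subgroup G} (p : KappaPair M K L) {x x' : G} (hx : x ∈ sigmaCore M) (hx1 : x ≠ 1)
    (hx' : x' ∈ M ⊓ centralizer ({x} : Set G)) (hx'1 : x' ≠ 1)
    (hσ : ∀ q : ℕ, q.Prime → q ∣ orderOf x' → q ∉ sigma M) :
    (∃ N : Subgroup G, IsCoatom N ∧ x * x' ∈ tildeOf N ((sigmaCore N : Set G) \ {1})) ∨
      ∃ y : G, ∃ z ∈ ((↑(K ⊔ fixedCore M K) : Set G) \ ((K : Set G) ∪ (fixedCore M K : Set G))),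
        x * x' = y * z * y⁻¹ := by
  rcases sigma_element_dichotomy hG p.left.hM hx hx1 hx' hx'1 hσ with ⟨hκ, -⟩ | ⟨-, ⟨L', hL', hLσ⟩, hC, hu⟩
  · obtain ⟨m, -, hm⟩ := p.mem_hat hG hx hx1 hx' hx'1 hκ
    exact Or.inr ⟨m⁻¹, _, hm, by group⟩
  · exact Or.inl (mem_tilde_of_tau2 hG p.left.hM hx hx' hx'1 hσ hL' hLσ hC hu)

/-- B–G 14.10. -/
theorem KappaPair.cover {L : Subgroup G} (p : KappaPair M K L)
    (htwo : ∀ H : Subgroup G, IsCoatom H → (kappa H).Nonempty →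
      ∃ a : G, H = MulAut.conj a • M ∨ H = MulAut.conj a • L) {g : G} (hg : g ≠ 1) :
    (∃ N : Subgroup G, IsCoatom N ∧ g ∈ tildeOf N ((sigmaCore N : Set G) \ {1})) ∨
      ∃ y : G, ∃ z ∈ ((↑(K ⊔ fixedCore M K) : Set G) \ ((K : Set G) ∪ (fixedCore M K : Set G))),
        g = y * z * y⁻¹ := by
  rcases exists_tilde_or_kappa hG hg with h | ⟨N, x, x', hN, hx, hx1, hx', hx'1, hκ, rfl⟩
  · exact Or.inl h
  obtain ⟨q, hq, hqd⟩ := exists_prime_dvd_order hx'1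
  obtain ⟨a, ha⟩ := htwo N hN ⟨q, hκ q hq hqd⟩
  -- transport to `M` or `L`
  have key : ∀ {M₁ K₁ L₁ : Subgroup G}, KappaPair M₁ K₁ L₁ → N = MulAut.conj a • M₁ →
      (∃ N : Subgroup G, IsCoatom N ∧ x * x' ∈ tildeOf N ((sigmaCore N : Set G) \ {1})) ∨
        ∃ y : G, ∃ z ∈ ((↑(K₁ ⊔ fixedCore M₁ K₁) : Set G) \ ((K₁ : Set G) ∪ (fixedCore M₁ K₁ : Set G))),
          x * x' = y * z * y⁻¹ := by
    intro M₁ K₁ L₁ p₁ e
    subst e
    rw [sigmaCore_conj hG p₁.left.hM, CfsgLib.mem_conj_smul_iff] at hx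
    have h1 : x' ∈ MulAut.conj a • M₁ := hx'.1
    rw [CfsgLib.mem_conj_smul_iff] at h1
    have h2 : a⁻¹ * x' * a ∈ centralizer ({a⁻¹ * x * a} : Set G) := by
      rw [Subgroup.mem_centralizer_singleton_iff]
      have := Subgroup.mem_centralizer_singleton_iff.mp hx'.2
      calc a⁻¹ * x' * a * (a⁻¹ * x * a) = a⁻¹ * (x' * x) * a := by group
        _ = a⁻¹ * (x * x') * a := by rw [this]
        _ = _ := by group
    have ho : orderOf (a⁻¹ * x' * a) = orderOf x' := by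
      have := orderOf_conj a⁻¹ x'
      rwa [inv_inv] at this
    rcases p₁.cover_in hG hx (fun e => hx1 (by simpa [mul_assoc] using congrArg (fun t => a * t * a⁻¹) e)) ⟨h1, h2⟩
      (fun e => hx'1 (by simpa [mul_assoc] using congrArg (fun t => a * t * a⁻¹) e))
      (fun r hr hd => by rw [← sigma_conj (M := M₁) a]; exact (hκ r hr (ho ▸ hd)).2.2.1) with
      ⟨N₁, hN₁, hmem⟩ | ⟨y, z, hz, he⟩
    · refine Or.inl ⟨N₁, hN₁, ?_⟩
      have := conj_mem_tildeOf hG hN₁ hmem a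
      rwa [show a * (a⁻¹ * x * a * (a⁻¹ * x' * a)) * a⁻¹ = x * x' by group] at this
    · refine Or.inr ⟨a * y, z, hz, ?_⟩
      calc x * x' = a * (a⁻¹ * x * a * (a⁻¹ * x' * a)) * a⁻¹ := by group
        _ = _ := by rw [he]; group
  rcases ha with e | e
  · exact key p e
  · rcases key (p.symm hG) e with h | ⟨y, z, hz, he⟩
    · exact Or.inl h
    · refine Or.inr ⟨y, z, ⟨?_, ?_⟩, he⟩
      · have := hz.1
        rwa [p.symm_eq, sup_comm] at this
      · have := hz.2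
        rwa [p.symm_eq, Set.union_comm] at this

theorem KappaPair.hat_not_mem_tildeOf {L : Subgroup G} (p : KappaPair M K L) {N : Subgroup G} (hN : IsCoatom N)
    {z : G} (hz : z ∈ (↑(K ⊔ fixedCore M K) : Set G) \ ((K : Set G) ∪ (fixedCore M K : Set G))) (y : G) :
    y * z * y⁻¹ ∉ tildeOf N ((sigmaCore N : Set G) \ {1}) := by
  intro hmem
  have hzh : z ∈ hatSet (K ⊔ fixedCore M K) := by rw [p.hat_eq hG]; exact hz
  obtain ⟨H, ⟨b, rfl⟩, x, hx, hx1, r, hr, he⟩ := (mem_tildeOf_iff hG hN _).mp hmem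
  obtain ⟨q, hq, hqd⟩ := exists_prime_dvd_order hx1
  haveI := Fact.mk hq
  have hqN : q ∈ sigma N := by
    rw [← sigma_conj (M := N) b]; exact order_sigma hG (conj_isCoatom hN b) hx q hq hqd
  have hxr : Commute x r :=
    (Subgroup.mem_centralizer_singleton_iff.mp (supportR_le_centralizer hG (conj_isCoatom hN b) hx hx1 hr)).symm
  have hcop : (orderOf x).Coprime (orderOf r) := Nat.coprime_of_dvd fun s hs h1 h2 =>
    supportR_order hG (conj_isCoatom hN b) hx hx1 hr s hs h2 (order_sigma hG (conj_isCoatom hN b) hx s hs h1)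
  have hqz : q ∣ Nat.card K * Nat.card ↥(fixedCore M K) := by
    rw [← card_complIn (p.left.compl hG)]
    refine dvd_trans ?_ (Subgroup.orderOf_dvd_natCard _ hz.1)
    rw [← orderOf_conj y z, he, hxr.orderOf_mul_eq_mul_orderOf_of_coprime hcop]
    exact hqd.mul_right _
  rcases hq.dvd_mul.mp hqz with h | h
  · rw [← p.symm_eq] at h
    obtain ⟨c, rfl⟩ := sigma_disjointness hG p.right.hM hN
      ((sigmaCore_hall hG p.right.hM).1.2.1 q hq (h.trans (Subgroup.card_dvd_of_le inf_le_left))) hqN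
    rw [tildeOf_conj hG p.right.hM] at hmem
    exact IsNode.hat_not_tilde hG (p.node hG) hzh y hmem
  · obtain ⟨c, rfl⟩ := sigma_disjointness hG p.left.hM hN
      ((sigmaCore_hall hG p.left.hM).1.2.1 q hq (h.trans (Subgroup.card_dvd_of_le inf_le_left))) hqN
    rw [tildeOf_conj hG p.left.hM] at hmem
    exact IsNode.hat_not_tilde hG (p.left.self_node hG) hzh y hmem

end CfsgLib.MinSimpleOdd
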