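import Cfsg.Agent.Lib.MinSimpleOdd.KappaPair

/-!
Consequences of B–G 14.7.
-/

set_option autoImplicit false
set_option linter.unusedSectionVars false
set_option linter.style.haveILetI false
set_option maxHeartbeats 1000000

namespace CfsgLib.MinSimpleOdd

open Subgroup Cfsg
open scoped Pointwise commutatorElement IsMulCommutative

universe u
variable {G : Type u} [Group G] [Finite G]

omit [Finite G] in
theorem exists_zpowers_eq {K : Subgroup G} (h : IsCyclic K) : ∃ a : G, zpowers a = K := by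
  obtain ⟨a, ha⟩ := h.exists_generator
  refine ⟨(a : G), le_antisymm (Subgroup.zpowers_le.mpr a.2) fun x hx => ?_⟩
  obtain ⟨i, hi⟩ := Subgroup.mem_zpowers_iff.mp (ha ⟨x, hx⟩)
  exact Subgroup.mem_zpowers_iff.mpr ⟨i, congrArg Subtype.val hi⟩

variable (hG : IsMinSimpleOddOrder G) {M K U : Subgroup G}

include hG

theorem decomp_data (hM : IsCoatom M) (h : IsSigmaDecomposition M K U) :
    IsComplIn (U ⊔ K) (sigmaCore M) M ∧ IsComplIn U K (U ⊔ K) := by
  have hsM : sigmaCore M ≤ M := piCoreOf_le _ _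
  have hKs : K ≤ normalizer (sigmaCore M : Set G) := h.hall.1.trans (le_normalizer_sigmaCore hG hM le_rfl)
  have hKc := complIn_sup hKs (decomp_inf hG hM h.hall)
  have hUK : IsComplIn U K (U ⊔ K) := by
    refine ⟨le_sup_left, le_sup_right,
      le_bot_iff.mp ((inf_le_inf_left U (le_sup_left : K ≤ K ⊔ sigmaCore M)).trans h.compl.2.2.1.le), fun m hm => ?_⟩
    obtain ⟨w, hw, a, ha, e⟩ := CfsgLib.mem_sup_of_le_normalizer h.normal hm
    exact ⟨w, hw, a, ha, e.symm⟩
  refine ⟨⟨sup_le h.compl.1 h.hall.1, hsM, ?_, fun m hm => ?_⟩, hUK⟩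
  · refine (Subgroup.eq_bot_iff_forall _).mpr fun x hx => ?_
    obtain ⟨w, hw, a, ha, rfl⟩ := hUK.2.2.2 x hx.1
    have hw' : w ∈ U ⊓ (K ⊔ sigmaCore M) := by
      refine ⟨hw, ?_⟩
      have := (K ⊔ sigmaCore M).mul_mem (Subgroup.mem_sup_right (S := K) hx.2)
        (Subgroup.mem_sup_left (T := sigmaCore M) (K.inv_mem ha))
      rwa [mul_inv_cancel_right] at this
    rw [h.compl.2.2.1, Subgroup.mem_bot] at hw'
    subst hw'
    rw [one_mul] at hx ⊢
    exact Subgroup.mem_bot.mp (decomp_inf hG hM h.hall ▸ (⟨ha, hx.2⟩ : a ∈ K ⊓ sigmaCore M))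
  · obtain ⟨w, hw, b, hb, rfl⟩ := h.compl.2.2.2 m hm
    obtain ⟨k, hk, s, hs, rfl⟩ := hKc.2.2.2 b hb
    exact ⟨w * k, mul_mem (Subgroup.mem_sup_left hw) (Subgroup.mem_sup_right hk), s, hs, (mul_assoc _ _ _).symm⟩

theorem exists_sigmaDecomposition (hM : IsCoatom M) (hKc : IsCyclic K) (hK : IsPiHallOf (kappa M) K M) :
    ∃ U, IsSigmaDecomposition M K U := by
  have hMs := solvable_of_ne_top hG hM.1
  by_cases hK1 : K = ⊥
  · subst hK1
    obtain ⟨E, hE, -⟩ := exists_complement_ge hG hM (bot_le : (⊥ : Subgroup G) ≤ M)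
      (fun r hr hd => absurd (Subgroup.card_bot (G := G) ▸ hd) hr.not_dvd_one)
    exact ⟨E, hKc, hK, by rw [bot_sup_eq]; exact hE, bot_le⟩
  have d := kappaData_of_hall hG hM hK hK1
  obtain ⟨E, U, hs⟩ := d.exists_split hG (noTau3Bad hG hM)
  have hKc' := complIn_sup (hK.1.trans (le_normalizer_sigmaCore hG hM le_rfl)) (decomp_inf hG hM hK)
  refine ⟨U, hKc, hK, ⟨hs.UE.trans hs.hE.1, sup_le hK.1 (piCoreOf_le _ _), ?_, fun m hm => ?_⟩,
    hs.KE.trans hs.normal⟩
  · refine (Subgroup.eq_bot_iff_forall _).mpr fun x hx => ?_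
    obtain ⟨k, hk, b, hb, rfl⟩ := hKc'.2.2.2 x hx.2
    have hb' : b ∈ E ⊓ sigmaCore M := ⟨by
      have := E.mul_mem (E.inv_mem (hs.KE hk)) (hs.UE hx.1)
      rwa [inv_mul_cancel_left] at this, hb⟩
    rw [hs.hE.2.2.1, Subgroup.mem_bot] at hb'
    subst hb'
    rw [mul_one] at hx ⊢
    exact Subgroup.mem_bot.mp (hs.compl.2.2.1 ▸ (⟨hx.1, hk⟩ : k ∈ U ⊓ K))
  · obtain ⟨e, he, b, hb, rfl⟩ := hs.hE.2.2.2 m hm
    obtain ⟨w, hw, k, hk, rfl⟩ := hs.compl.2.2.2 e he
    exact ⟨w, hw, k * b, mul_mem (Subgroup.mem_sup_left hk) (Subgroup.mem_sup_right hb), mul_assoc _ _ _⟩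

/-- A given factorisation is a split one. -/
theorem decomp_split (hM : IsCoatom M) (h : IsSigmaDecomposition M K U) (hK1 : K ≠ ⊥) :
    KappaData M K ∧ KappaSplit M K (U ⊔ K) U := by
  have d := kappaData_of_hall hG hM h.hall hK1
  obtain ⟨hE, hUK⟩ := decomp_data hG hM h
  obtain ⟨U₀, hs⟩ := d.split_of_complement hG (noTau3Bad hG hM) hE le_sup_right
  have hle : U ≤ U₀ := le_normal_hall (solvable_of_le hE.1 (solvable_of_ne_top hG hM.1)) hs.hallU hs.normal le_sup_left
    fun r hr hd => (decomp_U_primes hG hM h r hr hd).1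
  have e : U = U₀ := Subgroup.eq_of_le_of_card_ge hle (le_of_eq (Nat.eq_of_mul_eq_mul_right (Nat.card_pos (α := K))
    ((card_complIn hs.compl).symm.trans (card_complIn hUK))))
  subst e
  exact ⟨d, hs⟩

theorem KappaData.comm (d : KappaData M K) : IsMulCommutative K :=
  cyclic_isCommutative (kappaHall_cyclic hG d.hM d.hall)

theorem KappaData.kappa_eq (d : KappaData M K) : kappa M = tau1 M := by
  obtain ⟨r, hr, W, hWK, hW⟩ := exists_prime_subgroup d.ne
  exact kappa_eq_tau1 hG d.hM (noTau3Bad hG d.hM) ⟨r, d.hall.2.1 r hr (hW ▸ Subgroup.card_dvd_of_le hWK)⟩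

theorem KappaData.centralizer_eq (d : KappaData M K) {k : G} (hk : k ∈ K) (hk1 : k ≠ 1) :
    M ⊓ centralizer ({k} : Set G) = K ⊔ fixedCore M K := by
  haveI := d.comm hG
  obtain ⟨t, ht, htd⟩ := exists_prime_dvd_order hk1
  haveI := Fact.mk ht
  obtain ⟨Y, hY, hYk, hCY⟩ := exists_line_of_element htd
  refine le_antisymm ?_ (le_inf (d.sup_le_M hG) (sup_le ?_ ?_))
  · rw [← d.normN t Y ht (hYk.trans (Subgroup.zpowers_le.mpr hk)) hY]
    exact inf_le_inf_left _ (hCY.trans (Subgroup.centralizer_le_normalizer _))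
  · exact (Subgroup.le_centralizer K).trans (Subgroup.centralizer_le (Set.singleton_subset_iff.mpr hk))
  · exact inf_le_right.trans (Subgroup.centralizer_le (Set.singleton_subset_iff.mpr hk))

theorem KappaData.normalizer_eq (d : KappaData M K) :
    M ⊓ normalizer (K : Set G) = K ⊔ fixedCore M K := by
  refine le_antisymm ?_ (le_inf (d.sup_le_M hG) (sup_le Subgroup.le_normalizer
    (inf_le_right.trans (Subgroup.centralizer_le_normalizer _))))
  obtain ⟨t, ht, Y, hYK, hY⟩ := exists_prime_subgroup d.ne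
  rw [← d.normN t Y ht hYK hY]
  exact inf_le_inf_left _ (normalizer_le_of_cyclic (kappaHall_cyclic hG d.hM d.hall) hYK)

theorem KappaPair.symm {L : Subgroup G} (p : KappaPair M K L) : KappaPair L (fixedCore M K) M := by
  refine ⟨p.right, ?_, ?_, p.ne.symm, fun L' hL' => ?_, p.cycC, ?_, ?_⟩
  · rw [p.symm_eq]; exact p.left
  · rw [p.symm_eq]
  · rw [p.symm_eq, sup_comm] at hL'
    exact (p.only L' hL').symm
  · rw [p.symm_eq]; exact p.cycK
  · rw [p.symm_eq]; exact p.prime.symm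

theorem KappaPair.node {L : Subgroup G} (p : KappaPair M K L) : IsNode (K ⊔ fixedCore M K) L :=
  ⟨fixedCore M K, p.right, by rw [p.symm_eq, sup_comm]⟩

theorem KappaPair.partner {L : Subgroup G} (p : KappaPair M K L) {t : ℕ} [Fact t.Prime] {Y L' : Subgroup G}
    (hY : Nat.card Y = t) (hYK : Y ≤ K) (hL' : IsCoatom L') (hN : normalizer (Y : Set G) ≤ L') : L' = L :=
  (p.only L' (p.left.partner_node hG hYK hY hL' hN)).resolve_left fun e =>
    (p.left.meet t Y L' Fact.out hYK hY hL' hN).1 1 (by rw [map_one, one_smul, e])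

theorem KappaPair.meet {L : Subgroup G} (p : KappaPair M K L) : M ⊓ L = K ⊔ fixedCore M K :=
  (IsNode.pair hG (p.left.self_node hG) (p.node hG) p.ne).2

theorem KappaPair.cyclic {L : Subgroup G} (p : KappaPair M K L) : IsCyclic ↥(K ⊔ fixedCore M K) := by
  obtain ⟨a, ha⟩ := exists_zpowers_eq p.cycK
  obtain ⟨b, hb⟩ := exists_zpowers_eq p.cycC
  have haK : a ∈ K := ha ▸ mem_zpowers a
  have hbC : b ∈ fixedCore M K := hb ▸ mem_zpowers b
  have hab : Commute a b := ((p.left.fixed_centralizes hG) haK b hbC).symm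
  have hca : orderOf a = Nat.card K := by rw [← Nat.card_zpowers, ha]
  have hcb : orderOf b = Nat.card ↥(fixedCore M K) := by rw [← Nat.card_zpowers, hb]
  have ho : orderOf (a * b) = Nat.card ↥(K ⊔ fixedCore M K) := by
    rw [hab.orderOf_mul_eq_mul_orderOf_of_coprime, hca, hcb, card_complIn (p.left.compl hG)]
    rw [hca, hcb]
    exact Nat.coprime_of_dvd fun r hr h1 h2 => p.left.sigma' hG hr h1
      ((sigmaCore_hall hG p.left.hM).1.2.1 r hr (h2.trans (Subgroup.card_dvd_of_le inf_le_left)))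
  have e : zpowers (a * b) = K ⊔ fixedCore M K := Subgroup.eq_of_le_of_card_ge (Subgroup.zpowers_le.mpr
    (mul_mem (Subgroup.mem_sup_left haK) (Subgroup.mem_sup_right hbC))) (by rw [Nat.card_zpowers, ho])
  rw [← e]
  infer_instance

/-- The maximal subgroup of the hypotheses "`K = C_{M*σ}(K*)`, `K*` Hall `κ(M*)`" is the partner. -/
theorem KappaPair.unique {L N : Subgroup G} (p : KappaPair M K L) (hN : IsCoatom N)
    (hK : K = sigmaCore N ⊓ centralizer (fixedCore M K : Set G)) : N = L := by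
  obtain ⟨t, ht, Y, hYK, hY⟩ := exists_prime_subgroup p.left.ne
  haveI := Fact.mk ht
  have hYN : Y ≤ sigmaCore N := (hYK.trans hK.le).trans inf_le_left
  obtain ⟨L', hL', hNY⟩ := exists_coatom_ge (normalizer_ne_top hG (ne_bot_of_card hY)
    (pgroup_ne_top hG (isPGroup_of_card hY)))
  have htL := (p.left.meet t Y L' ht hYK hY hL' hNY).2.1
  have := eq_of_sigma hG hN hL' ((sigmaCore_hall hG hN).1.2.1 t ht (hY ▸ Subgroup.card_dvd_of_le hYN)) htL
    (hYN.trans (piCoreOf_le _ _)) hY ((Subgroup.centralizer_le_normalizer _).trans hNY)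
  rw [← this, p.partner hG hY hYK hL' hNY]

theorem pair_prime_of_bot (hM : IsCoatom M) (h : IsSigmaDecomposition M K U) (hK1 : K ≠ ⊥) (hU : U = ⊥) :
    (Nat.card ↥(fixedCore M K)).Prime := by
  obtain ⟨d, hs⟩ := decomp_split hG hM h hK1
  obtain ⟨L, p⟩ := d.exists_pair hG
  obtain ⟨N, hN, hne⟩ := d.exists_node_ne hG
  rcases p.only N hN with rfl | rfl
  · refine absurd ?_ hne
    rw [d.inter_core hG, card_complIn hs.hE, card_complIn hs.compl, hU, Subgroup.card_bot, one_mul,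
      card_complIn (d.compl hG)]
    ring
  · refine (p.right.two_of_card hG fun he => hne ?_).1
    have e : K ⊔ fixedCore M K = fixedCore M K ⊔ fixedCore N (fixedCore M K) := by rw [p.symm_eq, sup_comm]
    rw [e, p.right.inter_core hG, he, card_complIn (p.right.compl hG)]
    ring

theorem pair_not_both_bot (hM : IsCoatom M) (h : IsSigmaDecomposition M K U) (hK1 : K ≠ ⊥) (hU : U = ⊥)
    {L W : Subgroup G} (hL : IsCoatom L) (hK : K = sigmaCore L ⊓ centralizer (fixedCore M K : Set G))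
    (hW : IsSigmaDecomposition L (fixedCore M K) W) : W ≠ ⊥ := by
  intro hW1
  obtain ⟨d, hs⟩ := decomp_split hG hM h hK1
  obtain ⟨L', p⟩ := d.exists_pair hG
  obtain rfl := p.unique hG hL hK
  obtain ⟨-, hs'⟩ := decomp_split hG hL hW d.fixed_ne
  obtain ⟨N, hN, hne⟩ := d.exists_node_ne hG
  rcases p.only N hN with rfl | rfl
  · refine absurd ?_ hne
    rw [d.inter_core hG, card_complIn hs.hE, card_complIn hs.compl, hU, Subgroup.card_bot, one_mul,
      card_complIn (d.compl hG)]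
    ring
  · refine hne ?_
    have e : K ⊔ fixedCore M K = fixedCore M K ⊔ fixedCore N (fixedCore M K) := by rw [p.symm_eq, sup_comm]
    rw [e, p.right.inter_core hG, card_complIn hs'.hE, card_complIn hs'.compl, hW1, Subgroup.card_bot, one_mul,
      card_complIn (p.right.compl hG)]
    ring

theorem KappaPair.hat_eq {L : Subgroup G} (p : KappaPair M K L) :
    hatSet (K ⊔ fixedCore M K) =
      (↑(K ⊔ fixedCore M K) : Set G) \ ((K : Set G) ∪ (fixedCore M K : Set G)) := by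
  ext z
  constructor
  · rintro ⟨hz, -, hout⟩
    refine ⟨hz, ?_⟩
    rintro (h | h)
    · exact hout L (p.node hG) (p.symm_eq.ge h).1
    · exact hout M (p.left.self_node hG) h.1
  · rintro ⟨hz, hne⟩
    refine ⟨hz, fun e => hne (Or.inl (e ▸ K.one_mem)), fun L' hL' hzs => hne ?_⟩
    rcases p.only L' hL' with rfl | rfl
    · exact Or.inr ((p.left.inter_core hG).le ⟨hz, hzs⟩)
    · exact Or.inl (p.left.core_part hG (p.node hG) p.ne ⟨hz, hzs⟩)

theorem KappaPair.hat_card {L : Subgroup G} (p : KappaPair M K L) :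
    Set.ncard ((↑(K ⊔ fixedCore M K) : Set G) \ ((K : Set G) ∪ (fixedCore M K : Set G))) +
        (Nat.card K + Nat.card ↥(fixedCore M K)) = Nat.card K * Nat.card ↥(fixedCore M K) + 1 := by
  have hsub : ((K : Set G) ∪ (fixedCore M K : Set G)) ⊆ (↑(K ⊔ fixedCore M K) : Set G) :=
    Set.union_subset (fun x hx => Subgroup.mem_sup_left hx) fun x hx => Subgroup.mem_sup_right hx
  have h1 := Set.ncard_sdiff_add_ncard_of_subset hsub
  have h2 := Set.ncard_union_add_ncard_inter (K : Set G) (fixedCore M K : Set G)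
  have h3 : ((K : Set G) ∩ (fixedCore M K : Set G)) = {1} := by
    ext x
    constructor
    · intro hx
      exact Subgroup.mem_bot.mp (p.left.inf_bot hG ▸ (⟨hx.1, hx.2⟩ : x ∈ K ⊓ fixedCore M K))
    · rintro rfl
      exact ⟨K.one_mem, (fixedCore M K).one_mem⟩
  rw [h3, Set.ncard_singleton] at h2
  have e : ∀ H : Subgroup G, (H : Set G).ncard = Nat.card H := fun H => (Nat.card_coe_set_eq (H : Set G)).symm
  rw [e, e] at h2
  rw [e, card_complIn (p.left.compl hG)] at h1
  omega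

theorem KappaPair.hat_nonempty {L : Subgroup G} (p : KappaPair M K L) :
    ((↑(K ⊔ fixedCore M K) : Set G) \ ((K : Set G) ∪ (fixedCore M K : Set G))).Nonempty := by
  refine Set.nonempty_of_ncard_ne_zero fun h => ?_
  have h1 := p.hat_card hG
  rw [h, zero_add] at h1
  have hk : 2 ≤ Nat.card K := by
    rcases Nat.lt_or_ge (Nat.card K) 2 with hlt | hge
    · exact absurd (Subgroup.card_eq_one.mp (by have := Nat.card_pos (α := K); omega)) p.left.ne
    · exact hge
  have hc : 2 ≤ Nat.card ↥(fixedCore M K) := by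
    rcases Nat.lt_or_ge (Nat.card ↥(fixedCore M K)) 2 with hlt | hge
    · exact absurd (Subgroup.card_eq_one.mp (by have := Nat.card_pos (α := ↥(fixedCore M K)); omega)) p.left.fixed_ne
    · exact hge
  nlinarith

/-- Conjugation of an element of `Ẑ` inside `Z`. -/
theorem KappaPair.hat_conj {L : Subgroup G} (p : KappaPair M K L) {z g : G}
    (hz : z ∈ (↑(K ⊔ fixedCore M K) : Set G) \ ((K : Set G) ∪ (fixedCore M K : Set G)))
    (hg : g * z * g⁻¹ ∈ K ⊔ fixedCore M K) : g ∈ K ⊔ fixedCore M K :=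
  IsNode.hat_conj hG (p.left.self_node hG) (by rw [p.hat_eq hG]; exact hz) hg

theorem KappaPair.hat_normalizes {L : Subgroup G} (p : KappaPair M K L) {g : G} (hg : g ∈ K ⊔ fixedCore M K) :
    g ∈ normalizer ((↑(K ⊔ fixedCore M K) : Set G) \ ((K : Set G) ∪ (fixedCore M K : Set G))) := by
  haveI := cyclic_isCommutative (p.cyclic hG)
  have key : ∀ x ∈ K ⊔ fixedCore M K, g * x * g⁻¹ = x := fun x hx => by
    rw [show g * x = x * g from congrArg Subtype.val (mul_comm' (⟨g, hg⟩ : ↥(K ⊔ fixedCore M K)) ⟨x, hx⟩),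
      mul_inv_cancel_right]
  show ∀ n : G, n ∈ _ ↔ g * n * g⁻¹ ∈ _
  intro n
  constructor
  · intro hn
    rw [key n hn.1]
    exact hn
  · intro hn
    have hn' : n ∈ K ⊔ fixedCore M K := by
      have := Subgroup.mul_mem _ (Subgroup.mul_mem _ (Subgroup.inv_mem _ hg) hn.1) hg
      simpa [mul_assoc] using this
    rwa [key n hn'] at hn

theorem KappaPair.conj_card {L : Subgroup G} (p : KappaPair M K L) :
    Set.ncard {a : G | ∃ g : G, ∃ z ∈ ((↑(K ⊔ fixedCore M K) : Set G) \ ((K : Set G) ∪ (fixedCore M K : Set G))),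
      a = g * z * g⁻¹} = (K ⊔ fixedCore M K).index *
        Set.ncard ((↑(K ⊔ fixedCore M K) : Set G) \ ((K : Set G) ∪ (fixedCore M K : Set G))) := by
  set Z := K ⊔ fixedCore M K with hZ
  set T := (↑Z : Set G) \ ((K : Set G) ∪ (fixedCore M K : Set G)) with hT
  have himg : {a : G | ∃ g : G, ∃ z ∈ T, a = g * z * g⁻¹} =
      (fun w : (G ⧸ Z) × G => w.1.out * w.2 * w.1.out⁻¹) '' (Set.univ ×ˢ T) := by
    ext a
    constructor
    · rintro ⟨g, z, hz, rfl⟩
      refine ⟨((g : G ⧸ Z), z), ⟨Set.mem_univ _, hz⟩, ?_⟩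
      have hmem : (g : G ⧸ Z).out⁻¹ * g ∈ Z := QuotientGroup.eq.mp (QuotientGroup.out_eq' _)
      haveI := cyclic_isCommutative (p.cyclic hG)
      have hcm : (g : G ⧸ Z).out⁻¹ * g * z = z * ((g : G ⧸ Z).out⁻¹ * g) :=
        congrArg Subtype.val (mul_comm' (⟨_, hmem⟩ : Z) ⟨z, hz.1⟩)
      show (g : G ⧸ Z).out * z * (g : G ⧸ Z).out⁻¹ = g * z * g⁻¹
      symm
      calc g * z * g⁻¹ = (g : G ⧸ Z).out * ((g : G ⧸ Z).out⁻¹ * g * z) * g⁻¹ := by group
        _ = (g : G ⧸ Z).out * (z * ((g : G ⧸ Z).out⁻¹ * g)) * g⁻¹ := by rw [hcm]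
        _ = _ := by group
    · rintro ⟨⟨c, z⟩, ⟨-, hz⟩, rfl⟩
      exact ⟨c.out, z, hz, rfl⟩
  rw [himg, Set.InjOn.ncard_image, Set.ncard_prod, Set.ncard_univ, Subgroup.index_eq_card]
  rintro ⟨a, s⟩ ⟨-, hs⟩ ⟨b, s'⟩ ⟨-, hs'⟩ e
  have e' : a.out * s * a.out⁻¹ = b.out * s' * b.out⁻¹ := e
  have hmem : b.out⁻¹ * a.out * s * (b.out⁻¹ * a.out)⁻¹ ∈ Z := by
    rw [show b.out⁻¹ * a.out * s * (b.out⁻¹ * a.out)⁻¹ = b.out⁻¹ * (a.out * s * a.out⁻¹) * b.out by group, e',
      show b.out⁻¹ * (b.out * s' * b.out⁻¹) * b.out = s' by group]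
    exact hs'.1
  have hab : b = a := by
    rw [← QuotientGroup.out_eq' a, ← QuotientGroup.out_eq' b]
    exact QuotientGroup.eq.mpr (p.hat_conj hG hs hmem)
  subst hab
  rw [mul_left_cancel (mul_right_cancel e')]

/-- More than half of `G` is conjugate into `Ẑ`. -/
theorem KappaPair.conj_big {L : Subgroup G} (p : KappaPair M K L) :
    Nat.card G < 2 * Set.ncard {a : G | ∃ g : G,
      ∃ z ∈ ((↑(K ⊔ fixedCore M K) : Set G) \ ((K : Set G) ∪ (fixedCore M K : Set G))), a = g * z * g⁻¹} := by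
  rw [p.conj_card hG, ← Subgroup.card_mul_index (K ⊔ fixedCore M K), card_complIn (p.left.compl hG)]
  have hT := p.hat_card hG
  have hodd : ∀ H : Subgroup G, H ≠ ⊥ → 3 ≤ Nat.card H := fun H hH => by
    obtain ⟨j, hj⟩ := odd_subgroup hG.1 H
    have : Nat.card H ≠ 1 := fun e => hH (Subgroup.card_eq_one.mp e)
    omega
  have hk := hodd K p.left.ne
  have hc := hodd _ p.left.fixed_ne
  have hne : Nat.card K ≠ Nat.card ↥(fixedCore M K) := fun e => by
    obtain ⟨r, hr, hrd⟩ := Nat.exists_prime_and_dvd (n := Nat.card K) (by omega)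
    exact p.left.sigma' hG hr hrd ((sigmaCore_hall hG p.left.hM).1.2.1 r hr
      ((e ▸ hrd).trans (Subgroup.card_dvd_of_le inf_le_left)))
  have key : 2 * (Nat.card K + Nat.card ↥(fixedCore M K)) < Nat.card K * Nat.card ↥(fixedCore M K) + 2 := by
    obtain ⟨i, hi⟩ := odd_subgroup hG.1 K
    obtain ⟨j, hj⟩ := odd_subgroup hG.1 (fixedCore M K)
    simp only [hi, hj] at hne hk hc ⊢
    rcases Nat.lt_or_gt_of_ne hne with h | h
    · have : 2 ≤ j := by omega
      nlinarith
    · have : 2 ≤ i := by omega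
      nlinarith
  have hidx : 0 < (K ⊔ fixedCore M K).index := Nat.pos_of_ne_zero Subgroup.index_ne_zero_of_finite
  nlinarith [Nat.mul_lt_mul_of_pos_left key hidx]

end CfsgLib.MinSimpleOdd
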