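import Cfsg.Agent.Lib.MinSimpleOdd.KappaFacts

/-!
Centralisers of the lines of `K*` (B–G 14.7 (d), (g)).
-/

set_option autoImplicit false
set_option linter.unusedSectionVars false
set_option linter.style.haveILetI false
set_option maxHeartbeats 1000000

namespace CfsgLib.MinSimpleOdd

open Subgroup Cfsg
open scoped Pointwise commutatorElement IsMulCommutative

universe u
variable {G : Type u} [Group G] [Finite G]

omit [Finite G] in
/-- The elements of order dividing `q` of the centre of `R`. -/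
def omegaCenter (q : ℕ) (R : Subgroup G) : Subgroup G where
  carrier := {x | x ∈ R ∧ x ∈ centralizer (R : Set G) ∧ x ^ q = 1}
  mul_mem' {a b} ha hb := ⟨R.mul_mem ha.1 hb.1, mul_mem ha.2.1 hb.2.1, by
    rw [(show Commute a b from (ha.2.1 b hb.1).symm).mul_pow, ha.2.2, hb.2.2, one_mul]⟩
  one_mem' := ⟨R.one_mem, one_mem _, one_pow q⟩
  inv_mem' {a} ha := ⟨R.inv_mem ha.1, inv_mem ha.2.1, by rw [inv_pow, ha.2.2, inv_one]⟩

theorem omegaCenter_comm (q : ℕ) (R : Subgroup G) : IsMulCommutative (omegaCenter q R) :=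
  ⟨⟨fun a b => Subtype.ext (b.2.2.1 _ a.2.1)⟩⟩

theorem le_normalizer_omegaCenter (q : ℕ) (R : Subgroup G) :
    normalizer (R : Set G) ≤ normalizer (omegaCenter q R : Set G) := by
  intro g hg
  have key : ∀ h ∈ normalizer (R : Set G), ∀ x ∈ omegaCenter q R, h * x * h⁻¹ ∈ omegaCenter q R := by
    rintro h hh x ⟨hxR, hxc, hxq⟩
    refine ⟨(Subgroup.mem_normalizer_iff.mp hh x).mp hxR, fun y hy => ?_, by rw [conj_pow, hxq]; group⟩
    have hy' := (Subgroup.mem_normalizer_iff''.mp hh y).mp hy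
    calc y * (h * x * h⁻¹) = h * ((h⁻¹ * y * h) * x) * h⁻¹ := by group
      _ = h * (x * (h⁻¹ * y * h)) * h⁻¹ := by rw [hxc _ hy']
      _ = h * x * h⁻¹ * y := by group
  refine Subgroup.mem_normalizer_iff.mpr fun x => ⟨key g hg x, fun hx => ?_⟩
  have := key g⁻¹ (inv_mem hg) _ hx
  simpa [mul_assoc] using this

variable (hG : IsMinSimpleOddOrder G) {M K : Subgroup G}

include hG

theorem KappaData.cyclic_fixed (d : KappaData M K) : IsCyclic ↥(fixedCore M K) :=
  (d.exists_pair hG).choose_spec.cycC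

/-- B–G 14.7 (d), (g) for a line of `K*`. -/
theorem KappaData.fixed_line_uniq (d : KappaData M K) {q : ℕ} [Fact q.Prime] {X : Subgroup G}
    (hX : Nat.card X = q) (hXC : X ≤ fixedCore M K) :
    (centralizer (X : Set G) ≤ M ∧ ∀ L : Subgroup G, IsCoatom L → centralizer (X : Set G) ≤ L → L = M) ∧
      ∀ P : Sylow q ↥(sigmaCore M),
        InUniqueMaximal ((P : Subgroup ↥(sigmaCore M)).map (sigmaCore M).subtype) ∧
        (P : Subgroup ↥(sigmaCore M)).map (sigmaCore M).subtype ≤ M ∧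
        ¬ (P : Subgroup ↥(sigmaCore M)).map (sigmaCore M).subtype ≤ fixedCore M K := by
  have hM := d.hM
  have hsM : sigmaCore M ≤ M := piCoreOf_le _ _
  have hqσ : q ∈ sigma M := (sigmaCore_hall hG hM).1.2.1 q Fact.out
    (hX ▸ Subgroup.card_dvd_of_le (hXC.trans inf_le_left))
  have hXM : X ≤ M := hXC.trans (inf_le_left.trans hsM)
  have hcC := d.cyclic_fixed hG
  have hX1 : X ≠ ⊥ := ne_bot_of_card hX
  have hXne : X ≠ ⊤ := pgroup_ne_top hG (isPGroup_of_card hX)
  -- facts about a Sylow subgroup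
  have hsyl : ∀ P : Sylow q ↥(sigmaCore M),
      (P : Subgroup ↥(sigmaCore M)).map (sigmaCore M).subtype ≤ sigmaCore M ∧
      IsPGroup q ↥((P : Subgroup ↥(sigmaCore M)).map (sigmaCore M).subtype) ∧
      ¬ q ∣ ((P : Subgroup ↥(sigmaCore M)).map (sigmaCore M).subtype).index ∧
      (P : Subgroup ↥(sigmaCore M)).map (sigmaCore M).subtype ≠ ⊥ := by
    intro P
    have hle : (P : Subgroup ↥(sigmaCore M)).map (sigmaCore M).subtype ≤ sigmaCore M := Subgroup.map_subtype_le _
    have hi : ¬ q ∣ ((P : Subgroup ↥(sigmaCore M)).map (sigmaCore M).subtype).index := by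
      rw [← Subgroup.relIndex_mul_index hle]
      exact fun hd => ((Fact.out : q.Prime).dvd_mul.mp hd).elim (not_dvd_of_sylow _ P)
        ((sigmaCore_hall hG hM).2.2 q Fact.out hqσ)
    refine ⟨hle, P.2.map _, hi, fun e => hi ?_⟩
    rw [e, Subgroup.index_bot]
    exact hX ▸ Subgroup.card_subgroup_dvd_card X
  obtain ⟨E, U, hs⟩ := d.exists_split hG (noTau3Bad hG hM)
  by_cases hU : U = ⊥
  · have hEK : E ≤ K := fun e he => by
      obtain ⟨w, hw, k, hk, rfl⟩ := hs.compl.2.2.2 e he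
      rw [hU, Subgroup.mem_bot] at hw
      subst hw
      rwa [one_mul]
    have hXd : X ≤ ⁅sigmaCore M, sigmaCore M⁆ := hXC.trans ((inf_le_inf_left _
      (Subgroup.centralizer_le (SetLike.coe_subset_coe.mpr hEK))).trans (sigma_fixed_le_derived hG hM hs.hE))
    have hCX := uniq_centralizer_of_sigma hG hM hqσ hXM hX (Or.inr hXd)
    refine ⟨hCX, fun P => ?_⟩
    obtain ⟨-, hu, hPM⟩ := sigma_order_p_uniq hG hM hqσ hXM hX P (Or.inr hXd)
    refine ⟨hu, hPM, fun hle => ?_⟩
    obtain ⟨hRs, hRp, hRi, hR1⟩ := hsyl P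
    set R := (P : Subgroup ↥(sigmaCore M)).map (sigmaCore M).subtype with hR
    haveI hRc : IsMulCommutative R := cyclic_isCommutative (by
      haveI := hcC
      exact isCyclic_of_injective (Subgroup.inclusion hle) (Subgroup.inclusion_injective hle))
    obtain ⟨X', hX'R, hX'⟩ := exists_sub_card hRp hR1
    have hXeq : X' = X := eq_of_card_cyclic hcC (hX'R.trans hle) hXC (hX'.trans hX.symm)
    rw [hXeq] at hX'R
    have hRcyc : IsCyclic R := by
      haveI := hcC
      exact isCyclic_of_injective (Subgroup.inclusion hle) (Subgroup.inclusion_injective hle)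
    have hNR : normalizer (R : Set G) ≤ M :=
      (normalizer_le_of_cyclic hRcyc hX'R).trans (normalizer_le_of_uniq hG hX1 hXne hCX.2)
    have hqα : q ∉ alpha M := fun h => not_cyclic_of_rank (fun h' => h.2 (pRankLE_of_sylow_rel hPM hRp
      (fun hd => hRi (hd.trans (Dvd.intro _ (Subgroup.relIndex_mul_index hPM)))) h')) hRcyc
    have hd : R ≤ ⁅normalizer (R : Set G), normalizer (R : Set G)⁆ := le_derived_normalizer hG (hRp.toSylow hRi)
    refine hR1 (central_sylow_derived (N := normalizer (R : Set G)) Subgroup.le_normalizer hRp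
      (fun h => hRi (h.trans (Dvd.intro _ (Subgroup.relIndex_mul_index Subgroup.le_normalizer))))
      le_rfl hd ?_)
    refine le_centralizer_of_sylows fun r hr => ?_
    haveI := Fact.mk hr
    obtain ⟨S, -, hSN, hS, hSi⟩ := exists_sylow_ge (p := r) (bot_le : (⊥ : Subgroup G) ≤ normalizer (R : Set G))
      IsPGroup.of_bot
    by_cases hrq : r = q
    · subst hrq
      exact ⟨R, Subgroup.le_normalizer,
        fun h => hRi (h.trans (Dvd.intro _ (Subgroup.relIndex_mul_index Subgroup.le_normalizer))),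
        Subgroup.le_centralizer R⟩
    by_cases hrσ : r ∈ sigma M
    · exact ⟨S, hSN, hSi, centralizes_of_sigma hG hM (Ne.symm hrq) hqα hRp (hRs.trans hsM) hS
        (hSN.trans hNR) hrσ hSN⟩
    · have hKR : K ≤ centralizer (R : Set G) :=
        (d.fixed_centralizes hG).trans (Subgroup.centralizer_le (SetLike.coe_subset_coe.mpr hle))
      have hKN : K ≤ normalizer (R : Set G) := hKR.trans (Subgroup.centralizer_le_normalizer _)
      obtain ⟨T, -, hTK, hT, hTi⟩ := exists_sylow_ge (p := r) (bot_le : (⊥ : Subgroup G) ≤ K) IsPGroup.of_bot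
      refine ⟨T, hTK.trans hKN, fun h => ?_, hTK.trans hKR⟩
      rw [← Subgroup.relIndex_mul_relIndex T K (normalizer (R : Set G)) hTK hKN] at h
      rcases hr.dvd_mul.mp h with h | h
      · exact hTi h
      · have hEN : E = K := le_antisymm hEK hs.KE
        refine (complement_hall hG hM hs.hE).2.2 r hr hrσ ?_
        rw [hEN]
        exact h.trans (Dvd.intro _ (Subgroup.relIndex_mul_relIndex K _ M hKN hNR))
  · obtain ⟨hn, hCU, hKp⟩ := hs.two hU
    haveI := hn
    have hnorm : ∀ P : Sylow q ↥(sigmaCore M),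
        M ≤ normalizer (((P : Subgroup ↥(sigmaCore M)).map (sigmaCore M).subtype : Subgroup G) : Set G) := by
      intro P
      haveI : (P : Subgroup ↥(sigmaCore M)).Characteristic := Sylow.characteristic_of_normal P inferInstance
      exact (le_normalizer_map_characteristic (le_normalizer_sigmaCore hG hM le_rfl) (P : Subgroup ↥(sigmaCore M))).1
    have key : ∀ P : Sylow q ↥(sigmaCore M),
        let V := omegaCenter q ((P : Subgroup ↥(sigmaCore M)).map (sigmaCore M).subtype)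
        InUniqueMaximal V ∧ V ≤ M ∧ q ^ 3 ≤ Nat.card V := by
      intro P V
      obtain ⟨hRs, hRp, hRi, hR1⟩ := hsyl P
      set R := (P : Subgroup ↥(sigmaCore M)).map (sigmaCore M).subtype with hR
      have hVR : V ≤ R := fun x hx => hx.1
      have hVp : IsPGroup q V := hRp.to_le hVR
      haveI : IsMulCommutative V := omegaCenter_comm q R
      obtain ⟨z, hz, hzo, hzc⟩ := exists_central hRp hR1
      have hV1 : V ≠ ⊥ := fun e => (Fact.out : q.Prime).ne_one (by
        have hzV : z ∈ V := ⟨hz, hzc, hzo ▸ pow_orderOf_eq_one z⟩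
        rw [e, Subgroup.mem_bot] at hzV
        rw [← hzo, hzV, orderOf_one])
      have hMV : M ≤ normalizer (V : Set G) := (hnorm P).trans (le_normalizer_omegaCenter q R)
      have hVs : V ≤ sigmaCore M := hVR.trans hRs
      have hUK : U ⊔ K ≤ E := sup_le hs.UE hs.KE
      have hfix : V ⊓ centralizer (K : Set G) = V ⊓ fixedCore M K :=
        le_antisymm (le_inf inf_le_left (le_inf (inf_le_left.trans hVs) inf_le_right))
          (inf_le_inf_left _ inf_le_right)
      obtain ⟨-, hcard, -⟩ := Cfsg.Agent.S1446.result U K V hU d.ne hs.compl.2.2.1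
        ((hs.KE).trans hs.normal) hs.fpf (solvable_of_le (hUK.trans hs.hE.1) (solvable_of_ne_top hG hM.1))
        (odd_subgroup hG.1 _) hV1 hVp.isNilpotent ((hs.UE.trans hs.hE.1).trans hMV) (d.hall.1.trans hMV)
        (Nat.coprime_of_dvd fun r hr h1 h2 => complement_sigma' hG hM hs.hE r hr
          (h1.trans (Subgroup.card_dvd_of_le hUK))
          ((sigmaCore_hall hG hM).1.2.1 r hr (h2.trans (Subgroup.card_dvd_of_le hVs))))
        (le_bot_iff.mp ((inf_le_inf_right _ hVs).trans hCU.le))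
        fun x hx hx1 => le_antisymm
          (hfix.symm ▸ le_inf inf_le_left (((inf_le_inf_right _ hVs).trans (d.prime x hx hx1).le)))
          (inf_le_inf_left _ (Subgroup.centralizer_le (Set.singleton_subset_iff.mpr hx)))
      have hC1 : Nat.card ↥(V ⊓ centralizer (K : Set G)) ≠ 1 := fun e => hV1 (Subgroup.card_eq_one.mp (by
        rw [hcard, e, one_pow]))
      have hCq : q ≤ Nat.card ↥(V ⊓ centralizer (K : Set G)) := by
        obtain ⟨r, hr, hrd⟩ := Nat.exists_prime_and_dvd hC1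
        exact (card_dvd_of_pgroup (hVp.to_le inf_le_left) hr hrd) ▸ Nat.le_of_dvd Nat.card_pos hrd
      have hK3 : 3 ≤ Nat.card K := by
        obtain ⟨j, hj⟩ := odd_subgroup hG.1 K
        have := hKp.two_le
        omega
      have h3 : q ^ 3 ≤ Nat.card V := by
        rw [hcard]
        exact (Nat.pow_le_pow_left hCq 3).trans (Nat.pow_le_pow_right Nat.card_pos hK3)
      refine ⟨uniq_of_rank_three hG hVp fun hr => ?_, hVs.trans hsM, h3⟩
      have := h3.trans (card_le_of_pRankLE hr le_rfl inferInstance fun b hb => hb.2.2)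
      exact absurd this (not_le.mpr (Nat.pow_lt_pow_right (Fact.out : q.Prime).one_lt (by norm_num)))
    obtain ⟨P₀⟩ : Nonempty (Sylow q ↥(sigmaCore M)) := inferInstance
    refine ⟨?_, fun P => ?_⟩
    · obtain ⟨hu, hVM, -⟩ := key P₀
      obtain ⟨hRs, hRp, hRi, -⟩ := hsyl P₀
      have hXR : X ≤ (P₀ : Subgroup ↥(sigmaCore M)).map (sigmaCore M).subtype := by
        rw [← Subgroup.map_subgroupOf_eq_of_le (hXC.trans inf_le_left : X ≤ sigmaCore M)]
        obtain ⟨T, hT⟩ := ((isPGroup_of_card hX).comap_of_injective _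
          (sigmaCore M).subtype_injective).exists_le_sylow
        haveI := Sylow.unique_of_normal P₀ inferInstance
        rw [Subsingleton.elim T P₀] at hT
        exact Subgroup.map_mono hT
      have hVC : omegaCenter q ((P₀ : Subgroup ↥(sigmaCore M)).map (sigmaCore M).subtype) ≤
          centralizer (X : Set G) := fun v hv =>
        Subgroup.centralizer_le (SetLike.coe_subset_coe.mpr hXR) hv.2.1
      have huL : ∀ L : Subgroup G, IsCoatom L → centralizer (X : Set G) ≤ L → L = M := fun L hL hCL =>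
        (uniq_eq hu hL (hVC.trans hCL) hM hVM)
      obtain ⟨L, hL, hCL⟩ := exists_coatom_ge (X := centralizer (X : Set G)) fun e =>
        normalizer_ne_top hG hX1 hXne (top_le_iff.mp (e.ge.trans (Subgroup.centralizer_le_normalizer _)))
      exact ⟨huL L hL hCL ▸ hCL, huL⟩
    · obtain ⟨hu, hVM, h3⟩ := key P
      obtain ⟨hRs, hRp, hRi, hR1⟩ := hsyl P
      refine ⟨uniq_mono hu (fun v hv => hv.1) (pgroup_ne_top hG hRp), hRs.trans hsM, fun hle => ?_⟩
      refine not_cyclic_of_elementary (p := q)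
        (E := omegaCenter q ((P : Subgroup ↥(sigmaCore M)).map (sigmaCore M).subtype)) (fun b hb => hb.2.2) ?_ (by
        haveI := hcC
        have hVC : omegaCenter q ((P : Subgroup ↥(sigmaCore M)).map (sigmaCore M).subtype) ≤ fixedCore M K :=
          fun v hv => hle hv.1
        exact isCyclic_of_injective (Subgroup.inclusion hVC) (Subgroup.inclusion_injective hVC))
      exact lt_of_lt_of_le (lt_self_pow₀ (Fact.out : q.Prime).one_lt (by norm_num)) h3

/-- B–G 14.7: `K* ∩ gMg⁻¹ = 1` outside `M`. -/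
theorem KappaData.fixed_inf_conj (d : KappaData M K) {g : G} (hg : g ∉ M) :
    fixedCore M K ⊓ MulAut.conj g • M = ⊥ := by
  by_contra h
  obtain ⟨q, hq, X, hXle, hX⟩ := exists_prime_subgroup h
  haveI := Fact.mk hq
  have hXC : X ≤ fixedCore M K := hXle.trans inf_le_left
  have hqσ : q ∈ sigma M := (sigmaCore_hall hG d.hM).1.2.1 q hq
    (hX ▸ Subgroup.card_dvd_of_le (hXC.trans inf_le_left))
  obtain ⟨P, hPM, hP, hPi, hPN⟩ := exists_sigma_sylow hqσ
  have hgX : MulAut.conj g⁻¹ • X ≤ M := by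
    refine (conj_smul_mono (hXle.trans inf_le_right) g⁻¹).trans (le_of_eq ?_)
    rw [CfsgLib.conj_smul_mul, inv_mul_cancel, map_one, one_smul]
  obtain ⟨m, hm, c, hc, he⟩ := conj_eq_mul hG d.hM hPM hP hPi hPN (isPGroup_of_card hX) (ne_bot_of_card hX)
    (hXC.trans (inf_le_left.trans (piCoreOf_le _ _))) hgX
  exact hg (inv_mem_iff.mp (he ▸ M.mul_mem hm ((d.fixed_line_uniq hG hX hXC).1.1 hc)))

/-- B–G 14.7: `K` is a TI-subgroup of `M` outside `K K*`. -/
theorem KappaData.inf_conj (d : KappaData M K) {g : G} (hgM : g ∈ M) (hg : g ∉ K ⊔ fixedCore M K) :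
    K ⊓ MulAut.conj g • K = ⊥ := by
  by_contra h
  obtain ⟨t, ht, Z, hZle, hZ⟩ := exists_prime_subgroup h
  haveI := Fact.mk ht
  have hZK : Z ≤ K := hZle.trans inf_le_left
  have hgZ : MulAut.conj g⁻¹ • Z ≤ K := by
    refine (conj_smul_mono (hZle.trans inf_le_right) g⁻¹).trans (le_of_eq ?_)
    rw [CfsgLib.conj_smul_mul, inv_mul_cancel, map_one, one_smul]
  have he : MulAut.conj g⁻¹ • Z = Z :=
    eq_of_card_cyclic (kappaHall_cyclic hG d.hM d.hall) hgZ hZK (CfsgLib.card_conj_smul ..)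
  have : g⁻¹ ∈ M ⊓ normalizer (Z : Set G) := ⟨M.inv_mem hgM, mem_normalizer_of_conj_smul he⟩
  rw [d.normN t Z ht hZK hZ] at this
  exact hg (inv_mem_iff.mp this)

/-- B–G 14.7: a `σ(M)`-group meeting `K*` lies in `M_σ`. -/
theorem KappaData.sigma_le_core (d : KappaData M K) {Y : Subgroup G}
    (hY : ∀ p : ℕ, p.Prime → p ∣ Nat.card Y → p ∈ sigma M) (hne : Y ⊓ fixedCore M K ≠ ⊥) : Y ≤ sigmaCore M := by
  obtain ⟨q, hq, X, hXle, hX⟩ := exists_prime_subgroup hne
  haveI := Fact.mk hq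
  have hXC : X ≤ fixedCore M K := hXle.trans inf_le_right
  obtain ⟨g, hg⟩ := sigma_conj_into hG d.hM (fun e => hne (by rw [e, bot_inf_eq])) hY
  have hqσ : q ∈ sigma M := hY q hq (hX ▸ Subgroup.card_dvd_of_le (hXle.trans inf_le_left))
  obtain ⟨P, hPM, hP, hPi, hPN⟩ := exists_sigma_sylow hqσ
  obtain ⟨m, hm, c, hc, he⟩ := conj_eq_mul hG d.hM hPM hP hPi hPN (isPGroup_of_card hX) (ne_bot_of_card hX)
    (hXC.trans (inf_le_left.trans (piCoreOf_le _ _)))
    ((conj_smul_mono (hXle.trans inf_le_left) g).trans (hg.trans (piCoreOf_le _ _)))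
  have hgM : g ∈ M := he ▸ M.mul_mem hm ((d.fixed_line_uniq hG hX hXC).1.1 hc)
  refine ((inv_smul_smul_conj (le_refl (MulAut.conj g • Y))).trans (conj_smul_mono hg g⁻¹)).trans (le_of_eq ?_)
  exact conj_smul_eq_of_mem_normalizer (le_normalizer_sigmaCore hG d.hM le_rfl (M.inv_mem hgM))

/-- B–G 14.7 (c): `K*` is a Hall `σ(M)`-subgroup of the partner. -/
theorem KappaPair.hall_sigma {L : Subgroup G} (p : KappaPair M K L) :
    IsPiHallOf (sigma M) (fixedCore M K) L := by
  have hM := p.left.hM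
  have hL := p.right.hM
  refine ⟨p.right.hall.1, fun r hr hd => (sigmaCore_hall hG hM).1.2.1 r hr
    (hd.trans (Subgroup.card_dvd_of_le inf_le_left)), fun r hr hrM hd => ?_⟩
  haveI := Fact.mk hr
  by_cases hrL : r ∈ sigma L
  · obtain ⟨g, hg⟩ := sigma_disjointness hG hM hL hrM hrL
    exact (IsNode.pair hG (p.left.self_node hG) (p.node hG) p.ne).1 g hg
  by_cases hrκ : r ∈ kappa L
  · exact p.right.hall.2.2 r hr hrκ hd
  obtain ⟨E, W, hs⟩ := p.right.exists_split hG (noTau3Bad hG hL)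
  have hrW : r ∣ Nat.card W := by
    have h := hd.trans (Subgroup.relIndex_dvd_card _ _)
    rw [card_complIn hs.hE, card_complIn hs.compl] at h
    rcases hr.dvd_mul.mp h with h | h
    · rcases hr.dvd_mul.mp h with h | h
      · exact h
      · exact absurd (p.right.hall.2.1 r hr h) hrκ
    · exact absurd ((sigmaCore_hall hG hL).1.2.1 r hr h) hrL
  have hW1 : W ≠ ⊥ := fun e => hr.ne_one (Nat.dvd_one.mp (by rwa [e, Subgroup.card_bot] at hrW))
  have hc := (hs.two hW1).2.2
  obtain ⟨w, hw⟩ := exists_prime_orderOf_dvd_card' r hrW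
  have hV : Nat.card (zpowers (w : G)) = r := by rw [Nat.card_zpowers, Subgroup.orderOf_coe, hw]
  set V := zpowers (w : G) with hVdef
  have hVW : V ≤ W := Subgroup.zpowers_le.mpr w.2
  have hVE : V ≤ E := hVW.trans hs.UE
  have hVL : V ≤ L := hVE.trans hs.hE.1
  have hfin : ∀ h : G, fixedCore M K ≤ MulAut.conj h • M → V ≤ MulAut.conj h • M → False := by
    intro h hC hV'
    by_cases hh : h ∈ M
    swap
    · exact p.left.fixed_ne (le_bot_iff.mp ((le_inf le_rfl hC).trans (p.left.fixed_inf_conj hG hh).le))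
    rw [smul_eq_self_of_mem hh] at hV'
    have hd' := hV ▸ Subgroup.card_dvd_of_le ((le_inf hV' hVL).trans (p.meet hG).le)
    rw [card_complIn (p.left.compl hG)] at hd'
    rcases hr.dvd_mul.mp hd' with h' | h'
    · rw [← p.symm_eq] at h'
      exact hrL ((sigmaCore_hall hG hL).1.2.1 r hr (h'.trans (Subgroup.card_dvd_of_le inf_le_left)))
    · exact hrκ (p.right.hall.2.1 r hr h')
  obtain ⟨P, hPM, hP, hPi, -⟩ := exists_sigma_sylow hrM
  by_cases hr2 : r ∈ tau2 L
  · obtain ⟨S, -, hSL, hS, hSi⟩ := exists_sylow_ge (p := r) (bot_le : (⊥ : Subgroup G) ≤ L) IsPGroup.of_bot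
    obtain ⟨g, hg⟩ := exists_conj_le_sylow hP hPi hS
    obtain ⟨B, E', -, -, -, hE', hE'M⟩ := exists_complement_le hG (conj_isCoatom hM g) hL
      (by rwa [sigma_conj]) hr2 (hg.trans (conj_smul_mono hPM g)) hSL hS hSi
    obtain ⟨e, -, he⟩ := conj_into_hall hG hL.1 (complement_hall hG hL hE') hs.hE.1
      (fun s hs' hd' => complement_sigma' hG hL hs.hE s hs' hd')
    have hEh : E ≤ MulAut.conj (e⁻¹ * g) • M := by
      rw [← CfsgLib.conj_smul_mul]
      exact inv_smul_smul_conj (he.trans hE'M)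
    exact hfin _ (hs.KE.trans hEh) (hVE.trans hEh)
  have hr3 : r ∈ tau3 L := (tau1_or_tau3 hG hL hrL (rank_one_of_not_sigma hG hL hrL hr2) hV hVL).resolve_left
    fun h => hrκ ((p.right.kappa_eq hG).symm ▸ h)
  have hCV : fixedCore M K ≤ normalizer (V : Set G) :=
    hs.KE.trans (tau3_normalized hG hL hs.hE hVE (pi_of_card hV hr3))
  obtain ⟨N, hN, hNV⟩ := exists_coatom_ge (normalizer_ne_top hG (ne_bot_of_card hV)
    (pgroup_ne_top hG (isPGroup_of_card hV)))
  have hCN : fixedCore M K ≤ N := hCV.trans hNV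
  have hVN : V ≤ N := Subgroup.le_normalizer.trans hNV
  by_cases hrN : r ∈ sigma N
  · obtain ⟨g, rfl⟩ := sigma_disjointness hG hM hN hrM hrN
    exact hfin g hCN hVN
  obtain ⟨g, hg⟩ := exists_conj_le_sylow hP hPi (isPGroup_of_card hV)
  obtain ⟨-, -, E', hE', hE'M⟩ := overgroup_data hG (conj_isCoatom hM g) hN
    (fun e => hrN (by rw [e, sigma_conj]; exact hrM)) (by rwa [sigma_conj]) hV (hg.trans (conj_smul_mono hPM g)) hNV
  obtain ⟨l, -, hl⟩ := conj_into_hall hG hN.1 (complement_hall hG hN hE') (sup_le hCN hVN)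
    (fun s hs' hd' hsN => by
      rw [card_complIn (complIn_sup hCV (le_bot_iff.mp ((inf_le_inf_left _ hVW).trans
        (inf_comm W (fixedCore M K) ▸ hs.compl.2.2.1).le)))] at hd'
      rcases hs'.dvd_mul.mp hd' with h' | h'
      · haveI := Fact.mk hs'
        obtain ⟨x, hx⟩ := sigma_disjointness hG hM hN
          ((sigmaCore_hall hG hM).1.2.1 s hs' (h'.trans (Subgroup.card_dvd_of_le inf_le_left))) hsN
        exact hrN (by rw [hx, sigma_conj]; exact hrM)
      · rw [hV, Nat.prime_dvd_prime_iff_eq hs' hr] at h'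
        exact hrN (h' ▸ hsN))
  have hEh : fixedCore M K ⊔ V ≤ MulAut.conj (l⁻¹ * g) • M := by
    rw [← CfsgLib.conj_smul_mul]
    exact inv_smul_smul_conj (hl.trans hE'M)
  exact hfin _ (le_sup_left.trans hEh) (le_sup_right.trans hEh)

/-- B–G 12.17: the maximal subgroups over `N(A)` have `p` in their `σ`. -/
theorem tau2_sigma_over (hM : IsCoatom M) {p : ℕ} [Fact p.Prime] (hp : p ∈ tau2 M) {A : Subgroup G} (hAM : A ≤ M)
    (hA : IsElementaryAbelian p A) (hA2 : Nat.card A = p ^ 2) {L : Subgroup G} (hL : IsCoatom L)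
    (hNA : normalizer (A : Set G) ≤ L) : p ∈ sigma L := by
  obtain ⟨A₀, hexc⟩ := exists_exc hG hM hp hAM hA hA2
  obtain ⟨T, hAT, hTM, hT, hTi⟩ := exists_sylow_ge (p := p) hAM (isPGroup_of_exp hA.2)
  obtain ⟨hΩ, -, -⟩ := hexc.structure' hG hM hAT hTM hT hTi
  have hTA : normalizer (T : Set G) ≤ normalizer (A : Set G) := fun n hn => Subgroup.mem_normalizer_iff.mpr fun a => by
    have hn' := Subgroup.mem_normalizer_iff.mp hn a
    constructor <;> intro ha
    · exact (hΩ _ (hn'.mp (hAT ha))).mp (by rw [conj_pow, hA.2 a ha, mul_one, mul_inv_cancel])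
    · refine (hΩ _ (hn'.mpr (hAT ha))).mp ?_
      have h := hA.2 _ ha
      rwa [conj_pow, conj_eq_one_iff] at h
  by_contra h
  obtain ⟨T₂, hTT₂, hT₂L, hT₂, hT₂i⟩ := exists_sylow_ge (p := p) ((Subgroup.le_normalizer.trans hTA).trans hNA) hT
  haveI := sigma'_pgroup_commutative hG hL hT₂L hT₂ h
  have hT₂A : T₂ ≤ centralizer (A : Set G) :=
    (Subgroup.le_centralizer T₂).trans (Subgroup.centralizer_le (SetLike.coe_subset_coe.mpr (hAT.trans hTT₂)))
  have he : T₂ = T := eq_of_sylow hTi hTT₂ (hT₂A.trans (centralizer_two_le hG hM hAM hA hA2)) hT₂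
  subst he
  refine h ⟨Fact.out, ?_, ?_⟩
  · exact (dvd_pow_self p two_ne_zero).trans (hA2 ▸ Subgroup.card_dvd_of_le (hAT.trans hT₂L))
  · obtain ⟨P, hP, -⟩ := sylow_of_relIndex hT₂L hT₂ hT₂i
    exact ⟨P, by rw [hP]; exact hTA.trans hNA⟩

/-- The centraliser of an element of a conjugate of `K*` lies in `M`. -/
theorem KappaData.centralizer_le_of_fixed (d : KappaData M K) {x : G} (hx : x ∈ fixedCore M K) (hx1 : x ≠ 1) :
    centralizer ({x} : Set G) ≤ M := by
  obtain ⟨q, hq, hqd⟩ := exists_prime_dvd_order hx1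
  haveI := Fact.mk hq
  obtain ⟨X, hX, hXx, hCX⟩ := exists_line_of_element hqd
  exact hCX.trans (d.fixed_line_uniq hG hX (hXx.trans (Subgroup.zpowers_le.mpr hx))).1.1

/-- An element of `M_σ` centralised by a `κ(M)`-line has centraliser in `M`. -/
theorem centralizer_le_of_kappa_line (hM : IsCoatom M) {p : ℕ} [Fact p.Prime] (hp : p ∈ kappa M) {P : Subgroup G}
    (hP : Nat.card P = p) (hPM : P ≤ M) {x : G} (hx : x ∈ sigmaCore M) (hx1 : x ≠ 1)
    (hxP : x ∈ centralizer (P : Set G)) : centralizer ({x} : Set G) ≤ M := by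
  obtain ⟨K, hK⟩ := CfsgLib.exists_isPiHallOf (kappa M) (solvable_of_ne_top hG hM.1)
  obtain ⟨m, hm, hmP⟩ := conj_into_hall hG hM.1 hK hPM (pi_of_card hP hp)
  have d := kappaData_of_hall hG hM hK fun e => ne_bot_of_card (q := p) (X := MulAut.conj m • P)
    (by rw [CfsgLib.card_conj_smul, hP]) (le_bot_iff.mp (e ▸ hmP))
  have hmx : m * x * m⁻¹ ∈ fixedCore M K := by
    rw [← fixed_of_line hG hM d.prime hmP (by rw [CfsgLib.card_conj_smul, hP])]
    refine ⟨(Subgroup.mem_normalizer_iff.mp (le_normalizer_sigmaCore hG hM le_rfl hm) x).mp hx, fun w hw => ?_⟩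
    rw [SetLike.mem_coe, CfsgLib.mem_conj_smul_iff] at hw
    calc w * (m * x * m⁻¹) = m * ((m⁻¹ * w * m) * x) * m⁻¹ := by group
      _ = m * (x * (m⁻¹ * w * m)) * m⁻¹ := by rw [hxP _ hw]
      _ = m * x * m⁻¹ * w := by group
  have h := d.centralizer_le_of_fixed hG hmx fun e => hx1 (conj_eq_one_iff.mp e)
  rw [← conj_centralizer_singleton] at h
  have h2 := inv_smul_smul_conj h
  rwa [smul_eq_self_of_mem (inv_mem hm)] at h2

/-- B–G 14.7 (h). -/
theorem sigma_element_dichotomy (hM : IsCoatom M) {x : G} (hx : x ∈ sigmaCore M) (hx1 : x ≠ 1) {x' : G}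
    (hx' : x' ∈ M ⊓ centralizer ({x} : Set G)) (hx'1 : x' ≠ 1)
    (hσ : ∀ p : ℕ, p.Prime → p ∣ orderOf x' → p ∉ sigma M) :
    ((∀ p : ℕ, p.Prime → p ∣ orderOf x' → p ∈ kappa M) ∧ centralizer ({x} : Set G) ≤ M) ∨
      ((∀ p : ℕ, p.Prime → p ∣ orderOf x' → p ∈ tau2 M) ∧
        (∃ L : Subgroup G, IsCoatom L ∧ ∀ p : ℕ, p.Prime → p ∣ orderOf x' → p ∈ sigma L) ∧
        centralizer ({x'} : Set G) ≤ M ∧
        ∀ L : Subgroup G, IsCoatom L → centralizer ({x'} : Set G) ≤ L → L = M) := by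
  have hxc : x * x' = x' * x := (Subgroup.mem_centralizer_singleton_iff.mp hx'.2).symm
  have hxz : x ∈ centralizer (zpowers x' : Set G) := by
    rw [← centralizer_zpowers]
    exact Subgroup.mem_centralizer_singleton_iff.mpr hxc
  by_cases hk : ∃ p : ℕ, p.Prime ∧ p ∣ orderOf x' ∧ p ∈ kappa M
  · obtain ⟨p, hp, hpd, hpκ⟩ := hk
    haveI := Fact.mk hp
    obtain ⟨P, hP, hPx, -⟩ := exists_line_of_element hpd
    have hPM : P ≤ M := hPx.trans (Subgroup.zpowers_le.mpr hx'.1)
    have hxP : x ∈ centralizer (P : Set G) := Subgroup.centralizer_le (SetLike.coe_subset_coe.mpr hPx) hxz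
    have hbad : sigmaCore M ⊓ centralizer (P : Set G) ≠ ⊥ := fun e =>
      hx1 (Subgroup.mem_bot.mp (e ▸ (⟨hx, hxP⟩ : x ∈ sigmaCore M ⊓ centralizer (P : Set G))))
    have hκ1 : kappa M = tau1 M := kappa_eq_tau1 hG hM (noTau3Bad hG hM) ⟨p, hpκ⟩
    refine Or.inl ⟨fun s hs hsd => ?_, centralizer_le_of_kappa_line hG hM hpκ hP hPM hx hx1 hxP⟩
    haveI := Fact.mk hs
    obtain ⟨Q, hQ, hQx, -⟩ := exists_line_of_element hsd
    haveI := cyclic_isCommutative (inferInstance : IsCyclic (zpowers x'))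
    rw [hκ1]
    exact tau1_of_centralized hG hM (noTau3Bad hG hM) (hκ1 ▸ hpκ) hP hPM hbad hQ
      (hQx.trans (Subgroup.zpowers_le.mpr hx'.1)) (hσ s hs hsd)
      ((hQx.trans (Subgroup.le_centralizer _)).trans (Subgroup.centralizer_le (SetLike.coe_subset_coe.mpr hPx)))
  push Not at hk
  have hτ : ∀ p : ℕ, p.Prime → p ∣ orderOf x' → p ∈ tau2 M := by
    intro p hp hpd
    haveI := Fact.mk hp
    by_contra h
    obtain ⟨P, hP, hPx, -⟩ := exists_line_of_element hpd
    have hPM : P ≤ M := hPx.trans (Subgroup.zpowers_le.mpr hx'.1)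
    refine hk p hp hpd (kappa_of_bad hG hM (tau1_or_tau3 hG hM (hσ p hp hpd)
      (rank_one_of_not_sigma hG hM (hσ p hp hpd) h) hP hPM) hP hPM fun e => hx1 ?_)
    exact Subgroup.mem_bot.mp (e ▸ (⟨hx, Subgroup.centralizer_le (SetLike.coe_subset_coe.mpr hPx) hxz⟩ :
      x ∈ sigmaCore M ⊓ centralizer (P : Set G)))
  refine Or.inr ⟨hτ, ?_, ?_⟩
  · obtain ⟨E, hE, hxE⟩ := exists_complement_ge hG hM (Subgroup.zpowers_le.mpr hx'.1)
      fun r hr hd => hσ r hr (by rwa [Nat.card_zpowers] at hd)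
    obtain ⟨p, hp, hpd⟩ := exists_prime_dvd_order hx'1
    haveI := Fact.mk hp
    obtain ⟨P, hP, hPx, -⟩ := exists_line_of_element hpd
    obtain ⟨A, hAE, hA, hA2, hPA⟩ := exists_line_two hG hM hE (hτ p hp hpd) hP (hPx.trans hxE)
    obtain ⟨L, hL, hNA⟩ := exists_coatom_ge (normalizer_ne_top hG (fun e => ne_bot_of_card hP (le_bot_iff.mp (e ▸ hPA)))
      (pgroup_ne_top hG (isPGroup_of_exp hA.2)))
    have hEL : E ≤ L :=
      (Cfsg.Agent.S1418.result hG M hM E hE p (hτ p hp hpd) A ⟨hAE, hA, hA2⟩).1.1.trans hNA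
    have hpL := tau2_sigma_over hG hM (hτ p hp hpd) (hAE.trans hE.1) hA hA2 hL hNA
    refine ⟨L, hL, fun s hs hsd => ?_⟩
    haveI := Fact.mk hs
    by_contra hsL
    obtain ⟨Q, hQ, hQx, -⟩ := exists_line_of_element hsd
    obtain ⟨B, hBE, hB, hB2, -⟩ := exists_line_two hG hM hE (hτ s hs hsd) hQ (hQx.trans hxE)
    have hne : M ≠ L := fun e => (hτ p hp hpd).2.1 (e ▸ hpL)
    have hsτ : s ∈ tau2 L := ⟨hs, hsL, rank_two_of_not_sigma hG hL hsL, fun h => by
      have := card_le_of_pRankLE h (hBE.trans hEL) hB.1 hB.2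
      rw [hB2] at this
      exact absurd ((Nat.pow_le_pow_iff_right hs.one_lt).mp this) (by norm_num)⟩
    have hbot := sigma_meet_bot hG hL hsτ (hBE.trans hEL) hB hB2 hM hne (hBE.trans hE.1)
    refine ne_bot_of_card hP (le_bot_iff.mp (hbot ▸ le_inf ?_ (hPA.trans (hAE.trans hE.1))))
    exact hPA.trans (pgroup_le_sigmaCore hG hL hpL (isPGroup_of_exp hA.2) (hAE.trans hEL))
  · obtain ⟨E, hE, -⟩ := exists_complement_ge hG hM (Subgroup.zpowers_le.mpr hx'.1)
      fun r hr hd => hσ r hr (by rwa [Nat.card_zpowers] at hd)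
    exact tau2_element_uniq hG hM hE hx'.1 hx'1 hτ ⟨hx'.1, x, hx, hx1, hxc.symm⟩

end CfsgLib.MinSimpleOdd
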