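import Cfsg.Agent.Lib.MinSimpleOdd.SigmaElement

/-!
Conjugation invariance of `R(x)` and the size of the sets `M̃_σ` (B–G §14).
-/

set_option autoImplicit false
set_option linter.unusedSectionVars false
set_option linter.style.haveILetI false
set_option maxHeartbeats 1000000

namespace CfsgLib.MinSimpleOdd

open Subgroup Cfsg
open scoped Pointwise

universe u
variable {G : Type u} [Group G] [Finite G]

variable (hG : IsMinSimpleOddOrder G)

include hG

/-- Decomposition of `C(x)` as `C_M(x) R(x)`. -/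
theorem centralizer_compl {M : Subgroup G} (hM : IsCoatom M) {x : G} (hx : x ∈ sigmaCore M) (hx1 : x ≠ 1) :
    IsComplIn (M ⊓ centralizer ({x} : Set G)) (supportR M x) (centralizer ({x} : Set G)) ∧
      centralizer ({x} : Set G) ≤ normalizer (supportR M x : Set G) := by
  rcases supportR_cases hG hM hx hx1 with ⟨hle, h⟩ | ⟨N, hN, h⟩
  · rw [h, inf_eq_right.mpr hle]
    refine ⟨⟨le_rfl, bot_le, inf_bot_eq _, fun m hm => ⟨m, hm, 1, one_mem _, (mul_one m).symm⟩⟩, fun c _ => ?_⟩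
    exact mem_normalizer_of_conj_smul (Subgroup.smul_bot _)
  rw [h]
  have hxN : x ∈ N := hN.le (Subgroup.mem_centralizer_singleton_iff.mpr rfl)
  refine ⟨⟨inf_le_right, inf_le_right, le_bot_iff.mp ?_, fun n hn => ?_⟩, fun c hc => mem_normalizer_of_conj_smul ?_⟩
  · exact (le_inf (inf_le_right.trans inf_le_left) (inf_le_left.trans inf_le_left)).trans hN.bot.le
  · obtain ⟨e, he, b, hb, rfl⟩ := hN.compl.2.2.2 n (hN.le hn)
    have hxb : x * b * x⁻¹ ∈ sigmaCore N :=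
      (Subgroup.mem_normalizer_iff.mp (le_normalizer_sigmaCore hG hN.hN le_rfl hxN) b).mp hb
    have hxe : x * e * x⁻¹ ∈ M ⊓ N := ⟨M.mul_mem (M.mul_mem (piCoreOf_le _ _ hx) he.1) (M.inv_mem (piCoreOf_le _ _ hx)),
      N.mul_mem (N.mul_mem hxN he.2) (N.inv_mem hxN)⟩
    have h1 : x * e * x⁻¹ * (x * b * x⁻¹) = e * b := by
      rw [show x * e * x⁻¹ * (x * b * x⁻¹) = x * (e * b) * x⁻¹ by group,
        ← Subgroup.mem_centralizer_singleton_iff.mp hn, mul_inv_cancel_right]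
    have h2 : e⁻¹ * (x * e * x⁻¹) = b * (x * b * x⁻¹)⁻¹ := by
      rw [eq_mul_inv_iff_mul_eq, mul_assoc, h1, inv_mul_cancel_left]
    have h3 : e⁻¹ * (x * e * x⁻¹) ∈ (M ⊓ N) ⊓ sigmaCore N :=
      ⟨(M ⊓ N).mul_mem ((M ⊓ N).inv_mem he) hxe, h2 ▸ (sigmaCore N).mul_mem hb ((sigmaCore N).inv_mem hxb)⟩
    rw [hN.compl.2.2.1, Subgroup.mem_bot] at h3
    have hec : e ∈ centralizer ({x} : Set G) := by
      rw [Subgroup.mem_centralizer_singleton_iff]
      exact (mul_inv_eq_iff_eq_mul.mp (inv_mul_eq_one.mp h3).symm).symm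
    refine ⟨e, ⟨he.1, hec⟩, b, ⟨hb, ?_⟩, rfl⟩
    have := (centralizer ({x} : Set G)).mul_mem ((centralizer ({x} : Set G)).inv_mem hec) hn
    rwa [inv_mul_cancel_left] at this
  · rw [Subgroup.smul_inf, conj_smul_eq_of_mem_normalizer (le_normalizer_sigmaCore hG hN.hN le_rfl (hN.le hc)),
      smul_eq_self_of_mem hc]

theorem SigmaOver.transfer {M : Subgroup G} (hM : IsCoatom M) {x : G} (hx : x ∈ sigmaCore M) (hx1 : x ≠ 1)
    {g : G} (hg : x ∈ sigmaCore (MulAut.conj g • M)) : supportR (MulAut.conj g • M) x = supportR M x := by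
  obtain ⟨c, hc, hgc, hle, -⟩ := conj_of_mem hG hM hx hx1 (piCoreOf_le _ _ hg)
  rcases supportR_cases hG hM hx hx1 with ⟨hCM, h⟩ | ⟨N, hN, h⟩
  · rw [hle hCM]
  rcases supportR_cases hG (conj_isCoatom hM g) hg hx1 with ⟨hCM', -⟩ | ⟨N', hN', h'⟩
  · refine absurd ?_ (hN.not_le hG hM)
    rw [hgc] at hCM'
    have h2 := conj_smul_mono hCM' c⁻¹
    rwa [smul_eq_self_of_mem (inv_mem hc), CfsgLib.conj_smul_mul, inv_mul_cancel, map_one, one_smul] at h2
  · rw [h, h', hN.uniq N' hN'.hN hN'.le]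

theorem supportR_conj {M : Subgroup G} (hM : IsCoatom M) {x : G} (hx : x ∈ sigmaCore M) (hx1 : x ≠ 1) (g : G) :
    supportR (MulAut.conj g • M) (g * x * g⁻¹) = MulAut.conj g • supportR M x := by
  have hgx : g * x * g⁻¹ ∈ sigmaCore (MulAut.conj g • M) := by
    rw [sigmaCore_conj hG hM, CfsgLib.mem_conj_smul_iff]
    simpa [mul_assoc] using hx
  have hgx1 : g * x * g⁻¹ ≠ 1 := fun e => hx1 (conj_eq_one_iff.mp e)
  rcases supportR_cases hG hM hx hx1 with ⟨hCM, h⟩ | ⟨N, hN, h⟩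
  · rw [h, Subgroup.smul_bot, supportR_eq_bot hG (conj_isCoatom hM g)]
    rw [← conj_centralizer_singleton]
    exact conj_smul_mono hCM g
  rcases supportR_cases hG (conj_isCoatom hM g) hgx hgx1 with ⟨hCM', -⟩ | ⟨N', hN', h'⟩
  · refine absurd ?_ (hN.not_le hG hM)
    rw [← conj_centralizer_singleton] at hCM'
    have h2 := conj_smul_mono hCM' g⁻¹
    rwa [CfsgLib.conj_smul_mul, CfsgLib.conj_smul_mul, inv_mul_cancel, map_one, one_smul, one_smul] at h2
  have hNN : N' = MulAut.conj g • N :=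
    (hN'.uniq _ (conj_isCoatom hN.hN g) (by rw [← conj_centralizer_singleton]; exact conj_smul_mono hN.le g)).symm
  rw [h, h', hNN, Subgroup.smul_inf, conj_centralizer_singleton, sigmaCore_conj hG hN.hN]

theorem card_conjugates {M : Subgroup G} (hM : IsCoatom M) :
    Nat.card {H : Subgroup G // ∃ g : G, MulAut.conj g • M = H} = M.index := by
  have hfg : ∀ a b : G, MulAut.conj a • M = MulAut.conj b • M ↔ a⁻¹ * b ∈ M := fun a b => by
    constructor
    · intro h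
      rw [← normalizer_coatom hG hM]
      refine mem_normalizer_of_conj_smul ?_
      rw [← CfsgLib.conj_smul_mul, ← h, CfsgLib.conj_smul_mul, inv_mul_cancel, map_one, one_smul]
    · intro h
      rw [show b = a * (a⁻¹ * b) by group, ← CfsgLib.conj_smul_mul, smul_eq_self_of_mem h]
  refine (Nat.card_congr (Equiv.ofBijective
    (fun c : G ⧸ M => (⟨MulAut.conj c.out • M, c.out, rfl⟩ : {H : Subgroup G // ∃ g : G, MulAut.conj g • M = H}))
    ⟨fun a b e => ?_, fun H => ?_⟩)).symm.trans (Subgroup.index_eq_card M).symm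
  · have := (hfg _ _).mp (congrArg Subtype.val e)
    rw [← QuotientGroup.out_eq' a, ← QuotientGroup.out_eq' b]
    exact QuotientGroup.eq.mpr this
  · obtain ⟨H, g, rfl⟩ := H
    refine ⟨(g : G ⧸ M), Subtype.ext ((hfg _ _).mpr ?_)⟩
    exact QuotientGroup.eq.mp (QuotientGroup.out_eq' _)

/-- The elements `x r`, `x` in some conjugate of `M_σ^#`, `r ∈ R(x)`. -/
theorem mem_tildeOf_iff {M : Subgroup G} (hM : IsCoatom M) (z : G) :
    z ∈ tildeOf M ((sigmaCore M : Set G) \ {1}) ↔ ∃ H : Subgroup G, (∃ g : G, MulAut.conj g • M = H) ∧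
      ∃ x ∈ sigmaCore H, x ≠ 1 ∧ ∃ r ∈ supportR H x, z = x * r := by
  constructor
  · rintro ⟨a, ⟨ha, ha1⟩, r, hr, y, rfl⟩
    refine ⟨MulAut.conj y • M, ⟨y, rfl⟩, y * a * y⁻¹, ?_, fun e => ha1 (conj_eq_one_iff.mp e), y * r * y⁻¹, ?_, by group⟩
    · rw [sigmaCore_conj hG hM, CfsgLib.mem_conj_smul_iff]
      simpa [mul_assoc] using ha
    · rw [supportR_conj hG hM ha ha1, CfsgLib.mem_conj_smul_iff]
      simpa [mul_assoc] using hr
  · rintro ⟨H, ⟨y, rfl⟩, x, hx, hx1, r, hr, rfl⟩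
    have ha : y⁻¹ * x * y ∈ sigmaCore M := by
      rw [sigmaCore_conj hG hM, CfsgLib.mem_conj_smul_iff] at hx
      simpa [mul_assoc] using hx
    have ha1 : y⁻¹ * x * y ≠ 1 := fun e => hx1 (by
      have := congrArg (fun t => y * t * y⁻¹) e
      simpa [mul_assoc] using this)
    refine ⟨y⁻¹ * x * y, ⟨ha, ha1⟩, y⁻¹ * r * y, ?_, y, by group⟩
    have h := supportR_conj hG hM ha ha1 y
    rw [show y * (y⁻¹ * x * y) * y⁻¹ = x by group] at h
    rw [h, CfsgLib.mem_conj_smul_iff] at hr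
    simpa [mul_assoc] using hr

theorem tildeOf_disjoint {M N : Subgroup G} (hM : IsCoatom M) (hN : IsCoatom N)
    (hn : ∀ g : G, N ≠ MulAut.conj g • M) :
    tildeOf M ((sigmaCore M : Set G) \ {1}) ∩ tildeOf N ((sigmaCore N : Set G) \ {1}) = ∅ := by
  refine Set.eq_empty_iff_forall_notMem.mpr fun z hz => ?_
  obtain ⟨⟨H, ⟨g, rfl⟩, x, hx, hx1, r, hr, rfl⟩, h2⟩ := And.intro ((mem_tildeOf_iff hG hM z).mp hz.1)
    ((mem_tildeOf_iff hG hN z).mp hz.2)
  obtain ⟨H', ⟨g', rfl⟩, y, hy, hy1, s, hs, he⟩ := h2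
  have hxy := support_mul_inj hG (conj_isCoatom hM g) (conj_isCoatom hN g') hx hx1 hy hy1 hr hs he
  subst hxy
  obtain ⟨q, hq, hqd⟩ := exists_prime_dvd_order hx1
  haveI := Fact.mk hq
  have h1 : q ∈ sigma M := by
    rw [← sigma_conj (M := M) g]; exact order_sigma hG (conj_isCoatom hM g) hx q hq hqd
  have h2 : q ∈ sigma N := by
    rw [← sigma_conj (M := N) g']; exact order_sigma hG (conj_isCoatom hN g') hy q hq hqd
  obtain ⟨c, hc⟩ := sigma_disjointness hG hM hN h1 h2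
  exact hn c hc

theorem one_not_mem_tildeOf {M : Subgroup G} (hM : IsCoatom M) : (1 : G) ∉ tildeOf M ((sigmaCore M : Set G) \ {1}) := by
  intro h
  obtain ⟨H, ⟨g, rfl⟩, x, hx, hx1, r, hr, he⟩ := (mem_tildeOf_iff hG hM 1).mp h
  refine hx1 (eq_of_mul_eq_mul_pi (π := sigma (MulAut.conj g • M))
    (Subgroup.mem_centralizer_singleton_iff.mp (supportR_le_centralizer hG (conj_isCoatom hM g) hx hx1 hr)).symm
    (Commute.refl (1 : G)) (order_sigma hG (conj_isCoatom hM g) hx) ?_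
    (supportR_order hG (conj_isCoatom hM g) hx hx1 hr) ?_ (by rw [← he, one_mul]))
  all_goals simp only [orderOf_one]; exact fun p hp hd => absurd (Nat.dvd_one.mp hd) hp.ne_one

theorem ncard_tildeOf {M : Subgroup G} (hM : IsCoatom M) :
    Set.ncard (tildeOf M ((sigmaCore M : Set G) \ {1})) = (Nat.card (sigmaCore M) - 1) * M.index := by
  classical
  haveI := Fintype.ofFinite G
  set Ω := {H : Subgroup G // ∃ g : G, MulAut.conj g • M = H}
  haveI : Fintype Ω := Fintype.ofFinite _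
  set S := {x : G | x ≠ 1 ∧ ∃ H : Ω, x ∈ sigmaCore H.1}
  -- choose a conjugate through each element
  have hco : ∀ H : Ω, IsCoatom H.1 := fun H => by
    obtain ⟨g, hg⟩ := H.2
    exact hg ▸ conj_isCoatom hM g
  have hch : ∀ x : S, ∃ H : Ω, (x : G) ∈ sigmaCore H.1 := fun x => x.2.2
  choose base hbase using hch
  have hmap : ∀ (x : S) (r : G), r ∈ supportR (base x).1 x → (x : G) ∈ sigmaCore (MulAut.conj r • (base x).1) := by
    intro x r hr
    rw [sigmaCore_conj hG (hco _), CfsgLib.mem_conj_smul_iff]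
    have hc : Commute (x : G) r :=
      (Subgroup.mem_centralizer_singleton_iff.mp (supportR_le_centralizer hG (hco _) (hbase x) x.2.1 hr)).symm
    rw [mul_assoc, hc.eq, inv_mul_cancel_left]
    exact hbase x
  -- pairs
  have e1 : (Σ x : S, ↥(supportR (base x).1 x)) ≃ (Σ H : Ω, {x : G // x ∈ sigmaCore H.1 ∧ x ≠ 1}) := by
    refine Equiv.ofBijective (fun a => ⟨⟨MulAut.conj (a.2 : G) • (base a.1).1, by
      obtain ⟨g, hg⟩ := (base a.1).2
      exact ⟨(a.2 : G) * g, by rw [← CfsgLib.conj_smul_mul, hg]⟩⟩, (a.1 : G), hmap a.1 a.2 a.2.2, a.1.2.1⟩) ⟨?_, ?_⟩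
    · rintro ⟨x, r⟩ ⟨y, s⟩ e
      have hxy : x = y := Subtype.ext (congrArg (fun b => (b.2 : G)) e)
      subst hxy
      have hH : MulAut.conj (r : G) • (base x).1 = MulAut.conj (s : G) • (base x).1 := congrArg (fun b => b.1.1) e
      have hxs : (x : G) ∈ MulAut.conj (s : G) • (base x).1 := piCoreOf_le _ _ (hmap x s s.2)
      obtain ⟨r₀, -, hu⟩ := supportR_regular hG (hco _) (hbase x) x.2.1 hxs
      have : (r : G) = s := (hu r ⟨r.2, hH⟩).trans (hu s ⟨s.2, rfl⟩).symm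
      rw [Subtype.ext this]
    · rintro ⟨⟨H, hH⟩, x, hx, hx1⟩
      set x' : S := ⟨x, hx1, ⟨H, hH⟩, hx⟩
      obtain ⟨g, hg⟩ := hH
      obtain ⟨g₀, hg₀⟩ := (base x').2
      have hgH : H = MulAut.conj (g * g₀⁻¹) • (base x').1 := by
        rw [← hg₀, CfsgLib.conj_smul_mul, inv_mul_cancel_right, hg]
      have hxg : x ∈ MulAut.conj (g * g₀⁻¹) • (base x').1 := hgH ▸ piCoreOf_le _ _ hx
      obtain ⟨r, ⟨hr, hrH⟩, -⟩ := supportR_regular hG (hco _) (hbase x') hx1 hxg
      refine ⟨⟨x', r, hr⟩, ?_⟩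
      have hHe : (⟨MulAut.conj r • (base x').1, by
          exact ⟨r * g₀, by rw [← CfsgLib.conj_smul_mul, hg₀]⟩⟩ : Ω) = ⟨H, g, hg⟩ :=
        Subtype.ext (hrH.trans hgH.symm)
      refine Sigma.ext hHe ?_
      exact (Subtype.heq_iff_coe_eq (fun z => by dsimp only; rw [show MulAut.conj r • (base x').1 = H from hrH.trans hgH.symm])).mpr rfl
  have e2 : (Σ x : S, ↥(supportR (base x).1 x)) ≃ tildeOf M ((sigmaCore M : Set G) \ {1}) := by
    refine Equiv.ofBijective (fun a => ⟨(a.1 : G) * a.2, (mem_tildeOf_iff hG hM _).mpr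
      ⟨_, (base a.1).2, a.1, hbase a.1, a.1.2.1, a.2, a.2.2, rfl⟩⟩) ⟨?_, ?_⟩
    · rintro ⟨x, r⟩ ⟨y, s⟩ e
      have he : (x : G) * r = (y : G) * s := congrArg Subtype.val e
      have hxy : x = y := Subtype.ext (support_mul_inj hG (hco _) (hco _) (hbase x) x.2.1 (hbase y) y.2.1 r.2 s.2 he)
      subst hxy
      rw [Subtype.ext (mul_left_cancel he)]
    · rintro ⟨z, hz⟩
      obtain ⟨H, hH, x, hx, hx1, r, hr, rfl⟩ := (mem_tildeOf_iff hG hM z).mp hz
      set x' : S := ⟨x, hx1, ⟨H, hH⟩, hx⟩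
      obtain ⟨g, hg⟩ := hH
      obtain ⟨g₀, hg₀⟩ := (base x').2
      have hgH : H = MulAut.conj (g * g₀⁻¹) • (base x').1 := by
        rw [← hg₀, CfsgLib.conj_smul_mul, inv_mul_cancel_right, hg]
      have hr' : r ∈ supportR (base x').1 x := by
        rw [hgH] at hr hx
        rwa [SigmaOver.transfer hG (hco _) (hbase x') hx1 hx] at hr
      exact ⟨⟨x', r, hr'⟩, rfl⟩
  rw [← Nat.card_coe_set_eq, ← Nat.card_congr e2, Nat.card_congr e1, Nat.card_sigma]
  have hterm : ∀ H : Ω, Nat.card {x : G // x ∈ sigmaCore H.1 ∧ x ≠ 1} = Nat.card (sigmaCore M) - 1 := by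
    intro H
    obtain ⟨g, hg⟩ := H.2
    rw [← hg, sigmaCore_conj hG hM, ← CfsgLib.card_conj_smul g (sigmaCore M), Nat.card_eq_fintype_card,
      Fintype.card_subtype, Nat.card_eq_fintype_card, Fintype.card_subtype]
    rw [show (Finset.univ.filter fun x : G => x ∈ MulAut.conj g • sigmaCore M ∧ x ≠ 1) =
      (Finset.univ.filter fun x : G => x ∈ MulAut.conj g • sigmaCore M).erase 1 from by ext x; simp [and_comm]]
    rw [Finset.card_erase_of_mem (by simp)]
  rw [Finset.sum_congr rfl (fun H _ => hterm H), Finset.sum_const, smul_eq_mul, Finset.card_univ,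
    ← Nat.card_eq_fintype_card, card_conjugates hG hM, mul_comm]

end CfsgLib.MinSimpleOdd
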