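import Cfsg.Agent.Lib.MinSimpleOdd.Kappa
import Cfsg.Agent.Lib.MinSimpleOdd.SigmaTilde

/-!
The maximal subgroups over a fixed `Z = K K*` (B–G 14.7, first part).
-/

set_option autoImplicit false
set_option linter.unusedSectionVars false
set_option linter.style.haveILetI false
set_option maxHeartbeats 1000000

namespace CfsgLib.MinSimpleOdd

open Subgroup Cfsg
open scoped Pointwise commutatorElement IsMulCommutative

universe u
variable {G : Type u} [Group G] [Finite G]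

/-- A maximal subgroup `L` with `K_L K_L* = Z`. -/
def IsNode (Z L : Subgroup G) : Prop := ∃ K : Subgroup G, KappaData L K ∧ K ⊔ fixedCore L K = Z

/-- The elements of `Z` outside every `L_σ`. -/
def hatSet (Z : Subgroup G) : Set G := {z | z ∈ Z ∧ z ≠ 1 ∧ ∀ L : Subgroup G, IsNode Z L → z ∉ sigmaCore L}

variable (hG : IsMinSimpleOddOrder G) {M K : Subgroup G}

include hG

theorem KappaData.sigma' (d : KappaData M K) {r : ℕ} (hr : r.Prime) (hd : r ∣ Nat.card K) : r ∉ sigma M :=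
  (d.hall.2.1 r hr hd).2.2.1

theorem KappaData.inf_bot (d : KappaData M K) : K ⊓ fixedCore M K = ⊥ :=
  le_bot_iff.mp ((inf_le_inf_left K inf_le_left).trans (decomp_inf hG d.hM d.hall).le)

theorem KappaData.sup_le_M (d : KappaData M K) : K ⊔ fixedCore M K ≤ M :=
  sup_le d.hall.1 (inf_le_left.trans (piCoreOf_le _ _))

theorem KappaData.fixed_centralizes (d : KappaData M K) : K ≤ centralizer (fixedCore M K : Set G) :=
  Subgroup.le_centralizer_iff.mp inf_le_right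

theorem KappaData.compl (d : KappaData M K) : IsComplIn K (fixedCore M K) (K ⊔ fixedCore M K) :=
  complIn_sup ((d.fixed_centralizes hG).trans (Subgroup.centralizer_le_normalizer _)) (d.inf_bot hG)

theorem KappaData.inter_core (d : KappaData M K) : (K ⊔ fixedCore M K) ⊓ sigmaCore M = fixedCore M K := by
  refine le_antisymm (fun z hz => ?_) (le_inf le_sup_right inf_le_left)
  obtain ⟨k, hk, c, hc, rfl⟩ := (d.compl hG).2.2.2 z hz.1
  have hk' : k ∈ sigmaCore M := by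
    have := (sigmaCore M).mul_mem hz.2 ((sigmaCore M).inv_mem hc.1)
    rwa [mul_inv_cancel_right] at this
  have hk1 : k = 1 := Subgroup.mem_bot.mp (decomp_inf hG d.hM d.hall ▸ (⟨hk, hk'⟩ : k ∈ K ⊓ sigmaCore M))
  rw [hk1, one_mul]
  exact hc

theorem KappaData.line_in_K (d : KappaData M K) {s : ℕ} [Fact s.Prime] {X : Subgroup G}
    (hX : Nat.card X = s) (hXZ : X ≤ K ⊔ fixedCore M K) (hs : s ∉ sigma M) : X ≤ K := by
  intro x hx
  obtain ⟨k, hk, c, hc, rfl⟩ := (d.compl hG).2.2.2 x (hXZ hx)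
  have hcomm : Commute k c := ((d.fixed_centralizes hG) hk c hc).symm
  have h1 : (k * c) ^ s = 1 := (elementary_of_card_prime hX).2 _ hx
  rw [hcomm.mul_pow] at h1
  have h2 : c ^ s ∈ K ⊓ fixedCore M K :=
    ⟨by rw [eq_inv_of_mul_eq_one_right h1]; exact K.inv_mem (K.pow_mem hk _), (fixedCore M K).pow_mem hc _⟩
  rw [d.inf_bot hG, Subgroup.mem_bot] at h2
  have hc1 : c = 1 := by
    by_contra hne
    exact hs (order_sigma hG d.hM hc.1 s Fact.out (orderOf_eq_prime h2 hne ▸ dvd_rfl))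
  rw [hc1, mul_one]
  exact hk

theorem KappaData.exists_partner (d : KappaData M K) :
    ∃ (t : ℕ) (Y L : Subgroup G), t.Prime ∧ Y ≤ K ∧ Nat.card Y = t ∧ IsCoatom L ∧ normalizer (Y : Set G) ≤ L := by
  obtain ⟨t, ht, Y, hYK, hY⟩ := exists_prime_subgroup d.ne
  haveI := Fact.mk ht
  obtain ⟨L, hL, hNL⟩ := exists_coatom_ge (normalizer_ne_top hG (ne_bot_of_card hY)
    (pgroup_ne_top hG (isPGroup_of_card hY)))
  exact ⟨t, Y, L, ht, hYK, hY, hL, hNL⟩

/-- A line of `K*` is in `κ` of every partner, and its normaliser lies in `M`. -/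
theorem KappaData.fixed_line (d : KappaData M K) {s t : ℕ} [Fact s.Prime] [Fact t.Prime] {X Y L : Subgroup G}
    (hX : Nat.card X = s) (hXC : X ≤ fixedCore M K) (hYK : Y ≤ K) (hY : Nat.card Y = t) (hL : IsCoatom L)
    (hNL : normalizer (Y : Set G) ≤ L) :
    s ∈ kappa L ∧ X ≤ L ∧ normalizer (X : Set G) ≤ M ∧
      ∀ L' : Subgroup G, IsCoatom L' → normalizer (X : Set G) ≤ L' → L' = M := by
  obtain ⟨hnc, htL, hmeet⟩ := d.meet t Y L Fact.out hYK hY hL hNL
  have hYs : Y ≤ sigmaCore L :=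
    pgroup_le_sigmaCore hG hL htL (isPGroup_of_card hY) (Subgroup.le_normalizer.trans hNL)
  have hYM : Y ≤ sigmaCore L ⊓ M := le_inf hYs (hYK.trans d.hall.1)
  have hXL : X ≤ L := (hXC.trans (le_sup_right.trans hmeet.ge)).trans inf_le_right
  obtain ⟨h13, hNX⟩ := meet_data hG d.hM hL hnc (fun e => ne_bot_of_card hY (le_bot_iff.mp (e ▸ hYM))) hX
    (le_inf (hXC.trans inf_le_left) hXL)
  have hbad : sigmaCore L ⊓ centralizer (X : Set G) ≠ ⊥ := fun e => ne_bot_of_card hY (le_bot_iff.mp (e ▸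
    le_inf hYs ((hYK.trans (d.fixed_centralizes hG)).trans (Subgroup.centralizer_le (SetLike.coe_subset_coe.mpr hXC)))))
  refine ⟨kappa_of_bad hG hL h13 hX hXL hbad, hXL, hNX, fun L' hL' hN' => ?_⟩
  exact eq_of_sigma hG d.hM hL' ((sigmaCore_hall hG d.hM).1.2.1 s Fact.out
    (hX ▸ Subgroup.card_dvd_of_le (hXC.trans inf_le_left))) (bad_sigma hG hL hL' h13 hX hXL hbad hN')
    (hXC.trans (inf_le_left.trans (piCoreOf_le _ _))) hX ((Subgroup.centralizer_le_normalizer _).trans hN')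

theorem KappaData.self_node (d : KappaData M K) : IsNode (K ⊔ fixedCore M K) M := ⟨K, d, rfl⟩

theorem KappaData.partner_node (d : KappaData M K) {t : ℕ} [Fact t.Prime] {Y L : Subgroup G} (hYK : Y ≤ K)
    (hY : Nat.card Y = t) (hL : IsCoatom L) (hNL : normalizer (Y : Set G) ≤ L) :
    IsNode (K ⊔ fixedCore M K) L := by
  obtain ⟨s, hs, X, hXC, hX⟩ := exists_prime_subgroup d.fixed_ne
  haveI := Fact.mk hs
  obtain ⟨hκ, hXL, hNX, -⟩ := d.fixed_line hG hX hXC hYK hY hL hNL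
  obtain ⟨K', hK', hXK'⟩ := exists_hall_ge (π := kappa L) (solvable_of_ne_top hG hL.1) hXL (pi_of_card hX hκ)
  have d' := kappaData_of_hall hG hL hK' fun e => ne_bot_of_card hX (le_bot_iff.mp (e ▸ hXK'))
  obtain ⟨-, -, hmeet'⟩ := d'.meet s X M hs hXK' hX d.hM hNX
  obtain ⟨-, -, hmeet⟩ := d.meet t Y L Fact.out hYK hY hL hNL
  exact ⟨K', d', by rw [← hmeet', inf_comm, hmeet]⟩

/-- Every line of `Z` determines a node. -/
theorem KappaData.line_node (d : KappaData M K) {s : ℕ} [Fact s.Prime] {X L : Subgroup G} (hX : Nat.card X = s)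
    (hXZ : X ≤ K ⊔ fixedCore M K) (hL : IsCoatom L) (hNL : normalizer (X : Set G) ≤ L) :
    IsNode (K ⊔ fixedCore M K) L ∧ X ≤ sigmaCore L ∧ (X ≤ sigmaCore M → L = M) := by
  by_cases hs : s ∈ sigma M
  · have hXC : X ≤ fixedCore M K :=
      (le_inf hXZ (pgroup_le_sigmaCore hG d.hM hs (isPGroup_of_card hX) (hXZ.trans (d.sup_le_M hG)))).trans
        (d.inter_core hG).le
    obtain ⟨t, Y, L₀, ht, hYK, hY, hL₀, hNL₀⟩ := d.exists_partner hG
    haveI := Fact.mk ht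
    have hLM : L = M := (d.fixed_line hG hX hXC hYK hY hL₀ hNL₀).2.2.2 L hL hNL
    subst hLM
    exact ⟨d.self_node hG, hXC.trans inf_le_left, fun _ => rfl⟩
  · have hXK := d.line_in_K hG hX hXZ hs
    refine ⟨d.partner_node hG hXK hX hL hNL, ?_, fun h => absurd ?_ hs⟩
    · exact pgroup_le_sigmaCore hG hL (d.meet s X L Fact.out hXK hX hL hNL).2.1 (isPGroup_of_card hX)
        (Subgroup.le_normalizer.trans hNL)
    · exact (sigmaCore_hall hG d.hM).1.2.1 s Fact.out (hX ▸ Subgroup.card_dvd_of_le h)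

theorem KappaData.core_line (d : KappaData M K) {s : ℕ} [Fact s.Prime] {X : Subgroup G} (hX : Nat.card X = s)
    (hXZ : X ≤ K ⊔ fixedCore M K) (hXM : X ≤ sigmaCore M) : normalizer (X : Set G) ≤ M := by
  obtain ⟨L, hL, hNL⟩ := exists_coatom_ge (normalizer_ne_top hG (ne_bot_of_card hX)
    (pgroup_ne_top hG (isPGroup_of_card hX)))
  exact (d.line_node hG hX hXZ hL hNL).2.2 hXM ▸ hNL

theorem KappaData.exists_other (d : KappaData M K) :
    ∃ L : Subgroup G, IsNode (K ⊔ fixedCore M K) L ∧ L ≠ M := by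
  obtain ⟨t, Y, L, ht, hYK, hY, hL, hNL⟩ := d.exists_partner hG
  haveI := Fact.mk ht
  exact ⟨L, d.partner_node hG hYK hY hL hNL, fun e =>
    (d.meet t Y L ht hYK hY hL hNL).1 1 (by rw [map_one, one_smul, e])⟩

variable {Z L L' : Subgroup G}

theorem IsNode.coatom (h : IsNode Z L) : IsCoatom L := h.choose_spec.1.hM

theorem IsNode.le (h : IsNode Z L) : Z ≤ L := by
  obtain ⟨K', d', rfl⟩ := h
  exact d'.sup_le_M hG

theorem IsNode.line (h : IsNode Z L) {s : ℕ} [Fact s.Prime] {X : Subgroup G} (hX : Nat.card X = s) (hXZ : X ≤ Z) :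
    ∃ L' : Subgroup G, IsNode Z L' ∧ X ≤ sigmaCore L' := by
  obtain ⟨K', d', rfl⟩ := h
  obtain ⟨L', hL', hN⟩ := exists_coatom_ge (normalizer_ne_top hG (ne_bot_of_card hX)
    (pgroup_ne_top hG (isPGroup_of_card hX)))
  exact ⟨L', (d'.line_node hG hX hXZ hL' hN).1, (d'.line_node hG hX hXZ hL' hN).2.1⟩

theorem IsNode.normalizer_le (h : IsNode Z L) {s : ℕ} [Fact s.Prime] {X : Subgroup G} (hX : Nat.card X = s)
    (hXZ : X ≤ Z) (hXL : X ≤ sigmaCore L) : normalizer (X : Set G) ≤ L := by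
  obtain ⟨K', d', rfl⟩ := h
  exact d'.core_line hG hX hXZ hXL

theorem IsNode.exists_core_line (h : IsNode Z L) :
    ∃ (s : ℕ) (X : Subgroup G), s.Prime ∧ X ≤ Z ∧ X ≤ sigmaCore L ∧ Nat.card X = s := by
  obtain ⟨K', d', rfl⟩ := h
  obtain ⟨s, hs, X, hXC, hX⟩ := exists_prime_subgroup d'.fixed_ne
  exact ⟨s, X, hs, hXC.trans le_sup_right, hXC.trans inf_le_left, hX⟩

/-- Distinct nodes are not conjugate and meet in `Z`. -/
theorem IsNode.pair (h : IsNode Z L) (h' : IsNode Z L') (hne : L' ≠ L) :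
    (∀ g : G, L' ≠ MulAut.conj g • L) ∧ L ⊓ L' = Z := by
  obtain ⟨s, X, hs, hXZ, hXL', hX⟩ := IsNode.exists_core_line hG h'
  haveI := Fact.mk hs
  obtain ⟨K', d, rfl⟩ := h
  have hN : normalizer (X : Set G) ≤ L' := IsNode.normalizer_le hG h' hX hXZ hXL'
  by_cases hsL : s ∈ sigma L
  · have hXL : X ≤ sigmaCore L := pgroup_le_sigmaCore hG d.hM hsL (isPGroup_of_card hX) (hXZ.trans (d.sup_le_M hG))
    exact absurd ((d.line_node hG hX hXZ (IsNode.coatom hG h') hN).2.2 hXL) hne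
  · obtain ⟨h1, -, h2⟩ := d.meet s X L' hs (d.line_in_K hG hX hXZ hsL) hX (IsNode.coatom hG h') hN
    exact ⟨h1, h2⟩

theorem IsNode.exists_other (h : IsNode Z L) : ∃ L' : Subgroup G, IsNode Z L' ∧ L' ≠ L := by
  obtain ⟨K', d', rfl⟩ := h
  exact d'.exists_other hG

theorem IsNode.core_disjoint (h : IsNode Z L) (h' : IsNode Z L') (hne : L' ≠ L) :
    sigmaCore L ⊓ sigmaCore L' = ⊥ :=
  sigmaCore_inf_bot hG (IsNode.coatom hG h) (IsNode.coatom hG h') (IsNode.pair hG h h' hne).1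

/-- A conjugate in `Z` of an element of `Ẑ` comes from conjugation in `Z`. -/
theorem IsNode.hat_conj (h : IsNode Z L) {z : G} (hz : z ∈ hatSet Z) {g : G} (hg : g * z * g⁻¹ ∈ Z) : g ∈ Z := by
  obtain ⟨hzZ, hz1, hout⟩ := hz
  have key : ∀ {L₁ : Subgroup G}, IsNode Z L₁ → ∀ {q : ℕ} [Fact q.Prime] {X : Subgroup G}, Nat.card X = q →
      X ≤ zpowers z → X ≤ sigmaCore L₁ → g ∈ L₁ := by
    intro L₁ h₁ q _ X hX hXz hXL
    have hL₁ := IsNode.coatom hG h₁
    have hqL : q ∈ sigma L₁ := (sigmaCore_hall hG hL₁).1.2.1 q Fact.out (hX ▸ Subgroup.card_dvd_of_le hXL)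
    have hXZ : X ≤ Z := hXz.trans (Subgroup.zpowers_le.mpr hzZ)
    have hgX : MulAut.conj g • X ≤ L₁ := by
      refine (conj_smul_mono hXz g).trans (le_trans ?_ (IsNode.le hG h₁))
      intro y hy
      rw [CfsgLib.mem_conj_smul_iff] at hy
      obtain ⟨i, hi⟩ := Subgroup.mem_zpowers_iff.mp hy
      have : (g * z * g⁻¹) ^ i = y := by rw [conj_zpow, hi]; simp [mul_assoc]
      exact this ▸ Z.zpow_mem hg i
    obtain ⟨P, hPM, hP, hPi, hPN⟩ := exists_sigma_sylow hqL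
    obtain ⟨m, hm, c, hc, he⟩ := conj_eq_mul hG hL₁ hPM hP hPi hPN (isPGroup_of_card hX) (ne_bot_of_card hX)
      (hXL.trans (piCoreOf_le _ _)) hgX
    exact he ▸ L₁.mul_mem hm ((IsNode.normalizer_le hG h₁ hX hXZ hXL) (Subgroup.centralizer_le_normalizer _ hc))
  obtain ⟨q, hq, hqd⟩ := exists_prime_dvd_order hz1
  haveI := Fact.mk hq
  obtain ⟨X, hX, hXz, -⟩ := exists_line_of_element hqd
  obtain ⟨L₁, h₁, hXL₁⟩ := IsNode.line hG h hX (hXz.trans (Subgroup.zpowers_le.mpr hzZ))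
  obtain ⟨r, hr, hrd, hrL⟩ : ∃ r : ℕ, r.Prime ∧ r ∣ orderOf z ∧ r ∉ sigma L₁ := by
    by_contra hall
    push Not at hall
    exact hout L₁ h₁ (mem_sigmaCore_of_order hG (IsNode.coatom hG h₁) (IsNode.le hG h₁ hzZ) hall)
  haveI := Fact.mk hr
  obtain ⟨Y, hY, hYz, -⟩ := exists_line_of_element hrd
  obtain ⟨L₂, h₂, hYL₂⟩ := IsNode.line hG h hY (hYz.trans (Subgroup.zpowers_le.mpr hzZ))
  have hne : L₂ ≠ L₁ := fun e =>
    hrL (e ▸ (sigmaCore_hall hG (IsNode.coatom hG h₂)).1.2.1 r hr (hY ▸ Subgroup.card_dvd_of_le hYL₂))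
  exact (IsNode.pair hG h₁ h₂ hne).2.le ⟨key h₁ hX hXz hXL₁, key h₂ hY hYz hYL₂⟩

/-- `Ẑ` does not meet the sets `x R(x)`. -/
theorem IsNode.hat_not_tilde (h : IsNode Z L) {z : G} (hz : z ∈ hatSet Z) (g : G) :
    g * z * g⁻¹ ∉ tildeOf L ((sigmaCore L : Set G) \ {1}) := by
  intro hmem
  obtain ⟨hzZ, hz1, hout⟩ := hz
  have hzL := hout L h
  obtain ⟨K', d, rfl⟩ := h
  have hL := d.hM
  obtain ⟨H, ⟨a, rfl⟩, x, hx, hx1, r, hr, he⟩ := (mem_tildeOf_iff hG hL _).mp hmem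
  obtain ⟨k, hk, c, hc, rfl⟩ := (d.compl hG).2.2.2 z hzZ
  have hkc : Commute k c := ((d.fixed_centralizes hG) hk c hc).symm
  have hcσ : ∀ p : ℕ, p.Prime → p ∣ orderOf (g * c * g⁻¹) → p ∈ sigma L := fun p hp hd => by
    rw [orderOf_conj] at hd; exact order_sigma hG hL hc.1 p hp hd
  have hkσ : ∀ p : ℕ, p.Prime → p ∣ orderOf (g * k * g⁻¹) → p ∉ sigma L := fun p hp hd => by
    rw [orderOf_conj] at hd; exact d.sigma' hG hp (hd.trans (Subgroup.orderOf_dvd_natCard _ hk))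
  have hxr : Commute x r :=
    (Subgroup.mem_centralizer_singleton_iff.mp (supportR_le_centralizer hG (conj_isCoatom hL a) hx hx1 hr)).symm
  have hxc : x = g * c * g⁻¹ := by
    refine eq_of_mul_eq_mul_pi hxr (SemiconjBy.eq ?_ : g * c * g⁻¹ * (g * k * g⁻¹) = g * k * g⁻¹ * (g * c * g⁻¹))
      (fun p hp hd => ?_) hcσ (fun p hp hd => ?_) hkσ ?_
    · exact hkc.symm.conj g
    · rw [← sigma_conj (M := L) a]; exact order_sigma hG (conj_isCoatom hL a) hx p hp hd
    · rw [← sigma_conj (M := L) a]; exact supportR_order hG (conj_isCoatom hL a) hx hx1 hr p hp hd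
    · rw [← he, hkc.eq]; group
  have hc1 : c ≠ 1 := fun e => hx1 (by rw [hxc, e]; group)
  obtain ⟨q, hq, hqd⟩ := exists_prime_dvd_order hc1
  haveI := Fact.mk hq
  obtain ⟨X, hX, hXc, hCX⟩ := exists_line_of_element hqd
  have hXfix : X ≤ fixedCore L K' := hXc.trans (Subgroup.zpowers_le.mpr hc)
  have hcL : centralizer ({c} : Set G) ≤ L := hCX.trans ((Subgroup.centralizer_le_normalizer _).trans
    (d.core_line hG hX (hXfix.trans le_sup_right) (hXfix.trans inf_le_left)))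
  have hxgL : x ∈ sigmaCore (MulAut.conj g • L) := by
    rw [sigmaCore_conj hG hL, CfsgLib.mem_conj_smul_iff, hxc]
    simpa [mul_assoc] using hc.1
  have hCx : centralizer ({x} : Set G) ≤ MulAut.conj g • L := by
    rw [hxc, ← conj_centralizer_singleton]
    exact conj_smul_mono hcL g
  have hag : MulAut.conj a • L = MulAut.conj g • L := by
    obtain ⟨-, -, -, hle, -⟩ := conj_of_mem hG (conj_isCoatom hL g) hxgL hx1 (g := a * g⁻¹)
      (by rw [CfsgLib.conj_smul_mul, inv_mul_cancel_right]; exact piCoreOf_le _ _ hx)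
    rw [CfsgLib.conj_smul_mul, inv_mul_cancel_right] at hle
    exact hle hCx
  rw [hag, supportR_eq_bot hG (conj_isCoatom hL g) hCx, Subgroup.mem_bot] at hr
  rw [hr, mul_one, hxc] at he
  have hk1 : k = 1 := by
    have h1 := mul_left_cancel (mul_right_cancel he)
    exact mul_eq_right.mp h1
  exact hzL (by rw [hk1, one_mul]; exact hc.1)

end CfsgLib.MinSimpleOdd
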