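import Cfsg.Agent.Lib.MinSimpleOdd.KappaNodes
import Cfsg.Agent.S1446

/-!
The main theorem of B–G §14: the nodes come in pairs, and `K` is cyclic.
-/

set_option autoImplicit false
set_option linter.unusedSectionVars false
set_option linter.style.haveILetI false
set_option maxHeartbeats 1000000

namespace CfsgLib.MinSimpleOdd

open Subgroup Cfsg
open scoped Pointwise commutatorElement IsMulCommutative

universe u
variable {G : Type u} [Group G] [Finite G]

variable (hG : IsMinSimpleOddOrder G) {M K : Subgroup G}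

include hG

/-- The counting argument: not every node is the product of `L_σ` and `K_L`. -/
theorem KappaData.exists_node_ne (d : KappaData M K) :
    ∃ L : Subgroup G, IsNode (K ⊔ fixedCore M K) L ∧
      Nat.card L * Nat.card ↥((K ⊔ fixedCore M K) ⊓ sigmaCore L) ≠
        Nat.card (sigmaCore L) * Nat.card ↥(K ⊔ fixedCore M K) := by
  classical
  by_contra hall
  push Not at hall
  have hMnode : IsNode (K ⊔ fixedCore M K) M := d.self_node hG
  set Z := K ⊔ fixedCore M K with hZ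
  haveI := Fintype.ofFinite G
  haveI : Fintype (Subgroup G) := Fintype.ofFinite _
  set S : Finset (Subgroup G) := Finset.univ.filter (IsNode Z) with hS
  have hmem : ∀ {L : Subgroup G}, L ∈ S ↔ IsNode Z L := fun {L} => by simp [hS]
  let J : Subgroup G → Finset G := fun L =>
    (Finset.univ.filter fun x : G => x ∈ Z ⊓ sigmaCore L).erase 1
  let T : Finset G := Finset.univ.filter fun x : G => x ∈ hatSet Z
  have hcardJ : ∀ L : Subgroup G, (J L).card + 1 = Nat.card ↥(Z ⊓ sigmaCore L) := fun L => by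
    rw [Nat.card_eq_fintype_card, Fintype.card_subtype]
    exact Finset.card_erase_add_one (Finset.mem_filter.mpr ⟨Finset.mem_univ _, one_mem _⟩)
  have hJdisj : (S : Set (Subgroup G)).PairwiseDisjoint J := fun L hL L' hL' hne => by
    refine Finset.disjoint_left.mpr fun x hx hx' => ?_
    simp only [J, Finset.mem_erase, Finset.mem_filter, Finset.mem_univ, true_and] at hx hx'
    refine hx.1 (Subgroup.mem_bot.mp ?_)
    rw [← IsNode.core_disjoint hG (hmem.mp hL) (hmem.mp hL') (Ne.symm hne)]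
    exact ⟨hx.2.2, hx'.2.2⟩
  have hZcard : Nat.card Z = T.card + (∑ L ∈ S, (J L).card) + 1 := by
    rw [← Finset.card_biUnion hJdisj, Nat.card_eq_fintype_card, Fintype.card_subtype]
    have hdis : Disjoint T (S.biUnion J) := by
      refine Finset.disjoint_left.mpr fun x hx hx' => ?_
      obtain ⟨L, hL, hxJ⟩ := Finset.mem_biUnion.mp hx'
      simp only [J, T, Finset.mem_erase, Finset.mem_filter, Finset.mem_univ, true_and] at hx hxJ
      exact hx.2.2 L (hmem.mp hL) hxJ.2.2
    rw [← Finset.card_union_of_disjoint hdis]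
    have h1 : (1 : G) ∉ T ∪ S.biUnion J := by
      intro h
      rcases Finset.mem_union.mp h with h | h
      · simp only [T, Finset.mem_filter] at h
        exact h.2.2.1 rfl
      · obtain ⟨L, -, hxJ⟩ := Finset.mem_biUnion.mp h
        simp [J] at hxJ
    rw [← Finset.card_insert_of_notMem h1]
    refine congrArg Finset.card (Finset.ext fun x => ?_)
    simp only [Finset.mem_filter, Finset.mem_univ, true_and, Finset.mem_insert, Finset.mem_union,
      Finset.mem_biUnion]
    constructor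
    · intro hx
      by_cases hx1 : x = 1
      · exact Or.inl hx1
      right
      by_cases hx2 : ∃ L, IsNode Z L ∧ x ∈ sigmaCore L
      · obtain ⟨L, hL, hxL⟩ := hx2
        exact Or.inr ⟨L, hmem.mpr hL, by simp [J, hx1, hx, hxL]⟩
      · push Not at hx2
        exact Or.inl (by simp only [T, Finset.mem_filter, Finset.mem_univ, true_and]; exact ⟨hx, hx1, hx2⟩)
    · rintro (rfl | h | ⟨L, -, hxJ⟩)
      · exact one_mem _
      · simp only [T, Finset.mem_filter, Finset.mem_univ, true_and] at h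
        exact h.1
      · simp only [J, Finset.mem_erase, Finset.mem_filter, Finset.mem_univ, true_and] at hxJ
        exact hxJ.2.1
  -- the pairwise disjoint parts of `G`
  let A : Subgroup G → Finset G := fun L =>
    Finset.univ.filter fun x : G => x ∈ tildeOf L ((sigmaCore L : Set G) \ {1})
  let B : Finset G := (Finset.univ ×ˢ T).image fun z : (G ⧸ Z) × G => z.1.out * z.2 * z.1.out⁻¹
  have hB : B.card = Z.index * T.card := by
    rw [Finset.card_image_of_injOn, Finset.card_product, Finset.card_univ, ← Nat.card_eq_fintype_card,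
      Subgroup.index_eq_card]
    rintro ⟨a, t⟩ ha ⟨b, t'⟩ hb e
    simp only [Finset.coe_product, Set.mem_prod, Finset.mem_coe, T, Finset.mem_filter, Finset.mem_univ,
      true_and] at ha hb
    have e' : a.out * t * a.out⁻¹ = b.out * t' * b.out⁻¹ := e
    have hmem' : b.out⁻¹ * a.out * t * (b.out⁻¹ * a.out)⁻¹ ∈ Z := by
      rw [show b.out⁻¹ * a.out * t * (b.out⁻¹ * a.out)⁻¹ = b.out⁻¹ * (a.out * t * a.out⁻¹) * b.out by group, e']
      rw [show b.out⁻¹ * (b.out * t' * b.out⁻¹) * b.out = t' by group]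
      exact hb.1
    have hab : b = a := by
      rw [← QuotientGroup.out_eq' a, ← QuotientGroup.out_eq' b]
      exact QuotientGroup.eq.mpr (IsNode.hat_conj hG hMnode ha hmem')
    subst hab
    rw [mul_left_cancel (mul_right_cancel e')]
  have hAdisj : (S : Set (Subgroup G)).PairwiseDisjoint A := fun L hL L' hL' hne => by
    refine Finset.disjoint_left.mpr fun x hx hx' => ?_
    simp only [A, Finset.mem_filter, Finset.mem_univ, true_and] at hx hx'
    exact Set.eq_empty_iff_forall_notMem.mp (tildeOf_disjoint hG (IsNode.coatom hG (hmem.mp hL))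
      (IsNode.coatom hG (hmem.mp hL')) (IsNode.pair hG (hmem.mp hL) (hmem.mp hL') (Ne.symm hne)).1) x ⟨hx, hx'⟩
  have hBA : Disjoint B (S.biUnion A) := by
    refine Finset.disjoint_left.mpr fun x hx hx' => ?_
    obtain ⟨⟨a, t⟩, hat, rfl⟩ := Finset.mem_image.mp hx
    obtain ⟨L, hL, hxA⟩ := Finset.mem_biUnion.mp hx'
    simp only [Finset.mem_product, Finset.mem_univ, true_and, T, A, Finset.mem_filter] at hat hxA
    exact IsNode.hat_not_tilde hG (hmem.mp hL) hat _ hxA
  have hsum : B.card + ∑ L ∈ S, (A L).card < Nat.card G := by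
    rw [← Finset.card_biUnion hAdisj, ← Finset.card_union_of_disjoint hBA, Nat.card_eq_fintype_card,
      ← Finset.card_univ]
    refine Finset.card_lt_card (Finset.ssubset_univ_iff.mpr fun he => ?_)
    have h1 : (1 : G) ∈ B ∪ S.biUnion A := he ▸ Finset.mem_univ _
    rcases Finset.mem_union.mp h1 with h | h
    · obtain ⟨⟨a, t⟩, hat, e⟩ := Finset.mem_image.mp h
      simp only [Finset.mem_product, Finset.mem_univ, true_and, T, Finset.mem_filter] at hat
      exact hat.2.1 (conj_eq_one_iff.mp e)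
    · obtain ⟨L, hL, hxA⟩ := Finset.mem_biUnion.mp h
      simp only [A, Finset.mem_filter] at hxA
      exact one_not_mem_tildeOf hG (IsNode.coatom hG (hmem.mp hL)) hxA.2
  have hterm : ∀ L ∈ S, Nat.card G * (3 * (J L).card + 2) ≤ 3 * Nat.card Z * (A L).card := by
    intro L hL
    have hn := hmem.mp hL
    have hLc := IsNode.coatom hG hn
    have hA : (A L).card = (Nat.card (sigmaCore L) - 1) * L.index := by
      rw [← ncard_tildeOf hG hLc, ← Set.ncard_coe_finset]
      exact congrArg Set.ncard (by ext; simp [A])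
    set a := Nat.card ↥(Z ⊓ sigmaCore L) with ha
    set s := Nat.card (sigmaCore L) with hs
    have hdvd : a ∣ s := Subgroup.card_dvd_of_le inf_le_right
    have hlt : a ≠ s := by
      intro he
      have hle : sigmaCore L ≤ Z := inf_eq_right.mp (Subgroup.eq_of_le_of_card_ge inf_le_right he.ge)
      have hLZ : Nat.card L = Nat.card Z := by
        have := hall L hn
        rw [← ha, ← hs, he, mul_comm] at this
        exact Nat.eq_of_mul_eq_mul_left Nat.card_pos this
      have hLe : Z = L := Subgroup.eq_of_le_of_card_ge (IsNode.le hG hn) hLZ.le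
      obtain ⟨L', hn', hne⟩ := IsNode.exists_other hG hn
      rcases hLc.le_iff.mp (hLe.ge.trans (IsNode.le hG hn')) with h | h
      · exact (IsNode.coatom hG hn').1 h
      · exact hne h
    have h3 : 3 * a ≤ s := by
      obtain ⟨k, hk⟩ := hdvd
      have hkodd : Odd k := (odd_subgroup hG.1 (sigmaCore L)).of_dvd_nat ⟨a, by rw [← hs, hk, mul_comm]⟩
      have hk1 : k ≠ 1 := fun e => hlt (by rw [hk, e, mul_one])
      obtain ⟨j, hj⟩ := hkodd
      have : 3 ≤ k := by omega
      rw [hk]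
      nlinarith
    have hkey : s * (Nat.card Z * L.index) = Nat.card G * a := by
      have h1 := hall L hn
      rw [← ha, ← hs] at h1
      rw [← Subgroup.card_mul_index L, mul_right_comm (Nat.card L), h1]
      ring
    have hcJ := hcardJ L
    rw [← ha] at hcJ
    refine Nat.le_of_mul_le_mul_left ?_ (Nat.card_pos : 0 < Nat.card (sigmaCore L))
    rw [hA, ← hs]
    obtain ⟨s', hs'⟩ : ∃ s', s = s' + 1 := ⟨s - 1, by have : 0 < s := Nat.card_pos; omega⟩
    rw [hs', Nat.add_sub_cancel]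
    rw [hs'] at hkey h3
    have hin : (s' + 1) * (3 * (J L).card + 2) ≤ 3 * s' * a := by
      rw [← hcJ] at h3 ⊢
      linear_combination h3
    calc (s' + 1) * (Nat.card G * (3 * (J L).card + 2))
        = Nat.card G * ((s' + 1) * (3 * (J L).card + 2)) := by ring
      _ ≤ Nat.card G * (3 * s' * a) := Nat.mul_le_mul_left _ hin
      _ = 3 * s' * (Nat.card G * a) := by ring
      _ = 3 * s' * ((s' + 1) * (Nat.card Z * L.index)) := by rw [hkey]
      _ = (s' + 1) * (3 * Nat.card Z * (s' * L.index)) := by ring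
  have hsumJ : Nat.card G * (3 * (∑ L ∈ S, (J L).card) + 2 * S.card) ≤ 3 * Nat.card Z * ∑ L ∈ S, (A L).card := by
    rw [Finset.mul_sum S _ (3 * Nat.card Z)]
    refine le_trans (le_of_eq ?_) (Finset.sum_le_sum hterm)
    rw [← Finset.mul_sum, Finset.sum_add_distrib, ← Finset.mul_sum, Finset.sum_const, smul_eq_mul, mul_comm 2]
  have hm : 2 ≤ S.card := by
    obtain ⟨L, hL, hne⟩ := d.exists_other hG
    exact Finset.one_lt_card.mpr ⟨M, hmem.mpr hMnode, L, hmem.mpr hL, Ne.symm hne⟩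
  have hidx := Subgroup.card_mul_index Z
  have hgpos : 0 < Nat.card G := Nat.card_pos
  have hzpos : 0 < Nat.card Z := Nat.card_pos
  rw [hB] at hsum
  nlinarith [hsumJ, hsum, hidx, hZcard, hm, hgpos, hzpos]

/-- If some `τ₃`-line has fixed points, `κ(M)` contains all primes outside `σ(M)`. -/
theorem KappaData.card_of_tau3_bad (d : KappaData M K) (h : ¬ NoTau3Bad M) :
    ∃ E P : Subgroup G, K = E ∧ IsComplIn E (sigmaCore M) M ∧ P ≤ E ∧ (Nat.card P).Prime ∧
      Nat.card P ∈ tau3 M := by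
  simp only [NoTau3Bad, not_forall] at h
  obtain ⟨p, P, hp, hP, hPM, hbadP⟩ := h
  haveI := Fact.mk hp.1
  have hM := d.hM
  obtain ⟨E, hE, hKE⟩ := exists_complement_ge hG hM d.hall.1 fun r hr hd => (d.hall.2.1 r hr hd).2.2.1
  obtain ⟨m, hm, hmP⟩ := conj_into_hall hG hM.1 (complement_hall hG hM hE) hPM
    (pi_of_card hP (π := {r | r ∉ sigma M}) hp.2.1)
  have hPc : Nat.card ↥(MulAut.conj m • P) = p := by rw [CfsgLib.card_conj_smul, hP]
  obtain ⟨H, dd⟩ := exists_tau3Bad hG hM hp hE hPc hmP (bad_conj hG hM hbadP hm)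
  refine ⟨E, _, le_antisymm hKE (Subgroup.relIndex_eq_one.mp
    (Nat.eq_one_iff_not_exists_prime_dvd.mpr fun s hs hd => ?_)), hE, hmP, hPc ▸ hp.1, hPc ▸ hp⟩
  haveI := Fact.mk hs
  obtain ⟨w, hw⟩ := exists_prime_orderOf_dvd_card' s (hd.trans (Subgroup.relIndex_dvd_card (H := K) (K := E)))
  have hwc : Nat.card (zpowers (w : G)) = s := by rw [Nat.card_zpowers, Subgroup.orderOf_coe, hw]
  have hwE : zpowers (w : G) ≤ E := Subgroup.zpowers_le.mpr w.2
  have hsσ : s ∉ sigma M := complement_sigma' hG hM hE s hs (hwc ▸ Subgroup.card_dvd_of_le hwE)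
  have hsκ : s ∈ kappa M := kappa_of_bad hG hM
    (tau1_or_tau3 hG hM hsσ (rank_one_of_not_sigma hG hM hsσ (dd.not_tau2 hG)) hwc (hwE.trans hE.1))
    hwc (hwE.trans hE.1) (by rw [dd.fixed_eq hG hwc hwE]; exact dd.bad)
  exact d.hall.2.2 s hs hsκ (hd.trans (Dvd.intro _ (Subgroup.relIndex_mul_relIndex K E M hKE hE.1)))

/-- The factorisation `E = U K` when no `τ₃`-line has fixed points. -/
structure KappaSplit (M K E U : Subgroup G) : Prop where
  hE : IsComplIn E (sigmaCore M) M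
  UE : U ≤ E
  KE : K ≤ E
  hallU : IsPiHallOf {r | r ∉ kappa M} U E
  normal : E ≤ normalizer (U : Set G)
  compl : IsComplIn U K E
  fpf : ∀ k ∈ K, k ≠ 1 → U ⊓ centralizer ({k} : Set G) = ⊥
  comm : IsMulCommutative U
  derived : (⁅E, E⁆ : Subgroup G) ≤ U
  two : U ≠ ⊥ → Group.IsNilpotent (sigmaCore M) ∧ sigmaCore M ⊓ centralizer (U : Set G) = ⊥ ∧ (Nat.card K).Prime

theorem KappaData.split_of_complement (d : KappaData M K) (hno : NoTau3Bad M) {E : Subgroup G}
    (hE : IsComplIn E (sigmaCore M) M) (hKE : K ≤ E) : ∃ U, KappaSplit M K E U := by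
  have hM := d.hM
  have hMs := solvable_of_ne_top hG hM.1
  have hEs := solvable_of_le hE.1 hMs
  obtain ⟨U, hU, -⟩ := exists_hall_ge (π := {r | r ∉ kappa M}) hEs (bot_le : (⊥ : Subgroup G) ≤ E)
    fun r hr hd => absurd (Subgroup.card_bot (G := G) ▸ hd) hr.not_dvd_one
  obtain ⟨r₀, hr₀, W₀, hW₀K, hW₀⟩ := exists_prime_subgroup d.ne
  have hκ : kappa M = tau1 M :=
    kappa_eq_tau1 hG hM hno ⟨r₀, d.hall.2.1 r₀ hr₀ (hW₀ ▸ Subgroup.card_dvd_of_le hW₀K)⟩
  have hder : (⁅E, E⁆ : Subgroup G) ≤ U := normal_le_hall hEs hU (Subgroup.commutator_le_self E)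
    (le_normalizer_commutator (Subgroup.le_normalizer (H := E))) fun r hr hd => by
      show r ∉ kappa M
      rw [hκ]
      exact fun h => h.2.2.2.1 (hd.trans (Subgroup.card_dvd_of_le (Subgroup.commutator_mono hE.1 hE.1)))
  have hn : E ≤ normalizer (U : Set G) := by
    have key : ∀ e ∈ E, ∀ u ∈ U, e * u * e⁻¹ ∈ U := fun e he u hu => by
      have h := U.mul_mem (hder (Subgroup.commutator_mem_commutator he (hU.1 hu))) hu
      have e2 : ⁅e, u⁆ * u = e * u * e⁻¹ := by rw [commutatorElement_def]; group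
      rwa [e2] at h
    intro e he
    refine Subgroup.mem_normalizer_iff.mpr fun u => ⟨key e he u, fun h => ?_⟩
    have := key e⁻¹ (E.inv_mem he) _ h
    simpa [mul_assoc] using this
  have hUK : U ⊓ K = ⊥ := Subgroup.card_eq_one.mp (Nat.eq_one_iff_not_exists_prime_dvd.mpr fun r hr hd =>
    hU.2.1 r hr (hd.trans (Subgroup.card_dvd_of_le inf_le_left))
      (d.hall.2.1 r hr (hd.trans (Subgroup.card_dvd_of_le inf_le_right))))
  have hKn : K ≤ normalizer (U : Set G) := hKE.trans hn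
  have hsup : U ⊔ K = E := by
    refine le_antisymm (sup_le hU.1 hKE) (Subgroup.relIndex_eq_one.mp
      (Nat.eq_one_iff_not_exists_prime_dvd.mpr fun r hr hd => ?_))
    by_cases hrk : r ∈ kappa M
    · exact d.hall.2.2 r hr hrk (((hd.trans (Subgroup.relIndex_dvd_of_le_left (H := K) _ le_sup_right))).trans
        (Dvd.intro _ (Subgroup.relIndex_mul_relIndex K E M hKE hE.1)))
    · exact hU.2.2 r hr hrk (hd.trans (Subgroup.relIndex_dvd_of_le_left (H := U) _ le_sup_left))
  have hcompl : IsComplIn U K E := by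
    refine ⟨hU.1, hKE, hUK, fun m hm => ?_⟩
    obtain ⟨w, hw, a, ha, e⟩ := CfsgLib.mem_sup_of_le_normalizer hKn (hsup.ge hm)
    exact ⟨w, hw, a, ha, e.symm⟩
  have hfpf : ∀ k ∈ K, k ≠ 1 → U ⊓ centralizer ({k} : Set G) = ⊥ := by
    intro k hk hk1
    obtain ⟨t, ht, htd⟩ := exists_prime_dvd_order hk1
    haveI := Fact.mk ht
    obtain ⟨Y, hY, hYk, hCY⟩ := exists_line_of_element htd
    have hYK : Y ≤ K := hYk.trans (Subgroup.zpowers_le.mpr hk)
    refine (Subgroup.eq_bot_iff_forall _).mpr fun y hy => ?_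
    have hy' : y ∈ K ⊔ fixedCore M K := by
      rw [← d.normN t Y ht hYK hY]
      exact ⟨hE.1 (hU.1 hy.1), Subgroup.centralizer_le_normalizer _ (hCY hy.2)⟩
    obtain ⟨a, ha, c, hc, rfl⟩ := (d.compl hG).2.2.2 y hy'
    have hc' : c ∈ E ⊓ sigmaCore M :=
      ⟨by have := E.mul_mem (E.inv_mem (hKE ha)) (hU.1 hy.1); rwa [inv_mul_cancel_left] at this, hc.1⟩
    rw [hE.2.2.1, Subgroup.mem_bot] at hc'
    subst hc'
    rw [mul_one] at hy ⊢
    exact Subgroup.mem_bot.mp (hUK ▸ (⟨hy.1, ha⟩ : a ∈ U ⊓ K))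
  have hUn : Group.IsNilpotent U := CfsgLib.FrobAction.isNilpotent_of_fpf_operators U K d.ne hKn fun e he he1 u hu h =>
    Subgroup.mem_bot.mp (hfpf e he he1 ▸ ⟨hu, Subgroup.mem_centralizer_singleton_iff.mpr h.symm⟩)
  have hUσ : ∀ r : ℕ, r.Prime → r ∣ Nat.card U → r ∉ sigma M := fun r hr hd =>
    complement_sigma' hG hM hE r hr (hd.trans (Subgroup.card_dvd_of_le hU.1))
  haveI hUc : IsMulCommutative U := nilpotent_sigma'_commutative hG hM (hU.1.trans hE.1) hUn hUσ
  refine ⟨U, hE, hU.1, hKE, hU, hn, hcompl, hfpf, hUc, hder, fun hU1 => ?_⟩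
  obtain ⟨s, hs, V, hVU, hV⟩ := exists_prime_subgroup hU1
  haveI := Fact.mk hs
  have hsU : s ∣ Nat.card U := hV ▸ Subgroup.card_dvd_of_le hVU
  have hsκ : s ∉ kappa M := hU.2.1 s hs hsU
  have hVE : V ≤ E := hVU.trans hU.1
  have hVM : V ≤ M := hVE.trans hE.1
  have hboth : Group.IsNilpotent (sigmaCore M) ∧ sigmaCore M ⊓ centralizer (U : Set G) = ⊥ := by
    by_cases h2 : s ∈ tau2 M
    · obtain ⟨A, hAE, hA, hA2, -⟩ := exists_line_two hG hM hE h2 hV hVE
      have hEA : E ≤ normalizer (A : Set G) :=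
        (Cfsg.Agent.S1418.result hG M hM E hE s h2 A ⟨hAE, hA, hA2⟩).1.1
      have hAU : A ≤ U := normal_le_hall hEs hU hAE hEA fun r hr hd => by
        show r ∉ kappa M
        rw [card_dvd_of_pgroup (isPGroup_of_exp hA.2) hr hd]
        exact hsκ
      obtain ⟨A₀, hexc⟩ := exists_exc hG hM h2 (hAE.trans hE.1) hA hA2
      obtain ⟨T, hAT, hTM, hT, hTi⟩ := exists_sylow_ge (p := s) (hAE.trans hE.1) (isPGroup_of_exp hA.2)
      exact ⟨tau2_nilpotent hG hM h2, le_bot_iff.mp ((inf_le_inf_left _ (Subgroup.centralizer_le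
        (SetLike.coe_subset_coe.mpr hAU))).trans (hexc.structure' hG hM hAT hTM hT hTi).2.1.le)⟩
    · have hs3 : s ∈ tau3 M := (tau1_or_tau3 hG hM (hUσ s hs hsU) (rank_one_of_not_sigma hG hM (hUσ s hs hsU) h2)
        hV hVM).resolve_left fun h => hsκ (hκ ▸ h)
      have hgood := hno s V hs3 hV hVM
      refine ⟨CfsgLib.FrobAction.isNilpotent_of_fpf_operators _ V (ne_bot_of_card hV)
        (hVM.trans (le_normalizer_sigmaCore hG hM le_rfl)) fun e he he1 u hu hcomm => ?_,
        le_bot_iff.mp ((inf_le_inf_left _ (Subgroup.centralizer_le (SetLike.coe_subset_coe.mpr hVU))).trans hgood.le)⟩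
      have hgen : Subgroup.zpowers e = V := Subgroup.eq_of_le_of_card_ge (Subgroup.zpowers_le.mpr he)
        (by rw [Nat.card_zpowers, hV, orderOf_eq_prime ((elementary_of_card_prime hV).2 e he) he1])
      refine Subgroup.mem_bot.mp (hgood ▸ ⟨hu, fun y hy => ?_⟩)
      obtain ⟨i, rfl⟩ := Subgroup.mem_zpowers_iff.mp (hgen.ge hy)
      exact ((show Commute e u from hcomm).zpow_left i).eq
  refine ⟨hboth.1, hboth.2, ?_⟩
  have hEle : U ⊔ K ≤ E := sup_le hU.1 hKE
  refine (Cfsg.Agent.S1446.result U K (sigmaCore M) hU1 d.ne hUK hKn hfpf (solvable_of_le hEle hEs)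
    (odd_subgroup hG.1 _) (sigmaCore_ne_bot hG hM) hboth.1
    ((hU.1.trans hE.1).trans (le_normalizer_sigmaCore hG hM le_rfl))
    (d.hall.1.trans (le_normalizer_sigmaCore hG hM le_rfl))
    (Nat.coprime_of_dvd fun r hr h1 h2 => complement_sigma' hG hM hE r hr (h1.trans (Subgroup.card_dvd_of_le hEle))
      ((sigmaCore_hall hG hM).1.2.1 r hr h2))
    hboth.2 fun x hx hx1 => d.prime x hx hx1).1

theorem KappaData.exists_split (d : KappaData M K) (hno : NoTau3Bad M) : ∃ E U, KappaSplit M K E U := by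
  obtain ⟨E, hE, hKE⟩ := exists_complement_ge hG d.hM d.hall.1 fun r hr hd => (d.hall.2.1 r hr hd).2.2.1
  exact ⟨E, d.split_of_complement hG hno hE hKE⟩

theorem KappaData.two_of_card (d : KappaData M K) (h : Nat.card M ≠ Nat.card K * Nat.card (sigmaCore M)) :
    (Nat.card K).Prime ∧ Group.IsNilpotent (sigmaCore M) := by
  by_cases hno : NoTau3Bad M
  · obtain ⟨E, U, hs⟩ := d.exists_split hG hno
    have hU : U ≠ ⊥ := fun e => h (by
      rw [card_complIn hs.hE, card_complIn hs.compl, e, Subgroup.card_bot, one_mul])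
    exact ⟨(hs.two hU).2.2, (hs.two hU).1⟩
  · obtain ⟨E, P, hKE, hE, -⟩ := d.card_of_tau3_bad hG hno
    exact absurd (by rw [card_complIn hE, hKE]) h

/-- A subgroup of `Z` of order prime to `σ(M)` lies in `K`. -/
theorem KappaData.part_le (d : KappaData M K) {Y : Subgroup G} (hY : Y ≤ K ⊔ fixedCore M K)
    (hYσ : ∀ r : ℕ, r.Prime → r ∣ Nat.card Y → r ∉ sigma M) : Y ≤ K := by
  intro y hy
  obtain ⟨k, hk, c, hc, rfl⟩ := (d.compl hG).2.2.2 y (hY hy)
  have hcomm : Commute c k := (d.fixed_centralizes hG) hk c hc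
  have hc1 : c = 1 := eq_of_mul_eq_mul_pi hcomm (Commute.one_left (k * c)) (order_sigma hG d.hM hc.1)
    (fun p hp hd => by rw [orderOf_one] at hd; exact absurd (Nat.dvd_one.mp hd) hp.ne_one)
    (fun p hp hd => d.sigma' hG hp (hd.trans (Subgroup.orderOf_dvd_natCard _ hk)))
    (fun p hp hd => hYσ p hp (hd.trans (Subgroup.orderOf_dvd_natCard _ hy)))
    (by rw [one_mul]; exact hcomm.eq)
  rw [hc1, mul_one]
  exact hk

theorem KappaData.core_part (d : KappaData M K) {L : Subgroup G} (h : IsNode (K ⊔ fixedCore M K) L) (hne : L ≠ M) :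
    (K ⊔ fixedCore M K) ⊓ sigmaCore L ≤ K :=
  d.part_le hG inf_le_left fun r hr hd hrM => by
    haveI := Fact.mk hr
    obtain ⟨g, hg⟩ := sigma_disjointness hG d.hM (IsNode.coatom hG h) hrM
      ((sigmaCore_hall hG (IsNode.coatom hG h)).1.2.1 r hr (hd.trans (Subgroup.card_dvd_of_le inf_le_right)))
    exact (IsNode.pair hG (d.self_node hG) h hne).1 g hg

/-- A partner pair: `K = L_σ ∩ Z`, `K* = K_L`, and `M`, `L` are the only nodes. -/
structure KappaPair (M K L : Subgroup G) : Prop where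
  left : KappaData M K
  right : KappaData L (fixedCore M K)
  symm_eq : fixedCore L (fixedCore M K) = K
  ne : L ≠ M
  only : ∀ L' : Subgroup G, IsNode (K ⊔ fixedCore M K) L' → L' = M ∨ L' = L
  cycK : IsCyclic K
  cycC : IsCyclic ↥(fixedCore M K)
  prime : (Nat.card K).Prime ∨ (Nat.card ↥(fixedCore M K)).Prime

theorem pair_of_prime {L₀ K₀ : Subgroup G} (d₀ : KappaData L₀ K₀) (hp : (Nat.card K₀).Prime)
    (hn : Group.IsNilpotent (sigmaCore L₀)) : ∃ L₁, KappaPair L₀ K₀ L₁ ∧ KappaPair L₁ (fixedCore L₀ K₀) L₀ := by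
  haveI := Fact.mk hp
  obtain ⟨L₁, h₁, hne⟩ := d₀.exists_other hG
  have hM := d₀.hM
  have hcore : ∀ L : Subgroup G, IsNode (K₀ ⊔ fixedCore L₀ K₀) L → L ≠ L₀ → K₀ ≤ sigmaCore L := by
    intro L hL hLne
    obtain ⟨s, X, hs, hXZ, hXL, hX⟩ := IsNode.exists_core_line hG hL
    haveI := Fact.mk hs
    have hXK : X ≤ K₀ := (le_inf hXZ hXL).trans (d₀.core_part hG hL hLne)
    rcases hp.eq_one_or_self_of_dvd _ (Subgroup.card_dvd_of_le hXK) with h | h
    · exact absurd (hX ▸ h) hs.ne_one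
    · exact (Subgroup.eq_of_le_of_card_ge hXK h.ge) ▸ hXL
  have honly : ∀ L : Subgroup G, IsNode (K₀ ⊔ fixedCore L₀ K₀) L → L = L₀ ∨ L = L₁ := by
    intro L hL
    by_contra h
    push Not at h
    exact d₀.ne (le_bot_iff.mp ((le_inf (hcore L₁ h₁ hne) (hcore L hL h.1)).trans
      (IsNode.core_disjoint hG h₁ hL h.2).le))
  obtain ⟨K₁, d₁, hZ⟩ := id h₁
  have hJ₁ : fixedCore L₁ K₁ = K₀ := by
    refine le_antisymm ?_ ?_
    · rw [← d₁.inter_core hG, hZ]
      exact d₀.core_part hG h₁ hne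
    · rw [← d₁.inter_core hG, hZ]
      exact le_inf le_sup_left (hcore L₁ h₁ hne)
  have hK₁ : K₁ = fixedCore L₀ K₀ := by
    have hle : fixedCore L₀ K₀ ≤ K₁ := d₁.part_le hG (hZ.ge.trans' le_sup_right) fun r hr hd hr1 => by
      haveI := Fact.mk hr
      obtain ⟨g, hg⟩ := sigma_disjointness hG hM d₁.hM
        ((sigmaCore_hall hG hM).1.2.1 r hr (hd.trans (Subgroup.card_dvd_of_le inf_le_left))) hr1
      exact (IsNode.pair hG (d₀.self_node hG) h₁ hne).1 g hg
    refine (Subgroup.eq_of_le_of_card_ge hle (le_of_eq ?_)).symm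
    have e1 := card_complIn (d₁.compl hG)
    have e2 := card_complIn (d₀.compl hG)
    rw [hZ, hJ₁, e2, mul_comm] at e1
    exact (Nat.eq_of_mul_eq_mul_right Nat.card_pos e1).symm
  subst hK₁
  have hcC : IsCyclic ↥(fixedCore L₀ K₀) := by
    haveI : Group.IsNilpotent ↥(fixedCore L₀ K₀) := by
      haveI := hn
      exact Group.nilpotent_of_mulEquiv
        (Subgroup.subgroupOfEquivOfLe (inf_le_left : fixedCore L₀ K₀ ≤ sigmaCore L₀))
    haveI : IsMulCommutative ↥(fixedCore L₀ K₀) := nilpotent_sigma'_commutative hG d₁.hM d₁.hall.1 inferInstance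
      fun r hr hd => (d₁.hall.2.1 r hr hd).2.2.1
    haveI : IsZGroup ↥(fixedCore L₀ K₀) := ⟨fun r hr S => by
      haveI := Fact.mk hr
      by_cases hS : (S : Subgroup ↥(fixedCore L₀ K₀)) = ⊥
      · rw [hS]; infer_instance
      haveI : IsCyclic ↥((S : Subgroup ↥(fixedCore L₀ K₀)).map (fixedCore L₀ K₀).subtype) := by
        have hd : r ∣ Nat.card ↥(fixedCore L₀ K₀) := by
          obtain ⟨k, hk⟩ := S.2.exists_card_eq
          refine dvd_trans ?_ (Subgroup.card_subgroup_dvd_card (S : Subgroup ↥(fixedCore L₀ K₀)))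
          rw [hk]
          exact dvd_pow_self r fun e => hS (Subgroup.card_eq_one.mp (by rw [hk, e, pow_zero]))
        exact rank_one_cyclic hG (kappa_rank_one (d₁.hall.2.1 r hr hd)) (S.2.map _)
          ((Subgroup.map_subtype_le _).trans d₁.hall.1)
      exact isCyclic_of_surjective _
        ((S : Subgroup ↥(fixedCore L₀ K₀)).equivMapOfInjective _ (fixedCore L₀ K₀).subtype_injective).symm.surjective⟩
    infer_instance
  have hcK : IsCyclic K₀ := isCyclic_of_prime_card rfl
  refine ⟨L₁, ⟨d₀, d₁, hJ₁, hne, honly, hcK, hcC, Or.inl hp⟩, ?_⟩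
  refine ⟨d₁, ?_, ?_, hne.symm, ?_, hcC, ?_, Or.inr ?_⟩
  · rw [hJ₁]; exact d₀
  · rw [hJ₁]
  · intro L hL
    rw [hJ₁, sup_comm] at hL
    exact (honly L hL).symm
  · rw [hJ₁]; exact hcK
  · rw [hJ₁]; exact hp

/-- B–G 14.7: every `M` with `κ(M) ≠ ∅` has a unique partner. -/
theorem KappaData.exists_pair (d : KappaData M K) : ∃ L, KappaPair M K L := by
  obtain ⟨L₀, hn₀, hne⟩ := d.exists_node_ne hG
  obtain ⟨K₀, d₀, hZ⟩ := id hn₀
  have hcard : Nat.card L₀ ≠ Nat.card K₀ * Nat.card (sigmaCore L₀) := by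
    intro h
    refine hne ?_
    rw [← hZ, d₀.inter_core hG, h, card_complIn (d₀.compl hG)]
    ring
  obtain ⟨hp, hn⟩ := d₀.two_of_card hG hcard
  obtain ⟨L₁, hP₀, hP₁⟩ := pair_of_prime hG d₀ hp hn
  have hMn : IsNode (K₀ ⊔ fixedCore L₀ K₀) M := hZ ▸ d.self_node hG
  have huniq : ∀ {L K' : Subgroup G}, KappaData L K' → L = M → K' ⊔ fixedCore L K' = K ⊔ fixedCore M K → K = K' := by
    intro L K' d' hLM he
    subst hLM
    exact le_antisymm (d'.part_le hG (he.ge.trans' le_sup_left) fun r hr hd => d.sigma' hG hr hd)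
      (d.part_le hG (he.le.trans' le_sup_left) fun r hr hd => d'.sigma' hG hr hd)
  rcases hP₀.only M hMn with h | h
  · subst h
    obtain rfl := huniq d₀ rfl hZ
    exact ⟨L₁, hP₀⟩
  · subst h
    obtain rfl := huniq hP₀.right rfl (by rw [hP₀.symm_eq, sup_comm, hZ])
    exact ⟨L₀, hP₁⟩

theorem kappaHall_cyclic (hM : IsCoatom M) (hK : IsPiHallOf (kappa M) K M) : IsCyclic K := by
  by_cases hK1 : K = ⊥
  · subst hK1; infer_instance
  exact ((kappaData_of_hall hG hM hK hK1).exists_pair hG).choose_spec.cycK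

theorem noTau3Bad (hM : IsCoatom M) : NoTau3Bad M := by
  by_contra h
  obtain ⟨p, P, hp, hP, hPM, hbad⟩ : ∃ (p : ℕ) (P : Subgroup G), p ∈ tau3 M ∧ Nat.card P = p ∧ P ≤ M ∧
      sigmaCore M ⊓ centralizer (P : Set G) ≠ ⊥ := by
    simp only [NoTau3Bad, not_forall] at h
    obtain ⟨p, P, h1, h2, h3, h4⟩ := h
    exact ⟨p, P, h1, h2, h3, h4⟩
  haveI := Fact.mk hp.1
  have hκ : p ∈ kappa M := kappa_of_bad hG hM (Or.inr hp) hP hPM hbad
  obtain ⟨K, hK⟩ := CfsgLib.exists_isPiHallOf (kappa M) (solvable_of_ne_top hG hM.1)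
  have hK1 : K ≠ ⊥ := fun e => hK.2.2 p hp.1 hκ (by rw [e, Subgroup.relIndex_bot_left]; exact hκ.2.1)
  obtain ⟨E, P', hKE, hE, hP'E, hP'c, hP'τ⟩ := (kappaData_of_hall hG hM hK hK1).card_of_tau3_bad hG h
  haveI := Fact.mk hP'c
  obtain ⟨t, ht, -, T, hTE, hT, hmove⟩ := exists_mover_of_derived hG hM hE hP'τ rfl hP'E
  haveI := cyclic_isCommutative (hKE ▸ kappaHall_cyclic hG hM hK : IsCyclic E)
  exact hmove ((hTE.trans (Subgroup.le_centralizer E)).trans (Subgroup.centralizer_le (SetLike.coe_subset_coe.mpr hP'E)))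

end CfsgLib.MinSimpleOdd
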