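import Cfsg.Agent.Lib.MinSimpleOdd.KappaCover

/-!
The sets `A(M)`, `A₀(M)` and the derived group of `M` when `κ(M) ≠ ∅` (B–G 14.7).
-/

set_option autoImplicit false
set_option linter.unusedSectionVars false
set_option linter.style.haveILetI false
set_option maxHeartbeats 1000000

namespace CfsgLib.MinSimpleOdd

open Subgroup Cfsg
open scoped Pointwise commutatorElement IsMulCommutative

universe u
variable {G : Type u} [Group G] [Finite G]

omit [Finite G] in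
theorem commutator_le_of_complement {W K M : Subgroup G} [IsMulCommutative K] (hM : ∀ m ∈ M, ∃ w ∈ W, ∃ k ∈ K, m = w * k)
    (hK : K ≤ normalizer (W : Set G)) : (⁅M, M⁆ : Subgroup G) ≤ W := by
  rw [Subgroup.commutator_le]
  intro a ha b hb
  obtain ⟨w, hw, k, hk, rfl⟩ := hM a ha
  obtain ⟨w', hw', k', hk', rfl⟩ := hM b hb
  have hc : k' * k⁻¹ = k⁻¹ * k' := congrArg Subtype.val (mul_comm' (⟨k', hk'⟩ : K) ⟨k⁻¹, K.inv_mem hk⟩)
  have e : ⁅w * k, w' * k'⁆ = w * (k * w' * k⁻¹) * (k' * w⁻¹ * k'⁻¹) * w'⁻¹ := by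
    rw [commutatorElement_def]
    calc w * k * (w' * k') * (w * k)⁻¹ * (w' * k')⁻¹ = w * k * w' * (k' * k⁻¹) * w⁻¹ * k'⁻¹ * w'⁻¹ := by group
      _ = w * k * w' * (k⁻¹ * k') * w⁻¹ * k'⁻¹ * w'⁻¹ := by rw [hc]
      _ = _ := by group
  rw [e]
  exact W.mul_mem (W.mul_mem (W.mul_mem hw ((Subgroup.mem_normalizer_iff.mp (hK hk) w').mp hw'))
    ((Subgroup.mem_normalizer_iff.mp (hK hk') _).mp (W.inv_mem hw))) (W.inv_mem hw')

/-- A fixed-point-free coprime element makes an abelian group consist of commutators. -/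
theorem le_commutator_of_fpf_element {U : Subgroup G} [IsMulCommutative U] {k : G}
    (hk : k ∈ normalizer (U : Set G)) (hfix : U ⊓ centralizer ({k} : Set G) = ⊥) {M : Subgroup G}
    (hUM : U ≤ M) (hkM : k ∈ M) : U ≤ ⁅M, M⁆ := by
  have hmem : ∀ u : U, ⁅(u : G), k⁆ ∈ U := fun u => by
    rw [commutatorElement_def, show (u : G) * k * (u : G)⁻¹ * k⁻¹ = u * (k * (u : G)⁻¹ * k⁻¹) by group]
    exact U.mul_mem u.2 ((Subgroup.mem_normalizer_iff.mp hk _).mp (U.inv_mem u.2))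
  have hinj : Function.Injective fun u : U => (⟨⁅(u : G), k⁆, hmem u⟩ : U) := fun u v h => by
    have h1 : (u : G) * k * (u : G)⁻¹ * k⁻¹ = v * k * (v : G)⁻¹ * k⁻¹ := by
      simpa [commutatorElement_def] using congrArg Subtype.val h
    have h2 := mul_right_cancel h1
    have h3 : (v : G)⁻¹ * u ∈ U ⊓ centralizer ({k} : Set G) := by
      refine ⟨U.mul_mem (U.inv_mem v.2) u.2, Subgroup.mem_centralizer_singleton_iff.mpr ?_⟩
      calc (v : G)⁻¹ * u * k = (v : G)⁻¹ * (u * k * (u : G)⁻¹) * u := by group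
        _ = (v : G)⁻¹ * (v * k * (v : G)⁻¹) * u := by rw [h2]
        _ = _ := by group
    rw [hfix, Subgroup.mem_bot] at h3
    exact Subtype.ext (inv_mul_eq_one.mp h3).symm
  intro u hu
  obtain ⟨v, hv⟩ := (Finite.injective_iff_surjective.mp hinj) ⟨u, hu⟩
  rw [← show ⁅(v : G), k⁆ = u from congrArg Subtype.val hv]
  exact Subgroup.commutator_mem_commutator (hUM v.2) hkM

variable (hG : IsMinSimpleOddOrder G) {M K U : Subgroup G}

include hG

/-- B–G 14.7 (e): `M' = U M_σ`. -/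
theorem kappa_derived_eq (hM : IsCoatom M) (h : IsSigmaDecomposition M K U) (hK1 : K ≠ ⊥) :
    ⁅M, M⁆ = U ⊔ sigmaCore M := by
  obtain ⟨d, hs⟩ := decomp_split hG hM h hK1
  obtain ⟨hE, hUK⟩ := decomp_data hG hM h
  have hsM : sigmaCore M ≤ M := piCoreOf_le _ _
  haveI := d.comm hG
  haveI := hs.comm
  refine le_antisymm (commutator_le_of_complement (K := K) (fun m hm => ?_)
    (h.hall.1.trans (decomp_sup_normal hG hM h))) (sup_le ?_ ?_)
  · obtain ⟨w, hw, b, hb, rfl⟩ := h.compl.2.2.2 m hm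
    obtain ⟨k, hk, s, hsσ, rfl⟩ := (complIn_sup (h.hall.1.trans (le_normalizer_sigmaCore hG hM le_rfl))
      (decomp_inf hG hM h.hall)).2.2.2 b hb
    refine ⟨w * (k * s * k⁻¹), Subgroup.mul_mem _ (Subgroup.mem_sup_left hw) (Subgroup.mem_sup_right ?_), k, hk, by group⟩
    exact (Subgroup.mem_normalizer_iff.mp (le_normalizer_sigmaCore hG hM le_rfl (h.hall.1 hk)) s).mp hsσ
  · obtain ⟨⟨k, hk⟩, hk1⟩ := Subgroup.ne_bot_iff_exists_ne_one.mp hK1
    exact le_commutator_of_fpf_element (h.normal hk) (hs.fpf k hk fun e => hk1 (Subtype.ext e)) h.compl.1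
      (h.hall.1 hk)
  · exact sigma_le_derived hG hM hsM fun r hr hd => (sigmaCore_hall hG hM).1.2.1 r hr hd

/-- B–G 14.7 (e): `K* ≤ M''`. -/
theorem kappa_fixed_le_derived (hM : IsCoatom M) (h : IsSigmaDecomposition M K U) (hK1 : K ≠ ⊥) :
    fixedCore M K ≤ ⁅⁅M, M⁆, ⁅M, M⁆⁆ := by
  obtain ⟨d, hs⟩ := decomp_split hG hM h hK1
  have hder := kappa_derived_eq hG hM h hK1
  rw [hder]
  by_cases hU : U = ⊥
  · have hle : U ⊔ K ≤ K := sup_le (hU ▸ bot_le) le_rfl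
    exact ((inf_le_inf_left _ (Subgroup.centralizer_le (SetLike.coe_subset_coe.mpr hle))).trans
      (sigma_fixed_le_derived hG hM hs.hE)).trans (Subgroup.commutator_mono le_sup_right le_sup_right)
  · obtain ⟨-, hCU, -⟩ := hs.two hU
    have hsup := CfsgLib.coprime_commutator_sup
      ((h.compl.1.trans (le_normalizer_sigmaCore hG hM le_rfl)) : U ≤ normalizer (sigmaCore M : Set G))
      (Nat.coprime_of_dvd fun r hr h1 h2 => (decomp_U_primes hG hM h r hr h1).2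
        ((sigmaCore_hall hG hM).1.2.1 r hr h2))
      (Or.inl (solvable_of_le h.compl.1 (solvable_of_ne_top hG hM.1)))
    rw [hCU, sup_bot_eq] at hsup
    exact (inf_le_left.trans hsup.ge).trans (Subgroup.commutator_mono le_sup_right le_sup_left)

theorem hat_mem_sigmaA0_diff {L : Subgroup G} (p : KappaPair M K L) (h : IsSigmaDecomposition M K U) {m z : G}
    (hm : m ∈ M) (hz : z ∈ (↑(K ⊔ fixedCore M K) : Set G) \ ((K : Set G) ∪ (fixedCore M K : Set G))) :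
    m * z * m⁻¹ ∈ sigmaA0 M K \ sigmaA M U := by
  have hM := p.left.hM
  have hsM : sigmaCore M ≤ M := piCoreOf_le _ _
  have hzM : z ∈ M := p.left.sup_le_M hG hz.1
  obtain ⟨k, hk, c, hc, he⟩ := (p.left.compl hG).2.2.2 z hz.1
  have hc1 : c ≠ 1 := fun e => hz.2 (Or.inl (by rw [he, e, mul_one]; exact hk))
  have hk1 : k ≠ 1 := fun e => hz.2 (Or.inr (by rw [he, e, one_mul]; exact hc))
  have hkc : Commute k c := ((p.left.fixed_centralizes hG) hk c hc).symm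
  refine ⟨⟨⟨M.mul_mem (M.mul_mem hm hzM) (M.inv_mem hm), m * c * m⁻¹,
    (Subgroup.mem_normalizer_iff.mp (le_normalizer_sigmaCore hG hM le_rfl hm) c).mp hc.1,
    fun e => hc1 (conj_eq_one_iff.mp e), ?_⟩, ?_⟩, ?_⟩
  · calc m * z * m⁻¹ * (m * c * m⁻¹) = m * (z * c) * m⁻¹ := by group
      _ = m * (c * z) * m⁻¹ := by rw [he, (Commute.mul_left hkc (Commute.refl c)).eq]
      _ = _ := by group
  · rintro ⟨k', hk', -, n, hn, e⟩
    have e' : n⁻¹ * m * z * (n⁻¹ * m)⁻¹ = k' := by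
      calc n⁻¹ * m * z * (n⁻¹ * m)⁻¹ = n⁻¹ * (m * z * m⁻¹) * n := by group
        _ = k' := by rw [e]; group
    have hg : n⁻¹ * m ∈ K ⊔ fixedCore M K := p.hat_conj hG hz (e' ▸ Subgroup.mem_sup_left hk')
    haveI := cyclic_isCommutative (p.cyclic hG)
    have hcomm : n⁻¹ * m * z = z * (n⁻¹ * m) :=
      congrArg Subtype.val (mul_comm' (⟨_, hg⟩ : ↥(K ⊔ fixedCore M K)) ⟨z, hz.1⟩)
    rw [hcomm, mul_inv_cancel_right] at e'
    exact hz.2 (Or.inl (e' ▸ hk'))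
  · rintro ⟨-, hmem⟩
    have h1 : z ∈ U ⊔ sigmaCore M :=
      (Subgroup.mem_normalizer_iff.mp (decomp_sup_normal hG hM h hm) z).mpr hmem
    have h2 : k ∈ U ⊔ sigmaCore M := by
      have := (U ⊔ sigmaCore M).mul_mem h1 ((U ⊔ sigmaCore M).inv_mem (Subgroup.mem_sup_right hc.1))
      rwa [he, mul_inv_cancel_right] at this
    obtain ⟨w, hw, s, hs, e⟩ := (complIn_sup (h.compl.1.trans (le_normalizer_sigmaCore hG hM le_rfl))
      (le_bot_iff.mp ((inf_le_inf_left _ le_sup_right).trans h.compl.2.2.1.le))).2.2.2 k h2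
    have hw' : w ∈ U ⊓ (K ⊔ sigmaCore M) := ⟨hw, by
      have := (K ⊔ sigmaCore M).mul_mem (Subgroup.mem_sup_left hk)
        ((K ⊔ sigmaCore M).inv_mem (Subgroup.mem_sup_right hs))
      rwa [e, mul_inv_cancel_right] at this⟩
    rw [h.compl.2.2.1, Subgroup.mem_bot] at hw'
    rw [hw', one_mul] at e
    exact hk1 (Subgroup.mem_bot.mp (decomp_inf hG hM h.hall ▸ (⟨hk, e ▸ hs⟩ : k ∈ K ⊓ sigmaCore M)))

theorem sigmaA0_diff_eq {L : Subgroup G} (p : KappaPair M K L) (h : IsSigmaDecomposition M K U) :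
    {a : G | ∃ m ∈ M, ∃ z ∈ (↑(K ⊔ fixedCore M K) : Set G) \ ((K : Set G) ∪ (fixedCore M K : Set G)),
      a = m * z * m⁻¹} = sigmaA0 M K \ sigmaA M U := by
  have hM := p.left.hM
  refine Set.eq_of_subset_of_subset ?_ ?_
  · rintro _ ⟨m, hm, z, hz, rfl⟩
    exact hat_mem_sigmaA0_diff hG p h hm hz
  rintro a ⟨⟨⟨haM, y, hy, hy1, hay⟩, hnK⟩, hnA⟩
  obtain ⟨i, j, hi, hj, hij⟩ := CfsgLib.ClassPiCount.exists_parts (sigma M) a
  have hxs : a ^ i ∈ sigmaCore M := mem_sigmaCore_of_order hG hM (M.pow_mem haM i) hi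
  have hW : a ∉ U ⊔ sigmaCore M := fun h' => hnA ⟨⟨haM, y, hy, hy1, hay⟩, h'⟩
  have hx'1 : a ^ j ≠ 1 := fun e => hW (by rw [← hij, e, mul_one]; exact Subgroup.mem_sup_right hxs)
  have hayj : a ^ j ∈ M ⊓ centralizer ({y} : Set G) :=
    ⟨M.pow_mem haM j, Subgroup.mem_centralizer_singleton_iff.mpr ((show Commute a y from hay).pow_left j).eq⟩
  rcases sigma_element_dichotomy hG hM hy hy1 hayj hx'1 hj with ⟨hκ, -⟩ | ⟨hτ, -, -, -⟩
  swap
  · refine absurd ?_ hW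
    rw [← hij]
    exact Subgroup.mul_mem _ (Subgroup.mem_sup_right hxs)
      (mem_sup_of_order hG hM h (M.pow_mem haM j) fun r hr hd hk => kappa_not_tau2 hG hM hk (hτ r hr hd))
  by_cases hx1 : a ^ i = 1
  · rw [hx1, one_mul] at hij
    obtain ⟨m, hm, hmx⟩ := conj_into_hall hG hM.1 h.hall (W := zpowers (a ^ j))
      (Subgroup.zpowers_le.mpr (M.pow_mem haM j)) (fun r hr hd => hκ r hr (by rwa [Nat.card_zpowers] at hd))
    rw [hij] at hmx hx'1
    refine absurd ⟨m * a * m⁻¹, hmx ⟨a, mem_zpowers a, rfl⟩, fun e => hx'1 (conj_eq_one_iff.mp e), m⁻¹,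
      M.inv_mem hm, by group⟩ hnK
  · obtain ⟨m, hm, hz⟩ := p.mem_hat hG hxs hx1 ⟨M.pow_mem haM j, Subgroup.mem_centralizer_singleton_iff.mpr
      (Commute.pow_pow (Commute.refl a) j i).eq⟩ hx'1 hκ
    rw [hij] at hz
    exact ⟨m⁻¹, M.inv_mem hm, _, hz, by group⟩

theorem sigmaA0_diff_ti {L : Subgroup G} (p : KappaPair M K L) (h : IsSigmaDecomposition M K U) :
    IsTISubset (sigmaA0 M K \ sigmaA M U) := by
  rw [← sigmaA0_diff_eq hG p h]
  rintro g hg x ⟨m, hm, z, hz, rfl⟩ ⟨m', hm', z', hz', e⟩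
  refine absurd ?_ hg
  have e' : m'⁻¹ * g * m * z * (m'⁻¹ * g * m)⁻¹ = z' := by
    calc m'⁻¹ * g * m * z * (m'⁻¹ * g * m)⁻¹ = m'⁻¹ * (g * (m * z * m⁻¹) * g⁻¹) * m' := by group
      _ = z' := by rw [e]; group
  have hgM' : m'⁻¹ * g * m ∈ M := p.left.sup_le_M hG (p.hat_conj hG hz (e'.symm ▸ hz'.1))
  have hgM : g ∈ M := by
    have := M.mul_mem (M.mul_mem hm' hgM') (M.inv_mem hm)
    rwa [show m' * (m'⁻¹ * g * m) * m⁻¹ = g by group] at this
  show ∀ n : G, n ∈ _ ↔ g * n * g⁻¹ ∈ _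
  intro n
  constructor
  · rintro ⟨m₁, hm₁, z₁, hz₁, rfl⟩
    exact ⟨g * m₁, M.mul_mem hgM hm₁, z₁, hz₁, by group⟩
  · rintro ⟨m₁, hm₁, z₁, hz₁, e₁⟩
    exact ⟨g⁻¹ * m₁, M.mul_mem (M.inv_mem hgM) hm₁, z₁, hz₁, by
      calc n = g⁻¹ * (g * n * g⁻¹) * g := by group
        _ = _ := by rw [e₁]; group⟩

end CfsgLib.MinSimpleOdd
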