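import Cfsg.Agent.Lib.MinSimpleOdd.Transitivity

/-!
Transitivity passes to `π(A)`-overgroups in which `A` is subnormal.
-/

set_option autoImplicit false
set_option linter.unusedSectionVars false

namespace CfsgLib.MinSimpleOdd

open Subgroup Cfsg
open scoped Pointwise commutatorElement

universe u
variable {G : Type u} [Group G] [Finite G] {A P : Subgroup G} {q : ℕ} [Fact q.Prime]

theorem centralizer_anti {A B : Subgroup G} (h : A ≤ B) :
    centralizer (B : Set G) ≤ centralizer (A : Set G) := fun _ hx a ha => hx a (h ha)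

theorem coreK_inf (hG : IsMinSimpleOddOrder G) (hA : TransitivityHypothesis A) {B : Subgroup G}
    (hAB : A ≤ B) :
    coreK A ⊓ centralizer (B : Set G) =
      piCoreOf (primesNotDvd (Nat.card A)) (centralizer (B : Set G)) := by
  refine le_antisymm (le_piCoreOf inf_le_right (fun c hc => mem_normalizer_of_conj_smul ?_)
    (pi_of_le inf_le_left (pi_piCoreOf _ _))) (le_inf (le_coreK hG hA
      ((piCoreOf_le _ _).trans (centralizer_anti hAB)) (pi_piCoreOf _ _)) (piCoreOf_le _ _))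
  rw [Subgroup.smul_inf, conj_smul_eq_of_mem_normalizer (le_normalizer_piCoreOf_self _ _ (centralizer_anti hAB hc)),
    conj_smul_eq_of_mem_normalizer (Subgroup.le_normalizer hc)]

/-- Transitivity data for an overgroup `B` of `A`. -/
def Trans (A B : Subgroup G) (q : ℕ) : Prop :=
  A ≤ B ∧ maxInvSubgroups ⊤ B {q} ⊆ maxInvSubgroups ⊤ A {q} ∧
    ∀ Q₁ ∈ maxInvSubgroups ⊤ B {q}, ∀ Q₂ ∈ maxInvSubgroups ⊤ B {q},
      ∃ k ∈ piCoreOf (primesNotDvd (Nat.card A)) (centralizer (B : Set G)), Q₂ = MulAut.conj k • Q₁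

theorem core_solvable (hG : IsMinSimpleOddOrder G) (hA : TransitivityHypothesis A) {B : Subgroup G}
    (hAB : A ≤ B) : Group.IsSolvable (piCoreOf (primesNotDvd (Nat.card A)) (centralizer (B : Set G))) :=
  solvable_of_le ((piCoreOf_le _ _).trans (centralizer_anti hAB))
    (solvable_of_ne_top hG (centralizer_subgroup_ne_top hG hA.1))

/-- One step up. -/
theorem trans_step (hG : IsMinSimpleOddOrder G) (hA : TransitivityHypothesis A) (hqA : ¬ q ∣ Nat.card A)
    {B B' : Subgroup G} (hB : Trans A B q) (hBB : B ≤ B') (hn : B' ≤ normalizer (B : Set G))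
    (hπ : ∀ r : ℕ, r.Prime → r ∣ Nat.card B' → r ∣ Nat.card A) : Trans A B' q := by
  have hq : q.Prime := Fact.out
  set W := piCoreOf (primesNotDvd (Nat.card A)) (centralizer (B : Set G)) with hW
  have hBW : B' ≤ normalizer (W : Set G) := by
    refine hn.trans (le_trans ?_ (normalizer_le_normalizer_piCoreOf _ _))
    intro g hg
    refine mem_normalizer_of_conj_smul ?_
    ext x
    rw [CfsgLib.mem_conj_smul_iff]
    constructor
    · intro hx b hb
      have h1 := hx (g⁻¹ * b * g) ((Subgroup.mem_normalizer_iff''.mp hg b).mp hb)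
      have e1 : g⁻¹ * b * g * (g⁻¹ * x * g) = g⁻¹ * (b * x) * g := by group
      have e2 : g⁻¹ * x * g * (g⁻¹ * b * g) = g⁻¹ * (x * b) * g := by group
      rw [e1, e2] at h1
      exact mul_left_cancel (mul_right_cancel h1)
    · intro hx b hb
      have hb' : g * b * g⁻¹ ∈ B := (Subgroup.mem_normalizer_iff.mp hg b).mp hb
      have h1 := hx _ hb'
      calc b * (g⁻¹ * x * g) = g⁻¹ * ((g * b * g⁻¹) * x) * g := by group
        _ = g⁻¹ * (x * (g * b * g⁻¹)) * g := by rw [h1]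
        _ = _ := by group
  have hcop : (Nat.card B').Coprime (Nat.card W) :=
    Nat.coprime_of_dvd fun r hr h1 h2 => (pi_piCoreOf _ _ r hr h2).2 (hπ r hr h1)
  have hWs := core_solvable hG hA hB.1
  have hinv : ∀ {R : Subgroup G}, R ∈ invSubgroups ⊤ B' {q} → R ∈ invSubgroups ⊤ B {q} :=
    fun hR => ⟨le_top, hR.2.1, hBB.trans hR.2.2⟩
  have hsub : maxInvSubgroups ⊤ B' {q} ⊆ maxInvSubgroups ⊤ A {q} := by
    intro R hR
    by_cases hR0 : R = ⊥
    · -- some member of `И*(B)` is fixed by `B'`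
      obtain ⟨T, hT, -⟩ := exists_max_ge (bot_mem_inv (π := ({q} : Set ℕ)) B)
      obtain ⟨g, hg, hgT⟩ := CfsgLib.exists_invariant_conj hBW hcop (Or.inr hWs) (H := T)
        fun b hb => hB.2.2 T hT _ (conj_mem_max (hn hb) hT)
      have hgN : g ∈ normalizer (B : Set G) :=
        Subgroup.centralizer_le_normalizer _ (piCoreOf_le _ _ hg)
      have hT' := conj_mem_max hgN hT
      have he := hR.2 _ (show MulAut.conj g • T ∈ invSubgroups ⊤ B' {q} from ⟨le_top, hT'.1.2.1, hgT⟩)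
        (hR0 ▸ bot_le)
      rw [← he]
      exact hB.2.1 hT'
    have hRq := isPGroup_of_inv hR.1
    set X := normalizer (R : Set G) with hX
    have hB'X : B' ≤ X := hR.1.2.2
    have hX1 : X ≠ ⊤ := normalizer_ne_top hG hR0 (pgroup_ne_top hG hRq)
    have hAX : A ≤ X := (hB.1.trans hBB).trans hB'X
    set O := piCoreOf (primesNotDvd (Nat.card A)) X with hO
    have hsubπ := pi_singleton_sub hq hqA
    have hRO : R ≤ O := le_piCoreOf Subgroup.le_normalizer le_rfl fun r hr hd => hsubπ r (hR.1.2.1 r hr hd)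
    have hcopO : (Nat.card B').Coprime (Nat.card O) :=
      Nat.coprime_of_dvd fun r hr h1 h2 => (pi_piCoreOf _ _ r hr h2).2 (hπ r hr h1)
    have hOs : Group.IsSolvable O := solvable_of_le (piCoreOf_le _ _) (solvable_of_ne_top hG hX1)
    obtain ⟨S, hS, hSB, hRS⟩ := CfsgLib.le_invariant_hall (hB'X.trans (le_normalizer_piCoreOf_self _ X))
      hcopO hOs hRO hR.1.2.2 hR.1.2.1
    have hSR : S = R := hR.2 S ⟨le_top, hS.2.1, hSB⟩ hRS
    refine ⟨⟨le_top, hR.1.2.1, hAX⟩, fun Q hQ hRQ => ?_⟩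
    by_contra hne
    have hlt := Transitivity.inf_normalizer_lt_qGroup (isPGroup_of_inv hQ) hRQ (Ne.symm hne)
    have hleO : Q ⊓ normalizer (R : Set G) ≤ O :=
      le_core hA hX1 hAX inf_le_right (fun r hr hd => hsubπ r (pi_of_le inf_le_left hQ.2.1 r hr hd))
        (Transitivity.normalizer_inf_normalizer hQ.2.2 hAX)
    obtain ⟨c, hc, hle⟩ := CfsgLib.pi_le_conj_hall hOs (hSR ▸ hS) hleO (pi_of_le inf_le_left hQ.2.1)
    have h1 := Subgroup.card_le_of_le hle
    rw [CfsgLib.card_conj_smul] at h1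
    exact absurd h1 (not_le.mpr (Set.Finite.card_lt_card (Set.toFinite _) hlt))
  refine ⟨hB.1.trans hBB, hsub, fun Q₁ h₁ Q₂ h₂ => ?_⟩
  have hmaxB : ∀ R ∈ maxInvSubgroups ⊤ B' {q}, R ∈ maxInvSubgroups ⊤ B {q} := fun R hR =>
    ⟨hinv hR.1, fun S hS hle => (hsub hR).2 S ⟨le_top, hS.2.1, hB.1.trans hS.2.2⟩ hle⟩
  obtain ⟨k, hk, e⟩ := hB.2.2 Q₁ (hmaxB _ h₁) Q₂ (hmaxB _ h₂)
  obtain ⟨c, hc, hce⟩ := CfsgLib.exists_centralizer_conj hBW hcop (Or.inr hWs) hk h₁.1.2.2 (e ▸ h₂.1.2.2)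
  refine ⟨c, ?_, by rw [hce, e]⟩
  rw [← coreK_inf hG hA (hB.1.trans hBB)]
  exact ⟨(coreK_inf hG hA hB.1).ge.trans inf_le_left hc.1, hc.2⟩

theorem trans_top (hG : IsMinSimpleOddOrder G) (hA : TransitivityHypothesis A) (hqA : ¬ q ∣ Nat.card A)
    (hπ : ∀ r : ℕ, r.Prime → r ∣ Nat.card P → r ∣ Nat.card A) :
    ∀ H : Subgroup P, H.IsSubnormal → Trans A (H.map P.subtype) q → Trans A P q := by
  intro H hH
  induction hH with
  | top => intro h; rwa [← MonoidHom.range_eq_map, Subgroup.range_subtype] at h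
  | step H K hle hK hN ih =>
    intro h
    rw [Subgroup.normal_subgroupOf_iff_le_normalizer hle] at hN
    exact ih (trans_step hG hA hqA h (Subgroup.map_mono hle)
      ((Subgroup.map_mono hN).trans (Subgroup.le_normalizer_map _))
      (fun r hr hd => hπ r hr (hd.trans (Subgroup.card_dvd_of_le (Subgroup.map_subtype_le K)))))

/-- Frattini argument on `И*(P)`. -/
theorem normalizer_eq_sup (hT : Trans A P q) {Q : Subgroup G} (hQ : Q ∈ maxInvSubgroups ⊤ P {q}) :
    normalizer (P : Set G) = piCoreOf (primesNotDvd (Nat.card A)) (centralizer (P : Set G)) ⊔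
      (normalizer (P : Set G) ⊓ normalizer (Q : Set G)) := by
  refine le_antisymm (fun n hn => ?_) (sup_le ((piCoreOf_le _ _).trans (Subgroup.centralizer_le_normalizer _))
    inf_le_left)
  obtain ⟨k, hk, e⟩ := hT.2.2 Q hQ _ (conj_mem_max hn hQ)
  rw [show n = k * (k⁻¹ * n) by group]
  refine mul_mem (Subgroup.mem_sup_left hk) (Subgroup.mem_sup_right ⟨Subgroup.mul_mem _ (Subgroup.inv_mem _
    (Subgroup.centralizer_le_normalizer _ (piCoreOf_le _ _ hk))) hn, mem_normalizer_of_conj_smul ?_⟩)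
  rw [← CfsgLib.conj_smul_mul, e, CfsgLib.conj_smul_mul, inv_mul_cancel, map_one, one_smul]

theorem focal (hT : Trans A P q) {Q : Subgroup G} (hQ : Q ∈ maxInvSubgroups ⊤ P {q})
    (hπ : ∀ r : ℕ, r.Prime → r ∣ Nat.card P → r ∣ Nat.card A) :
    P ⊓ ⁅normalizer (P : Set G), normalizer (P : Set G)⁆ ≤
      ⁅normalizer (Q : Set G), normalizer (Q : Set G)⁆ := by
  set W := piCoreOf (primesNotDvd (Nat.card A)) (centralizer (P : Set G)) with hW
  set N := normalizer (P : Set G) with hN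
  set M := N ⊓ normalizer (Q : Set G) with hM
  have hNW : N ≤ normalizer (W : Set G) := by
    refine le_trans ?_ (normalizer_le_normalizer_piCoreOf _ _)
    intro g hg
    refine mem_normalizer_of_conj_smul (le_antisymm ?_ ?_)
    all_goals intro x hx
    · rw [CfsgLib.mem_conj_smul_iff] at hx
      intro b hb
      have h1 := hx (g⁻¹ * b * g) ((Subgroup.mem_normalizer_iff''.mp hg b).mp hb)
      have e1 : g⁻¹ * b * g * (g⁻¹ * x * g) = g⁻¹ * (b * x) * g := by group
      have e2 : g⁻¹ * x * g * (g⁻¹ * b * g) = g⁻¹ * (x * b) * g := by group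
      rw [e1, e2] at h1
      exact mul_left_cancel (mul_right_cancel h1)
    · rw [CfsgLib.mem_conj_smul_iff]
      intro b hb
      have h1 := hx _ ((Subgroup.mem_normalizer_iff.mp hg b).mp hb)
      calc b * (g⁻¹ * x * g) = g⁻¹ * ((g * b * g⁻¹) * x) * g := by group
        _ = g⁻¹ * (x * (g * b * g⁻¹)) * g := by rw [h1]
        _ = _ := by group
  set D := ⁅M, M⁆ with hD
  have hDM : D ≤ M := Subgroup.commutator_le_self M
  -- the derived subgroup of `N` lies in `W D`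
  have hNsup : N = W ⊔ M := normalizer_eq_sup hT hQ
  have hMN : M ≤ N := inf_le_left
  have hWN : W ≤ N := (piCoreOf_le _ _).trans (Subgroup.centralizer_le_normalizer _)
  have hMD : M ≤ normalizer (D : Set G) := by
    intro g hg
    refine mem_normalizer_of_conj_smul ?_
    have : MulAut.conj g • ⁅M, M⁆ = ⁅MulAut.conj g • M, MulAut.conj g • M⁆ := Subgroup.map_commutator _ _ _
    rw [hD, this, conj_smul_eq_of_mem_normalizer (Subgroup.le_normalizer hg)]
  have hLn : N ≤ normalizer ((W ⊔ D : Subgroup G) : Set G) := by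
    rw [hNsup]
    refine sup_le (fun w hw => Subgroup.le_normalizer (Subgroup.mem_sup_left hw)) fun g hg =>
      mem_normalizer_of_conj_smul ?_
    rw [Subgroup.smul_sup, conj_smul_eq_of_mem_normalizer (hNW (hMN hg)),
      conj_smul_eq_of_mem_normalizer (hMD hg)]
  have hLle : W ⊔ D ≤ N := sup_le hWN (hDM.trans hMN)
  haveI : ((W ⊔ D).subgroupOf N).Normal := (Subgroup.normal_subgroupOf_iff_le_normalizer hLle).mpr hLn
  have hder : ⁅N, N⁆ ≤ W ⊔ D := by
    rw [Subgroup.commutator_le]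
    intro x hx y hy
    obtain ⟨a, ha, m, hm, rfl⟩ := mem_sup_of_le_normalizer (hMN.trans hNW) (hNsup.le hx)
    obtain ⟨a', ha', m', hm', rfl⟩ := mem_sup_of_le_normalizer (hMN.trans hNW) (hNsup.le hy)
    set φ := QuotientGroup.mk' ((W ⊔ D).subgroupOf N) with hφ
    have hker : ∀ z : N, (z : G) ∈ W ⊔ D → φ z = 1 := fun z hz =>
      (QuotientGroup.eq_one_iff z).mpr (Subgroup.mem_subgroupOf.mpr hz)
    have e : ∀ (a m : G) (h : a * m ∈ N) (ha : a ∈ W) (hm : m ∈ M),
        φ ⟨a * m, h⟩ = φ ⟨m, hMN hm⟩ := fun a m h ha hm => by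
      rw [show (⟨a * m, h⟩ : N) = ⟨a, hWN ha⟩ * ⟨m, hMN hm⟩ from rfl, map_mul,
        hker ⟨a, hWN ha⟩ (Subgroup.mem_sup_left ha), one_mul]
    have h1 : φ ⁅(⟨a * m, hx⟩ : N), (⟨a' * m', hy⟩ : N)⁆ = 1 := by
      rw [map_commutatorElement, e a m hx ha hm, e a' m' hy ha' hm', ← map_commutatorElement]
      exact hker _ (Subgroup.mem_sup_right (Subgroup.commutator_mem_commutator hm hm'))
    exact Subgroup.mem_subgroupOf.mp ((QuotientGroup.eq_one_iff _).mp h1)
  rintro x ⟨hxP, hxN⟩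
  obtain ⟨k, hk, d, hd, hkd⟩ := mem_sup_of_le_normalizer ((hDM.trans hMN).trans hNW) (hder hxN)
  have hPM : P ≤ M := le_inf Subgroup.le_normalizer hQ.1.2.2
  have hkM : k ∈ M := by
    rw [show k = x * d⁻¹ by rw [← hkd, mul_inv_cancel_right]]
    exact mul_mem (hPM hxP) (inv_mem (hDM hd))
  haveI : (D.subgroupOf M).Normal := (Subgroup.normal_subgroupOf_iff_le_normalizer hDM).mpr hMD
  set ψ := QuotientGroup.mk' (D.subgroupOf M)
  have hψd : ψ ⟨d, hDM hd⟩ = 1 := (QuotientGroup.eq_one_iff _).mpr (Subgroup.mem_subgroupOf.mpr hd)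
  have he : ψ ⟨x, hPM hxP⟩ = ψ ⟨k, hkM⟩ := by
    rw [show (⟨x, hPM hxP⟩ : M) = ⟨k, hkM⟩ * ⟨d, hDM hd⟩ from Subtype.ext hkd.symm, map_mul, hψd, mul_one]
  have h1 : orderOf (ψ ⟨x, hPM hxP⟩) ∣ Nat.card P := (orderOf_map_dvd ψ _).trans (by
    rw [Subgroup.orderOf_mk]; exact Subgroup.orderOf_dvd_natCard _ hxP)
  have h2 : orderOf (ψ ⟨x, hPM hxP⟩) ∣ Nat.card W := he ▸ (orderOf_map_dvd ψ _).trans (by
    rw [Subgroup.orderOf_mk]; exact Subgroup.orderOf_dvd_natCard _ hk)
  have hcop : (Nat.card P).Coprime (Nat.card W) :=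
    Nat.coprime_of_dvd fun r hr h1 h2 => (pi_piCoreOf _ _ r hr h2).2 (hπ r hr h1)
  have h3 : ψ ⟨x, hPM hxP⟩ = 1 := orderOf_eq_one_iff.mp (Nat.eq_one_of_dvd_coprimes hcop h1 h2)
  have h4 : x ∈ D := Subgroup.mem_subgroupOf.mp ((QuotientGroup.eq_one_iff _).mp h3)
  exact Subgroup.commutator_mono inf_le_right inf_le_right h4

end CfsgLib.MinSimpleOdd
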