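import Cfsg.Agent.Lib.MinSimpleOdd.Transitivity
import Cfsg.Agent.Lib.MinSimpleOdd.Overgroup
import Cfsg.Agent.S0118
import Cfsg.Agent.S1450
import Cfsg.Agent.S1452
import Cfsg.Agent.S1457
import Cfsg.Agent.S1458
import Cfsg.Agent.S0126

/-!
Solvable subgroups of a group of odd order: `p`-structure relative to a Sylow subgroup.
-/

set_option autoImplicit false
set_option linter.unusedSectionVars false

namespace CfsgLib.MinSimpleOdd

open Subgroup Cfsg
open scoped Pointwise commutatorElement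

universe u
variable {G : Type u} [Group G] [Finite G] {p : ℕ} [Fact p.Prime]

/-- `O_{p'}(X)` in `G`. -/
abbrev coreP (p : ℕ) (X : Subgroup G) : Subgroup G := piCoreOf (primesNotDvd p) X

theorem odd_subgroup (hodd : Odd (Nat.card G)) (X : Subgroup G) : Odd (Nat.card X) :=
  hodd.of_dvd_nat (Subgroup.card_subgroup_dvd_card X)

theorem coprime_coreP (p : ℕ) [Fact p.Prime] (X : Subgroup G) : (Nat.card (coreP p X)).Coprime p :=
  (coprime_of_notDvd (pi_piCoreOf _ X)).symm

theorem pi_of_coprime {Y : Subgroup G} (hY : (Nat.card Y).Coprime p) :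
    ∀ r : ℕ, r.Prime → r ∣ Nat.card Y → r ∈ primesNotDvd p := fun r hr hd =>
  ⟨hr, fun hrp => hr.ne_one (Nat.eq_one_of_dvd_coprimes hY hd hrp)⟩

theorem primesNotDvd_eq {A : Subgroup G} (hA : IsPGroup p A) (h1 : A ≠ ⊥) :
    primesNotDvd (Nat.card A) = primesNotDvd p := by
  obtain ⟨k, hk⟩ := hA.exists_card_eq
  have hk0 : k ≠ 0 := fun e => h1 (Subgroup.card_eq_one.mp (by rw [hk, e, pow_zero]))
  ext r
  constructor
  · rintro ⟨hr, hn⟩
    exact ⟨hr, fun hd => hn (hk ▸ hd.trans (dvd_pow_self p hk0))⟩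
  · rintro ⟨hr, hn⟩
    exact ⟨hr, fun hd => hn (hr.dvd_of_dvd_pow (hk ▸ hd))⟩

theorem pPrimeCore_map (p : ℕ) [Fact p.Prime] (X : Subgroup G) :
    (pPrimeCore p X).map X.subtype = coreP p X := by
  refine le_antisymm (Subgroup.map_mono (le_sSup ⟨Subgroup.sSup_normal _ (fun _ h => h.1), fun r hr hd =>
    ⟨hr, fun hrp => ?_⟩⟩)) (Subgroup.map_mono (CfsgLib.le_pPrimeCore ?_))
  · rw [(Nat.prime_dvd_prime_iff_eq hr Fact.out).mp hrp] at hd
    exact CfsgLib.not_dvd_card_pPrimeCore (Fact.out : p.Prime) hd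
  · exact Nat.coprime_of_dvd fun r hr h1 h2 => (card_piCore _ r hr h1).2 h2

/-- Sylow subgroup of `X`, given inside `G`. -/
theorem sylow_of_relIndex {X R : Subgroup G} (hRX : R ≤ X) (hR : IsPGroup p R) (hidx : ¬ p ∣ R.relIndex X) :
    ∃ S : Sylow p X, (S : Subgroup X).map X.subtype = R ∧ (S : Subgroup X) = R.subgroupOf X :=
  ⟨(hR.comap_subtype (K := X)).toSylow hidx, by
    exact Subgroup.map_subgroupOf_eq_of_le hRX, rfl⟩

theorem not_dvd_of_sylow (X : Subgroup G) (S : Sylow p X) :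
    ¬ p ∣ ((S : Subgroup X).map X.subtype).relIndex X := by
  rw [Subgroup.relIndex, Subgroup.subgroupOf, Subgroup.comap_map_eq_self_of_injective X.subtype_injective]
  exact S.not_dvd_index

theorem exists_sylow_ge {X R : Subgroup G} (hRX : R ≤ X) (hR : IsPGroup p R) :
    ∃ S : Subgroup G, R ≤ S ∧ S ≤ X ∧ IsPGroup p S ∧ ¬ p ∣ S.relIndex X := by
  obtain ⟨S, hS⟩ := (hR.comap_subtype (K := X)).exists_le_sylow
  exact ⟨(S : Subgroup X).map X.subtype, fun r hr => ⟨⟨r, hRX hr⟩, hS hr, rfl⟩, Subgroup.map_subtype_le _,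
    S.2.map _, not_dvd_of_sylow X S⟩

/-- A `p`-subgroup containing a Sylow subgroup of `X` and lying in `X` is equal to it. -/
theorem eq_of_sylow {X R T : Subgroup G} (hidx : ¬ p ∣ R.relIndex X) (hRT : R ≤ T) (hTX : T ≤ X)
    (hT : IsPGroup p T) : T = R := by
  refine le_antisymm ?_ hRT
  obtain ⟨k, hk⟩ := hT.exists_card_eq
  have h1 : R.relIndex T ∣ p ^ k := hk ▸ Subgroup.relIndex_dvd_card R T
  have h2 : R.relIndex T ∣ R.relIndex X := Dvd.intro _ (Subgroup.relIndex_mul_relIndex R T X hRT hTX)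
  exact Subgroup.relIndex_eq_one.mp (Nat.eq_one_of_dvd_coprimes
    (((Fact.out : p.Prime).coprime_iff_not_dvd.mpr hidx).pow_left k) h1 h2)

/-- An invariant `p'`-subgroup lies in `O_{p'}` when the acting `p`-group contains the elements of order
`p` of its centraliser. -/
theorem le_coreP {X E Y : Subgroup G} (hX : Group.IsSolvable X) (hp : p ≠ 2) (hEX : E ≤ X)
    (hEp : IsPGroup p E) (hfull : ∀ x ∈ X, x ∈ centralizer (E : Set G) → orderOf x = p → x ∈ E)
    (hYX : Y ≤ X) (hY : (Nat.card Y).Coprime p) (hEY : E ≤ normalizer (Y : Set G)) : Y ≤ coreP p X := by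
  haveI := hX
  have h1 : Y.subgroupOf X ≤ pPrimeCore p X := by
    refine Signalizer.le_pPrimeCore_of_omega hp (isPConstrained_of_solvable p) (E.subgroupOf X)
      hEp.comap_subtype ?_ _ ?_ ?_
    · intro z hz hzo
      refine hfull z z.2 (fun a ha => ?_) (by rwa [Subgroup.orderOf_coe])
      exact congrArg Subtype.val (hz ⟨a, hEX ha⟩ ha)
    · rwa [Nat.card_congr (Subgroup.subgroupOfEquivOfLe hYX).toEquiv]
    · intro a ha
      rw [← Subgroup.subgroupOf_normalizer_eq hYX]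
      exact hEY ha
  rw [← pPrimeCore_map]
  exact fun y hy => ⟨⟨y, hYX hy⟩, h1 hy, rfl⟩

theorem le_coreP_of_sylow {X P Y : Subgroup G} (hX : Group.IsSolvable X) (hp : p ≠ 2) (hPX : P ≤ X)
    (hPp : IsPGroup p P) (hidx : ¬ p ∣ P.relIndex X) (hYX : Y ≤ X) (hY : (Nat.card Y).Coprime p)
    (hPY : P ≤ normalizer (Y : Set G)) : Y ≤ coreP p X := by
  refine le_coreP hX hp hPX hPp (fun x hxX hxC hxo => ?_) hYX hY hPY
  have hxp : IsPGroup p (zpowers x) := IsPGroup.of_card (n := 1) (by rw [Nat.card_zpowers, hxo, pow_one])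
  have hT : IsPGroup p (P ⊔ zpowers x : Subgroup G) := IsPGroup.to_sup_of_normal_left' hPp hxp
    ((Subgroup.zpowers_le.mpr hxC).trans (Subgroup.centralizer_le_normalizer _))
  exact (eq_of_sylow hidx le_sup_left (sup_le hPX (Subgroup.zpowers_le.mpr hxX)) hT).le
    (Subgroup.mem_sup_right (Subgroup.mem_zpowers x))

/-- `X = O_{p'}(X) N_X(Z(J(R)))`. -/
theorem zj_factor (hodd : Odd (Nat.card G)) {X R : Subgroup G} (hX : Group.IsSolvable X) (hRX : R ≤ X)
    (hR : IsPGroup p R) (hidx : ¬ p ∣ R.relIndex X) :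
    X ≤ coreP p X ⊔ (X ⊓ normalizer (centerThompsonOf p R : Set G)) := by
  haveI := hX
  obtain ⟨S, hS, -⟩ := sylow_of_relIndex hRX hR hidx
  rw [← ZJ.zj_prime]
  set Z := ZJ.zj p (S : Subgroup X) with hZ
  have hZR : Z.map X.subtype = ZJ.zj p R := by rw [hZ, ← ZJ.zj_map p X.subtype_injective, hS]
  haveI hNn : (Z ⊔ pPrimeCore p X).Normal := by
    rw [hZ, ZJ.zj_prime]
    exact Cfsg.Agent.S1458.result (odd_subgroup hodd X) p S
  haveI hKn : (pPrimeCore p X).Normal := Subgroup.sSup_normal _ (fun _ h => h.1)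
  set N := Z ⊔ pPrimeCore p X with hN
  have hZN : Z ≤ N := le_sup_left
  have hZp : IsPGroup p Z := S.2.to_le (ZJ.zj_le p _)
  have hidxN : ¬ p ∣ (Z.subgroupOf N).index := by
    intro hd
    change p ∣ Z.relIndex N at hd
    have h1 : Nat.card Z * Z.relIndex N ∣ Nat.card Z * Nat.card (pPrimeCore p X) := by
      rw [CfsgLib.card_mul_relIndex hZN]
      exact CfsgLib.card_sup_dvd_mul Z (pPrimeCore p X)
    exact CfsgLib.not_dvd_card_pPrimeCore (Fact.out : p.Prime)
      (hd.trans (Nat.dvd_of_mul_dvd_mul_left Nat.card_pos h1))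
  set T : Sylow p N := (hZp.comap_subtype (K := N)).toSylow hidxN with hT
  have hfr := T.normalizer_sup_eq_top
  rw [show (T : Subgroup N).map N.subtype = Z from Subgroup.map_subgroupOf_eq_of_le hZN] at hfr
  have hNle : N ≤ pPrimeCore p X ⊔ normalizer (Z : Set X) :=
    sup_le (Subgroup.le_normalizer.trans le_sup_right) le_sup_left
  have htop : pPrimeCore p X ⊔ normalizer (Z : Set X) = ⊤ :=
    top_le_iff.mp (hfr ▸ sup_le le_sup_right hNle)
  calc X = (⊤ : Subgroup X).map X.subtype := by rw [← MonoidHom.range_eq_map, Subgroup.range_subtype]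
    _ ≤ _ := by
      rw [← htop, Subgroup.map_sup, pPrimeCore_map]
      refine sup_le_sup_left (le_inf (Subgroup.map_subtype_le _) ?_) _
      rw [← hZR]
      exact Subgroup.le_normalizer_map _

/-- Frattini argument for `O_{p',p}`: the part of a Sylow subgroup in it. -/
theorem exists_frattini (hodd : Odd (Nat.card G)) {X P : Subgroup G} (hX : Group.IsSolvable X) (hPX : P ≤ X)
    (hP : IsPGroup p P) (hidx : ¬ p ∣ P.relIndex X) :
    ∃ Q : Subgroup G, Q ≤ P ∧ P ≤ normalizer (Q : Set G) ∧ X ≤ coreP p X ⊔ (X ⊓ normalizer (Q : Set G)) ∧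
      (∀ A : Subgroup G, A ≤ P → IsMulCommutative A → P ≤ normalizer (A : Set G) → A ≤ Q) ∧
      (p ∣ Nat.card X → PRankLE p 2 X → Q = P) := by
  haveI := hX
  obtain ⟨S, hS, -⟩ := sylow_of_relIndex hPX hP hidx
  set O := pPrimePCore p X with hO
  haveI hKn : (pPrimeCore p X).Normal := Subgroup.sSup_normal _ (fun _ h => h.1)
  haveI : (pCore p (X ⧸ pPrimeCore p X)).Normal := Subgroup.sSup_normal _ (fun _ h => h.1)
  haveI hOn : O.Normal := Subgroup.normal_comap _
  set Q := (S : Subgroup X) ⊓ O with hQ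
  have hSQ : (S : Subgroup X) ≤ normalizer (Q : Set X) := by
    intro s hs
    refine mem_normalizer_of_conj_smul ?_
    rw [hQ, Subgroup.smul_inf, conj_smul_eq_of_mem_normalizer (Subgroup.le_normalizer hs),
      conj_smul_eq_of_mem_normalizer (by rw [Subgroup.normalizer_eq_top]; exact Subgroup.mem_top s)]
  have hQidx : ¬ p ∣ (Q.subgroupOf O).index := by
    rw [hQ, Subgroup.inf_subgroupOf_right]
    change ¬ p ∣ (S : Subgroup X).relIndex O
    intro hd
    have e1 := CfsgLib.Products.card_inf_mul_relIndex (S : Subgroup X) O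
    have e2 := CfsgLib.Products.card_inf_mul_relIndex O (S : Subgroup X)
    have e3 := CfsgLib.card_mul_relIndex (le_sup_left : (S : Subgroup X) ≤ (S : Subgroup X) ⊔ O)
    have e4 := CfsgLib.card_mul_relIndex (le_sup_right : O ≤ (S : Subgroup X) ⊔ O)
    rw [inf_comm] at e2
    rw [Subgroup.relIndex_sup_right] at e4
    have e5 : (S : Subgroup X).relIndex ((S : Subgroup X) ⊔ O) = (S : Subgroup X).relIndex O := by
      have h : Nat.card ↥((S : Subgroup X) ⊓ O) * O.relIndex (S : Subgroup X) *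
          (S : Subgroup X).relIndex ((S : Subgroup X) ⊔ O) =
          Nat.card ↥((S : Subgroup X) ⊓ O) * O.relIndex (S : Subgroup X) * (S : Subgroup X).relIndex O := by
        rw [e2, e3, ← e4, ← e1]
        conv_rhs => rw [← e2]
        ring
      refine Nat.eq_of_mul_eq_mul_left ?_ h
      exact Nat.pos_of_ne_zero fun h0 => by
        rw [e2] at h0; exact Nat.card_pos.ne' h0
    exact S.not_dvd_index (hd.trans (e5 ▸ Dvd.intro _ (Subgroup.relIndex_mul_index le_sup_left)))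
  have hQp : IsPGroup p Q := S.2.to_le inf_le_left
  set T : Sylow p O := (hQp.comap_subtype (K := O)).toSylow hQidx with hT
  have hfr := T.normalizer_sup_eq_top
  rw [show (T : Subgroup O).map O.subtype = Q from Subgroup.map_subgroupOf_eq_of_le inf_le_right] at hfr
  have hKO : pPrimeCore p X ≤ O := by
    intro x hx
    show QuotientGroup.mk' _ x ∈ pCore p (X ⧸ pPrimeCore p X)
    rw [QuotientGroup.mk'_apply, (QuotientGroup.eq_one_iff x).mpr hx]
    exact one_mem _
  have hle : O ≤ pPrimeCore p X ⊔ Q := by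
    have hsup : pPrimeCore p X ⊔ Q ≤ O := sup_le hKO inf_le_right
    obtain ⟨k, hk⟩ := (CfsgLib.isPGroup_pCore (G := X ⧸ pPrimeCore p X) p).exists_card_eq
    have h0 := Subgroup.relIndex_comap (⊥ : Subgroup (X ⧸ pPrimeCore p X))
      (QuotientGroup.mk' (pPrimeCore p X)) O
    rw [MonoidHom.comap_bot, QuotientGroup.ker_mk', hO, pPrimePCore,
      Subgroup.map_comap_eq_self_of_surjective (QuotientGroup.mk'_surjective _), Subgroup.relIndex_bot_left, hk] at h0
    have h1 : (pPrimeCore p X ⊔ Q).relIndex O ∣ p ^ k :=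
      h0 ▸ Dvd.intro_left _ (Subgroup.relIndex_mul_relIndex _ _ O le_sup_left hsup)
    have h2 : (pPrimeCore p X ⊔ Q).relIndex O ∣ Q.relIndex O :=
      Dvd.intro_left _ (Subgroup.relIndex_mul_relIndex _ _ O le_sup_right hsup)
    exact Subgroup.relIndex_eq_one.mp (Nat.eq_one_of_dvd_coprimes
      (((Fact.out : p.Prime).coprime_iff_not_dvd.mpr hQidx).pow_left k) h1 h2)
  have htop : pPrimeCore p X ⊔ normalizer (Q : Set X) = ⊤ :=
    top_le_iff.mp (hfr ▸ sup_le le_sup_right (hle.trans (sup_le_sup_left Subgroup.le_normalizer _)))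
  refine ⟨Q.map X.subtype, (Subgroup.map_mono inf_le_left).trans hS.le, ?_, ?_, ?_, ?_⟩
  · rw [← hS]; exact (Subgroup.map_mono hSQ).trans (Subgroup.le_normalizer_map _)
  · calc X = (⊤ : Subgroup X).map X.subtype := by rw [← MonoidHom.range_eq_map, Subgroup.range_subtype]
      _ ≤ _ := by
        rw [← htop, Subgroup.map_sup, pPrimeCore_map]
        exact sup_le_sup_left (le_inf (Subgroup.map_subtype_le _) (Subgroup.le_normalizer_map _)) _
  · intro A hAP hAc hAn a ha
    have hcomm : IsMulCommutative (A.subgroupOf X) := ⟨⟨fun a b => by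
      apply Subtype.ext; apply Subtype.ext
      exact congrArg (fun t : A => (t : G)) (hAc.is_comm.comm ⟨((a : X) : G), a.2⟩ ⟨((b : X) : G), b.2⟩)⟩⟩
    have hle' : A.subgroupOf X ≤ (S : Subgroup X) := fun x hx => by
      obtain ⟨s, hs, he⟩ := hS.ge (hAP hx)
      rwa [← Subtype.ext he]
    have hn : (S : Subgroup X) ≤ normalizer ((A.subgroupOf X : Subgroup X) : Set X) := fun s hs => by
      rw [← Subgroup.subgroupOf_normalizer_eq (hAP.trans hPX)]
      exact hAn (hS ▸ Subgroup.mem_map_of_mem X.subtype hs)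
    exact ⟨⟨a, hPX (hAP ha)⟩, ⟨hle' ha, Cfsg.Agent.S1457.result (odd_subgroup hodd X) p S (A.subgroupOf X)
      hle' hcomm hn ha⟩, rfl⟩
  · intro hd hr
    obtain ⟨-, -, -, -, -, hidxO⟩ := Cfsg.Agent.S1450.result (odd_subgroup hodd X) p hd hr
    have hSO : (S : Subgroup X) ≤ O := by
      obtain ⟨k, hk⟩ := S.2.exists_card_eq
      refine Subgroup.relIndex_eq_one.mp (Nat.eq_one_of_dvd_coprimes (hidxO.pow_right k).symm ?_
        (Subgroup.relIndex_dvd_index_of_normal O _))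
      exact hk ▸ Subgroup.relIndex_dvd_card O _
    rw [hQ, inf_eq_left.mpr hSO, hS]

/-- If `X = O N` with `O` a normal `p'`-subgroup and the `p`-subgroup `P` of `N` lies in `X'`, then `P ≤ N'`. -/
theorem le_derived_of_factor {X O N P : Subgroup G} (hOX : X ≤ normalizer (O : Set G))
    (hOc : (Nat.card O).Coprime p) (hNX : N ≤ X) (hfac : X ≤ O ⊔ N) (hPN : P ≤ N) (hPp : IsPGroup p P)
    (hP : P ≤ ⁅X, X⁆) : P ≤ ⁅N, N⁆ := by
  set D := ⁅N, N⁆ with hD
  have hDN : D ≤ N := Subgroup.commutator_le_self N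
  have hNO : N ≤ normalizer (O : Set G) := hNX.trans hOX
  have hND : N ≤ normalizer (D : Set G) := fun g hg => mem_normalizer_of_conj_smul (by
    have : MulAut.conj g • ⁅N, N⁆ = ⁅MulAut.conj g • N, MulAut.conj g • N⁆ := Subgroup.map_commutator _ _ _
    rw [hD, this, conj_smul_eq_of_mem_normalizer (Subgroup.le_normalizer hg)])
  have hL : O ⊔ N ≤ normalizer ((O ⊔ D : Subgroup G) : Set G) := by
    refine sup_le (fun o ho => Subgroup.le_normalizer (Subgroup.mem_sup_left ho)) fun g hg =>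
      mem_normalizer_of_conj_smul ?_
    rw [Subgroup.smul_sup, conj_smul_eq_of_mem_normalizer (hNO hg), conj_smul_eq_of_mem_normalizer (hND hg)]
  have hder : ⁅X, X⁆ ≤ O ⊔ D := by
    refine (Subgroup.commutator_mono hfac hfac).trans ?_
    set W := O ⊔ N
    haveI : ((O ⊔ D).subgroupOf W).Normal :=
      (Subgroup.normal_subgroupOf_iff_le_normalizer (sup_le_sup_left hDN O)).mpr hL
    rw [Subgroup.commutator_le]
    intro x hx y hy
    obtain ⟨a, ha, m, hm, rfl⟩ := mem_sup_of_le_normalizer hNO hx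
    obtain ⟨a', ha', m', hm', rfl⟩ := mem_sup_of_le_normalizer hNO hy
    set φ := QuotientGroup.mk' ((O ⊔ D).subgroupOf W) with hφ
    have hker : ∀ z : W, (z : G) ∈ O ⊔ D → φ z = 1 := fun z hz =>
      (QuotientGroup.eq_one_iff z).mpr (Subgroup.mem_subgroupOf.mpr hz)
    have e : ∀ (a m : G) (h : a * m ∈ W) (ha : a ∈ O) (hm : m ∈ N),
        φ ⟨a * m, h⟩ = φ ⟨m, Subgroup.mem_sup_right hm⟩ := fun a m h ha hm => by
      rw [show (⟨a * m, h⟩ : W) = ⟨a, Subgroup.mem_sup_left ha⟩ * ⟨m, Subgroup.mem_sup_right hm⟩ from rfl,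
        map_mul, hker ⟨a, _⟩ (Subgroup.mem_sup_left ha), one_mul]
    have h1 : φ ⁅(⟨a * m, hx⟩ : W), (⟨a' * m', hy⟩ : W)⁆ = 1 := by
      rw [map_commutatorElement, e a m hx ha hm, e a' m' hy ha' hm', ← map_commutatorElement]
      exact hker _ (Subgroup.mem_sup_right (Subgroup.commutator_mem_commutator hm hm'))
    exact Subgroup.mem_subgroupOf.mp ((QuotientGroup.eq_one_iff _).mp h1)
  intro x hx
  obtain ⟨k, hk, d, hd, hkd⟩ := mem_sup_of_le_normalizer (hDN.trans hNO) (hder (hP hx))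
  have hkN : k ∈ N := by
    rw [show k = x * d⁻¹ by rw [← hkd, mul_inv_cancel_right]]
    exact mul_mem (hPN hx) (inv_mem (hDN hd))
  haveI : (D.subgroupOf N).Normal := (Subgroup.normal_subgroupOf_iff_le_normalizer hDN).mpr hND
  set ψ := QuotientGroup.mk' (D.subgroupOf N) with hψ
  have hψd : ψ ⟨d, hDN hd⟩ = 1 := (QuotientGroup.eq_one_iff _).mpr (Subgroup.mem_subgroupOf.mpr hd)
  have he : ψ ⟨x, hPN hx⟩ = ψ ⟨k, hkN⟩ := by
    rw [show (⟨x, hPN hx⟩ : N) = ⟨k, hkN⟩ * ⟨d, hDN hd⟩ from Subtype.ext hkd.symm, map_mul, hψd, mul_one]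
  obtain ⟨i, hi⟩ := hPp.exists_card_eq
  have h1 : orderOf (ψ ⟨x, hPN hx⟩) ∣ p ^ i := (orderOf_map_dvd ψ _).trans (by
    rw [Subgroup.orderOf_mk, ← hi]; exact Subgroup.orderOf_dvd_natCard _ hx)
  have h2 : orderOf (ψ ⟨x, hPN hx⟩) ∣ Nat.card O := he ▸ (orderOf_map_dvd ψ _).trans (by
    rw [Subgroup.orderOf_mk]; exact Subgroup.orderOf_dvd_natCard _ hk)
  exact Subgroup.mem_subgroupOf.mp ((QuotientGroup.eq_one_iff _).mp
    (orderOf_eq_one_iff.mp (Nat.eq_one_of_dvd_coprimes (hOc.symm.pow_left i) h1 h2)))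

end CfsgLib.MinSimpleOdd
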