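import Cfsg.Agent.Lib.MinSimpleOdd.Tau
import Cfsg.Agent.Lib.OddLocal.NarrowStructure
import Cfsg.Agent.Lib.Solvable.ProductNilpotent
import Cfsg.Agent.Lib.CharP
import Cfsg.Agent.Lib.Signalizer.Functor
import Cfsg.Agent.S0033

/-!
Maximal elementary abelian subgroups of order `p²` and the `σ`-subgroups they normalise.
-/

set_option autoImplicit false
set_option linter.unusedSectionVars false
set_option maxHeartbeats 1000000

namespace CfsgLib.MinSimpleOdd

open Subgroup Cfsg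
open scoped Pointwise commutatorElement

universe u
variable {G : Type u} [Group G] [Finite G] {p : ℕ} [Fact p.Prime] {q : ℕ} [Fact q.Prime]

/-- A maximal elementary abelian `p`-subgroup of order `p²`. -/
def IsMaxTwo (p : ℕ) (A : Subgroup G) : Prop :=
  IsElementaryAbelian p A ∧ Nat.card A = p ^ 2 ∧ ∀ B : Subgroup G, IsElementaryAbelian p B → A ≤ B → B = A

namespace IsMaxTwo

variable {A : Subgroup G} (hA : IsMaxTwo p A)

include hA

theorem isPGroup : IsPGroup p A := IsPGroup.of_card hA.2.1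

theorem ne_bot : A ≠ ⊥ := fun e => by
  have h := hA.2.1
  rw [e, Subgroup.card_bot] at h
  exact absurd h.symm (Nat.one_lt_pow two_ne_zero (Fact.out : p.Prime).one_lt).ne'

theorem not_cyclic : ¬ IsCyclic A := not_cyclic_of_elementary hA.1.2 (by
  rw [hA.2.1]
  calc p = p ^ 1 := (pow_one p).symm
    _ < _ := Nat.pow_lt_pow_right (Fact.out : p.Prime).one_lt one_lt_two)

theorem mem_of_centralizes {x : G} (hx : x ^ p = 1) (hc : x ∈ centralizer (A : Set G)) : x ∈ A :=
  (hA.2.2 _ (elementary_sup_zpowers hA.1 hx fun e he => hc e he) le_sup_left).le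
    (Subgroup.mem_sup_right (Subgroup.mem_zpowers x))

theorem central_mem {S : Subgroup G} (hAS : A ≤ S) {z : G} (hz : z ^ p = 1)
    (hzS : z ∈ centralizer (S : Set G)) : z ∈ A :=
  hA.mem_of_centralizes hz (centralizer_anti hAS hzS)

theorem transitivity (hG : IsMinSimpleOddOrder G) {S : Subgroup G} (hS : IsPGroup p S) (hAS : A ≤ S) :
    TransitivityHypothesis S :=
  transitivityHypothesis_of_omega hG (p_ne_two hG.1 hA.isPGroup hA.ne_bot) hS
    (fun e => hA.ne_bot (le_bot_iff.mp (e ▸ hAS)))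
    fun _ hxC hxo => hAS (hA.mem_of_centralizes (hxo ▸ pow_orderOf_eq_one _) (centralizer_anti hAS hxC))

theorem conj (g : G) : IsMaxTwo p (MulAut.conj g • A) := by
  have key : ∀ (g : G) (B : Subgroup G), IsElementaryAbelian p B → IsElementaryAbelian p (MulAut.conj g • B) := by
    intro g B hB
    refine ⟨⟨⟨?_⟩⟩, ?_⟩
    · rintro ⟨_, a, ha, rfl⟩ ⟨_, b, hb, rfl⟩
      refine Subtype.ext ?_
      show MulAut.conj g a * MulAut.conj g b = MulAut.conj g b * MulAut.conj g a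
      rw [← map_mul, ← map_mul, show a * b = b * a from
        congrArg (fun t : B => (t : G)) (hB.1.is_comm.comm ⟨a, ha⟩ ⟨b, hb⟩)]
    · rintro _ ⟨a, ha, rfl⟩
      show MulAut.conj g a ^ p = 1
      rw [← map_pow, hB.2 a ha, map_one]
  refine ⟨key g A hA.1, by rw [CfsgLib.card_conj_smul, hA.2.1], fun B hB hle => ?_⟩
  have h1 := hA.2.2 _ (key g⁻¹ B hB) (inv_smul_smul_conj hle)
  rw [← h1, CfsgLib.conj_smul_mul, mul_inv_cancel, map_one, one_smul]

end IsMaxTwo

theorem exists_central {S : Subgroup G} (hS : IsPGroup p S) (h1 : S ≠ ⊥) :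
    ∃ z ∈ S, orderOf z = p ∧ z ∈ centralizer (S : Set G) := by
  obtain ⟨z, hz, hzc, hzo⟩ := CfsgLib.ProductNilpotent.exists_central hS.isNilpotent (Fact.out : p.Prime)
    (by
      obtain ⟨k, hk⟩ := hS.exists_card_eq
      exact hk ▸ dvd_pow_self p fun e => h1 (Subgroup.card_eq_one.mp (by rw [hk, e, pow_zero])))
  exact ⟨z, hz, hzo, fun a ha => hzc a ha⟩

theorem sylow_of_normalizer {P : Subgroup G} (hP : IsPGroup p P)
    (h : ¬ p ∣ P.relIndex (normalizer (P : Set G))) : ¬ p ∣ P.index := by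
  obtain ⟨S, hS⟩ := hP.exists_le_sylow
  by_cases e : P = (S : Subgroup G)
  · rw [e]; exact S.not_dvd_index
  have hlt := Transitivity.inf_normalizer_lt_qGroup S.2 hS e
  exact absurd (eq_of_sylow h hlt.le inf_le_right (S.2.to_le inf_le_left)) hlt.ne'

section Sigma

variable (hG : IsMinSimpleOddOrder G) {M : Subgroup G} (hM : IsCoatom M)

include hG hM

theorem sigmaCore_hall : IsPiHallOf (sigma M) (sigmaCore M) M ∧ IsPiHall (sigma M) (sigmaCore M) :=
  isPiHall_core hG hM (alpha_subset_sigma hG hM) subset_rfl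

theorem le_sigmaCore {X : Subgroup G} (hXM : X ≤ M)
    (hX : ∀ r : ℕ, r.Prime → r ∣ Nat.card X → r ∈ sigma M) : X ≤ sigmaCore M := by
  have hNM : sigmaCore M ≤ M := piCoreOf_le _ _
  haveI : ((sigmaCore M).subgroupOf M).Normal :=
    (Subgroup.normal_subgroupOf_iff_le_normalizer hNM).mpr (le_normalizer_piCoreOf_self _ _)
  refine Subgroup.relIndex_eq_one.mp (Nat.eq_one_iff_not_exists_prime_dvd.mpr fun r hr hd => ?_)
  refine (sigmaCore_hall hG hM).1.2.2 r hr (hX r hr (hd.trans (Subgroup.relIndex_dvd_card _ _))) (hd.trans ?_)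
  rw [← Subgroup.relIndex_subgroupOf hXM]
  exact Subgroup.relIndex_dvd_index_of_normal _ _

theorem normalizer_sigma_sylow_le (hq : q ∈ sigma M) {Q : Subgroup G} (hQM : Q ≤ M) (hQ : IsPGroup q Q)
    (hidx : ¬ q ∣ Q.index) : normalizer (Q : Set G) ≤ M := by
  obtain ⟨P, hPM, hPp, hPidx, hN⟩ := exists_sigma_sylow hq
  obtain ⟨S, hS, -⟩ := sylow_of_relIndex hPM hPp fun h =>
    hPidx (h.trans (Dvd.intro _ (Subgroup.relIndex_mul_index hPM)))
  obtain ⟨T, hT, -⟩ := sylow_of_relIndex hQM hQ fun h =>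
    hidx (h.trans (Dvd.intro _ (Subgroup.relIndex_mul_index hQM)))
  obtain ⟨m, hm⟩ := MulAction.exists_smul_eq M S T
  have e : Q = MulAut.conj (m : G) • P := by
    rw [← hT, ← hS, ← hm]
    ext y
    constructor
    · rintro ⟨_, ⟨x, hx, rfl⟩, rfl⟩
      exact ⟨(x : G), ⟨x, hx, rfl⟩, rfl⟩
    · rintro ⟨_, ⟨x, hx, rfl⟩, rfl⟩
      exact ⟨MulAut.conj m x, ⟨x, hx, rfl⟩, rfl⟩
  intro n hn
  have h1 : (m : G)⁻¹ * n * m ∈ M := hN (mem_normalizer_of_conj_smul (by
    rw [← CfsgLib.conj_smul_mul, ← CfsgLib.conj_smul_mul, ← e, conj_smul_eq_of_mem_normalizer hn, e,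
      CfsgLib.conj_smul_mul, inv_mul_cancel, map_one, one_smul]))
  have := M.mul_mem (M.mul_mem m.2 h1) (M.inv_mem m.2)
  rwa [show (m : G) * ((m : G)⁻¹ * n * m) * (m : G)⁻¹ = n by group] at this

/-- A Sylow `q`-subgroup of `G`, `q ∈ σ(M)`, lies in one conjugate of `M` only. -/
theorem mem_of_sigma_sylow (hq : q ∈ sigma M) {Q : Subgroup G} (hQM : Q ≤ M) (hQ : IsPGroup q Q)
    (hidx : ¬ q ∣ Q.index) (hQ1 : Q ≠ ⊥) {g : G} (hQg : Q ≤ MulAut.conj g • M) : g ∈ M := by
  obtain ⟨P, hPM, hPp, hPidx, hN⟩ := exists_sigma_sylow hq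
  obtain ⟨m, hm, c, hc, e⟩ := conj_eq_mul hG hM hPM hPp hPidx hN hQ hQ1 hQM (g := g⁻¹)
    (by
      have := conj_smul_mono hQg g⁻¹
      rwa [CfsgLib.conj_smul_mul, inv_mul_cancel, map_one, one_smul] at this)
  have hcM : c ∈ M :=
    normalizer_sigma_sylow_le hG hM hq hQM hQ hidx (Subgroup.centralizer_le_normalizer _ hc)
  exact inv_mem_iff.mp (e ▸ M.mul_mem hm hcM)

theorem sigma_dvd_core (hq : q ∈ sigma M) : q ∣ Nat.card (sigmaCore M) := by
  have h := (sigmaCore_hall hG hM).1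
  by_contra hnd
  refine h.2.2 q Fact.out hq ?_
  have := hq.2.1
  rw [← Subgroup.card_mul_index ((sigmaCore M).subgroupOf M),
    Nat.card_congr (Subgroup.subgroupOfEquivOfLe h.1).toEquiv] at this
  exact ((Fact.out : q.Prime).dvd_mul.mp this).resolve_left hnd

theorem coprime_sigmaCore {S : Subgroup G} (hp : p ∉ sigma M) (hS : IsPGroup p S) {X : Subgroup G}
    (hX : X ≤ sigmaCore M) : (Nat.card S).Coprime (Nat.card X) := by
  refine Nat.coprime_of_dvd fun r hr h1 h2 => hp ?_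
  rw [← card_dvd_of_pgroup hS hr h1]
  exact (sigmaCore_hall hG hM).1.2.1 r hr (h2.trans (Subgroup.card_dvd_of_le hX))

theorem le_normalizer_sigmaCore {S : Subgroup G} (hSM : S ≤ M) : S ≤ normalizer (sigmaCore M : Set G) :=
  hSM.trans (le_normalizer_piCoreOf_self _ _)

/-- An invariant `q`-subgroup of `M_σ` lies in an invariant Sylow subgroup of `G`. -/
theorem exists_invariant_sylow (hq : q ∈ sigma M) (hp : p ∉ sigma M) {S : Subgroup G} (hSM : S ≤ M)
    (hS : IsPGroup p S) {D : Subgroup G} (hD : D ≤ sigmaCore M) (hDq : IsPGroup q D)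
    (hSD : S ≤ normalizer (D : Set G)) :
    ∃ Q : Subgroup G, D ≤ Q ∧ Q ≤ sigmaCore M ∧ IsPGroup q Q ∧ ¬ q ∣ Q.index ∧
      S ≤ normalizer (Q : Set G) ∧ Q ≠ ⊥ := by
  have hNM : sigmaCore M ≤ M := piCoreOf_le _ _
  obtain ⟨H, hH, hSH, hDH⟩ := CfsgLib.le_invariant_hall (π := ({q} : Set ℕ)) (le_normalizer_sigmaCore hG hM hSM)
    (coprime_sigmaCore hG hM hp hS le_rfl) (solvable_of_le hNM (solvable_of_ne_top hG hM.1)) hD hSD
    (fun r hr hd => card_dvd_of_pgroup hDq hr hd)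
  have hHq : IsPGroup q H := IsPGroup.of_card (n := (Nat.card H).primeFactorsList.length)
    (Nat.eq_prime_pow_of_unique_prime_dvd Nat.card_pos.ne' fun {r} hr hd => hH.2.1 r hr hd)
  have hidx : ¬ q ∣ H.index := by
    rw [← Subgroup.relIndex_mul_index hH.1]
    intro h
    rcases (Fact.out : q.Prime).dvd_mul.mp h with h | h
    · exact hH.2.2 q Fact.out rfl h
    · exact (sigmaCore_hall hG hM).2.2 q Fact.out hq h
  refine ⟨H, hDH, hH.1, hHq, hidx, hSH, fun e => hidx ?_⟩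
  rw [e, Subgroup.index_bot]
  exact (sigma_dvd_core hG hM hq).trans (Subgroup.card_subgroup_dvd_card _)

theorem sigmaCore_ne_bot : sigmaCore M ≠ ⊥ := by
  intro e
  have hσ : ∀ r : ℕ, r ∉ sigma M := fun r hr => by
    haveI := Fact.mk hr.1
    have := sigma_dvd_core (q := r) hG hM hr
    rw [e, Subgroup.card_bot] at this
    exact hr.1.not_dvd_one this
  haveI := solvable_of_ne_top hG hM.1
  have hrank : RankLE 2 M := fun r hr => by
    haveI := Fact.mk hr
    by_contra h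
    exact hσ r (alpha_subset_sigma hG hM ⟨hr, h⟩)
  have hM1 : M ≠ ⊥ := fun e' => by
    obtain ⟨t, ht, htd, -⟩ := exists_prime_not_sigma hG hM
    rw [e', Subgroup.card_bot] at htd
    exact ht.not_dvd_one htd
  have hne : (Nat.card M).primeFactors.Nonempty := Nat.nonempty_primeFactors.mpr
    ((Subgroup.one_lt_card_iff_ne_bot _).mpr hM1)
  set r := (Nat.card M).primeFactors.max' hne with hr
  obtain ⟨hrp, hrd, -⟩ := Nat.mem_primeFactors.mp (Finset.max'_mem _ hne)
  haveI := Fact.mk hrp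
  obtain ⟨N, hNc, hNh⟩ := (Cfsg.Agent.S1451.result (odd_subgroup hG.1 M) (Or.inl hrank)).2.2 (r - 1)
  haveI := hNc
  have hNr : IsPGroup r N := IsPGroup.of_card (n := (Nat.card N).primeFactorsList.length)
    (Nat.eq_prime_pow_of_unique_prime_dvd Nat.card_pos.ne' fun {t} ht htd => by
      have h1 := (hNh.1 t ht htd).2
      have h2 : t ≤ r := Finset.le_max' _ _ (Nat.mem_primeFactors.mpr
        ⟨ht, htd.trans (Subgroup.card_subgroup_dvd_card _), Nat.card_pos.ne'⟩)
      omega)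
  have hidx : ¬ r ∣ N.index := hNh.2 r hrp ⟨hrp, by have := hrp.pos; omega⟩
  refine hσ r ⟨hrp, hrd, hNr.toSylow hidx, ?_⟩
  refine le_of_eq (normalizer_eq hG hM (X := N.map M.subtype) ?_ ?_ ?_)
  · intro e'
    refine hidx ?_
    rw [(Subgroup.map_eq_bot_iff_of_injective _ M.subtype_injective).mp e', Subgroup.index_bot]
    exact hrd
  · exact fun e' => hM.1 (top_le_iff.mp (e' ▸ Subgroup.map_subtype_le N))
  · intro g hg
    refine mem_normalizer_of_conj_smul ?_
    ext y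
    constructor
    · rintro ⟨_, ⟨x, hx, rfl⟩, rfl⟩
      exact ⟨MulAut.conj (⟨g, hg⟩ : M) x, (inferInstance : N.Normal).conj_mem x hx _, rfl⟩
    · rintro ⟨x, hx, rfl⟩
      exact ⟨g⁻¹ * x * g, ⟨(⟨g, hg⟩ : M)⁻¹ * x * ⟨g, hg⟩, by
        simpa using (inferInstance : N.Normal).conj_mem x hx (⟨g, hg⟩ : M)⁻¹, rfl⟩, by simp [mul_assoc]⟩

/-- Two invariant Sylow subgroups meeting a common proper overgroup both lie in `M`. -/
theorem le_of_meet (hq : q ∈ sigma M) (hp : p ∉ sigma M) {A S : Subgroup G} (hA : IsMaxTwo p A)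
    (hS : IsPGroup p S) (hAS : A ≤ S) (hCA : centralizer (A : Set G) ≤ M) {Q₁ Q₂ H : Subgroup G}
    (hQ₁M : Q₁ ≤ M) (hQ₁ : IsPGroup q Q₁) (hi₁ : ¬ q ∣ Q₁.index) (hS₁ : S ≤ normalizer (Q₁ : Set G))
    (hQ₂ : IsPGroup q Q₂) (hi₂ : ¬ q ∣ Q₂.index) (hS₂ : S ≤ normalizer (Q₂ : Set G))
    (hH : H ≠ ⊤) (hSH : S ≤ H) (h₁ : H ⊓ Q₁ ≠ ⊥) (h₂ : H ⊓ Q₂ ≠ ⊥) : Q₂ ≤ M := by
  have hmax : ∀ Q : Subgroup G, IsPGroup q Q → ¬ q ∣ Q.index → S ≤ normalizer (Q : Set G) →
      Q ∈ maxInvSubgroups ⊤ S {q} := fun Q hQ hi hN =>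
    ⟨⟨le_top, fun r hr hd => card_dvd_of_pgroup hQ hr hd, hN⟩, fun R hR hle => by
      refine eq_of_sylow (X := (⊤ : Subgroup G)) ?_ hle le_top (isPGroup_of_inv hR)
      rwa [Subgroup.relIndex_top_right]⟩
  have hqS : ¬ q ∣ Nat.card S := fun h => hp (card_dvd_of_pgroup hS Fact.out h ▸ hq)
  obtain ⟨k, hk, e⟩ := conj_of_common hG (hA.transitivity hG hS hAS) hqS _ Q₁ Q₂ (hmax _ hQ₁ hi₁ hS₁)
    (hmax _ hQ₂ hi₂ hS₂) rfl H hH hSH h₁ h₂
  have hkM : k ∈ M := hCA (centralizer_anti hAS (coreK_le _ hk))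
  rw [e]
  exact (conj_smul_mono hQ₁M k).trans (smul_eq_self_of_mem hkM).le

end Sigma

theorem centralizer_core_normal (S : Subgroup G) :
    normalizer (S : Set G) ≤ normalizer (coreK S : Set G) :=
  le_trans (CfsgLib.CharP.normalizer_le_normalizer_centralizer S) (normalizer_le_normalizer_piCoreOf _ _)

theorem coreK_coprime {S : Subgroup G} (hS : IsPGroup p S) (h1 : S ≠ ⊥) :
    (Nat.card (coreK S)).Coprime p := by
  refine Nat.coprime_of_dvd fun r hr h2 h3 => ?_
  rw [(Nat.prime_dvd_prime_iff_eq hr Fact.out).mp h3] at h2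
  refine (pi_piCoreOf _ _ p Fact.out h2).2 ?_
  obtain ⟨k, hk⟩ := hS.exists_card_eq
  exact hk ▸ dvd_pow_self p fun e => h1 (Subgroup.card_eq_one.mp (by rw [hk, e, pow_zero]))

/-- A Sylow subgroup of a supplement of a normal `p'`-subgroup stays Sylow. -/
theorem not_dvd_relIndex_of_factor {X K N P : Subgroup G} (hXK : X ≤ normalizer (K : Set G))
    (hKc : (Nat.card K).Coprime p) (hNX : N ≤ X) (hfac : X ≤ K ⊔ N) (hPN : P ≤ N)
    (hP : ¬ p ∣ P.relIndex N) : ¬ p ∣ P.relIndex X := by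
  rw [← Subgroup.relIndex_mul_relIndex P N X hPN hNX]
  intro h
  rcases (Fact.out : p.Prime).dvd_mul.mp h with h | h
  · exact hP h
  have h1 : Nat.card X ∣ Nat.card N * Nat.card K :=
    (Subgroup.card_dvd_of_le hfac).trans (CfsgLib.Signalizer.card_sup_dvd (hNX.trans hXK))
  rw [← Subgroup.card_mul_index (N.subgroupOf X),
    Nat.card_congr (Subgroup.subgroupOfEquivOfLe hNX).toEquiv] at h1
  exact (Fact.out : p.Prime).ne_one (Nat.eq_one_of_dvd_coprimes hKc
    (h.trans (Nat.dvd_of_mul_dvd_mul_left Nat.card_pos h1)) dvd_rfl)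

/-- A supplement to `O_{p'}(C(S))` in `N(S)`. -/
theorem normalizer_le_coreK_sup (hG : IsMinSimpleOddOrder G) {A S Q : Subgroup G} (hA : IsMaxTwo p A)
    (hS : IsPGroup p S) (hAS : A ≤ S) (hqp : q ≠ p)
    (hQ : Q ∈ maxInvSubgroups ⊤ S {q}) (hQA : Q ⊓ centralizer (A : Set G) ≠ ⊥) :
    normalizer (S : Set G) ≤ coreK S ⊔ (normalizer (S : Set G) ⊓ normalizer (Q : Set G)) := by
  intro n hn
  have hS1 : S ≠ ⊥ := fun e => hA.ne_bot (le_bot_iff.mp (e ▸ hAS))
  obtain ⟨z, hzS, hzo, hzc⟩ := exists_central hS hS1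
  have hzp : z ^ p = 1 := hzo ▸ pow_orderOf_eq_one z
  set z' := MulAut.conj n z with hz'
  have hz'p : z' ^ p = 1 := by rw [hz', ← map_pow, hzp, map_one]
  have hz'c : z' ∈ centralizer (S : Set G) := by
    intro s hs
    have h1 : n⁻¹ * s * n ∈ S := (Subgroup.mem_normalizer_iff''.mp hn s).mp hs
    have h2 := hzc _ h1
    rw [hz', MulAut.conj_apply]
    calc s * (n * z * n⁻¹) = n * ((n⁻¹ * s * n) * z) * n⁻¹ := by group
      _ = n * (z * (n⁻¹ * s * n)) * n⁻¹ := by rw [h2]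
      _ = (n * z * n⁻¹) * s := by group
  have hz'1 : z' ≠ 1 := fun e => by
    rw [hz', map_eq_one_iff _ (MulEquiv.injective _)] at e
    rw [e, orderOf_one] at hzo
    exact (Fact.out : p.Prime).one_lt.ne hzo
  have hzA := hA.central_mem hAS hzp hzc
  have hz'A := hA.central_mem hAS hz'p hz'c
  set H := centralizer ({z'} : Set G)
  have hH : H ≠ ⊤ := fun e => by
    have h : z' ∈ Subgroup.center G := Subgroup.mem_center_iff.mpr fun g =>
      Subgroup.mem_centralizer_singleton_iff.mp (e.ge (Subgroup.mem_top g))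
    rw [center_eq_bot hG, Subgroup.mem_bot] at h
    exact hz'1 h
  have hSH : S ≤ H := fun s hs => Subgroup.mem_centralizer_singleton_iff.mpr (hz'c s hs)
  have hqS : ¬ q ∣ Nat.card S := fun h => hqp (card_dvd_of_pgroup hS Fact.out h)
  obtain ⟨x, hx1⟩ := Subgroup.ne_bot_iff_exists_ne_one.mp hQA
  have hm1 : H ⊓ Q ≠ ⊥ := fun e' => hx1 (Subtype.ext (Subgroup.mem_bot.mp (e'.le
    ⟨Subgroup.mem_centralizer_singleton_iff.mpr (x.2.2 z' hz'A).symm, x.2.1⟩)))
  have hm2 : H ⊓ MulAut.conj n • Q ≠ ⊥ := fun e' => hx1 (Subtype.ext (by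
    have h2 : MulAut.conj n (x : G) ∈ H := Subgroup.mem_centralizer_singleton_iff.mpr (by
      rw [hz', ← map_mul, ← map_mul, x.2.2 z hzA])
    have h3 := e'.le ⟨h2, Subgroup.smul_mem_pointwise_smul _ _ _ x.2.1⟩
    rw [Subgroup.mem_bot, map_eq_one_iff _ (MulEquiv.injective _)] at h3
    exact h3))
  obtain ⟨k, hk, e⟩ := conj_of_common hG (hA.transitivity hG hS hAS) hqS _ Q (MulAut.conj n • Q) hQ
    (conj_mem_max hn hQ) rfl H hH hSH hm1 hm2
  have h1 : k⁻¹ * n ∈ normalizer (S : Set G) ⊓ normalizer (Q : Set G) := by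
    have hkS : k ∈ normalizer (S : Set G) := Subgroup.centralizer_le_normalizer _ (coreK_le _ hk)
    refine ⟨mul_mem ((normalizer (S : Set G)).inv_mem hkS) hn, mem_normalizer_of_conj_smul ?_⟩
    rw [← CfsgLib.conj_smul_mul, e, CfsgLib.conj_smul_mul, inv_mul_cancel, map_one, one_smul]
  have := mul_mem (Subgroup.mem_sup_left (T := normalizer (S : Set G) ⊓ normalizer (Q : Set G)) hk)
    (Subgroup.mem_sup_right (S := coreK S) h1)
  rwa [mul_inv_cancel_left] at this

theorem max_inv_restrict {A S Q : Subgroup G} (hAS : A ≤ S) (hQ : Q ∈ maxInvSubgroups ⊤ A {q})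
    (hSQ : S ≤ normalizer (Q : Set G)) : Q ∈ maxInvSubgroups ⊤ S {q} :=
  ⟨⟨le_top, hQ.1.2.1, hSQ⟩, fun R hR hle => hQ.2 R ⟨le_top, hR.2.1, hAS.trans hR.2.2⟩ hle⟩

theorem exists_sylow_derived_inv (hG : IsMinSimpleOddOrder G) {A Q : Subgroup G} (hA : IsMaxTwo p A)
    (hqp : q ≠ p) (hQ : Q ∈ maxInvSubgroups ⊤ A {q}) (hQA : Q ⊓ centralizer (A : Set G) ≠ ⊥) :
    ∃ S : Sylow p G, A ≤ (S : Subgroup G) ∧ (S : Subgroup G) ≤ normalizer (Q : Set G) ∧
      (S : Subgroup G) ≤ ⁅normalizer (Q : Set G), normalizer (Q : Set G)⁆ := by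
  obtain ⟨S, ⟨hSp, hAS, hSQ⟩, hmax⟩ := (Set.toFinite {S : Subgroup G | IsPGroup p S ∧ A ≤ S ∧
    S ≤ normalizer (Q : Set G)}).exists_maximal ⟨A, hA.isPGroup, le_rfl, hQ.1.2.2⟩
  have hfac := normalizer_le_coreK_sup hG hA hSp hAS hqp (max_inv_restrict hAS hQ hSQ) hQA
  have hS1 : S ≠ ⊥ := fun e => hA.ne_bot (le_bot_iff.mp (e ▸ hAS))
  set N := normalizer (S : Set G) ⊓ normalizer (Q : Set G) with hN
  have hSN : S ≤ N := le_inf Subgroup.le_normalizer hSQ
  have hrel : ¬ p ∣ S.relIndex N := by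
    obtain ⟨R, hSR, hRN, hRp, hR⟩ := exists_sylow_ge hSN hSp
    rw [le_antisymm hSR (hmax ⟨hRp, hAS.trans hSR, hRN.trans inf_le_right⟩ hSR)]
    exact hR
  have hidx : ¬ p ∣ S.index := sylow_of_normalizer hSp
    (not_dvd_relIndex_of_factor (centralizer_core_normal S) (coreK_coprime hSp hS1) inf_le_left hfac hSN hrel)
  have hd := le_derived_normalizer hG (P := hSp.toSylow hidx)
  exact ⟨hSp.toSylow hidx, hAS, hSQ, (le_derived_of_factor (centralizer_core_normal S) (coreK_coprime hSp hS1)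
    inf_le_left hfac hSN hSp hd).trans (Subgroup.commutator_mono inf_le_right inf_le_right)⟩

/-- B–G 10.10: if `A` centralises some of `Q`, then `A ≤ N(Q)'`. -/
theorem le_derived_normalizer_inv (hG : IsMinSimpleOddOrder G) {A Q : Subgroup G} (hA : IsMaxTwo p A)
    (hqp : q ≠ p) (hQ : Q ∈ maxInvSubgroups ⊤ A {q}) (hQA : Q ⊓ centralizer (A : Set G) ≠ ⊥) :
    A ≤ ⁅normalizer (Q : Set G), normalizer (Q : Set G)⁆ := by
  obtain ⟨S, hAS, -, hd⟩ := exists_sylow_derived_inv hG hA hqp hQ hQA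
  exact hAS.trans hd

/-- The derived group of the automiser of a narrow `q`-group is a `q`-group. -/
theorem narrow_centralized (hG : IsMinSimpleOddOrder G) {A Q : Subgroup G} (hA : IsPGroup p A) (hqp : q ≠ p)
    (hq2 : q ≠ 2) (hQ : IsPGroup q Q) (hQ1 : Q ≠ ⊥) (hn : IsNarrow q Q)
    (hAd : A ≤ ⁅normalizer (Q : Set G), normalizer (Q : Set G)⁆) : A ≤ centralizer (Q : Set G) := by
  set N := normalizer (Q : Set G) with hN
  haveI : Group.IsSolvable N := solvable_of_ne_top hG (normalizer_ne_top hG hQ1 (pgroup_ne_top hG hQ))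
  haveI : Finite (MulAut Q) := Finite.of_injective (fun f => (f : Q → Q)) DFunLike.coe_injective
  set φ := Q.normalizerMonoidHom
  set Y := φ.range
  haveI : Group.IsSolvable Y := Group.isSolvable_of_surjective φ.rangeRestrict_surjective
  have hodd : Odd (Nat.card Y) := (odd_subgroup hG.1 N).of_dvd_nat (Subgroup.card_range_dvd φ)
  obtain ⟨x, hx, hr⟩ := CfsgLib.NarrowStructure.small_of_narrow hn
  have hd := CfsgLib.NarrowDerived.derived_isPGroup hq2 hQ hx hr hodd Y.subtype Y.subtype_injective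
  intro a ha
  have haN : a ∈ N := Subgroup.commutator_le_self N (hAd ha)
  have h1 : φ.rangeRestrict ⟨a, haN⟩ ∈ commutator Y := by
    have h2 : (⟨a, haN⟩ : N) ∈ commutator N := by
      have := hAd ha
      rw [← Subgroup.map_subtype_commutator N] at this
      obtain ⟨b, hb, e⟩ := this
      rwa [show (⟨a, haN⟩ : N) = b from Subtype.ext e.symm]
    exact (Subgroup.map_le_iff_le_comap.mp (by
      rw [_root_.commutator_def, Subgroup.map_commutator]
      exact Subgroup.commutator_mono le_top le_top : (commutator N).map φ.rangeRestrict ≤ commutator Y)) h2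
  obtain ⟨i, hi⟩ := hd ⟨_, h1⟩
  obtain ⟨j, hj⟩ := hA ⟨a, ha⟩
  have e1 : φ ⟨a, haN⟩ ^ q ^ i = 1 := congrArg (fun t : commutator Y => ((t : Y) : MulAut Q)) hi
  have e2 : φ ⟨a, haN⟩ ^ p ^ j = 1 := by
    rw [← map_pow, show (⟨a, haN⟩ : N) ^ p ^ j = 1 from
      Subtype.ext (congrArg (fun t : A => (t : G)) hj), map_one]
  have e3 : (⟨a, haN⟩ : N) ∈ φ.ker := by
    rw [MonoidHom.mem_ker, ← orderOf_eq_one_iff]
    exact Nat.eq_one_of_dvd_coprimes (Nat.Coprime.pow i j ((Nat.coprime_primes Fact.out Fact.out).mpr hqp))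
      (orderOf_dvd_of_pow_eq_one e1) (orderOf_dvd_of_pow_eq_one e2)
  rwa [Subgroup.normalizerMonoidHom_ker, Subgroup.mem_subgroupOf] at e3

/-- Two coprime groups with a common fixed-point-free automorphism of prime order commute. -/
theorem centralizes_of_fpf {R V : Subgroup G} {x : G} (hx : orderOf x = p) (hxR : x ∈ normalizer (R : Set G))
    (hxV : x ∈ normalizer (V : Set G)) (hRV : R ≤ normalizer (V : Set G))
    (hcop : (Nat.card R).Coprime (Nat.card V)) (hR : R ⊓ centralizer ({x} : Set G) = ⊥)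
    (hV : V ⊓ centralizer ({x} : Set G) = ⊥) : R ≤ centralizer (V : Set G) := by
  rcases eq_or_ne V ⊥ with rfl | hV1
  · intro r _ v hv
    rw [Subgroup.coe_bot, Set.mem_singleton_iff] at hv
    rw [hv, one_mul, mul_one]
  set W := R ⊔ V with hW
  have hWx : MulAut.conj x • W = W := by
    rw [hW, Subgroup.smul_sup, conj_smul_eq_of_mem_normalizer hxR, conj_smul_eq_of_mem_normalizer hxV]
  have hxW := mem_normalizer_of_conj_smul hWx
  set φ : W ≃* W := W.normalizerMonoidHom ⟨x, hxW⟩ with hφ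
  have hφv : ∀ w : W, (φ w : G) = x * w * x⁻¹ := fun w => rfl
  have hWset : (W : Set G) = (R : Set G) * (V : Set G) := Subgroup.coe_mul_of_left_le_normalizer_right R V hRV
  have hfpf : MonoidHom.FixedPointFree (φ : W →* W) := by
    intro w hw
    have hw' : x * (w : G) * x⁻¹ = w := by rw [← hφv]; exact congrArg Subtype.val hw
    obtain ⟨r, hr, v, hv, e⟩ := Set.mem_mul.mp (hWset ▸ w.2 : (w : G) ∈ (R : Set G) * (V : Set G))
    have h1 : x * r * x⁻¹ * (x * v * x⁻¹) = r * v := by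
      rw [show x * r * x⁻¹ * (x * v * x⁻¹) = x * (r * v) * x⁻¹ by group, e]
      exact hw'
    have hr' : x * r * x⁻¹ ∈ R := (Subgroup.mem_normalizer_iff.mp hxR r).mp hr
    have hv' : x * v * x⁻¹ ∈ V := (Subgroup.mem_normalizer_iff.mp hxV v).mp hv
    have h2 : r⁻¹ * (x * r * x⁻¹) ∈ R ⊓ V := by
      refine ⟨mul_mem (R.inv_mem hr) hr', ?_⟩
      rw [show r⁻¹ * (x * r * x⁻¹) = v * (x * v * x⁻¹)⁻¹ by
        rw [eq_mul_inv_iff_mul_eq, mul_assoc, h1, inv_mul_cancel_left]]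
      exact mul_mem hv (V.inv_mem hv')
    rw [disjoint_iff.mp (Subgroup.disjoint_of_coprime_natCard hcop), Subgroup.mem_bot,
      inv_mul_eq_one] at h2
    have h3 : r ∈ R ⊓ centralizer ({x} : Set G) := ⟨hr, Subgroup.mem_centralizer_singleton_iff.mpr (by
      nth_rw 1 [h2]; group)⟩
    rw [hR, Subgroup.mem_bot] at h3
    subst h3
    have h4 : v ∈ V ⊓ centralizer ({x} : Set G) := by
      rw [mul_one, mul_inv_cancel, one_mul, one_mul] at h1
      exact ⟨hv, Subgroup.mem_centralizer_singleton_iff.mpr (by nth_rw 1 [← h1]; group)⟩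
    rw [hV, Subgroup.mem_bot] at h4
    subst h4
    exact Subtype.ext (by rw [← e, one_mul, Subgroup.coe_one])
  have hord : orderOf φ = p := by
    refine orderOf_eq_prime ?_ ?_
    · rw [hφ, ← map_pow, show (⟨x, hxW⟩ : normalizer (W : Set G)) ^ p = 1 from
        Subtype.ext (hx ▸ pow_orderOf_eq_one x), map_one]
    · intro e
      refine hV1 ((Subgroup.eq_bot_iff_forall _).mpr fun v hv => ?_)
      exact congrArg Subtype.val (hfpf ⟨v, Subgroup.mem_sup_right hv⟩ (by rw [e]; rfl))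
  have hWn : Group.IsNilpotent W := Cfsg.Agent.S0033.result φ hfpf p Fact.out hord
  intro r hr v hv
  exact CfsgLib.ProductNilpotent.commute_of_coprime (C := W) hWn (Subgroup.mem_sup_right hv)
    (Subgroup.mem_sup_left hr) (Nat.Coprime.coprime_dvd_left (Subgroup.orderOf_dvd_natCard _ hv)
      (Nat.Coprime.coprime_dvd_right (Subgroup.orderOf_dvd_natCard _ hr) hcop.symm))

/-- `M' ∩ C(M_σ)` is nilpotent. -/
theorem nilpotent_derived_inf_centralizer (hG : IsMinSimpleOddOrder G) {M : Subgroup G} (hM : IsCoatom M) :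
    Group.IsNilpotent ↥(⁅M, M⁆ ⊓ centralizer (sigmaCore M : Set G) : Subgroup G) := by
  set D := ⁅M, M⁆ ⊓ centralizer (sigmaCore M : Set G) with hD
  have hDM : D ≤ M := inf_le_left.trans (Subgroup.commutator_le_self M)
  haveI := derived_quotient_nilpotent hG hM (alpha_subset_sigma hG hM)
  set f := QuotientGroup.mk' (piCore (sigma M) ↥M)
  have hmem : ∀ d : D, f (Subgroup.inclusion hDM d) ∈ commutator _ := fun d => by
    have h1 : (d : G) ∈ (commutator ↥M).map M.subtype := by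
      rw [Subgroup.map_subtype_commutator]; exact d.2.1
    obtain ⟨m, hm, e⟩ := h1
    rw [show Subgroup.inclusion hDM d = m from Subtype.ext e.symm]
    exact (Subgroup.map_le_iff_le_comap.mp (by
      rw [_root_.commutator_def, Subgroup.map_commutator]
      exact Subgroup.commutator_mono le_top le_top : (commutator ↥M).map f ≤ commutator _)) hm
  refine Subgroup.isNilpotent_of_ker_le_center (MonoidHom.codRestrict (f.comp (Subgroup.inclusion hDM)) _ hmem)
    fun d hd => Subgroup.mem_center_iff.mpr fun e => ?_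
  have h1 : (d : G) ∈ sigmaCore M :=
    ⟨Subgroup.inclusion hDM d, (QuotientGroup.eq_one_iff _).mp (congrArg Subtype.val hd), rfl⟩
  exact Subtype.ext (e.2.2 d h1).symm

theorem le_normalizer_derived_inf_centralizer {M : Subgroup G} :
    M ≤ normalizer ((⁅M, M⁆ ⊓ centralizer (sigmaCore M : Set G) : Subgroup G) : Set G) := fun g hg =>
  mem_normalizer_of_conj_smul (by
    have h1 : MulAut.conj g • ⁅M, M⁆ = ⁅M, M⁆ :=
      (Subgroup.map_commutator _ _ _).trans (by
        show ⁅MulAut.conj g • M, MulAut.conj g • M⁆ = _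
        rw [conj_smul_eq_of_mem_normalizer (Subgroup.le_normalizer hg)])
    have h2 : g ∈ normalizer (centralizer (sigmaCore M : Set G) : Set G) :=
      CfsgLib.CharP.normalizer_le_normalizer_centralizer _ (le_normalizer_piCoreOf_self _ _ hg)
    rw [Subgroup.smul_inf, h1, conj_smul_eq_of_mem_normalizer h2])

/-- A `p`-subgroup of a nilpotent group lies in its `p`-core. -/
theorem le_piCoreOf_of_nilpotent {D B : Subgroup G} (hD : Group.IsNilpotent D) (hBD : B ≤ D)
    (hB : IsPGroup p B) : B ≤ piCoreOf {p} D := by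
  obtain ⟨S, hS⟩ := (hB.comap_subtype (K := D)).exists_le_sylow
  haveI : (S : Subgroup D).Normal :=
    (Group.isNilpotent_of_finite_tfae.out 0 3 rfl rfl).mp hD p inferInstance S
  intro b hb
  refine ⟨⟨b, hBD hb⟩, ?_, rfl⟩
  exact (le_sSup ⟨inferInstance, fun t ht htd => card_dvd_of_pgroup S.2 ht htd⟩ :
    (S : Subgroup D) ≤ piCore {p} D) (hS hb)

theorem isPGroup_piCoreOf (p : ℕ) [Fact p.Prime] (X : Subgroup G) : IsPGroup p (piCoreOf {p} X) :=
  IsPGroup.of_card (n := (Nat.card (piCoreOf {p} X)).primeFactorsList.length)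
    (Nat.eq_prime_pow_of_unique_prime_dvd Nat.card_pos.ne' fun {t} ht htd => pi_piCoreOf _ _ t ht htd)

/-- B–G 10.11 (b): an elementary abelian `σ(M)'`-subgroup of order `p²` does not centralise `M_σ`. -/
theorem not_centralizes_sigmaCore (hG : IsMinSimpleOddOrder G) {M : Subgroup G} (hM : IsCoatom M)
    (hp : p ∉ sigma M) {B : Subgroup G} (hBM : B ≤ M) (hBe : IsElementaryAbelian p B)
    (hB2 : Nat.card B = p ^ 2) : ¬ sigmaCore M ≤ centralizer (B : Set G) := by
  intro hcen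
  have hr2 : PRankLE p 2 M := by
    by_contra h
    exact hp (alpha_subset_sigma hG hM ⟨Fact.out, h⟩)
  have hA : IsMaxTwo p B :=
    ⟨hBe, hB2, fun _ h1 h2 => maximal_elementary hG hM hr2 hBM hBe hB2 h1 h2⟩
  obtain ⟨P, hBP, hPM, hPp, hPidx⟩ := exists_sylow_ge hBM hA.isPGroup
  have hP1 : P ≠ ⊥ := fun e => hA.ne_bot (le_bot_iff.mp (e ▸ hBP))
  obtain ⟨r, hr, hrd⟩ := Nat.exists_prime_and_dvd fun e => sigmaCore_ne_bot hG hM (Subgroup.card_eq_one.mp e)
  haveI := Fact.mk hr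
  have hrσ : r ∈ sigma M := (sigmaCore_hall hG hM).1.2.1 r hr hrd
  have hrp : r ≠ p := fun e => hp (e ▸ hrσ)
  obtain ⟨Q, -, hQs, hQ, hQidx, hPQ, hQ1⟩ := exists_invariant_sylow hG hM hrσ hp hPM hPp
    (bot_le : (⊥ : Subgroup G) ≤ sigmaCore M) IsPGroup.of_bot (by
      intro a _
      exact mem_normalizer_of_conj_smul (by rw [Subgroup.smul_bot]))
  have hQmax : Q ∈ maxInvSubgroups ⊤ P {r} :=
    ⟨⟨le_top, fun t ht hd => card_dvd_of_pgroup hQ ht hd, hPQ⟩, fun R hR hle => by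
      refine eq_of_sylow (X := (⊤ : Subgroup G)) ?_ hle le_top (isPGroup_of_inv hR)
      rwa [Subgroup.relIndex_top_right]⟩
  have hfac := normalizer_le_coreK_sup hG hA hPp hBP hrp hQmax
    (by rwa [inf_eq_left.mpr (hQs.trans hcen)])
  have hQM : Q ≤ M := hQs.trans (piCoreOf_le _ _)
  have hNQ : normalizer (Q : Set G) ≤ M := normalizer_sigma_sylow_le hG hM hrσ hQM hQ hQidx
  set N := normalizer (P : Set G) ⊓ normalizer (Q : Set G) with hN
  have hPN : P ≤ N := le_inf Subgroup.le_normalizer hPQ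
  have hNM : N ≤ M := inf_le_right.trans hNQ
  have hidx : ¬ p ∣ P.index := sylow_of_normalizer hPp
    (not_dvd_relIndex_of_factor (centralizer_core_normal P) (coreK_coprime hPp hP1) inf_le_left hfac hPN
      fun h => hPidx (h.trans (by
        rw [← Subgroup.relIndex_mul_relIndex P N M hPN hNM]
        exact Dvd.intro _ rfl)))
  have hd : P ≤ ⁅M, M⁆ := ((le_derived_of_factor (centralizer_core_normal P) (coreK_coprime hPp hP1) inf_le_left
    hfac hPN hPp (le_derived_normalizer hG (P := hPp.toSylow hidx))).trans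
      (Subgroup.commutator_mono hNM hNM))
  set D := ⁅M, M⁆ ⊓ centralizer (sigmaCore M : Set G) with hD
  have hBD : B ≤ D := le_inf (hBP.trans hd) (Subgroup.le_centralizer_iff.mp hcen)
  have hBL : B ≤ piCoreOf {p} D := le_piCoreOf_of_nilpotent (nilpotent_derived_inf_centralizer hG hM) hBD hA.isPGroup
  set L := piCoreOf {p} D with hLdef
  have hL1 : L ≠ ⊥ := fun e => hA.ne_bot (le_bot_iff.mp (e ▸ hBL))
  have hML : M ≤ normalizer (L : Set G) :=
    le_normalizer_derived_inf_centralizer.trans (normalizer_le_normalizer_piCoreOf _ _)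
  have hLM : L ≤ M := (piCoreOf_le _ _).trans (inf_le_left.trans (Subgroup.commutator_le_self M))
  have hNL : normalizer (L : Set G) = M :=
    normalizer_eq hG hM hL1 (fun e => hM.1 (top_le_iff.mp (e ▸ hLM))) hML
  have hLP : L ≤ P := le_sup_right.trans (eq_of_sylow hPidx le_sup_left (sup_le hPM hLM)
    (hPp.to_sup_of_normal_right' (isPGroup_piCoreOf p D) (hPM.trans hML))).le
  have hKM : coreK P ≤ M := (coreK_le P).trans ((centralizer_anti hLP).trans
    ((Subgroup.centralizer_le_normalizer _).trans hNL.le))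
  refine hp ?_
  obtain ⟨T, hT, -⟩ := sylow_of_relIndex hPM hPp hPidx
  exact ⟨Fact.out, (hB2 ▸ dvd_pow_self p two_ne_zero).trans (Subgroup.card_dvd_of_le hBM), T,
    hT ▸ hfac.trans (sup_le hKM hNM)⟩

end CfsgLib.MinSimpleOdd
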