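import Cfsg.Agent.Lib.MinSimpleOdd.SigmaOverFrobenius
import Cfsg.Agent.Lib.Elementary
import Cfsg.Agent.Lib.CoprimeGen
import Cfsg.Agent.S1445
import Cfsg.Agent.S1446

/-!
The structure of `M` when `M_σ` is not nilpotent (B–G 15.2).
-/

set_option autoImplicit false
set_option linter.unusedSectionVars false
set_option linter.style.haveILetI false
set_option maxHeartbeats 1000000

namespace CfsgLib.MinSimpleOdd

open Subgroup Cfsg
open scoped Pointwise commutatorElement IsMulCommutative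

universe u
variable {G : Type u} [Group G] [Finite G]

/-- An automorphism of prime order and a fixed-point-free group: the latter centralises modulo any invariant
normal subgroup containing the fixed points of the former. -/
theorem commutator_le_of_fixed_le {A X T : Subgroup G} {z : G} {r : ℕ} [Fact r.Prime]
    (hz : orderOf z = r) (hzA : z ∈ normalizer (A : Set G)) (hzX : z ∈ normalizer (X : Set G))
    (hzT : z ∈ normalizer (T : Set G)) (hAX : A ≤ normalizer (X : Set G)) (hAT : A ≤ normalizer (T : Set G))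
    (hXT : X ≤ normalizer (T : Set G)) (hX : Group.IsSolvable X) (hTX : T ≤ X)
    (hcA : (Nat.card A).Coprime (Nat.card X)) (hcz : ¬ r ∣ Nat.card X)
    (hA : A ⊓ centralizer ({z} : Set G) = ⊥) (hfix : X ⊓ centralizer ({z} : Set G) ≤ T) : ⁅X, A⁆ ≤ T := by
  set N := normalizer (T : Set G) with hN
  set f := QuotientGroup.mk' (T.subgroupOf N) with hf
  set A' := (A.subgroupOf N).map f with hA'
  set D' := (X.subgroupOf N).map f with hD'
  have cA : Nat.card A' ∣ Nat.card A :=
    (Subgroup.card_map_dvd _ _).trans (Nat.card_congr (Subgroup.subgroupOfEquivOfLe hAT).toEquiv).dvd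
  have cD : Nat.card D' ∣ Nat.card X :=
    (Subgroup.card_map_dvd _ _).trans (Nat.card_congr (Subgroup.subgroupOfEquivOfLe hXT).toEquiv).dvd
  have hker : ∀ g : N, f g = 1 ↔ (g : G) ∈ T := fun g => by
    rw [hf, QuotientGroup.mk'_apply, QuotientGroup.eq_one_iff, Subgroup.mem_subgroupOf]
  have hzT' : z ∉ T := fun h => hcz ((hz ▸ Subgroup.orderOf_dvd_natCard _ h).trans
    (Subgroup.card_dvd_of_le hTX))
  set w : N := ⟨z, hzT⟩ with hw
  have hzo : orderOf (f w) = r := by
    refine ((Fact.out : r.Prime).eq_one_or_self_of_dvd _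
      ((orderOf_map_dvd f w).trans (dvd_of_eq ?_))).resolve_left fun h =>
        hzT' ((hker w).mp (orderOf_eq_one_iff.mp h))
    rw [← hz, ← Subgroup.orderOf_coe]
  have hA0 : A' ⊓ centralizer ({f w} : Set _) = ⊥ := by
    refine le_bot_iff.mp ?_
    rintro _ ⟨⟨a, ha, rfl⟩, hc⟩
    have ha' : (a : G) ∈ A := Subgroup.mem_subgroupOf.mp ha
    have h1 : f (w * a * w⁻¹ * a⁻¹) = 1 := by
      rw [map_mul, map_mul, map_mul, map_inv, map_inv, ← Subgroup.mem_centralizer_singleton_iff.mp hc]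
      group
    have h2 : z * (a : G) * z⁻¹ * (a : G)⁻¹ ∈ A ⊓ X :=
      ⟨A.mul_mem ((Subgroup.mem_normalizer_iff.mp hzA _).mp ha') (A.inv_mem ha'), hTX ((hker _).mp h1)⟩
    rw [disjoint_iff.mp (Subgroup.disjoint_of_coprime_natCard hcA), Subgroup.mem_bot, mul_inv_eq_one,
      mul_inv_eq_iff_eq_mul] at h2
    have h3 : (a : G) ∈ A ⊓ centralizer ({z} : Set G) := ⟨ha', Subgroup.mem_centralizer_singleton_iff.mpr h2.symm⟩
    rw [hA, Subgroup.mem_bot] at h3
    rw [Subgroup.mem_bot, show a = 1 from Subtype.ext h3, map_one]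
  have hD0 : D' ⊓ centralizer ({f w} : Set _) = ⊥ := by
    refine le_bot_iff.mp ?_
    rintro _ ⟨⟨d, hd, rfl⟩, hc⟩
    have hd' : (d : G) ∈ X := Subgroup.mem_subgroupOf.mp hd
    have hcopz : (Nat.card (zpowers z)).Coprime (Nat.card X) := by
      rw [Nat.card_zpowers, hz]
      exact (Fact.out : r.Prime).coprime_iff_not_dvd.mpr hcz
    obtain ⟨c, hcm, hkc⟩ := CfsgLib.coprime_fixed_quotient (A := zpowers z) (Subgroup.zpowers_le.mpr hzX) hcopz
      (Or.inr hX) hTX hXT (Subgroup.zpowers_le.mpr hzT) hd'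
      (fun a ha => by
        obtain ⟨i, rfl⟩ := Subgroup.mem_zpowers_iff.mp ha
        have hci : Commute (f d) (f w) := Subgroup.mem_centralizer_singleton_iff.mp hc
        refine (hker ((w ^ i) * d * (w ^ i)⁻¹ * d⁻¹)).mp ?_
        rw [map_mul, map_mul, map_mul, map_inv, map_inv, map_zpow, ((hci.zpow_right i).eq).symm]
        group)
    have hcT : c ∈ T := hfix ⟨hcm.1, by
      have := hcm.2
      rwa [← centralizer_zpowers] at this⟩
    rw [Subgroup.mem_bot, hker]
    have := T.mul_mem hcT (T.inv_mem hkc)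
    rwa [show c * ((d : G)⁻¹ * c)⁻¹ = (d : G) by group] at this
  have hc := centralizes_of_fpf (R := A') (V := D') hzo
    (map_subgroupOf_normalizer f (y := w) hzA) (map_subgroupOf_normalizer f (y := w) hzX)
    (fun y hy => by
      obtain ⟨a, ha, rfl⟩ := hy
      exact map_subgroupOf_normalizer f (hAX (Subgroup.mem_subgroupOf.mp ha)))
    ((hcA.coprime_dvd_left cA).coprime_dvd_right cD) hA0 hD0
  refine Subgroup.commutator_le.mpr fun d hd a ha => ?_
  have hcomm := hc ⟨⟨a, hAT ha⟩, ha, rfl⟩ (f ⟨d, hXT hd⟩) ⟨⟨d, hXT hd⟩, hd, rfl⟩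
  refine (hker ⁅(⟨d, hXT hd⟩ : N), (⟨a, hAT ha⟩ : N)⁆).mp ?_
  rw [map_commutatorElement, commutatorElement_eq_one_iff_mul_comm]
  exact hcomm

/-- The data when `M_σ` is not nilpotent. -/
structure NonNilData (M K : Subgroup G) (q : ℕ) (Q : Subgroup G) : Prop where
  d : KappaData M K
  hE : IsComplIn K (sigmaCore M) M
  hq : q.Prime
  card : Nat.card ↥(fixedCore M K) = q
  le : Q ≤ sigmaCore M
  pgroup : IsPGroup q Q
  hall : ¬ q ∣ Q.relIndex (sigmaCore M)
  normal : M ≤ normalizer (Q : Set G)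
  fixed_le : fixedCore M K ≤ Q
  not_nilpotent : ¬ Group.IsNilpotent (sigmaCore M)
  le_fitting : Q ≤ fittingHallOf M

variable {M K U : Subgroup G}

theorem nilpotent_of_kappa_empty (hG : IsMinSimpleOddOrder G) (hM : IsCoatom M) (hκ : kappa M = ∅) :
    Group.IsNilpotent (sigmaCore M) := by
  by_cases hτ : ∃ t, t ∈ Cfsg.tau2 M
  · obtain ⟨t, ht⟩ := hτ
    exact tau2_nilpotent hG hM ht
  push Not at hτ
  obtain ⟨E, hE, -⟩ := exists_complement_ge hG hM (bot_le : (⊥ : Subgroup G) ≤ M) fun r hr hd =>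
    absurd (Subgroup.card_bot (G := G) ▸ hd) hr.not_dvd_one
  have hE1 : E ≠ ⊥ := by
    intro e
    have hMs := solvable_of_ne_top hG hM.1
    have h1 : M ≤ sigmaCore M := fun m hm => by
      obtain ⟨a, ha, b, hb, rfl⟩ := hE.2.2.2 m hm
      rw [e, Subgroup.mem_bot] at ha
      rwa [ha, one_mul]
    have h2 : M ≤ ⁅M, M⁆ := h1.trans (core_le_derived hG hM subset_rfl)
    haveI : Nontrivial M := (Subgroup.nontrivial_iff_ne_bot M).mpr fun e' =>
      sigmaCore_ne_bot hG hM (le_bot_iff.mp (e' ▸ piCoreOf_le _ _))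
    haveI := hMs
    refine (Group.IsSolvable.commutator_lt_top_of_nontrivial (G := M)).ne ?_
    apply Subgroup.map_injective M.subtype_injective
    rw [Subgroup.map_subtype_commutator, ← MonoidHom.range_eq_map, Subgroup.range_subtype]
    exact le_antisymm (Subgroup.commutator_le_self M) h2
  obtain ⟨t, ht, htd⟩ := Nat.exists_prime_and_dvd fun h => hE1 (Subgroup.card_eq_one.mp h)
  haveI := Fact.mk ht
  obtain ⟨e, he⟩ := exists_prime_orderOf_dvd_card' t htd
  have hσ := complement_sigma' hG hM hE t ht htd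
  have hZc : Nat.card (zpowers (e : G)) = t := by rw [Nat.card_zpowers, Subgroup.orderOf_coe, he]
  have hZM : zpowers (e : G) ≤ M := (Subgroup.zpowers_le.mpr e.2).trans hE.1
  have hgood : sigmaCore M ⊓ centralizer (zpowers (e : G) : Set G) = ⊥ := by
    by_contra h
    exact Set.eq_empty_iff_forall_notMem.mp hκ t (kappa_of_bad hG hM
      (tau1_or_tau3 hG hM hσ (rank_one_of_not_sigma hG hM hσ (hτ t)) hZc hZM) hZc hZM h)
  refine CfsgLib.FrobAction.isNilpotent_of_fpf_operators _ _ (ne_bot_of_card hZc)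
    (le_normalizer_sigmaCore hG hM hZM) fun a ha ha1 u hu hcomm => ?_
  have hgen : zpowers a = zpowers (e : G) := Subgroup.eq_of_le_of_card_ge (Subgroup.zpowers_le.mpr ha) (by
    rw [Nat.card_zpowers a, hZc]
    rcases ht.eq_one_or_self_of_dvd _ (hZc ▸ Subgroup.orderOf_dvd_natCard _ ha) with h | h
    · exact absurd (orderOf_eq_one_iff.mp h) ha1
    · exact h.ge)
  refine Subgroup.mem_bot.mp (hgood ▸ (⟨hu, ?_⟩ : u ∈ sigmaCore M ⊓ centralizer (zpowers (e : G) : Set G)))
  rw [← hgen, ← centralizer_zpowers]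
  exact Subgroup.mem_centralizer_singleton_iff.mpr hcomm.symm

/-- B–G 15.2: `M_F ≠ M_σ` forces `U = 1`, and a normal Sylow subgroup carries `K*`. -/
theorem exists_nonNilData (hG : IsMinSimpleOddOrder G) (hM : IsCoatom M) (h : IsSigmaDecomposition M K U)
    (hn : ¬ Group.IsNilpotent (sigmaCore M)) : U = ⊥ ∧ ∃ q Q, NonNilData M K q Q := by
  haveI := solvable_of_ne_top hG hM.1
  have hK1 : K ≠ ⊥ := by
    rintro rfl
    refine hn (nilpotent_of_kappa_empty hG hM (Set.eq_empty_iff_forall_notMem.mpr fun t ht => ?_))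
    have h2 := h.hall.2.2 t ht.1 ht
    rw [Subgroup.relIndex_bot_left] at h2
    exact h2 ht.2.1
  obtain ⟨d, hs⟩ := decomp_split hG hM h hK1
  have hU : U = ⊥ := by
    by_contra hU
    exact hn (hs.two hU).1
  refine ⟨hU, ?_⟩
  have hE : IsComplIn K (sigmaCore M) M := by
    have := hs.hE
    rwa [hU, bot_sup_eq] at this
  set q := Nat.card ↥(fixedCore M K) with hqdef
  have hq : q.Prime := pair_prime_of_bot hG hM h hK1 hU
  haveI := Fact.mk hq
  set S := sigmaCore M with hSdef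
  have hSM : S ≤ M := piCoreOf_le _ _
  have hMS : M ≤ normalizer (S : Set G) := le_normalizer_sigmaCore hG hM le_rfl
  have hSs : Group.IsSolvable S := solvable_of_le hSM inferInstance
  have hKS : K ≤ normalizer (S : Set G) := hE.1.trans hMS
  have hcop : (Nat.card K).Coprime (Nat.card S) := Nat.coprime_of_dvd fun r hr h1 h2 =>
    complement_sigma' hG hM hE r hr h1 ((sigmaCore_hall hG hM).1.2.1 r hr h2)
  -- the fixed points lie in the Fitting subgroup
  set S' := S.subgroupOf M with hS'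
  set F := (Cfsg.fittingOf S').map M.subtype with hF
  have hFS : F ≤ S := by
    rintro _ ⟨y, hy, rfl⟩
    exact Subgroup.mem_subgroupOf.mp (Subgroup.map_subtype_le (fittingSubgroup S') hy)
  have hFn : Group.IsNilpotent F := by
    haveI : Group.IsNilpotent (fittingSubgroup S') := CfsgLib.isNilpotent_fittingSubgroup
    haveI : Group.IsNilpotent (Cfsg.fittingOf S') :=
      Group.nilpotent_of_mulEquiv (Subgroup.equivMapOfInjective _ S'.subtype S'.subtype_injective)
    exact Group.nilpotent_of_mulEquiv (Subgroup.equivMapOfInjective _ M.subtype M.subtype_injective)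
  haveI hS'n : S'.Normal := (Subgroup.normal_subgroupOf_iff_le_normalizer hSM).mpr hMS
  have hFM : M ≤ normalizer (F : Set G) := by
    haveI : (Cfsg.fittingOf S').Normal := by
      haveI : (fittingSubgroup S').Characteristic := Subgroup.characteristic_iff_map_le.mpr fun f => by
        haveI : ((fittingSubgroup S').map f.toMonoidHom).Normal :=
          Subgroup.Normal.map CfsgLib.fittingSubgroup_normal f.toMonoidHom f.surjective
        refine CfsgLib.le_fittingSubgroup ?_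
        haveI := CfsgLib.isNilpotent_fittingSubgroup (G := S')
        exact Group.nilpotent_of_surjective ((fittingSubgroup S').equivMapOfInjective f.toMonoidHom
          f.injective).toMonoidHom (MulEquiv.surjective _)
      exact ConjAct.normal_of_characteristic_of_normal
    intro m hm
    exact Subgroup.le_normalizer_map M.subtype ⟨⟨m, hm⟩, (Subgroup.normalizer_eq_top (H := Cfsg.fittingOf S')) ▸
      Subgroup.mem_top _, rfl⟩
  have hfix : fixedCore M K ≤ F := by
    have hne : Cfsg.fittingOf S' ⊓ centralizer ((K.subgroupOf M : Subgroup M) : Set M) ≠ ⊥ := by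
      intro he
      have hKR : S' ⊔ K.subgroupOf M = ⊤ := by
        refine eq_top_iff.mpr fun m _ => ?_
        obtain ⟨a, ha, b, hb, hab⟩ := hE.2.2.2 (m : G) m.2
        rw [show m = (⟨a, hE.1 ha⟩ : M) * ⟨b, hE.2.1 hb⟩ from Subtype.ext hab]
        exact mul_mem (Subgroup.mem_sup_right ha) (Subgroup.mem_sup_left hb)
      have hfixeq : ∀ y : M, y ∈ centralizer ((K.subgroupOf M : Subgroup M) : Set M) ↔
          (y : G) ∈ centralizer (K : Set G) := fun y =>
        ⟨fun hy k hk => congrArg Subtype.val (hy ⟨k, hE.1 hk⟩ hk), fun hy k hk => Subtype.ext (hy k hk)⟩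
      have hprime : ∀ x ∈ K.subgroupOf M, x ≠ 1 → S' ⊓ centralizer ({x} : Set M) =
          S' ⊓ centralizer ((K.subgroupOf M : Subgroup M) : Set M) := by
        intro x hx hx1
        ext y
        simp only [Subgroup.mem_inf, hfixeq, Subgroup.mem_centralizer_singleton_iff]
        refine and_congr_right fun hy => ?_
        have hp := d.prime x hx fun e => hx1 (Subtype.ext e)
        constructor
        · intro hc
          have : (y : G) ∈ fixedCore M K :=
            hp ▸ ⟨hy, Subgroup.mem_centralizer_singleton_iff.mpr (congrArg Subtype.val hc)⟩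
          exact this.2
        · intro hc
          exact Subtype.ext (hc x hx).symm
      have h1 := Cfsg.Agent.S1445.result (G := M) (hG.1.of_dvd_nat (Subgroup.card_subgroup_dvd_card M)) S'
        (K.subgroupOf M) hKR (by
          rw [Nat.card_congr (Subgroup.subgroupOfEquivOfLe hSM).toEquiv,
            Nat.card_congr (Subgroup.subgroupOfEquivOfLe hE.1).toEquiv]
          exact hcop.symm) hprime he
      refine hn ?_
      have h2 : S ≤ F := by
        have h3 : ⁅S, K⁆ = S := sigma_commutator_eq hG hM hE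
        rw [← h3]
        refine Subgroup.commutator_le.mpr fun s hs' k hk => ?_
        exact ⟨⁅(⟨s, hSM hs'⟩ : M), (⟨k, hE.1 hk⟩ : M)⁆, h1 (Subgroup.commutator_mem_commutator hs' hk), rfl⟩
      exact (le_antisymm h2 hFS).symm ▸ hFn
    obtain ⟨y, hy, hy1⟩ := (Subgroup.bot_or_exists_ne_one _).resolve_left hne
    have hyC : (y : G) ∈ fixedCore M K := ⟨hFS ⟨y, hy.1, rfl⟩, fun k hk =>
      congrArg Subtype.val (hy.2 (⟨k, hE.1 hk⟩ : M) hk)⟩
    have hgen : zpowers (y : G) = fixedCore M K := Subgroup.eq_of_le_of_card_ge (Subgroup.zpowers_le.mpr hyC) (by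
      rw [Nat.card_zpowers, ← hqdef]
      rcases hq.eq_one_or_self_of_dvd _ (Subgroup.orderOf_dvd_natCard _ hyC) with e | e
      · exact absurd (Subtype.ext (orderOf_eq_one_iff.mp e)) hy1
      · exact e.ge)
    rw [← hgen]
    exact Subgroup.zpowers_le.mpr ⟨y, hy.1, rfl⟩
  haveI := hFn
  obtain ⟨P₀⟩ : Nonempty (Sylow q F) := inferInstance
  haveI : (P₀ : Subgroup F).Characteristic := Sylow.characteristic_of_normal P₀ inferInstance
  set O := (P₀ : Subgroup F).map F.subtype with hO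
  have hMO : M ≤ normalizer (O : Set G) := (le_normalizer_map_characteristic hFM (P₀ : Subgroup F)).1
  have hOS : O ≤ S := (Subgroup.map_subtype_le _).trans hFS
  have hOp : IsPGroup q O := P₀.2.map _
  have hfixO : fixedCore M K ≤ O := by
    intro y hy
    obtain ⟨T, hT⟩ := ((isPGroup_of_card hqdef.symm).comap_subtype (K := F)).exists_le_sylow
    haveI := Sylow.unique_of_normal P₀ inferInstance
    rw [Subsingleton.elim T P₀] at hT
    exact ⟨⟨y, hfix hy⟩, hT hy, rfl⟩
  -- the quotient by `O` is nilpotent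
  set N := normalizer (O : Set G) with hN
  set f := QuotientGroup.mk' (O.subgroupOf N) with hf
  have hker : ∀ g : N, f g = 1 ↔ (g : G) ∈ O := fun g => by
    rw [hf, QuotientGroup.mk'_apply, QuotientGroup.eq_one_iff, Subgroup.mem_subgroupOf]
  have hSN : S ≤ N := hSM.trans hMO
  set π : S →* N ⧸ O.subgroupOf N := f.comp (Subgroup.inclusion hSN) with hπ
  obtain ⟨t, ht, htd⟩ := Nat.exists_prime_and_dvd fun e => hK1 (Subgroup.card_eq_one.mp e)
  haveI := Fact.mk ht
  obtain ⟨k, hk⟩ := exists_prime_orderOf_dvd_card' t htd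
  have hkN : (k : G) ∈ N := hMO (hE.1 k.2)
  have hk1 : (k : G) ≠ 1 := fun e => ht.ne_one (by rw [← hk, ← Subgroup.orderOf_coe, e, orderOf_one])
  set Z := zpowers (f ⟨k, hkN⟩) with hZ
  have hZfix : ∀ e ∈ Z, e ≠ 1 → ∀ u ∈ π.range, e * u = u * e → u = 1 := by
    intro e he he1 u hu hcomm
    have hzo : orderOf (f ⟨k, hkN⟩) = t := by
      refine (ht.eq_one_or_self_of_dvd _ ((orderOf_map_dvd f (⟨k, hkN⟩ : N)).trans (dvd_of_eq ?_))).resolve_left
        fun h => ?_
      · rw [← hk, ← Subgroup.orderOf_coe, ← Subgroup.orderOf_coe k]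
      · have h2 : (k : G) ∈ O := (hker _).mp (orderOf_eq_one_iff.mp h)
        exact hk1 (Subgroup.mem_bot.mp (hE.2.2.1 ▸ (⟨k.2, hOS h2⟩ : (k : G) ∈ K ⊓ S)))
    have hgen : zpowers e = Z := Subgroup.eq_of_le_of_card_ge (Subgroup.zpowers_le.mpr he) (by
      rw [hZ, Nat.card_zpowers, Nat.card_zpowers, hzo]
      rcases ht.eq_one_or_self_of_dvd _ ((Subgroup.orderOf_dvd_natCard _ he).trans
        (by rw [hZ, Nat.card_zpowers, hzo])) with h | h
      · exact absurd (orderOf_eq_one_iff.mp h) he1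
      · exact h.ge)
    obtain ⟨x, rfl⟩ := hu
    have hcz : Commute (π x) (f ⟨k, hkN⟩) := by
      obtain ⟨i, hi⟩ := Subgroup.mem_zpowers_iff.mp (hgen.ge (Subgroup.mem_zpowers _))
      rw [← hi]
      exact (show Commute (π x) e from hcomm.symm).zpow_right i
    have hcopk : (Nat.card (zpowers (k : G))).Coprime (Nat.card S) := by
      rw [Nat.card_zpowers, Subgroup.orderOf_coe, hk]
      exact hcop.coprime_dvd_left htd
    obtain ⟨c, hc, hkc⟩ := CfsgLib.coprime_fixed_quotient (A := zpowers (k : G))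
      (Subgroup.zpowers_le.mpr (hKS k.2)) hcopk (Or.inr hSs) hOS hSN (Subgroup.zpowers_le.mpr hkN) x.2
      (fun a ha => by
        obtain ⟨i, rfl⟩ := Subgroup.mem_zpowers_iff.mp ha
        refine (hker ((⟨k, hkN⟩ : N) ^ i * ⟨x, hSN x.2⟩ * ((⟨k, hkN⟩ : N) ^ i)⁻¹ * (⟨x, hSN x.2⟩ : N)⁻¹)).mp ?_
        rw [map_mul, map_mul, map_mul, map_inv, map_inv, map_zpow]
        have := (hcz.zpow_right i).eq
        show f ⟨k, hkN⟩ ^ i * π x * (f ⟨k, hkN⟩ ^ i)⁻¹ * (π x)⁻¹ = 1
        rw [← this]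
        group)
    have hcO : c ∈ O := hfixO (by
      rw [← d.prime k k.2 hk1, centralizer_zpowers]
      exact hc)
    refine (hker ⟨x, hSN x.2⟩).mpr ?_
    have := O.mul_mem hcO (O.inv_mem hkc)
    rwa [show c * ((x : G)⁻¹ * c)⁻¹ = (x : G) by group] at this
  haveI hπn : Group.IsNilpotent π.range := by
    refine CfsgLib.FrobAction.isNilpotent_of_fpf_operators π.range Z ?_ ?_ hZfix
    · rw [Ne, Subgroup.zpowers_eq_bot, hker]
      exact fun h => hk1 (Subgroup.mem_bot.mp (hE.2.2.1 ▸ (⟨k.2, hOS h⟩ : (k : G) ∈ K ⊓ S)))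
    · refine Subgroup.zpowers_le.mpr ?_
      have hr : π.range = (S.subgroupOf N).map f := by
        rw [hπ, MonoidHom.range_comp, Subgroup.inclusion_range]
      rw [hr]
      exact map_subgroupOf_normalizer f (hKS k.2)
  obtain ⟨P⟩ : Nonempty (Sylow q S) := inferInstance
  have hPn : (P : Subgroup S).Normal := by
    haveI hn' : ((P.mapSurjective π.rangeRestrict_surjective : Sylow q π.range) : Subgroup π.range).Normal :=
      inferInstance
    have hker' : π.rangeRestrict.ker ≤ (P : Subgroup S) := by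
      rw [MonoidHom.ker_rangeRestrict]
      intro y hy
      have hOP : O.subgroupOf S ≤ (P : Subgroup S) := by
        haveI : (O.subgroupOf S).Normal :=
          (Subgroup.normal_subgroupOf_iff_le_normalizer hOS).mpr hSN
        obtain ⟨T, hT⟩ := (hOp.comap_subtype (K := S)).exists_le_sylow
        obtain ⟨s', hs'⟩ := MulAction.exists_smul_eq S T P
        rw [← hs']
        intro z hz
        rw [Sylow.coe_subgroup_smul, Subgroup.mem_pointwise_smul_iff_inv_smul_mem]
        exact hT (by simpa using (inferInstance : (O.subgroupOf S).Normal).conj_mem z hz s'⁻¹)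
      exact hOP ((hker _).mp hy)
    have : (P : Subgroup S) = ((P.mapSurjective π.rangeRestrict_surjective : Sylow q π.range) :
        Subgroup π.range).comap π.rangeRestrict := by
      rw [Sylow.coe_mapSurjective, Subgroup.comap_map_eq_self hker']
    rw [this]
    infer_instance
  haveI : (P : Subgroup S).Characteristic := Sylow.characteristic_of_normal P hPn
  set Q := (P : Subgroup S).map S.subtype with hQ
  have hQM : M ≤ normalizer (Q : Set G) := (le_normalizer_map_characteristic hMS (P : Subgroup S)).1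
  have hQS : Q ≤ S := Subgroup.map_subtype_le _
  have hfixQ : fixedCore M K ≤ Q := by
    intro y hy
    obtain ⟨T, hT⟩ := ((isPGroup_of_card hqdef.symm).comap_subtype (K := S)).exists_le_sylow
    haveI := Sylow.unique_of_normal P hPn
    rw [Subsingleton.elim T P] at hT
    exact ⟨⟨y, hy.1⟩, hT hy, rfl⟩
  refine ⟨q, Q, d, hE, hq, rfl, hQS, P.2.map _, not_dvd_of_sylow _ P, hQM, hfixQ, hn, ?_⟩
  have hQM' : Q ≤ M := hQS.trans hSM
  intro y hy
  refine ⟨⟨y, hQM' hy⟩, ?_, rfl⟩
  refine (le_sSup ?_ : Q.subgroupOf M ≤ fittingHall M) hy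
  refine ⟨(Subgroup.normal_subgroupOf_iff_le_normalizer hQM').mpr hQM, ?_, ?_⟩
  · have hQp : IsPGroup q Q := P.2.map _
    exact (hQp.comap_subtype (K := M)).isNilpotent
  · have hQp : IsPGroup q Q := P.2.map _
    rw [Nat.card_congr (Subgroup.subgroupOfEquivOfLe hQM').toEquiv]
    refine Nat.coprime_of_dvd fun r hr h1 h2 => ?_
    have hrq := card_dvd_of_pgroup hQp hr h1
    subst hrq
    change q ∣ Q.relIndex M at h2
    rw [← Subgroup.relIndex_mul_relIndex Q S M hQS hSM] at h2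
    rcases hr.dvd_mul.mp h2 with h | h
    · exact not_dvd_of_sylow _ P h
    · exact (sigmaCore_hall hG hM).1.2.2 q hr ((sigmaCore_hall hG hM).1.2.1 q hr
        (h1.trans (Subgroup.card_dvd_of_le hQS))) h

/-- Complements of a normal Hall subgroup given by `IsComplIn`. -/
theorem isComplement'_subgroupOf {Q D S : Subgroup G} (hcop : (Nat.card Q).Coprime (Q.relIndex S))
    (h : IsComplIn Q D S) : Subgroup.IsComplement' (Q.subgroupOf S) (D.subgroupOf S) := by
  refine CfsgLib.isComplement'_of_card ?_ ?_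
  · rw [Nat.card_congr (Subgroup.subgroupOfEquivOfLe h.1).toEquiv]
    exact hcop
  · rw [Nat.card_congr (Subgroup.subgroupOfEquivOfLe h.2.1).toEquiv]
    refine Nat.eq_of_mul_eq_mul_left (Nat.card_pos (α := Q)) ?_
    rw [← card_complIn h]
    show Nat.card S = Nat.card Q * Q.relIndex S
    rw [← Subgroup.relIndex_bot_left Q, Subgroup.relIndex_mul_relIndex _ _ _ bot_le h.1,
      Subgroup.relIndex_bot_left]

/-- A quotient image of a subgroup. -/
theorem card_map_mk {T X : Subgroup G} (hTX : T ≤ X) (hXT : X ≤ normalizer (T : Set G)) :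
    Nat.card T * Nat.card ((X.subgroupOf (normalizer (T : Set G))).map
      (QuotientGroup.mk' (T.subgroupOf (normalizer (T : Set G))))) = Nat.card X := by
  set N := normalizer (T : Set G)
  set X' := X.subgroupOf N
  set φ := (QuotientGroup.mk' (T.subgroupOf N)).comp X'.subtype with hφ
  have h1 := φ.ker.card_mul_index
  rw [Subgroup.index_ker] at h1
  have e1 : Nat.card φ.range = Nat.card (X'.map (QuotientGroup.mk' (T.subgroupOf N))) := by
    rw [hφ, MonoidHom.range_comp, Subgroup.range_subtype]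
  have e2 : φ.ker = (T.subgroupOf N).subgroupOf X' := by
    ext y
    rw [MonoidHom.mem_ker, hφ, MonoidHom.comp_apply, QuotientGroup.mk'_apply, QuotientGroup.eq_one_iff,
      Subgroup.mem_subgroupOf (K := X')]
    rfl
  have e3 : Nat.card φ.ker = Nat.card T := by
    rw [e2, Nat.card_congr (Subgroup.subgroupOfEquivOfLe (show T.subgroupOf N ≤ X' from
      fun y hy => Subgroup.mem_subgroupOf.mpr (hTX (Subgroup.mem_subgroupOf.mp hy)))).toEquiv,
      Nat.card_congr (Subgroup.subgroupOfEquivOfLe Subgroup.le_normalizer).toEquiv]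
  rw [e1, e3, Nat.card_congr (Subgroup.subgroupOfEquivOfLe hXT).toEquiv] at h1
  exact h1

namespace NonNilData

variable {q : ℕ} {Q : Subgroup G}

theorem hq_mem (nd : NonNilData M K q Q) (hG : IsMinSimpleOddOrder G) : q ∈ sigma M :=
  (sigmaCore_hall hG nd.d.hM).1.2.1 q nd.hq
    (nd.card ▸ Subgroup.card_dvd_of_le (inf_le_left : fixedCore M K ≤ sigmaCore M))

theorem coprime_card (nd : NonNilData M K q Q) : (Nat.card Q).Coprime (Q.relIndex (sigmaCore M)) := by
  refine Nat.coprime_of_dvd fun r hr h1 h2 => ?_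
  haveI := Fact.mk nd.hq
  rw [card_dvd_of_pgroup nd.pgroup hr h1] at h2
  exact nd.hall h2

theorem exists_compl (nd : NonNilData M K q Q) (hG : IsMinSimpleOddOrder G) :
    ∃ D : Subgroup G, IsComplIn Q D (sigmaCore M) ∧ K ≤ normalizer (D : Set G) ∧ Group.IsNilpotent D ∧
      ¬ q ∣ Nat.card D ∧ (∀ k ∈ K, k ≠ 1 → D ⊓ centralizer ({k} : Set G) = ⊥) ∧
      ¬ D ≤ centralizer (Q : Set G) := by
  haveI := Fact.mk nd.hq
  have hM := nd.d.hM
  set S := sigmaCore M with hS
  have hSM : S ≤ M := piCoreOf_le _ _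
  have hKS : K ≤ normalizer (S : Set G) := nd.hE.1.trans (le_normalizer_sigmaCore hG hM le_rfl)
  have hcop : (Nat.card K).Coprime (Nat.card S) := Nat.coprime_of_dvd fun r hr h1 h2 =>
    complement_sigma' hG hM nd.hE r hr h1 ((sigmaCore_hall hG hM).1.2.1 r hr h2)
  obtain ⟨D, hD, hKD⟩ := CfsgLib.exists_invariant_hall {r : ℕ | r ≠ q} hKS hcop
    (solvable_of_le hSM (solvable_of_ne_top hG hM.1))
  have hqD : ¬ q ∣ Nat.card D := fun h => hD.2.1 q nd.hq h rfl
  have hQD : (Nat.card Q).Coprime (Nat.card D) := by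
    refine Nat.coprime_of_dvd fun r hr h1 h2 => ?_
    rw [card_dvd_of_pgroup nd.pgroup hr h1] at h2
    exact hqD h2
  have hinf : Q ⊓ D = ⊥ := disjoint_iff.mp (Subgroup.disjoint_of_coprime_natCard hQD)
  have hQD' : D ≤ normalizer (Q : Set G) := (hD.1.trans hSM).trans nd.normal
  have hsup : Q ⊔ D = S := by
    refine le_antisymm (sup_le nd.le hD.1) ?_
    have h1 : (Q ⊔ D).relIndex S = 1 := by
      refine Nat.eq_one_iff_not_exists_prime_dvd.mpr fun r hr hd => ?_
      by_cases hrq : r = q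
      · subst hrq
        exact nd.hall (hd.trans (Subgroup.relIndex_dvd_of_le_left S le_sup_left))
      · exact hD.2.2 r hr hrq (hd.trans (Subgroup.relIndex_dvd_of_le_left S le_sup_right))
    exact Subgroup.relIndex_eq_one.mp h1
  have hcompl : IsComplIn Q D S := ⟨nd.le, hD.1, hinf, fun m hm => by
    obtain ⟨a, ha, b, hb, hab⟩ := CfsgLib.mem_sup_of_le_normalizer hQD' (hsup.symm ▸ hm : m ∈ Q ⊔ D)
    exact ⟨a, ha, b, hb, hab.symm⟩⟩
  have hfpf : ∀ k ∈ K, k ≠ 1 → D ⊓ centralizer ({k} : Set G) = ⊥ := fun k hk hk1 =>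
    le_bot_iff.mp (hinf ▸ le_inf (((inf_le_inf_right _ hD.1).trans (nd.d.prime k hk hk1).le).trans nd.fixed_le)
      inf_le_left)
  have hDn : Group.IsNilpotent D := CfsgLib.FrobAction.isNilpotent_of_fpf_operators D K nd.d.ne hKD
    fun e he he1 u hu hc => Subgroup.mem_bot.mp (hfpf e he he1 ▸
      (⟨hu, Subgroup.mem_centralizer_singleton_iff.mpr hc.symm⟩ : u ∈ D ⊓ centralizer ({e} : Set G)))
  refine ⟨D, hcompl, hKD, hDn, hqD, hfpf, fun hc => nd.not_nilpotent ?_⟩
  haveI := hDn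
  haveI := nd.pgroup.isNilpotent
  let φ : Q × D →* G := MonoidHom.noncommCoprod Q.subtype D.subtype fun a b => (hc b.2 a a.2)
  have hr : φ.range = S := by
    refine le_antisymm ?_ fun m hm => ?_
    · rintro _ ⟨⟨a, b⟩, rfl⟩
      exact S.mul_mem (nd.le a.2) (hD.1 b.2)
    · obtain ⟨a, ha, b, hb, rfl⟩ := hcompl.2.2.2 m hm
      exact ⟨(⟨a, ha⟩, ⟨b, hb⟩), rfl⟩
  rw [← hS, ← hr]
  exact Group.nilpotent_of_surjective _ φ.rangeRestrict_surjective

/-- B–G 15.2: `q` is ideal. -/
theorem mem_beta (nd : NonNilData M K q Q) (hG : IsMinSimpleOddOrder G) : q ∈ beta M := by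
  haveI := Fact.mk nd.hq
  by_contra hβ
  have hM := nd.d.hM
  obtain ⟨D, hD, -, -, hqD, -, hmove⟩ := nd.exists_compl hG
  set S := sigmaCore M with hS
  have hSM : S ≤ M := piCoreOf_le _ _
  have hqM : q ∣ Nat.card M := (nd.card ▸ Subgroup.card_dvd_of_le (inf_le_left.trans hSM : fixedCore M K ≤ M))
  obtain ⟨-, ⟨P, N, hNn, hNP⟩, -⟩ := (Cfsg.Agent.S1414.result hG M hM).2.2.2.2 q nd.hq hqM hβ
  haveI := hNn
  haveI hQ'n : (Q.subgroupOf S).Normal :=
    (Subgroup.normal_subgroupOf_iff_le_normalizer nd.le).mpr (hSM.trans nd.normal)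
  have hcD : (Nat.card (D.subgroupOf S)).Coprime N.index := by
    rw [Nat.card_congr (Subgroup.subgroupOfEquivOfLe hD.2.1).toEquiv, hNP.symm.index_eq_card]
    refine Nat.coprime_of_dvd fun r hr h1 h2 => ?_
    rw [card_dvd_of_pgroup P.2 hr h2] at h1
    exact hqD h1
  have hDN : D.subgroupOf S ≤ N := by
    intro x hx
    rw [← QuotientGroup.eq_one_iff]
    refine orderOf_eq_one_iff.mp (Nat.eq_one_of_dvd_coprimes hcD ((orderOf_map_dvd (QuotientGroup.mk' N) x).trans
      (Subgroup.orderOf_dvd_natCard _ hx)) ?_)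
    exact _root_.orderOf_dvd_natCard _
  have hDN' : D.subgroupOf S = N := Subgroup.eq_of_le_of_card_ge hDN (by
    have h1 := (isComplement'_subgroupOf nd.coprime_card hD).card_mul
    have h2 := hNP.card_mul
    have hPQ : Nat.card (P : Subgroup S) = Nat.card (Q.subgroupOf S) := by
      obtain ⟨T, hT, hT'⟩ := sylow_of_relIndex (G := G) nd.le nd.pgroup nd.hall
      rw [← hT', Sylow.card_eq_multiplicity, Sylow.card_eq_multiplicity]
    rw [hPQ, ← h1, mul_comm] at h2
    exact (Nat.eq_of_mul_eq_mul_left Nat.card_pos h2).le)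
  refine hmove fun x hx y hy => ?_
  have := Subgroup.commute_of_normal_of_disjoint (Q.subgroupOf S) N hQ'n hNn
    (hDN' ▸ (isComplement'_subgroupOf nd.coprime_card hD).disjoint) ⟨y, nd.le hy⟩ ⟨x, hD.2.1 hx⟩ hy (hDN' ▸ hx)
  exact congrArg Subtype.val this

/-- B–G 15.2: the chief factor above `C_Q(D)`. -/
theorem chief_factor (nd : NonNilData M K q Q) (hG : IsMinSimpleOddOrder G) {D : Subgroup G}
    (hD : IsComplIn Q D (sigmaCore M)) (hKD : K ≤ normalizer (D : Set G)) (hDn : Group.IsNilpotent D)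
    (hqD : ¬ q ∣ Nat.card D) (hfpf : ∀ k ∈ K, k ≠ 1 → D ⊓ centralizer ({k} : Set G) = ⊥)
    (hmove : ¬ D ≤ centralizer (Q : Set G)) :
    M ≤ normalizer ((Q ⊓ centralizer (D : Set G) : Subgroup G) : Set G) ∧
      Q ⊓ centralizer (D : Set G) < Q ∧ (Nat.card K).Prime ∧
      Nat.card Q = Nat.card ↥(Q ⊓ centralizer (D : Set G)) * q ^ Nat.card K ∧
      (∀ a ∈ Q, ∀ b ∈ Q, a ^ q ∈ Q ⊓ centralizer (D : Set G) ∧
        a * b * a⁻¹ * b⁻¹ ∈ Q ⊓ centralizer (D : Set G)) ∧
      (∀ X : Subgroup G, Q ⊓ centralizer (D : Set G) < X → X < Q → ¬ M ≤ normalizer (X : Set G)) ∧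
      (⁅D, D⁆ : Subgroup G) ≤ centralizer (Q : Set G) := by
  haveI := Fact.mk nd.hq
  haveI := hDn
  have hM := nd.d.hM
  set S := sigmaCore M with hS
  have hSM : S ≤ M := piCoreOf_le _ _
  have hKM : K ≤ M := nd.hE.1
  have hDM : D ≤ M := hD.2.1.trans hSM
  have hQM : Q ≤ M := nd.le.trans hSM
  have hKσ := complement_sigma' hG hM nd.hE
  obtain ⟨t, ht, htd⟩ := Nat.exists_prime_and_dvd fun e => nd.d.ne (Subgroup.card_eq_one.mp e)
  haveI := Fact.mk ht
  obtain ⟨k, hk⟩ := exists_prime_orderOf_dvd_card' t htd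
  have hko : orderOf (k : G) = t := by rw [Subgroup.orderOf_coe, hk]
  have hk1 : (k : G) ≠ 1 := fun e => ht.ne_one (by rw [← hko, e, orderOf_one])
  have htS : ¬ t ∣ Nat.card S := fun h => hKσ t ht htd ((sigmaCore_hall hG hM).1.2.1 t ht h)
  have htQ : ¬ t ∣ Nat.card Q := fun h => htS (h.trans (Subgroup.card_dvd_of_le nd.le))
  have hqK : ¬ q ∣ Nat.card K := fun h => hKσ q nd.hq h (nd.hq_mem hG)
  have hfixQ : Q ⊓ centralizer ({(k : G)} : Set G) = fixedCore M K :=
    le_antisymm ((inf_le_inf_right _ nd.le).trans (nd.d.prime k k.2 hk1).le)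
      (le_inf nd.fixed_le ((nd.d.prime k k.2 hk1).ge.trans inf_le_right))
  have hcDQ : (Nat.card D).Coprime (Nat.card Q) := by
    refine Nat.coprime_of_dvd fun r hr h1 h2 => ?_
    rw [card_dvd_of_pgroup nd.pgroup hr h2] at h1
    exact hqD h1
  have hsolQ : Group.IsSolvable Q := solvable_of_le hQM (solvable_of_ne_top hG hM.1)
  have hDQ : D ≤ normalizer (Q : Set G) := hDM.trans nd.normal
  have hKQ : K ≤ normalizer (Q : Set G) := hKM.trans nd.normal
  have hline : ∀ Y : Subgroup G, Y ⊓ fixedCore M K ≠ ⊥ → fixedCore M K ≤ Y := by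
    intro Y hY
    obtain ⟨y, hy, hy1⟩ := (Subgroup.bot_or_exists_ne_one _).resolve_left hY
    rw [← (Subgroup.eq_of_le_of_card_ge (Subgroup.zpowers_le.mpr hy.2) (by
      rw [Nat.card_zpowers, nd.card]
      rcases nd.hq.eq_one_or_self_of_dvd _ ((Subgroup.orderOf_dvd_natCard _ hy.2).trans nd.card.dvd) with e | e
      · exact absurd (orderOf_eq_one_iff.mp e) hy1
      · exact e.ge) : zpowers y = fixedCore M K)]
    exact Subgroup.zpowers_le.mpr hy.1
  have hnot : ¬ fixedCore M K ≤ centralizer (D : Set G) := fun h => hmove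
    (centralizes_of_fixed_in_centralizer hko (hKD k.2) (hKQ k.2) hDQ hsolQ hcDQ htQ (hfpf k k.2 hk1) (hfixQ.le.trans h))
  set Φ := (frattini Q).map Q.subtype with hΦ
  have hΦQ : Φ ≤ Q := Subgroup.map_subtype_le _
  obtain ⟨hDΦ, hQΦ⟩ := CfsgLib.le_normalizer_map_characteristic hDQ (frattini Q)
  obtain ⟨hKΦ, -⟩ := CfsgLib.le_normalizer_map_characteristic hKQ (frattini Q)
  have hΦfix : Φ ⊓ centralizer ({(k : G)} : Set G) = ⊥ := by
    by_contra hne
    have hle : fixedCore M K ≤ Φ := hline Φ fun e => hne (le_bot_iff.mp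
      ((le_inf inf_le_left ((inf_le_inf_right _ hΦQ).trans hfixQ.le)).trans e.le))
    have h1 := commutator_le_of_fixed_le hko (hKD k.2) (hKQ k.2) (hKΦ k.2) hDQ hDΦ hQΦ hsolQ hΦQ hcDQ htQ
      (hfpf k k.2 hk1) (hfixQ.le.trans hle)
    refine hmove (CfsgLib.centralize_of_trivial_mod_frattini hDQ (hcDQ.coprime_dvd_right
      (Subgroup.card_subgroup_dvd_card _)) fun a ha y hy => ?_)
    have h2 := Φ.inv_mem (h1 (Subgroup.commutator_mem_commutator hy ha))
    rwa [commutatorElement_inv, commutatorElement_def] at h2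
  have hDcΦ : D ≤ centralizer (Φ : Set G) :=
    centralizes_of_fpf hko (hKD k.2) (hKΦ k.2) hDΦ (hcDQ.coprime_dvd_right (Subgroup.card_dvd_of_le hΦQ))
      (hfpf k k.2 hk1) hΦfix
  set Q₀ := Q ⊓ centralizer (D : Set G) with hQ₀
  have hΦ₀ : Φ ≤ Q₀ := le_inf hΦQ (Subgroup.le_centralizer_iff.mp hDcΦ)
  have hmemΦ : ∀ a : Q, a ∈ frattini Q → (a : G) ∈ Q₀ := fun a ha => hΦ₀ ⟨a, ha, rfl⟩
  have hpow : ∀ a ∈ Q, a ^ q ∈ Q₀ := fun a ha =>
    hmemΦ (⟨a, ha⟩ ^ q) (CfsgLib.pow_mem_frattini_pGroup nd.pgroup _)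
  have hcomm : ∀ a ∈ Q, ∀ b ∈ Q, a * b * a⁻¹ * b⁻¹ ∈ Q₀ := fun a ha b hb =>
    hmemΦ ⁅(⟨a, ha⟩ : Q), (⟨b, hb⟩ : Q)⁆ (CfsgLib.commutator_le_frattini_pGroup nd.pgroup
      (by rw [_root_.commutator_def]; exact Subgroup.commutator_mem_commutator (Subgroup.mem_top _) (Subgroup.mem_top _)))
  have hQN : Q ≤ normalizer (Q₀ : Set G) := fun g hg => mem_normalizer_of_conj_smul (by
    refine Subgroup.eq_of_le_of_card_ge ?_ (CfsgLib.card_conj_smul g Q₀).ge
    rintro _ ⟨y, hy, rfl⟩
    show g * y * g⁻¹ ∈ Q₀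
    have := Q₀.mul_mem (hcomm g hg y hy.1) hy
    rwa [inv_mul_cancel_right] at this)
  have hDN : D ≤ normalizer (Q₀ : Set G) :=
    (Subgroup.le_centralizer_iff.mp (inf_le_right : Q₀ ≤ centralizer (D : Set G))).trans
      (Subgroup.centralizer_le_normalizer _)
  have hKN : K ≤ normalizer (Q₀ : Set G) := fun a ha => mem_normalizer_of_conj_smul (by
    rw [hQ₀, Subgroup.smul_inf, conj_smul_eq_of_mem_normalizer (hKQ ha), ← centralizer_conj_smul,
      conj_smul_eq_of_mem_normalizer (hKD ha)])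
  have hMN : M ≤ normalizer (Q₀ : Set G) := fun m hm => by
    obtain ⟨a, ha, b, hb, rfl⟩ := nd.hE.2.2.2 m hm
    obtain ⟨c, hc, e, he, rfl⟩ := hD.2.2.2 b hb
    exact mul_mem (hKN ha) (mul_mem (hQN hc) (hDN he))
  have hlt : Q₀ < Q := lt_of_le_of_ne inf_le_left fun e =>
    hmove (Subgroup.le_centralizer_iff.mp (e.ge.trans inf_le_right))
  -- the quotient
  set N := normalizer (Q₀ : Set G) with hN
  set f := QuotientGroup.mk' (Q₀.subgroupOf N) with hf
  have hker : ∀ g : N, f g = 1 ↔ (g : G) ∈ Q₀ := fun g => by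
    rw [hf, QuotientGroup.mk'_apply, QuotientGroup.eq_one_iff, Subgroup.mem_subgroupOf]
  set D' := (D.subgroupOf N).map f with hD'
  set K' := (K.subgroupOf N).map f with hK'
  haveI hD'n : Group.IsNilpotent D' := by
    haveI : Group.IsNilpotent (D.subgroupOf N) :=
      Group.nilpotent_of_mulEquiv (Subgroup.subgroupOfEquivOfLe hDN).symm
    exact Group.nilpotent_of_surjective _ (f.subgroupMap_surjective (D.subgroupOf N))
  have hKD' : K' ≤ normalizer (D' : Set _) := by
    rintro _ ⟨a, ha, rfl⟩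
    exact map_subgroupOf_normalizer f (hKD (Subgroup.mem_subgroupOf.mp ha))
  have hKS : K ⊓ S = ⊥ := nd.hE.2.2.1
  have hfpf' : ∀ e ∈ K', e ≠ 1 → ∀ u ∈ D', e * u = u * e → u = 1 := by
    rintro _ ⟨a, ha, rfl⟩ he _ ⟨y, hy, rfl⟩ hc
    have ha' : (a : G) ∈ K := Subgroup.mem_subgroupOf.mp ha
    have hy' : (y : G) ∈ D := Subgroup.mem_subgroupOf.mp hy
    have h1 : f (a * y * a⁻¹ * y⁻¹) = 1 := by
      rw [map_mul, map_mul, map_mul, map_inv, map_inv, hc]; group
    have h2 : (a : G) * y * (a : G)⁻¹ * (y : G)⁻¹ ∈ Q ⊓ D :=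
      ⟨((hker _).mp h1).1, D.mul_mem ((Subgroup.mem_normalizer_iff.mp (hKD ha') _).mp hy') (D.inv_mem hy')⟩
    rw [hD.2.2.1, Subgroup.mem_bot, mul_inv_eq_one, mul_inv_eq_iff_eq_mul] at h2
    have ha1 : (a : G) ≠ 1 := fun e => he ((hker a).mpr (e ▸ Q₀.one_mem))
    have h3 : (y : G) ∈ D ⊓ centralizer ({(a : G)} : Set G) :=
      ⟨hy', Subgroup.mem_centralizer_singleton_iff.mpr h2.symm⟩
    rw [hfpf a ha' ha1, Subgroup.mem_bot] at h3
    exact (hker y).mpr (h3 ▸ Q₀.one_mem)
  have hK'card : Nat.card K' = Nat.card K := by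
    have hinj : Function.Injective (f.comp (Subgroup.inclusion hKN)) := by
      refine (injective_iff_map_eq_one _).mpr fun a ha => Subtype.ext (Subgroup.mem_bot.mp (hKS ▸
        (⟨a.2, nd.le ((hker _).mp ha).1⟩ : (a : G) ∈ K ⊓ S)))
    have hr : (f.comp (Subgroup.inclusion hKN)).range = K' := by
      rw [MonoidHom.range_comp, Subgroup.inclusion_range]
    rw [← hr]
    exact (Nat.card_congr (MonoidHom.ofInjective hinj).toEquiv).symm
  set F' := ((fixedCore M K).subgroupOf N).map f with hF'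
  have hF'card : Nat.card F' ∣ q :=
    (Subgroup.card_map_dvd _ _).trans ((Nat.card_congr
      (Subgroup.subgroupOfEquivOfLe (nd.fixed_le.trans hQN)).toEquiv).trans nd.card).dvd
  have hF1 : F' ≠ ⊥ := by
    intro e
    have hle : fixedCore M K ≤ Q₀ := by
      intro y hy
      have : f ⟨y, hQN (nd.fixed_le hy)⟩ ∈ F' := ⟨_, hy, rfl⟩
      rw [e, Subgroup.mem_bot, hker] at this
      exact this
    exact hnot (hle.trans inf_le_right)
  have hF'q : Nat.card F' = q :=
    (nd.hq.eq_one_or_self_of_dvd _ hF'card).resolve_left fun e => hF1 (Subgroup.card_eq_one.mp e)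
  set M' := (M.subgroupOf N).map f with hM'
  haveI hMs : Group.IsSolvable M := solvable_of_ne_top hG hM.1
  have hM's : Group.IsSolvable M' := by
    haveI : Group.IsSolvable (M.subgroupOf N) :=
      Group.isSolvable_of_isSolvable_injective (f := (Subgroup.subgroupOfEquivOfLe hMN).toMonoidHom)
        (MulEquiv.injective _)
    exact Group.isSolvable_of_surjective (f.subgroupMap_surjective (M.subgroupOf N))
  have hDKM : D' ⊔ K' ≤ M' := sup_le (Subgroup.map_mono fun x hx => hDM hx) (Subgroup.map_mono fun x hx => hKM hx)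
  have hqDK : ¬ q ∣ Nat.card ↥(D' ⊔ K') := by
    intro h
    have hc := card_complIn (complIn_sup (K := K) (O := D) hKD (le_bot_iff.mp (hKS ▸ inf_le_inf_left _ hD.2.1)))
    have hle : D' ⊔ K' = ((K ⊔ D).subgroupOf N).map f := by
      rw [Subgroup.subgroupOf_sup hKN hDN, Subgroup.map_sup, sup_comm]
    rw [hle] at h
    have h2 := (h.trans (Subgroup.card_map_dvd _ _)).trans
      (Nat.card_congr (Subgroup.subgroupOfEquivOfLe (sup_le hKN hDN)).toEquiv).dvd
    rw [hc] at h2
    exact (nd.hq.dvd_mul.mp h2).elim hqK hqD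
  have main : ∀ X : Subgroup G, Q₀ ≤ X → X ≤ Q → D ≤ normalizer (X : Set G) → K ≤ normalizer (X : Set G) →
      let X' := (X.subgroupOf N).map f
      X' ⊓ centralizer (D' : Set _) = ⊥ ∧ (∀ e ∈ K', e ≠ 1 → X' ⊓ centralizer ({e} : Set _) ≤ F') ∧
      Nat.card X' = Nat.card ↥(X' ⊓ centralizer (K' : Set _)) ^ Nat.card K ∧ IsPGroup q X' ∧
      (Nat.card ↥(D' ⊔ K')).Coprime (Nat.card X') := by
    intro X hX₀ hXQ hDX hKX X'
    have hXs : Group.IsSolvable X := solvable_of_le (hXQ.trans hQM) hMs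
    have hX'p : IsPGroup q X' := ((nd.pgroup.to_le hXQ).comap_subtype (K := N)).map f
    have hcop : (Nat.card ↥(D' ⊔ K')).Coprime (Nat.card X') := by
      refine Nat.coprime_of_dvd fun r hr h1 h2 => ?_
      rw [card_dvd_of_pgroup hX'p hr h2] at h1
      exact hqDK h1
    have hCD : X' ⊓ centralizer (D' : Set _) = ⊥ := by
      refine le_bot_iff.mp ?_
      rintro _ ⟨⟨y, hy, rfl⟩, hc⟩
      obtain ⟨c, hc', hyc⟩ := CfsgLib.coprime_fixed_quotient (A := D) hDX
        (hcDQ.coprime_dvd_right (Subgroup.card_dvd_of_le hXQ)) (Or.inr hXs) hX₀ (hXQ.trans hQN) hDN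
        (Subgroup.mem_subgroupOf.mp hy) (fun a ha => by
          refine (hker ((⟨a, hDN ha⟩ : N) * y * (⟨a, hDN ha⟩ : N)⁻¹ * y⁻¹)).mp ?_
          rw [map_mul, map_mul, map_mul, map_inv, map_inv, hc (f ⟨a, hDN ha⟩) ⟨_, ha, rfl⟩]
          group)
      have hc₀ : c ∈ Q₀ := ⟨hXQ hc'.1, hc'.2⟩
      rw [Subgroup.mem_bot, hker]
      have := Q₀.mul_mem hc₀ (Q₀.inv_mem hyc)
      rwa [show c * ((y : G)⁻¹ * c)⁻¹ = (y : G) by group] at this
    refine ⟨hCD, ?_, ?_, hX'p, hcop⟩
    · rintro _ ⟨a, ha, rfl⟩ he _ ⟨⟨y, hy, rfl⟩, hc⟩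
      have ha' : (a : G) ∈ K := Subgroup.mem_subgroupOf.mp ha
      have ha1 : (a : G) ≠ 1 := fun e => he ((hker a).mpr (e ▸ Q₀.one_mem))
      have hcop' : (Nat.card (zpowers (a : G))).Coprime (Nat.card X) := by
        refine Nat.coprime_of_dvd fun r hr h1 h2 => ?_
        rw [card_dvd_of_pgroup (nd.pgroup.to_le hXQ) hr h2] at h1
        exact hqK (h1.trans (Subgroup.card_dvd_of_le (Subgroup.zpowers_le.mpr ha')))
      have hci : Commute (f y) (f a) := Subgroup.mem_centralizer_singleton_iff.mp hc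
      obtain ⟨c, hc', hyc⟩ := CfsgLib.coprime_fixed_quotient (A := zpowers (a : G))
        (Subgroup.zpowers_le.mpr (hKX ha')) hcop' (Or.inr hXs) hX₀ (hXQ.trans hQN) (Subgroup.zpowers_le.mpr (hKN ha'))
        (Subgroup.mem_subgroupOf.mp hy) (fun b hb => by
          obtain ⟨i, rfl⟩ := Subgroup.mem_zpowers_iff.mp hb
          refine (hker (a ^ i * y * (a ^ i)⁻¹ * y⁻¹)).mp ?_
          rw [map_mul, map_mul, map_mul, map_inv, map_inv, map_zpow, ((hci.zpow_right i).eq).symm]
          group)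
      have hcF : c ∈ fixedCore M K := by
        rw [← nd.d.prime a ha' ha1, centralizer_zpowers]
        exact ⟨nd.le (hXQ hc'.1), hc'.2⟩
      refine ⟨⟨c, hQN (hXQ hc'.1)⟩, hcF, ?_⟩
      refine (mul_inv_eq_one.mp ?_).symm
      rw [← map_inv, ← map_mul, hker]
      have := Q₀.inv_mem ((Subgroup.mem_normalizer_iff.mp (hQN (hXQ (Subgroup.mem_subgroupOf.mp hy))) _).mp hyc)
      rwa [show ((y : G) * ((y : G)⁻¹ * c) * (y : G)⁻¹)⁻¹ = (y : G) * c⁻¹ by group] at this
    · have hX'N : D' ⊔ K' ≤ normalizer (X' : Set _) := by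
        refine sup_le ?_ ?_
        · rintro _ ⟨a, ha, rfl⟩
          exact map_subgroupOf_normalizer f (hDX (Subgroup.mem_subgroupOf.mp ha))
        · rintro _ ⟨a, ha, rfl⟩
          exact map_subgroupOf_normalizer f (hKX (Subgroup.mem_subgroupOf.mp ha))
      have h := CfsgLib.FrobAction.order_formula D' K' hKD' hfpf' X' hX'N hcop (by haveI := hX'p.isNilpotent; infer_instance)
      have h1 : X' ⊓ centralizer ((D' ⊔ K' : Subgroup _) : Set _) = ⊥ :=
        le_bot_iff.mp ((inf_le_inf_left _ (centralizer_anti le_sup_left)).trans hCD.le)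
      rw [h1, hCD, Subgroup.card_bot, one_pow, one_mul, mul_one, hK'card] at h
      exact h
  -- the whole factor
  obtain ⟨hCQ, hfixs, hQcard, hQ'p, hcopQ⟩ := main Q inf_le_left le_rfl hDQ hKQ
  set Q' := (Q.subgroupOf N).map f with hQ'
  have hQcard' : Nat.card Q₀ * Nat.card Q' = Nat.card Q := card_map_mk inf_le_left hQN
  have hQ'1 : Q' ≠ ⊥ := fun e => by
    rw [e, Subgroup.card_bot, mul_one] at hQcard'
    exact hlt.ne (Subgroup.eq_of_le_of_card_ge hlt.le hQcard'.ge)
  have hF'fix : ∀ e ∈ K', F' ≤ centralizer ({e} : Set _) := by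
    rintro _ ⟨a, ha, rfl⟩ _ ⟨y, hy, rfl⟩
    rw [Subgroup.mem_centralizer_singleton_iff, ← map_mul, ← map_mul]
    congr 1
    exact Subtype.ext ((Subgroup.mem_subgroupOf.mp hy).2 (a : G) (Subgroup.mem_subgroupOf.mp ha)).symm
  have hF'K : F' ≤ centralizer (K' : Set _) := fun y hy e he =>
    (Subgroup.mem_centralizer_singleton_iff.mp (hF'fix e he hy)).symm
  obtain ⟨e₀, he₀, he₀1⟩ : ∃ e ∈ K', e ≠ 1 := (Subgroup.bot_or_exists_ne_one K').resolve_left fun e => nd.d.ne
    (Subgroup.card_eq_one.mp (by rw [← hK'card, e, Subgroup.card_bot]))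
  have hF'Q : F' ≤ Q' := Subgroup.map_mono fun y hy => nd.fixed_le hy
  have hfixQ' : Q' ⊓ centralizer (K' : Set _) = F' :=
    le_antisymm ((inf_le_inf_left _ (Subgroup.centralizer_le (Set.singleton_subset_iff.mpr he₀))).trans
      (hfixs e₀ he₀ he₀1)) (le_inf hF'Q hF'K)
  obtain ⟨hKp, hDD⟩ : (Nat.card K).Prime ∧ ⁅D', D'⁆ ≤ centralizer (Q' : Set _) := by
    have hD'1 : D' ≠ ⊥ := fun e => hQ'1 (le_bot_iff.mp ((le_inf le_rfl fun y _ d hd => by
      have hd1 : d = 1 := Subgroup.mem_bot.mp (e ▸ hd)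
      rw [hd1, one_mul, mul_one]).trans hCQ.le))
    have hDK : D' ⊓ K' = ⊥ := by
      refine le_bot_iff.mp ?_
      rintro y ⟨hy1, hy2⟩
      by_contra h
      exact h (hfpf' y hy2 h y hy1 rfl)
    have h := Cfsg.Agent.S1446.result D' K' Q' hD'1 (fun e => nd.d.ne (Subgroup.card_eq_one.mp (by
        rw [← hK'card, e, Subgroup.card_bot]))) hDK hKD'
      (fun r hr hr1 => le_bot_iff.mp fun u hu => Subgroup.mem_bot.mpr
        (hfpf' r hr hr1 u hu.1 (Subgroup.mem_centralizer_singleton_iff.mp hu.2).symm))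
      (solvable_of_le hDKM hM's)
      ((((hG.1.of_dvd_nat (Subgroup.card_subgroup_dvd_card M)).of_dvd_nat
          (((Subgroup.card_map_dvd _ _).trans (Nat.card_congr (Subgroup.subgroupOfEquivOfLe hMN).toEquiv).dvd)))).of_dvd_nat
          (Subgroup.card_dvd_of_le hDKM))
      hQ'1 hQ'p.isNilpotent
      (by rintro _ ⟨a, ha, rfl⟩; exact map_subgroupOf_normalizer f (hDQ (Subgroup.mem_subgroupOf.mp ha)))
      (by rintro _ ⟨a, ha, rfl⟩; exact map_subgroupOf_normalizer f (hKQ (Subgroup.mem_subgroupOf.mp ha)))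
      hcopQ hCQ (fun x hx hx1 => by
        rw [hfixQ']
        exact le_antisymm (hfixs x hx hx1) (le_inf hF'Q (hF'fix x hx)))
    rw [← hK'card]
    refine ⟨h.1, h.2.2 ?_⟩
    rw [hfixQ']
    exact isCyclic_of_prime_card (p := q) hF'q
  have hDder : (⁅D, D⁆ : Subgroup G) ≤ centralizer (Q : Set G) := by
    have hle : (⁅D, D⁆ : Subgroup G) ≤ D := Subgroup.commutator_le_self D
    refine Subgroup.le_centralizer_iff.mp fun y hy => ?_
    obtain ⟨c, hc, hyc⟩ := CfsgLib.coprime_fixed_quotient (A := (⁅D, D⁆ : Subgroup G)) (hle.trans hDQ)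
      (hcDQ.coprime_dvd_left (Subgroup.card_dvd_of_le hle)) (Or.inr hsolQ) inf_le_left hQN (hle.trans hDN) hy
      (fun a ha => by
        refine (hker ((⟨a, hDN (hle ha)⟩ : N) * ⟨y, hQN hy⟩ * (⟨a, hDN (hle ha)⟩ : N)⁻¹ * (⟨y, hQN hy⟩ : N)⁻¹)).mp ?_
        have ha' : f ⟨a, hDN (hle ha)⟩ ∈ ⁅D', D'⁆ := by
          rw [hD', ← Subgroup.map_commutator]
          refine ⟨_, ?_, rfl⟩
          have h2 : (⁅D, D⁆ : Subgroup G) ≤ (⁅D.subgroupOf N, D.subgroupOf N⁆).map N.subtype := by
            rw [Subgroup.map_commutator, Subgroup.map_subgroupOf_eq_of_le hDN]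
          obtain ⟨z, hz, hza⟩ := h2 ha
          rwa [show (⟨a, hDN (hle ha)⟩ : N) = z from Subtype.ext hza.symm]
        have hc := hDD ha' (f ⟨y, hQN hy⟩) ⟨_, hy, rfl⟩
        rw [map_mul, map_mul, map_mul, map_inv, map_inv, ← hc]
        group)
    have h2 : y⁻¹ * c ∈ centralizer ((⁅D, D⁆ : Subgroup G) : Set G) := centralizer_anti hle hyc.2
    have := (centralizer ((⁅D, D⁆ : Subgroup G) : Set G)).mul_mem hc.2
      ((centralizer ((⁅D, D⁆ : Subgroup G) : Set G)).inv_mem h2)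
    rwa [show c * (y⁻¹ * c)⁻¹ = y by group] at this
  refine ⟨hMN, hlt, hKp, ?_, fun a ha b hb => ⟨hpow a ha, hcomm a ha b hb⟩, fun X hX₁ hX₂ hMX => ?_, hDder⟩
  · rw [← hQcard', hQcard, hfixQ', hF'q]
  · obtain ⟨-, hfX, hXc, -, -⟩ := main X hX₁.le hX₂.le (hDM.trans hMX) (hKM.trans hMX)
    have hXcard : Nat.card Q₀ * Nat.card ((X.subgroupOf N).map f) = Nat.card X :=
      card_map_mk hX₁.le (hX₂.le.trans hQN)
    set X' := (X.subgroupOf N).map f
    have hle : X' ⊓ centralizer (K' : Set _) ≤ F' :=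
      (inf_le_inf_left _ (Subgroup.centralizer_le (Set.singleton_subset_iff.mpr he₀))).trans (hfX e₀ he₀ he₀1)
    rcases nd.hq.eq_one_or_self_of_dvd _ ((Subgroup.card_dvd_of_le hle).trans hF'q.dvd) with h | h
    · rw [hXc, h, one_pow, mul_one] at hXcard
      exact hX₁.ne (Subgroup.eq_of_le_of_card_ge hX₁.le hXcard.ge)
    · rw [hXc, h] at hXcard
      rw [hQcard, hfixQ', hF'q, hXcard] at hQcard'
      exact hX₂.ne (Subgroup.eq_of_le_of_card_ge hX₂.le hQcard'.ge)

/-- B–G 15.2 for an arbitrary complement. -/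
theorem structure_any (nd : NonNilData M K q Q) (hG : IsMinSimpleOddOrder G) {D : Subgroup G}
    (hD : IsComplIn Q D (sigmaCore M)) :
    Group.IsNilpotent D ∧ M ≤ normalizer ((Q ⊓ centralizer (D : Set G) : Subgroup G) : Set G) ∧
      Q ⊓ centralizer (D : Set G) < Q ∧ (Nat.card K).Prime ∧
      Nat.card Q = Nat.card ↥(Q ⊓ centralizer (D : Set G)) * q ^ Nat.card K ∧
      (∀ a ∈ Q, ∀ b ∈ Q, a ^ q ∈ Q ⊓ centralizer (D : Set G) ∧
        a * b * a⁻¹ * b⁻¹ ∈ Q ⊓ centralizer (D : Set G)) ∧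
      ∀ X : Subgroup G, Q ⊓ centralizer (D : Set G) < X → X < Q → ¬ M ≤ normalizer (X : Set G) := by
  haveI := Fact.mk nd.hq
  obtain ⟨D₁, hD₁, hKD₁, hn₁, hq₁, hf₁, hm₁⟩ := nd.exists_compl hG
  have h := nd.chief_factor hG hD₁ hKD₁ hn₁ hq₁ hf₁ hm₁
  have hM := nd.d.hM
  set S := sigmaCore M with hS
  have hSM : S ≤ M := piCoreOf_le _ _
  haveI : (Q.subgroupOf S).Normal :=
    (Subgroup.normal_subgroupOf_iff_le_normalizer nd.le).mpr (hSM.trans nd.normal)
  obtain ⟨n, hn, hnD⟩ := CfsgLib.complements_conj_mem (G := S) (by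
      rw [Nat.card_congr (Subgroup.subgroupOfEquivOfLe nd.le).toEquiv]
      exact nd.coprime_card)
    (Or.inl (by
      have hp' : IsPGroup q (Q.subgroupOf S) := nd.pgroup.comap_subtype
      haveI := hp'.isNilpotent
      infer_instance))
    (isComplement'_subgroupOf nd.coprime_card hD₁) (isComplement'_subgroupOf nd.coprime_card hD)
  have hnD' := CfsgLib.conj_subgroupOf hD₁.2.1 hD.2.1 hnD
  have hnM : (n : G) ∈ M := hSM n.2
  have heq : Q ⊓ centralizer (D : Set G) = Q ⊓ centralizer (D₁ : Set G) := by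
    rw [← hnD', centralizer_conj_smul]
    conv_lhs => rw [← conj_smul_eq_of_mem_normalizer (nd.normal hnM)]
    rw [← Subgroup.smul_inf, conj_smul_eq_of_mem_normalizer (h.1 hnM)]
  rw [heq]
  obtain ⟨a1, a2, a3, a4, a5, a6, -⟩ := h
  refine ⟨?_, a1, a2, a3, a4, a5, a6⟩
  haveI := hn₁
  rw [← hnD']
  exact Group.nilpotent_of_mulEquiv (Subgroup.equivSMul (MulAut.conj (n : G)) D₁)

end NonNilData

end CfsgLib.MinSimpleOdd
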