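import Cfsg.Agent.Lib.MinSimpleOdd.Sigma
import Cfsg.Agent.S1443

/-!
Centralisers in `M_α` and the primes outside `σ(M)` (B–G 10.3–10.5).
-/

set_option autoImplicit false
set_option linter.unusedSectionVars false
set_option maxHeartbeats 1000000

namespace CfsgLib.MinSimpleOdd

open Subgroup Cfsg
open scoped Pointwise commutatorElement

universe u
variable {G : Type u} [Group G] [Finite G] {p : ℕ} [Fact p.Prime]
variable (hG : IsMinSimpleOddOrder G) {M : Subgroup G} (hM : IsCoatom M)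

include hG hM

/-- B–G 10.3. -/
theorem centralizer_uniq {X : Subgroup G} (hXM : X ≤ M)
    (hXα : ∀ q : ℕ, q.Prime → q ∣ Nat.card X → q ∉ alpha M)
    (hr : ¬ RankLE 1 ↥(alphaCore M ⊓ centralizer (X : Set G))) :
    InUniqueMaximal (M ⊓ centralizer (X : Set G)) := by
  simp only [RankLE, not_forall] at hr
  obtain ⟨q, hq, hr⟩ := hr
  haveI := Fact.mk hq
  obtain ⟨B, hBC, hBc, hexp, hcard⟩ := exists_elementary_of_not_pRankLE hr
  haveI := hBc
  rw [pow_one] at hcard
  obtain ⟨hHall, -⟩ := isPiHall_core hG hM subset_rfl (alpha_subset_sigma hG hM)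
  change IsPiHallOf (alpha M) (alphaCore M) M at hHall
  have hBq : IsPGroup q B := isPGroup_of_exp hexp
  have hBnc : ¬ IsCyclic B := not_cyclic_of_elementary hexp hcard
  have hB1 : B ≠ ⊥ := fun e => by
    rw [e, Subgroup.card_bot] at hcard
    exact absurd hcard (not_lt.mpr hq.one_lt.le)
  have hqα : q ∈ alpha M := by
    obtain ⟨k, hk⟩ := hBq.exists_card_eq
    have hk0 : k ≠ 0 := fun e => hB1 (Subgroup.card_eq_one.mp (by rw [hk, e, pow_zero]))
    exact hHall.2.1 q hq ((hk ▸ dvd_pow_self q hk0).trans (Subgroup.card_dvd_of_le (hBC.trans inf_le_left)))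
  have hBM : B ≤ M ⊓ centralizer (X : Set G) := hBC.trans (inf_le_inf_right _ hHall.1)
  have hMX : M ⊓ centralizer (X : Set G) ≠ ⊤ := fun e => hM.1 (top_le_iff.mp (e ▸ inf_le_left))
  have hXMα : X ≤ normalizer (alphaCore M : Set G) := hXM.trans (le_normalizer_piCoreOf_self _ M)
  have hcop : (Nat.card X).Coprime (Nat.card (alphaCore M)) :=
    Nat.coprime_of_dvd fun r hr' h1 h2 => hXα r hr' h1 (hHall.2.1 r hr' h2)
  have hXB : X ≤ centralizer (B : Set G) := fun x hx b hb => ((hBC hb).2 x hx).symm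
  obtain ⟨S, hS, hXS, hBS⟩ := CfsgLib.le_invariant_hall (π := ({q} : Set ℕ)) hXMα hcop
    (solvable_of_le hHall.1 (solvable_of_ne_top hG hM.1)) (hBC.trans inf_le_left)
    (hXB.trans (Subgroup.centralizer_le_normalizer _)) (fun r hr hd => card_dvd_of_pgroup hBq hr hd)
  have hSq : IsPGroup q S :=
    isPGroup_of_inv (B := (⊥ : Subgroup G)) (H := ⊤) ⟨le_top, hS.2.1, bot_le⟩
  have hSidx : ¬ q ∣ S.relIndex M := by
    intro hd
    rw [← Subgroup.relIndex_mul_relIndex S (alphaCore M) M hS.1 hHall.1] at hd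
    rcases hq.dvd_mul.mp hd with h | h
    · exact hS.2.2 q hq rfl h
    · exact hHall.2.2 q hq hqα h
  have hS3 : ¬ PRankLE q 2 S := fun h => hqα.2 (pRankLE_of_sylow_rel (hS.1.trans hHall.1) hSq hSidx h)
  obtain ⟨E, hES, hEc, hEe, hEcard⟩ := exists_elementary_of_not_pRankLE hS3
  haveI := hEc
  have hE3 : ¬ PRankLE q 2 E := fun h => absurd hEcard (not_lt.mpr (card_le_of_pRankLE h le_rfl hEc hEe))
  have hEU := uniq_of_abelian_three hG (isPGroup_of_exp hEe) hE3
  by_cases hB3 : PRankLE q 2 ↥(centralizer (B : Set G))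
  · -- `B` contains the elements of order `q` of `C_S(B)`
    have hfix : ∀ x ∈ S ⊓ centralizer (B : Set G), orderOf x = q → X ≤ centralizer ({x} : Set G) := by
      rintro x ⟨-, hxB⟩ hxo
      have hxq : x ^ q = 1 := hxo ▸ pow_orderOf_eq_one x
      have hxmem : x ∈ B := by
        by_contra hx
        set T := B ⊔ zpowers x with hT
        have hTC : T ≤ centralizer (B : Set G) :=
          sup_le (Subgroup.le_centralizer B) (Subgroup.zpowers_le.mpr hxB)
        have hzB : zpowers x ≤ normalizer (B : Set G) :=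
          (Subgroup.zpowers_le.mpr hxB).trans (Subgroup.centralizer_le_normalizer _)
        have hcomm : ∀ b ∈ B, Commute x b := fun b hb => (hxB b hb).symm
        have hel : ∀ t ∈ T, ∃ i : ℤ, ∃ b ∈ B, t = x ^ i * b := fun t ht => by
          obtain ⟨b, hb, y, hy, e⟩ := mem_sup_of_le_normalizer hzB ht
          obtain ⟨i, rfl⟩ := Subgroup.mem_zpowers_iff.mp hy
          exact ⟨i, b, hb, by rw [((hcomm b hb).zpow_left i).eq, e]⟩
        have hTe : ∀ t ∈ T, t ^ q = 1 := fun t ht => by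
          obtain ⟨i, b, hb, rfl⟩ := hel t ht
          rw [((hcomm b hb).zpow_left i).mul_pow, hexp b hb, mul_one, ← zpow_natCast, ← zpow_mul, mul_comm,
            zpow_mul, zpow_natCast, hxq, one_zpow]
        have hTc : IsMulCommutative T := ⟨⟨fun a c => Subtype.ext (by
          obtain ⟨i, b, hb, ea⟩ := hel a a.2
          obtain ⟨j, b', hb', ec⟩ := hel c c.2
          show (a : G) * c = c * a
          rw [ea, ec]
          have h0 : Commute b b' := congrArg Subtype.val (hBc.is_comm.comm ⟨b, hb⟩ ⟨b', hb'⟩)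
          exact (((Commute.refl x).zpow_zpow i j).mul_right ((hcomm b' hb').zpow_left i)).mul_left
            ((((hcomm b hb).zpow_left j).symm).mul_right h0))⟩⟩
        have h1 : Nat.card B < Nat.card T := Set.Finite.card_lt_card (Set.toFinite _)
          (lt_of_le_of_ne (le_sup_left : B ≤ T) fun e => hx (e.ge (Subgroup.mem_sup_right (Subgroup.mem_zpowers x))))
        have h2 := card_le_of_pRankLE hB3 hTC hTc hTe
        obtain ⟨i, hi⟩ := hBq.exists_card_eq
        obtain ⟨j, hj⟩ := (isPGroup_of_exp hTe).exists_card_eq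
        rw [hi] at hcard h1
        rw [hj] at h1 h2
        have h3 : 1 < i := (Nat.pow_lt_pow_iff_right hq.one_lt).mp (by rwa [pow_one])
        have h4 := (Nat.pow_lt_pow_iff_right hq.one_lt).mp h1
        have h5 := (Nat.pow_le_pow_iff_right hq.one_lt).mp h2
        omega
      exact fun a ha => Subgroup.mem_centralizer_singleton_iff.mpr ((hBC hxmem).2 a ha)
    have hXS' : X ≤ centralizer (S : Set G) := Cfsg.Agent.S1443.result q (p_ne_two hG.1 hBq hB1) S B X hSq
      hBS ⟨hBc, hexp⟩ hXS (Nat.coprime_of_dvd fun r hr' h1 h2 =>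
        hXα r hr' h1 ((Nat.prime_dvd_prime_iff_eq hr' hq).mp h2 ▸ hqα)) hfix
    exact uniq_mono hEU (le_inf ((hES.trans hS.1).trans hHall.1)
      (hES.trans fun s hs x hx => (hXS' hx s hs).symm)) hMX
  · exact uniq_mono (uniq_transfer hG (isPGroup_of_exp hEe) hE3 hEU hBq hBnc hB3) hBM hMX

/-- B–G 10.4. -/
theorem exists_central_element (hpM : p ∣ Nat.card M) (hp : p ∉ sigma M) (P : Sylow p M) :
    ∃ x : G, x ∈ ((Subgroup.center ↥(P : Subgroup M)).map (P : Subgroup M).subtype).map M.subtype ∧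
      orderOf x = p ∧ IsZGroup ↥(alphaCore M ⊓ centralizer ({x} : Set G)) ∧
      ¬ (centralizer ({x} : Set G) ≤ M ∧
        ∀ L : Subgroup G, IsCoatom L → centralizer ({x} : Set G) ≤ L → L = M) := by
  set Q := (P : Subgroup M).map M.subtype with hQ
  set Z := ((Subgroup.center ↥(P : Subgroup M)).map (P : Subgroup M).subtype).map M.subtype with hZ
  have hpα : p ∉ alpha M := fun h => hp (alpha_subset_sigma hG hM h)
  have hPn : Nontrivial ↥(P : Subgroup M) :=
    (Subgroup.nontrivial_iff_ne_bot _).mpr (P.ne_bot_of_dvd_card hpM)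
  haveI := P.2.center_nontrivial
  obtain ⟨z, hz⟩ := exists_prime_orderOf_dvd_card' p (show p ∣ Nat.card ↥(Subgroup.center ↥(P : Subgroup M)) by
    obtain ⟨k, hk⟩ := (P.2.to_subgroup (Subgroup.center ↥(P : Subgroup M))).exists_card_eq
    rcases Nat.eq_zero_or_pos k with rfl | hk0
    · rw [pow_zero, Nat.card_eq_one_iff_unique] at hk
      exact absurd hk.1 (not_subsingleton _)
    · exact hk ▸ dvd_pow_self p hk0.ne')
  set x₀ : G := (((z : ↥(P : Subgroup M)) : M) : G) with hx₀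
  have hx₀Z : x₀ ∈ Z := Subgroup.mem_map_of_mem _ (Subgroup.mem_map_of_mem _ z.2)
  have hx₀o : orderOf x₀ = p := by rw [hx₀, Subgroup.orderOf_coe, Subgroup.orderOf_coe, Subgroup.orderOf_coe, hz]
  by_contra hcon
  push_neg at hcon
  have hgood : ∀ x ∈ Z, orderOf x = p → centralizer ({x} : Set G) ≤ M ∧
      ∀ L : Subgroup G, IsCoatom L → centralizer ({x} : Set G) ≤ L → L = M := by
    intro x hx hxo
    by_cases hz' : IsZGroup ↥(alphaCore M ⊓ centralizer ({x} : Set G))
    · exact hcon x hx hxo hz'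
    have hxM : x ∈ M := (Subgroup.map_subtype_le _) hx
    set C := alphaCore M ⊓ centralizer ({x} : Set G) with hC
    have hC' : C = alphaCore M ⊓ centralizer (zpowers x : Set G) := by
      rw [hC, Subgroup.zpowers_eq_closure, Subgroup.centralizer_closure]
    have hr : ¬ RankLE 1 ↥(alphaCore M ⊓ centralizer (zpowers x : Set G)) := by
      rw [← hC']
      intro h
      refine hz' ⟨fun r hr T => ?_⟩
      haveI := Fact.mk hr
      by_contra hnc
      set T' := (T : Subgroup C).map C.subtype with hT'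
      have hT'p : IsPGroup r T' := T.2.map _
      have hT'nc : ¬ IsCyclic T' := fun h' => hnc (by
        haveI := h'
        exact isCyclic_of_injective ((T : Subgroup C).equivMapOfInjective C.subtype C.subtype_injective).toMonoidHom
          (MulEquiv.injective _))
      have hT'1 : T' ≠ ⊥ := fun e => hT'nc (e ▸ inferInstance)
      obtain ⟨E, hET, -, ⟨hEc, hEe⟩, hE2⟩ := exists_elementary_two (p_ne_two hG.1 hT'p hT'1) hT'p hT'nc
      have := card_le_of_pRankLE (h r hr) (hET.trans (Subgroup.map_subtype_le _)) hEc hEe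
      rw [hE2] at this
      exact absurd ((Nat.pow_le_pow_iff_right hr.one_lt).mp this) (by norm_num)
    have hU : InUniqueMaximal (M ⊓ centralizer (zpowers x : Set G)) := centralizer_uniq hG hM
      (Subgroup.zpowers_le.mpr hxM) (fun r hr hd => by
        rw [Nat.card_zpowers, hxo] at hd
        rw [(Nat.prime_dvd_prime_iff_eq hr Fact.out).mp hd]
        exact hpα) hr
    rw [Subgroup.zpowers_eq_closure, Subgroup.centralizer_closure] at hU
    have hx1 : x ≠ 1 := fun e => by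
      rw [e, orderOf_one] at hxo
      exact (Fact.out : p.Prime).ne_one hxo.symm
    have huniq : ∀ L : Subgroup G, IsCoatom L → centralizer ({x} : Set G) ≤ L → L = M := fun L hL hle =>
      uniq_eq hU hL (inf_le_right.trans hle) hM inf_le_left
    obtain ⟨L, hL, hle⟩ := exists_coatom_ge (centralizer_ne_top hG hx1)
    exact ⟨(huniq L hL hle) ▸ hle, huniq⟩
  refine hp ⟨Fact.out, hpM, P, fun n hn => ?_⟩
  rw [← normalizer_coatom hG hM]
  have hnZ : n * x₀ * n⁻¹ ∈ Z := by
    have h := (CfsgLib.le_normalizer_map_characteristic (A := normalizer (Q : Set G)) (K := Q) le_rfl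
      (Subgroup.center Q)).1 hn
    have e : (Subgroup.center Q).map Q.subtype = Z := by
      ext y
      constructor
      · rintro ⟨⟨_, m, hm, rfl⟩, hc, rfl⟩
        refine ⟨m, ⟨⟨m, hm⟩, ?_, rfl⟩, rfl⟩
        refine Subgroup.mem_center_iff.mpr fun w => Subtype.ext (Subtype.ext ?_)
        exact congrArg (fun t : Q => (t : G))
          (Subgroup.mem_center_iff.mp hc ⟨_, Subgroup.mem_map_of_mem M.subtype w.2⟩)
      · rintro ⟨_, ⟨w, hw, rfl⟩, rfl⟩
        refine ⟨⟨_, Subgroup.mem_map_of_mem M.subtype w.2⟩, Subgroup.mem_center_iff.mpr ?_, rfl⟩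
        rintro ⟨_, m, hm, rfl⟩
        exact Subtype.ext (congrArg (fun t : ↥(P : Subgroup M) => ((t : M) : G))
          (Subgroup.mem_center_iff.mp hw ⟨m, hm⟩))
    rw [e] at h
    exact (Subgroup.mem_normalizer_iff.mp h x₀).mp hx₀Z
  obtain ⟨h1, -⟩ := hgood x₀ hx₀Z hx₀o
  obtain ⟨-, h2⟩ := hgood _ hnZ (by
    rw [show n * x₀ * n⁻¹ = MulAut.conj n x₀ from rfl, MulEquiv.orderOf_eq, hx₀o])
  refine mem_normalizer_of_conj_smul (h2 _ (conj_isCoatom hM n) fun c hc => ?_)
  rw [CfsgLib.mem_conj_smul_iff]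
  refine h1 (Subgroup.mem_centralizer_singleton_iff.mpr ?_)
  have hc' := Subgroup.mem_centralizer_singleton_iff.mp hc
  calc n⁻¹ * c * n * x₀ = n⁻¹ * (c * (n * x₀ * n⁻¹)) * n := by group
    _ = n⁻¹ * (n * x₀ * n⁻¹ * c) * n := by rw [hc']
    _ = _ := by group

/-- B–G 10.5 (a): an elementary subgroup of order `p²` is maximal when `p ∉ σ(M)`. -/
theorem maximal_elementary (hr2 : PRankLE p 2 M) {A : Subgroup G} (hAM : A ≤ M)
    (hA : IsElementaryAbelian p A) (hA2 : Nat.card A = p ^ 2) {B : Subgroup G} (hB : IsElementaryAbelian p B)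
    (hAB : A ≤ B) : B = A := by
  obtain ⟨hAc, hAe⟩ := hA
  obtain ⟨hBc, hBe⟩ := hB
  haveI := hAc
  haveI := hBc
  have hpp : p.Prime := Fact.out
  refine (Subgroup.eq_of_le_of_card_ge hAB ?_).symm
  by_contra hlt
  push_neg at hlt
  rw [hA2] at hlt
  have hB3 : ¬ PRankLE p 2 B := fun h => absurd hlt (not_lt.mpr (card_le_of_pRankLE h le_rfl hBc hBe))
  have hBU := uniq_of_abelian_three hG (isPGroup_of_exp hBe) hB3
  have hBA : B ≤ centralizer (A : Set G) := (Subgroup.le_centralizer B).trans (centralizer_anti hAB)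
  have hAU : InUniqueMaximal A := uniq_transfer hG (isPGroup_of_exp hBe) hB3 hBU (isPGroup_of_exp hAe)
    (not_cyclic_of_elementary hAe (by
      rw [hA2]
      calc p = p ^ 1 := (pow_one p).symm
        _ < _ := Nat.pow_lt_pow_right hpp.one_lt one_lt_two))
    fun h => absurd hlt (not_lt.mpr (card_le_of_pRankLE h hBA hBc hBe))
  obtain ⟨L, hL, hle⟩ := exists_coatom_ge (normalizer_ne_top hG (uniq_ne_bot hG hAU) (uniq_ne_top hAU))
  rw [uniq_eq hAU hL (Subgroup.le_normalizer.trans hle) hM hAM] at hle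
  exact absurd hlt (not_lt.mpr (card_le_of_pRankLE hr2
    ((hBA.trans (Subgroup.centralizer_le_normalizer _)).trans hle) hBc hBe))

theorem not_ideal (hr2 : PRankLE p 2 M) (hr1 : ¬ PRankLE p 1 M) : ¬ IsIdealPrime p G := by
  rintro ⟨-, -, hmax⟩
  obtain ⟨E, hEM, hEc, hEe, hEcard⟩ := exists_elementary_of_not_pRankLE hr1
  have hE2 : Nat.card E = p ^ 2 := by
    obtain ⟨k, hk⟩ := (isPGroup_of_exp hEe).exists_card_eq
    have h2 := card_le_of_pRankLE hr2 hEM hEc hEe
    rw [hk] at hEcard h2 ⊢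
    congr 1
    exact le_antisymm ((Nat.pow_le_pow_iff_right (Fact.out : p.Prime).one_lt).mp h2)
      ((Nat.pow_lt_pow_iff_right (Fact.out : p.Prime).one_lt).mp hEcard)
  obtain ⟨S, hS⟩ := (isPGroup_of_exp hEe).exists_le_sylow
  obtain ⟨B, -, hB, hlt⟩ := hmax S E hS ⟨hEc, hEe⟩ hE2
  exact hlt.ne (maximal_elementary hG hM hr2 hEM ⟨hEc, hEe⟩ hE2 hB hlt.le).symm

/-- B–G 10.5 (b). -/
theorem order_p_normalizer_le (hp : p ∉ sigma M) {X : Subgroup G} (hX : Nat.card X = p)
    (hNX : normalizer (X : Set G) ≤ M) :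
    (PRankLE p 2 M ∧ ¬ PRankLE p 1 M) ∧ ¬ IsIdealPrime p G ∧
      ∃ A : Subgroup G, IsElementaryAbelian p A ∧ Nat.card A = p ^ 2 ∧ X ≤ A := by
  have hpp : p.Prime := Fact.out
  have hXM : X ≤ M := Subgroup.le_normalizer.trans hNX
  have hXp : IsPGroup p X := IsPGroup.of_card (n := 1) (by rw [hX, pow_one])
  have hXe : ∀ b ∈ X, b ^ p = 1 := fun b hb => by
    obtain ⟨x, hx⟩ : ∃ x : X, (x : G) = b := ⟨⟨b, hb⟩, rfl⟩
    rw [← hx, ← SubmonoidClass.coe_pow, ← hX, pow_card_eq_one', Subgroup.coe_one]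
  have hr2 : PRankLE p 2 M := by
    by_contra h
    exact hp (alpha_subset_sigma hG hM ⟨hpp, h⟩)
  have hp2 : p ≠ 2 := p_ne_two hG.1 hXp fun e => by
    rw [e, Subgroup.card_bot] at hX
    exact hpp.ne_one hX.symm
  obtain ⟨S, hXS, hSM, hSp, hSidx⟩ := exists_sylow_ge hXM hXp
  have hnc : ¬ IsCyclic S := by
    intro hc
    haveI := hc
    obtain ⟨T, hT, -⟩ := sylow_of_relIndex hSM hSp hSidx
    refine hp ⟨hpp, ?_, T, fun n hn => ?_⟩
    · exact hX ▸ Subgroup.card_dvd_of_le hXM
    · refine hNX (mem_normalizer_of_conj_smul ?_)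
      rw [hT] at hn
      have hnX : MulAut.conj n • X ≤ S := (conj_smul_mono hXS n).trans (conj_smul_eq_of_mem_normalizer hn).le
      have e : (MulAut.conj n • X).subgroupOf S = X.subgroupOf S := CfsgLib.PowerGraph.subgroup_eq_of_card (by
        rw [Nat.card_congr (Subgroup.subgroupOfEquivOfLe hnX).toEquiv,
          Nat.card_congr (Subgroup.subgroupOfEquivOfLe hXS).toEquiv, CfsgLib.card_conj_smul])
      rw [← Subgroup.map_subgroupOf_eq_of_le hnX, e, Subgroup.map_subgroupOf_eq_of_le hXS]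
  obtain ⟨E, hES, hSE, ⟨hEc, hEe⟩, hE2⟩ := exists_elementary_two hp2 hSp hnc
  have hr1 : ¬ PRankLE p 1 M := fun h => by
    have := card_le_of_pRankLE h (hES.trans hSM) hEc hEe
    rw [hE2] at this
    exact absurd ((Nat.pow_le_pow_iff_right hpp.one_lt).mp this) (by norm_num)
  refine ⟨⟨hr2, hr1⟩, not_ideal hG hM hr2 hr1, ?_⟩
  by_cases hXE : X ≤ E
  · exact ⟨E, ⟨hEc, hEe⟩, hE2, hXE⟩
  -- an element of order `p` of `E` central in `S`
  have hEn : (E.subgroupOf S).Normal := (Subgroup.normal_subgroupOf_iff_le_normalizer hES).mpr hSE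
  haveI : Group.IsNilpotent S := hSp.isNilpotent
  have hE0 : E.subgroupOf S ≠ ⊥ := fun e => by
    rw [← Nat.card_congr (Subgroup.subgroupOfEquivOfLe hES).toEquiv, e, Subgroup.card_bot] at hE2
    exact (Nat.one_lt_pow two_ne_zero hpp.one_lt).ne hE2
  haveI := hEn
  obtain ⟨⟨y, hyE, hyZ⟩, hy1⟩ := Subgroup.ne_bot_iff_exists_ne_one.mp
    (CfsgLib.inf_center_ne_bot_of_nilpotent hE0)
  have hy1' : (y : G) ≠ 1 := fun e => hy1 (Subtype.ext (Subtype.ext e))
  have hyo : orderOf (y : G) = p := orderOf_eq_prime (hEe _ hyE) hy1'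
  set A := X ⊔ zpowers (y : G) with hA
  have hXy : ∀ a ∈ X, Commute a (y : G) := fun a ha =>
    congrArg Subtype.val (Subgroup.mem_center_iff.mp hyZ ⟨a, hXS ha⟩)
  have hzX : zpowers (y : G) ≤ normalizer (X : Set G) :=
    (Subgroup.zpowers_le.mpr (Subgroup.mem_centralizer_iff.mpr fun a ha => hXy a ha)).trans
      (Subgroup.centralizer_le_normalizer _)
  have hel : ∀ t ∈ A, ∃ i : ℤ, ∃ a ∈ X, t = (y : G) ^ i * a := fun t ht => by
    obtain ⟨a, ha, w, hw, e⟩ := mem_sup_of_le_normalizer hzX ht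
    obtain ⟨i, rfl⟩ := Subgroup.mem_zpowers_iff.mp hw
    exact ⟨i, a, ha, by rw [((hXy a ha).symm.zpow_left i).eq, e]⟩
  have hXc : IsMulCommutative X := by
    haveI := isCyclic_of_prime_card hX
    infer_instance
  have hAe : ∀ t ∈ A, t ^ p = 1 := fun t ht => by
    obtain ⟨i, a, ha, rfl⟩ := hel t ht
    rw [((hXy a ha).symm.zpow_left i).mul_pow, hXe a ha, mul_one, ← zpow_natCast, ← zpow_mul, mul_comm,
      zpow_mul, zpow_natCast, show (y : G) ^ p = 1 from hEe _ hyE, one_zpow]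
  have hAc : IsMulCommutative A := ⟨⟨fun a c => Subtype.ext (by
    obtain ⟨i, b, hb, ea⟩ := hel a a.2
    obtain ⟨j, b', hb', ec⟩ := hel c c.2
    show (a : G) * c = c * a
    rw [ea, ec]
    have h0 : Commute b b' := congrArg Subtype.val (hXc.is_comm.comm ⟨b, hb⟩ ⟨b', hb'⟩)
    exact (((Commute.refl (y : G)).zpow_zpow i j).mul_right ((hXy b' hb').symm.zpow_left i)).mul_left
      (((((hXy b hb).symm).zpow_left j).symm).mul_right h0))⟩⟩
  refine ⟨A, ⟨hAc, hAe⟩, ?_, le_sup_left⟩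
  have hAM : A ≤ M := sup_le hXM (Subgroup.zpowers_le.mpr (hSM y.2))
  have h2 := card_le_of_pRankLE hr2 hAM hAc hAe
  have hlt : X < A := lt_of_le_of_ne le_sup_left fun e => hXE (by
    have hyX : (y : G) ∈ X := e ▸ Subgroup.mem_sup_right (Subgroup.mem_zpowers _)
    have : zpowers (y : G) = X := Subgroup.eq_of_le_of_card_ge (Subgroup.zpowers_le.mpr hyX)
      (by rw [hX, Nat.card_zpowers, hyo])
    exact this ▸ Subgroup.zpowers_le.mpr hyE)
  have h1 : Nat.card X < Nat.card A := Set.Finite.card_lt_card (Set.toFinite _) hlt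
  obtain ⟨k, hk⟩ := (isPGroup_of_exp hAe).exists_card_eq
  rw [hX, hk] at h1
  rw [hk] at h2 ⊢
  congr 1
  exact le_antisymm ((Nat.pow_le_pow_iff_right hpp.one_lt).mp h2)
    ((Nat.pow_lt_pow_iff_right hpp.one_lt).mp (by rwa [pow_one]))

end CfsgLib.MinSimpleOdd
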