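import Cfsg.Agent.Lib.MinSimpleOdd.NonabelianTau
import Cfsg.Agent.S1418

/-!
`σ(M)'`-subgroups of a maximal subgroup (B–G 12.10).
-/

set_option autoImplicit false
set_option linter.unusedSectionVars false
set_option maxHeartbeats 1000000

namespace CfsgLib.MinSimpleOdd

open Subgroup Cfsg
open scoped Pointwise commutatorElement IsMulCommutative

universe u
variable {G : Type u} [Group G] [Finite G] {p : ℕ} [Fact p.Prime]

/-- A nilpotent group with abelian Sylow subgroups is abelian. -/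
theorem commutative_of_nilpotent_sylow {N : Type u} [Group N] [Finite N] [Group.IsNilpotent N]
    (h : ∀ (r : ℕ) (_ : Fact r.Prime) (S : Sylow r N), IsMulCommutative (S : Subgroup N)) :
    IsMulCommutative N := by
  suffices hc : Subgroup.center N = ⊤ from
    ⟨⟨fun a b => (Subgroup.mem_center_iff.mp (hc.ge (Subgroup.mem_top b)) a)⟩⟩
  rw [← Subgroup.index_eq_one]
  refine Nat.eq_one_iff_not_exists_prime_dvd.mpr fun r hr hd => ?_
  haveI := Fact.mk hr
  obtain ⟨S⟩ : Nonempty (Sylow r N) := inferInstance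
  refine S.not_dvd_index (hd.trans (Subgroup.index_dvd_of_le fun s hs => ?_))
  have hcs : centralizer ({s} : Set N) = ⊤ := by
    rw [← Subgroup.index_eq_one]
    refine Nat.eq_one_iff_not_exists_prime_dvd.mpr fun t ht htd => ?_
    haveI := Fact.mk ht
    obtain ⟨T⟩ : Nonempty (Sylow t N) := inferInstance
    by_cases htr : t = r
    · subst htr
      refine S.not_dvd_index (htd.trans (Subgroup.index_dvd_of_le fun a ha => ?_))
      exact Subgroup.mem_centralizer_singleton_iff.mpr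
        (congrArg Subtype.val ((h t inferInstance S).is_comm.comm ⟨a, ha⟩ ⟨s, hs⟩))
    refine T.not_dvd_index (htd.trans (Subgroup.index_dvd_of_le fun a ha => ?_))
    refine Subgroup.mem_centralizer_singleton_iff.mpr (CfsgLib.commute_of_nilpotent (H := N) a s ?_).eq
    obtain ⟨i, hi⟩ := T.2.exists_card_eq
    obtain ⟨j, hj⟩ := S.2.exists_card_eq
    refine Nat.Coprime.coprime_dvd_left (hi ▸ Subgroup.orderOf_dvd_natCard _ ha) ?_
    refine Nat.Coprime.coprime_dvd_right (hj ▸ Subgroup.orderOf_dvd_natCard _ hs) ?_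
    exact Nat.Coprime.pow i j ((Nat.coprime_primes ht hr).mpr htr)
  exact Subgroup.mem_center_iff.mpr fun a => Subgroup.mem_centralizer_singleton_iff.mp (hcs.ge (Subgroup.mem_top a))

section Main

variable (hG : IsMinSimpleOddOrder G) {M : Subgroup G} (hM : IsCoatom M)

include hG hM

theorem sigma'_pgroup_commutative {P : Subgroup G} (hPM : P ≤ M) (hP : IsPGroup p P) (hp : p ∉ sigma M) :
    IsMulCommutative P := by
  have hr2 : PRankLE p 2 M := by
    by_contra h
    exact hp (alpha_subset_sigma hG hM ⟨Fact.out, h⟩)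
  by_cases hr1 : PRankLE p 1 M
  · haveI := cyclic_of_pRankLE_one (odd_subgroup hG.1 P) hP
      (pRankLE_of_injective P.subtype P.subtype_injective (X := M) (fun x => hPM x.2) hr1)
    infer_instance
  obtain ⟨A, hAM, hAc, hAe, hAcard⟩ := exists_elementary_of_not_pRankLE hr1
  have hA2 : Nat.card A = p ^ 2 := by
    obtain ⟨k, hk⟩ := (isPGroup_of_exp hAe).exists_card_eq
    have h2 := card_le_of_pRankLE hr2 hAM hAc hAe
    rw [hk] at hAcard h2 ⊢
    congr 1
    exact le_antisymm ((Nat.pow_le_pow_iff_right (Fact.out : p.Prime).one_lt).mp h2)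
      ((Nat.pow_lt_pow_iff_right (Fact.out : p.Prime).one_lt).mp hAcard)
  obtain ⟨A₀, hexc⟩ := exists_exc hG hM ⟨Fact.out, hp, hr2, hr1⟩ hAM ⟨hAc, hAe⟩ hA2
  obtain ⟨T, hPT, hTM, hTp, hTi⟩ := exists_sylow_ge hPM hP
  obtain ⟨T₀, hAT₀, hT₀M, hT₀p, hT₀i⟩ := exists_sylow_ge hAM hexc.two.isPGroup
  haveI := hexc.abelian hG hM hAT₀ hT₀M hT₀p hT₀i
  obtain ⟨S, hS, -⟩ := sylow_of_relIndex hTM hTp hTi
  obtain ⟨S₀, hS₀, -⟩ := sylow_of_relIndex hT₀M hT₀p hT₀i
  have e : ↥T ≃* ↥T₀ := (MulEquiv.subgroupCongr hS.symm).trans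
    (((S : Subgroup M).equivMapOfInjective M.subtype M.subtype_injective).symm.trans
      ((S.equiv S₀).trans (((S₀ : Subgroup M).equivMapOfInjective M.subtype M.subtype_injective).trans
        (MulEquiv.subgroupCongr hS₀))))
  exact ⟨⟨fun a b => (Subgroup.inclusion_injective hPT) (e.injective (by
    rw [map_mul, map_mul, map_mul, map_mul, mul_comm' (e (Subgroup.inclusion hPT a))]))⟩⟩

theorem nilpotent_sigma'_commutative {N : Subgroup G} (hNM : N ≤ M) (hN : Group.IsNilpotent N)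
    (hπ : ∀ r : ℕ, r.Prime → r ∣ Nat.card N → r ∉ sigma M) : IsMulCommutative N := by
  haveI := hN
  refine commutative_of_nilpotent_sylow fun r _ S => ?_
  by_cases hd : r ∣ Nat.card N
  · haveI := sigma'_pgroup_commutative hG hM ((Subgroup.map_subtype_le (S : Subgroup N)).trans hNM)
      (S.2.map N.subtype) (hπ r Fact.out hd)
    exact ⟨⟨fun a b => ((S : Subgroup N).equivMapOfInjective N.subtype N.subtype_injective).injective (by
      rw [map_mul, map_mul, mul_comm'])⟩⟩
  · haveI : Subsingleton (S : Subgroup N) := by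
      refine (Nat.card_eq_one_iff_unique.mp ?_).1
      obtain ⟨k, hk⟩ := S.2.exists_card_eq
      rcases k with _ | k
      · rw [hk, pow_zero]
      · exact absurd ((dvd_pow_self r k.succ_ne_zero).trans (hk ▸ Subgroup.card_subgroup_dvd_card _)) hd
    exact ⟨⟨fun _ _ => Subsingleton.elim _ _⟩⟩

variable {E : Subgroup G} (hE : IsComplIn E (sigmaCore M) M)

include hE

theorem complement_sigma' : ∀ r : ℕ, r.Prime → r ∣ Nat.card E → r ∉ sigma M := by
  intro r hr hd hσ
  haveI := Fact.mk hr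
  obtain ⟨x, hx⟩ := exists_prime_orderOf_dvd_card' r hd
  have hxs : zpowers (x : G) ≤ sigmaCore M :=
    le_sigmaCore hG hM (Subgroup.zpowers_le.mpr (hE.1 x.2)) fun t ht htd => by
      rw [Nat.card_zpowers, Subgroup.orderOf_coe, hx] at htd
      rwa [(Nat.prime_dvd_prime_iff_eq ht hr).mp htd]
  have h1 := hE.2.2.1.le ⟨x.2, hxs (Subgroup.mem_zpowers _)⟩
  rw [Subgroup.mem_bot] at h1
  rw [show x = 1 from Subtype.ext h1, orderOf_one] at hx
  exact hr.one_lt.ne hx

theorem complement_hall : IsPiHallOf {r | r ∉ sigma M} E M := by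
  refine ⟨hE.1, fun r hr hd => complement_sigma' hG hM hE r hr hd, fun r hr hrσ hd => hrσ ?_⟩
  have h1 : E.relIndex M ∣ Nat.card (sigmaCore M) := by
    have h2 : Nat.card M ∣ Nat.card E * Nat.card (sigmaCore M) :=
      (Subgroup.card_dvd_of_le (fun m hm => by
        obtain ⟨a, ha, b, hb, rfl⟩ := hE.2.2.2 m hm
        exact mul_mem (Subgroup.mem_sup_right ha) (Subgroup.mem_sup_left hb) :
          M ≤ sigmaCore M ⊔ E)).trans
        (CfsgLib.Signalizer.card_sup_dvd (hE.1.trans (le_normalizer_sigmaCore hG hM le_rfl)))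
    rw [← Subgroup.card_mul_index (E.subgroupOf M),
      Nat.card_congr (Subgroup.subgroupOfEquivOfLe hE.1).toEquiv] at h2
    exact Nat.dvd_of_mul_dvd_mul_left Nat.card_pos h2
  exact (sigmaCore_hall hG hM).1.2.1 r hr (hd.trans h1)

theorem complement_derived_commutative : IsMulCommutative ↥(⁅E, E⁆ : Subgroup G) := by
  haveI := complement_derived_nilpotent hG hM hE
  have hle : (⁅E, E⁆ : Subgroup G) ≤ E := Subgroup.commutator_le_self E
  refine nilpotent_sigma'_commutative hG hM (hle.trans hE.1) ?_ fun r hr hd =>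
    complement_sigma' hG hM hE r hr (hd.trans (Subgroup.card_dvd_of_le hle))
  exact Group.nilpotent_of_mulEquiv (((commutator ↥E).equivMapOfInjective E.subtype E.subtype_injective).trans
    (MulEquiv.subgroupCongr (Subgroup.map_subtype_commutator E)))

/-- A `τ₂(M)`-element of `E` centralises the elementary subgroup `A`. -/
theorem tau2_element_centralizes {A : Subgroup G} (hp : p ∈ tau2 M) (hAE : A ≤ E) (hA : IsElementaryAbelian p A)
    (hA2 : Nat.card A = p ^ 2) {x : G} (hxE : x ∈ E)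
    (hx : ∀ r : ℕ, r.Prime → r ∣ orderOf x → r ∈ tau2 M) : x ∈ centralizer (A : Set G) := by
  obtain ⟨⟨hEN, -⟩, ⟨hCA, hNE, -⟩, -⟩ := Cfsg.Agent.S1418.result hG M hM E hE p hp A ⟨hAE, hA, hA2⟩
  set C := E ⊓ centralizer (A : Set G) with hC
  have hCn : (C.subgroupOf E).Normal := (Subgroup.normal_subgroupOf_iff_le_normalizer inf_le_left).mpr
    fun e he => mem_normalizer_of_conj_smul (by
      rw [Subgroup.smul_inf, conj_smul_eq_of_mem_normalizer (Subgroup.le_normalizer he),
        conj_smul_eq_of_mem_normalizer (CfsgLib.CharP.normalizer_le_normalizer_centralizer _ (hEN he))])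
  haveI := hCn
  have hAc : A ≤ centralizer (A : Set G) := fun a ha b hb =>
    congrArg Subtype.val (hA.1.is_comm.comm ⟨b, hb⟩ ⟨a, ha⟩)
  -- the index is prime to the order of `x`
  have key : ∀ r : ℕ, r.Prime → r ∣ orderOf x → ¬ r ∣ C.relIndex E := by
    intro r hr hrx
    haveI := Fact.mk hr
    have hrτ := hx r hr hrx
    by_cases hrp : r = p
    · subst hrp
      obtain ⟨R, hAR, hRE, hRr, hRi⟩ := exists_sylow_ge hAE (isPGroup_of_exp hA.2)
      haveI := sigma'_pgroup_commutative hG hM (hRE.trans hE.1) hRr hrτ.2.1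
      intro hd
      refine hRi (hd.trans ?_)
      rw [← Subgroup.relIndex_mul_relIndex R C E (le_inf hRE fun a ha b hb =>
        congrArg Subtype.val (mul_comm' (⟨b, hAR hb⟩ : R) ⟨a, ha⟩)) inf_le_left]
      exact Dvd.intro_left _ rfl
    obtain ⟨B, hBE, hB, hB2⟩ := exists_elementary_in_complement hG hM hE hrτ
    obtain ⟨⟨hENB, -⟩, -⟩ := Cfsg.Agent.S1418.result hG M hM E hE r hrτ B ⟨hBE, hB, hB2⟩
    have hcop : (Nat.card A).Coprime (Nat.card B) := by
      rw [hA2, hB2]
      exact Nat.Coprime.pow 2 2 ((Nat.coprime_primes Fact.out hr).mpr (Ne.symm hrp))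
    have hBA : B ≤ centralizer (A : Set G) := fun b hb a ha => by
      have h1 : a * b * a⁻¹ * b⁻¹ ∈ B :=
        mul_mem ((Subgroup.mem_normalizer_iff.mp (hENB (hAE ha)) b).mp hb) (inv_mem hb)
      have h2 : a * b * a⁻¹ * b⁻¹ ∈ A := by
        rw [show a * b * a⁻¹ * b⁻¹ = a * (b * a⁻¹ * b⁻¹) by group]
        exact mul_mem ha ((Subgroup.mem_normalizer_iff.mp (hEN (hBE hb)) a⁻¹).mp (inv_mem ha))
      have h3 := (disjoint_iff.mp (Subgroup.disjoint_of_coprime_natCard hcop)).le ⟨h2, h1⟩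
      rwa [Subgroup.mem_bot, mul_inv_eq_one, mul_inv_eq_iff_eq_mul] at h3
    obtain ⟨S, -, hSA, hSM⟩ := exists_sylow_le_of_two hG hM hrτ hp (Ne.symm hrp) (hBE.trans hE.1) hB hB2
      (hAE.trans hE.1) hA hA2 hBA
    have hSE : (S : Subgroup G) ≤ E := hNE ▸ hSA.trans hCA
    intro hd
    exact S.not_dvd_index ((hd.trans (Dvd.intro _ (Subgroup.relIndex_mul_index inf_le_left))).trans
      (Subgroup.index_dvd_of_le (le_inf hSE hSA)))
  have h1 : (zpowers (⟨x, hxE⟩ : E)) ≤ C.subgroupOf E := by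
    refine Subgroup.relIndex_eq_one.mp (Nat.eq_one_iff_not_exists_prime_dvd.mpr fun r hr hd => ?_)
    refine key r hr ?_ (hd.trans (Subgroup.relIndex_dvd_index_of_normal _ _))
    have := hd.trans (Subgroup.relIndex_dvd_card _ _)
    rwa [Nat.card_zpowers, Subgroup.orderOf_mk] at this
  exact (h1 (Subgroup.mem_zpowers _)).2

theorem tau2_element_uniq {x : G} (hxM : x ∈ M) (hx1 : x ≠ 1)
    (hx : ∀ r : ℕ, r.Prime → r ∣ orderOf x → r ∈ tau2 M) (hσ : x ∈ sigmaHat M) :
    centralizer ({x} : Set G) ≤ M ∧ ∀ L : Subgroup G, IsCoatom L → centralizer ({x} : Set G) ≤ L → L = M := by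
  obtain ⟨q, hq, hqd⟩ := Nat.exists_prime_and_dvd (fun e => hx1 (orderOf_eq_one_iff.mp e))
  haveI := Fact.mk hq
  have hqτ := hx q hq hqd
  -- a conjugate of `E` contains `x`
  obtain ⟨m, hm, hle⟩ := CfsgLib.pi_le_conj_hall (solvable_of_ne_top hG hM.1) (complement_hall hG hM hE)
    (U := zpowers x) (Subgroup.zpowers_le.mpr hxM) (fun r hr hd => by
      rw [Nat.card_zpowers] at hd
      exact (hx r hr hd).2.1)
  set y := MulAut.conj m x with hy
  have hyE : y ∈ E := hle (Subgroup.smul_mem_pointwise_smul x _ _ (Subgroup.mem_zpowers x))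
  have hyo : orderOf y = orderOf x := MulEquiv.orderOf_eq _ x
  obtain ⟨A, hAE, hA, hA2⟩ := exists_elementary_in_complement hG hM hE hqτ
  have hAy : A ≤ centralizer ({y} : Set G) := fun a ha => Subgroup.mem_centralizer_singleton_iff.mpr
    (tau2_element_centralizes hG hM hE hqτ hAE hA hA2 hyE (fun r hr hd => hx r hr (hyo ▸ hd)) a ha)
  set A' := MulAut.conj m⁻¹ • A with hA'
  have hA'x : A' ≤ centralizer ({x} : Set G) := by
    rintro _ ⟨a, ha, rfl⟩
    refine Subgroup.mem_centralizer_singleton_iff.mpr ?_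
    show MulAut.conj m⁻¹ a * x = x * MulAut.conj m⁻¹ a
    have hx' : x = MulAut.conj m⁻¹ y := by rw [hy]; simp [mul_assoc]
    rw [hx', ← map_mul, ← map_mul, Subgroup.mem_centralizer_singleton_iff.mp (hAy ha)]
  have hA'M : A' ≤ M := (conj_smul_mono (hAE.trans hE.1) m⁻¹).trans (smul_eq_self_of_mem (inv_mem hm)).le
  obtain ⟨-, ⟨s, hs, hs1, hxs⟩⟩ := hσ
  obtain ⟨A₀, hexc⟩ := exists_exc hG hM hqτ (hAE.trans hE.1) hA hA2
  have key : ∀ L : Subgroup G, IsCoatom L → centralizer ({x} : Set G) ≤ L → L = M := fun L hL hle' => by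
    by_contra hLM
    have h2 := sigma_meet_bot hG hM hqτ hA'M (hexc.two.conj m⁻¹).1 (hexc.two.conj m⁻¹).2.1 hL hLM
      (hA'x.trans hle')
    exact hs1 (Subgroup.mem_bot.mp (h2.le ⟨hs, hle' (Subgroup.mem_centralizer_singleton_iff.mpr hxs.symm)⟩))
  obtain ⟨L, hL, hle'⟩ := exists_coatom_ge (centralizer_ne_top hG hx1)
  exact ⟨key L hL hle' ▸ hle', key⟩

end Main

/-- B–G 12.10 (c). -/
theorem normalizer_noncyclic_sigma_le (hG : IsMinSimpleOddOrder G) {M : Subgroup G} (hM : IsCoatom M)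
    (hp : p ∈ sigma M) {P : Subgroup G} (hP : IsPGroup p P) (hPM : P ≤ M) (hnc : ¬ IsCyclic P) :
    normalizer (P : Set G) ≤ M := by
  have hP1 : P ≠ ⊥ := fun e => hnc (e ▸ inferInstance)
  obtain ⟨Q, hQM, hQp, hQi, hN⟩ := exists_sigma_sylow hp
  obtain ⟨B, hBP, -, hB, hB2⟩ := exists_elementary_two (p_ne_two hG.1 hP hP1) hP hnc
  rw [normalizer_factor hG hM hQM hQp hQi hN hP hP1 hPM]
  exact sup_le inf_le_left ((centralizer_anti hBP).trans (centralizer_two_le hG hM (hBP.trans hPM) hB hB2))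

end CfsgLib.MinSimpleOdd
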