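import Cfsg.Agent.Lib.MinSimpleOdd.SigmaOrderP

/-!
The action of a complement on `M_σ` and the intersections of `M_σ` with conjugates of `M` (B–G 12.17).
-/

set_option autoImplicit false
set_option linter.unusedSectionVars false
set_option linter.style.haveILetI false
set_option maxHeartbeats 1000000

namespace CfsgLib.MinSimpleOdd

open Subgroup Cfsg
open scoped Pointwise commutatorElement IsMulCommutative

universe u
variable {G : Type u} [Group G] [Finite G] {p : ℕ} [Fact p.Prime]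

/-- If `[S, E] = S` then a coprime group `E` has no fixed points on `S / S'`. -/
theorem fixed_le_derived {S E : Subgroup G} (hES : E ≤ normalizer (S : Set G))
    (hcop : (Nat.card S).Coprime (Nat.card E)) (h : ⁅S, E⁆ = S) :
    S ⊓ centralizer (E : Set G) ≤ ⁅S, S⁆ := by
  classical
  letI := Fintype.ofFinite E
  set a : E → (S →* Abelianization S) := fun e =>
    Abelianization.of.comp (S.normalizerMonoidHom ⟨e, hES e.2⟩).toMonoidHom with ha
  set Φ : S →* Abelianization S := ∏ e : E, a e with hΦ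
  have hΦs : ∀ s, Φ s = ∏ e : E, a e s := fun s => by simp [hΦ, MonoidHom.finset_prod_apply]
  have hinv : ∀ (e₀ : E) (s : S), Φ (S.normalizerMonoidHom ⟨e₀, hES e₀.2⟩ s) = Φ s := fun e₀ s => by
    rw [hΦs, hΦs]
    refine Fintype.prod_equiv (Equiv.mulRight e₀) _ _ fun e => ?_
    simp only [ha, Equiv.coe_mulRight, MonoidHom.comp_apply, MulEquiv.coe_toMonoidHom]
    congr 1
    exact Subtype.ext (show (e : G) * ((e₀ : G) * s * (e₀ : G)⁻¹) * (e : G)⁻¹ =
      ((e : G) * e₀) * s * ((e : G) * e₀)⁻¹ by group)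
  have hker : S ≤ Φ.ker.map S.subtype := by
    conv_lhs => rw [← h]
    rw [Subgroup.commutator_le]
    intro s hs e he
    refine ⟨⟨s, hs⟩ * (S.normalizerMonoidHom ⟨e, hES he⟩ ⟨s, hs⟩)⁻¹, ?_, ?_⟩
    · rw [SetLike.mem_coe, MonoidHom.mem_ker, map_mul, map_inv, hinv ⟨e, he⟩, mul_inv_cancel]
    · show s * (e * s * e⁻¹)⁻¹ = _
      rw [commutatorElement_def]
      group
  rintro x ⟨hx, hxE⟩
  obtain ⟨y, hy, hyx⟩ := hker hx
  obtain rfl : y = ⟨x, hx⟩ := Subtype.ext hyx
  rw [SetLike.mem_coe, MonoidHom.mem_ker, hΦs] at hy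
  have hconst : ∀ e : E, a e ⟨x, hx⟩ = Abelianization.of (⟨x, hx⟩ : S) := fun e => by
    simp only [ha, MonoidHom.comp_apply, MulEquiv.coe_toMonoidHom]
    congr 1
    refine Subtype.ext ?_
    show (e : G) * x * (e : G)⁻¹ = x
    rw [hxE e e.2, mul_inv_cancel_right]
  rw [Finset.prod_congr rfl (fun e _ => hconst e), Finset.prod_const, Finset.card_univ,
    ← Nat.card_eq_fintype_card] at hy
  have h1 : Abelianization.of (⟨x, hx⟩ : S) = 1 := by
    rw [← orderOf_eq_one_iff]
    exact Nat.eq_one_of_dvd_coprimes hcop ((orderOf_map_dvd _ _).trans (orderOf_dvd_natCard _))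
      (orderOf_dvd_of_pow_eq_one hy)
  have h2 : (⟨x, hx⟩ : S) ∈ commutator ↥S := by
    rw [← Abelianization.ker_of]
    exact h1
  exact (Subgroup.map_subtype_commutator S).le ⟨_, h2, rfl⟩

section Main

variable (hG : IsMinSimpleOddOrder G) {M : Subgroup G} (hM : IsCoatom M)
  {E : Subgroup G} (hE : IsComplIn E (sigmaCore M) M)

include hG hM hE

theorem sigma_commutator_eq : ⁅sigmaCore M, E⁆ = sigmaCore M := by
  set S := sigmaCore M with hS
  have hSM : S ≤ M := piCoreOf_le _ _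
  have hMS : M ≤ normalizer (S : Set G) := le_normalizer_sigmaCore hG hM le_rfl
  set K := ⁅S, E⁆ with hK
  have hKS : K ≤ S := by
    rw [hK, Subgroup.commutator_le]
    intro s hs e he
    rw [commutatorElement_def, mul_assoc s, mul_assoc s]
    exact mul_mem hs (by
      exact (Subgroup.mem_normalizer_iff.mp (hMS (hE.1 he)) s⁻¹).mp (inv_mem hs))
  have hSK : S ≤ normalizer (K : Set G) := fun s hs => mem_normalizer_of_conj_smul (by
    refine Subgroup.eq_of_le_of_card_ge ?_ (CfsgLib.card_conj_smul s _).ge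
    rw [Subgroup.pointwise_smul_subset_iff, hK, Subgroup.commutator_le]
    intro a ha e he
    rw [Subgroup.mem_inv_pointwise_smul_iff]
    show s * ⁅a, e⁆ * s⁻¹ ∈ ⁅S, E⁆
    have e1 : s * ⁅a, e⁆ * s⁻¹ = ⁅s * a, e⁆ * ⁅s, e⁆⁻¹ := by simp only [commutatorElement_def]; group
    rw [e1]
    exact mul_mem (Subgroup.commutator_mem_commutator (mul_mem hs ha) he)
      (inv_mem (Subgroup.commutator_mem_commutator hs he)))
  have hEK : E ≤ normalizer (K : Set G) := fun e he => mem_normalizer_of_conj_smul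
    ((Subgroup.map_commutator _ _ _).trans (by
      show ⁅MulAut.conj e • S, MulAut.conj e • E⁆ = _
      rw [conj_smul_eq_of_mem_normalizer (hMS (hE.1 he)), conj_smul_eq_of_mem_normalizer (Subgroup.le_normalizer he)]))
  have hMK : M ≤ normalizer (K : Set G) := fun m hm => by
    obtain ⟨e, he, s, hs, rfl⟩ := hE.2.2.2 m hm
    exact mul_mem (hEK he) (hSK hs)
  have hKM : K ≤ M := hKS.trans hSM
  haveI : (K.subgroupOf M).Normal := (Subgroup.normal_subgroupOf_iff_le_normalizer hKM).mpr hMK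
  set f := QuotientGroup.mk' (K.subgroupOf M) with hf
  set A := (S.subgroupOf M).map f with hA
  set B := (E.subgroupOf M).map f with hB
  have hAB : ∀ a ∈ A, ∀ b ∈ B, Commute a b := by
    rintro _ ⟨⟨s, hsM⟩, hs, rfl⟩ _ ⟨⟨e, heM⟩, he, rfl⟩
    rw [← commutatorElement_eq_one_iff_commute, ← map_commutatorElement, hf, QuotientGroup.mk'_apply,
      QuotientGroup.eq_one_iff]
    exact Subgroup.commutator_mem_commutator (H₁ := S) (H₂ := E) hs he
  -- `M_σ ≤ M'`, so `M_σ = [M_σ, E] M_σ'`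
  have hle : S ≤ K ⊔ ⁅S, S⁆ := by
    intro s hs
    obtain ⟨y, hy, hys⟩ := (Subgroup.map_subtype_commutator M).ge (core_le_derived hG hM subset_rfl hs)
    have htop : ∀ q : ↥M ⧸ K.subgroupOf M, ∃ b ∈ B, ∃ a ∈ A, q = b * a := fun q => by
      obtain ⟨⟨m, hm⟩, rfl⟩ := QuotientGroup.mk'_surjective _ q
      obtain ⟨e, he, s', hs', rfl⟩ := hE.2.2.2 m hm
      exact ⟨_, ⟨⟨e, hE.1 he⟩, he, rfl⟩, _, ⟨⟨s', hSM hs'⟩, hs', rfl⟩, by rw [← map_mul]; rfl⟩
    have hder : commutator (↥M ⧸ K.subgroupOf M) ≤ ⁅A, A⁆ ⊔ ⁅B, B⁆ := by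
      rw [_root_.commutator_def, Subgroup.commutator_le]
      intro x _ x' _
      obtain ⟨b, hb, a, ha, rfl⟩ := htop x
      obtain ⟨b', hb', a', ha', rfl⟩ := htop x'
      have h1 : ⁅b * a, b' * a'⁆ = ⁅b, b'⁆ * ⁅a, a'⁆ := by
        have c1 : Commute a b' := hAB a ha b' hb'
        have c2 : Commute a' b⁻¹ := (hAB a' ha' b hb).inv_right
        have c3 : Commute (⁅a, a'⁆) b' := by
          rw [commutatorElement_def]
          exact (((c1.mul_left (hAB a' ha' b' hb')).mul_left c1.inv_left).mul_left (hAB a' ha' b' hb').inv_left)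
        have c4 : Commute (⁅a, a'⁆) b⁻¹ := by
          rw [commutatorElement_def]
          exact ((((hAB a ha b hb).inv_right.mul_left c2).mul_left (hAB a ha b hb).inv_right.inv_left).mul_left
            c2.inv_left)
        calc ⁅b * a, b' * a'⁆ = b * (a * b') * a' * a⁻¹ * b⁻¹ * a'⁻¹ * b'⁻¹ := by
              simp only [commutatorElement_def]; group
          _ = b * b' * (a * a' * a⁻¹ * (b⁻¹ * a'⁻¹)) * b'⁻¹ := by rw [c1.eq]; group
          _ = b * b' * (⁅a, a'⁆ * b⁻¹) * b'⁻¹ := by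
              rw [← c2.inv_left.eq, commutatorElement_def]; group
          _ = b * b' * b⁻¹ * (⁅a, a'⁆ * b'⁻¹) := by rw [c4.eq]; group
          _ = b * b' * b⁻¹ * (b'⁻¹ * ⁅a, a'⁆) := by rw [c3.inv_right.eq]
          _ = _ := by simp only [commutatorElement_def]; group
      rw [h1]
      exact mul_mem (Subgroup.mem_sup_right (Subgroup.commutator_mem_commutator hb hb'))
        (Subgroup.mem_sup_left (Subgroup.commutator_mem_commutator ha ha'))
    have hfy : f y ∈ ⁅A, A⁆ ⊔ ⁅B, B⁆ := hder (by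
      rw [_root_.commutator_def] at hy ⊢
      have := Subgroup.mem_map_of_mem f hy
      rw [Subgroup.map_commutator] at this
      exact Subgroup.commutator_mono le_top le_top this)
    rw [hA, hB, ← Subgroup.map_commutator, ← Subgroup.map_commutator, ← Subgroup.map_sup] at hfy
    obtain ⟨c, hc, hfc⟩ := hfy
    rw [hf, QuotientGroup.mk'_eq_mk'] at hfc
    obtain ⟨k, hk, hck⟩ := hfc
    have hc' : (c : G) ∈ ⁅S, S⁆ ⊔ ⁅E, E⁆ := by
      have h2 : (⁅S.subgroupOf M, S.subgroupOf M⁆ ⊔ ⁅E.subgroupOf M, E.subgroupOf M⁆).map M.subtype ≤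
          ⁅S, S⁆ ⊔ ⁅E, E⁆ := by
        rw [Subgroup.map_sup, Subgroup.map_commutator, Subgroup.map_commutator,
          Subgroup.map_subgroupOf_eq_of_le hSM, Subgroup.map_subgroupOf_eq_of_le hE.1]
      exact h2 ⟨c, hc, rfl⟩
    have hEn : ⁅E, E⁆ ≤ normalizer ((⁅S, S⁆ : Subgroup G) : Set G) := fun e he => mem_normalizer_of_conj_smul
      ((Subgroup.map_commutator _ _ _).trans (by
        show ⁅MulAut.conj e • S, MulAut.conj e • S⁆ = _
        rw [conj_smul_eq_of_mem_normalizer (hMS (hE.1 (Subgroup.commutator_le_self E he)))]))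
    rw [← SetLike.mem_coe, Subgroup.coe_mul_of_right_le_normalizer_left ⁅S, S⁆ ⁅E, E⁆ hEn] at hc'
    obtain ⟨u, hu, v, hv, huv⟩ := Set.mem_mul.mp hc'
    have hsk : u * v * (k : G) = s := by
      rw [huv, ← hys]
      exact congrArg Subtype.val hck
    have huS : u ∈ S := Subgroup.commutator_le_self S hu
    have hvS : v ∈ S := by
      rw [show v = u⁻¹ * s * (k : G)⁻¹ by rw [← hsk]; group]
      exact mul_mem (mul_mem (inv_mem huS) hs) (inv_mem (hKS hk))
    have hv1 := hE.2.2.1.le ⟨Subgroup.commutator_le_self E hv, hvS⟩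
    rw [Subgroup.mem_bot] at hv1
    rw [← hsk, hv1, mul_one]
    exact mul_mem (Subgroup.mem_sup_right hu) (Subgroup.mem_sup_left hk)
  -- `M_σ` is solvable
  refine le_antisymm hKS ?_
  haveI hSs : Group.IsSolvable S := solvable_of_le hSM (solvable_of_ne_top hG hM.1)
  haveI : (K.subgroupOf S).Normal := (Subgroup.normal_subgroupOf_iff_le_normalizer hKS).mpr hSK
  set g := QuotientGroup.mk' (K.subgroupOf S) with hg
  haveI : Group.IsSolvable (↥S ⧸ K.subgroupOf S) :=
    Group.isSolvable_of_surjective (f := g) (QuotientGroup.mk'_surjective _)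
  have htop : commutator (↥S ⧸ K.subgroupOf S) = ⊤ := by
    refine eq_top_iff.mpr fun q _ => ?_
    obtain ⟨⟨s, hs⟩, rfl⟩ := QuotientGroup.mk'_surjective _ q
    have h2 := hle hs
    rw [← SetLike.mem_coe, Subgroup.coe_mul_of_right_le_normalizer_left K ⁅S, S⁆
      ((Subgroup.commutator_le_self S).trans hSK)] at h2
    obtain ⟨k, hk, u, hu, rfl⟩ := Set.mem_mul.mp h2
    obtain ⟨w, hw, rfl⟩ := (Subgroup.map_subtype_commutator S).ge hu
    rw [show (⟨k * S.subtype w, hs⟩ : S) = ⟨k, hKS hk⟩ * w from rfl, map_mul,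
      show QuotientGroup.mk' (K.subgroupOf S) (⟨k, hKS hk⟩ : S) = 1 from (QuotientGroup.eq_one_iff _).mpr hk,
      one_mul]
    have := Subgroup.mem_map_of_mem g hw
    rw [_root_.commutator_def, Subgroup.map_commutator] at this
    rw [_root_.commutator_def]
    exact Subgroup.commutator_mono le_top le_top this
  haveI : Subsingleton (↥S ⧸ K.subgroupOf S) := by
    by_contra hns
    haveI := not_subsingleton_iff_nontrivial.mp hns
    exact (Group.IsSolvable.commutator_lt_top_of_nontrivial (↥S ⧸ K.subgroupOf S)).ne htop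
  intro s hs
  exact (QuotientGroup.eq_one_iff (N := K.subgroupOf S) (⟨s, hs⟩ : S)).mp (Subsingleton.elim _ _)

theorem sigma_fixed_le_derived : sigmaCore M ⊓ centralizer (E : Set G) ≤ ⁅sigmaCore M, sigmaCore M⁆ :=
  fixed_le_derived (le_normalizer_sigmaCore hG hM hE.1) (Nat.coprime_of_dvd fun r hr h1 h2 =>
    complement_sigma' hG hM hE r hr h2 ((sigmaCore_hall hG hM).1.2.1 r hr h1)) (sigma_commutator_eq hG hM hE)

end Main

/-- B–G 12.17 (c). -/
theorem sigma_meet_conj (hG : IsMinSimpleOddOrder G) {M : Subgroup G} (hM : IsCoatom M) {g : G} (hg : g ∉ M) :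
    IsCyclic ↥(sigmaCore M ⊓ MulAut.conj g • M) ∧
      (∀ r : ℕ, r.Prime → r ∣ Nat.card ↥(sigmaCore M ⊓ MulAut.conj g • M) → r ∉ beta M) ∧
      sigmaCore M ⊓ MulAut.conj g • M ⊓ ⁅sigmaCore M, sigmaCore M⁆ = ⊥ := by
  set D := sigmaCore M ⊓ MulAut.conj g • M with hD
  have hsM : sigmaCore M ≤ M := piCoreOf_le _ _
  have hDM : D ≤ M := inf_le_left.trans hsM
  have hfuse : ∀ (r : ℕ) (_ : Fact r.Prime) (X : Subgroup G), IsPGroup r X → X ≠ ⊥ → X ≤ D →
      ¬ centralizer (X : Set G) ≤ M := by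
    intro r _ X hXr hX1 hXD hC
    have hrσ : r ∈ sigma M := (sigmaCore_hall hG hM).1.2.1 r Fact.out (by
      obtain ⟨k, hk⟩ := hXr.exists_card_eq
      exact (hk ▸ dvd_pow_self r fun e => hX1 (Subgroup.card_eq_one.mp (by rw [hk, e, pow_zero]))).trans
        (Subgroup.card_dvd_of_le (hXD.trans inf_le_left)))
    obtain ⟨P, hPM, hPp, hPi, hNP⟩ := exists_sigma_sylow hrσ
    obtain ⟨m, hm, c, hc, e⟩ := conj_eq_mul hG hM hPM hPp hPi hNP hXr hX1 (hXD.trans hDM) (g := g⁻¹) (by
      have := conj_smul_mono (hXD.trans inf_le_right) g⁻¹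
      rwa [CfsgLib.conj_smul_mul, inv_mul_cancel, map_one, one_smul] at this)
    refine hg ?_
    rw [← inv_inv g, e]
    exact M.inv_mem (mul_mem hm (hC hc))
  have hprime : ∀ (r : ℕ) (_ : Fact r.Prime) (x : G), x ∈ D → orderOf x = r →
      r ∉ beta M ∧ x ∉ ⁅sigmaCore M, sigmaCore M⁆ := by
    intro r _ x hxD hxo
    rw [← not_or]
    intro hor
    have hX : Nat.card (zpowers x) = r := by rw [Nat.card_zpowers, hxo]
    have hrσ : r ∈ sigma M := (sigmaCore_hall hG hM).1.2.1 r Fact.out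
      (hxo ▸ Subgroup.orderOf_dvd_natCard _ hxD.1)
    obtain ⟨P⟩ : Nonempty (Sylow r ↥(sigmaCore M)) := inferInstance
    have huniq := sigma_order_p_uniq hG hM hrσ (Subgroup.zpowers_le.mpr (hDM hxD)) hX P
      (hor.imp id fun h => Subgroup.zpowers_le.mpr h)
    exact hfuse r inferInstance (zpowers x) (IsPGroup.of_card (n := 1) (by rw [hX, pow_one]))
      (fun e => by rw [e, Subgroup.card_bot] at hX; exact (Fact.out : r.Prime).one_lt.ne hX)
      (Subgroup.zpowers_le.mpr hxD) huniq.1.1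
  have hder : D ⊓ ⁅sigmaCore M, sigmaCore M⁆ = ⊥ := by
    by_contra hne
    obtain ⟨r, hr, hd⟩ := Nat.exists_prime_and_dvd (fun e => hne (Subgroup.card_eq_one.mp e))
    haveI := Fact.mk hr
    obtain ⟨⟨x, hx⟩, hxo⟩ := exists_prime_orderOf_dvd_card' r hd
    rw [Subgroup.orderOf_mk] at hxo
    exact (hprime r inferInstance x hx.1 hxo).2 hx.2
  haveI hDc : IsMulCommutative D := ⟨⟨fun a b => by
    have h1 : ⁅(a : G), (b : G)⁆ ∈ D ⊓ ⁅sigmaCore M, sigmaCore M⁆ := ⟨by
      show _ ∈ D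
      rw [commutatorElement_def]
      exact mul_mem (mul_mem (mul_mem a.2 b.2) (inv_mem a.2)) (inv_mem b.2),
      Subgroup.commutator_mem_commutator a.2.1 b.2.1⟩
    rw [hder, Subgroup.mem_bot, commutatorElement_eq_one_iff_mul_comm] at h1
    exact Subtype.ext h1⟩⟩
  refine ⟨?_, fun r hr hd => ?_, hder⟩
  · by_contra hnc
    obtain ⟨r, hr, a, b, ha, hb, hab⟩ := CfsgLib.exists_two_generators_of_not_cyclic hnc
    haveI := Fact.mk hr
    have hze : IsElementaryAbelian r (zpowers (a : G)) := ⟨inferInstance, fun x hx => by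
      obtain ⟨i, rfl⟩ := Subgroup.mem_zpowers_iff.mp hx
      rw [← zpow_natCast, ← zpow_mul, mul_comm, zpow_mul, zpow_natCast,
        show (a : G) ^ r = 1 by rw [← ha, ← Subgroup.orderOf_coe]; exact pow_orderOf_eq_one _, one_zpow]⟩
    have hbo : (b : G) ^ r = 1 := by rw [← hb, ← Subgroup.orderOf_coe]; exact pow_orderOf_eq_one _
    have hBe := elementary_sup_zpowers hze hbo fun x hx => by
      obtain ⟨i, rfl⟩ := Subgroup.mem_zpowers_iff.mp hx
      exact ((show Commute (a : G) b from congrArg Subtype.val (mul_comm' a b)).zpow_left i).eq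
    set B := zpowers (a : G) ⊔ zpowers (b : G) with hB
    have hBD : B ≤ D := sup_le (Subgroup.zpowers_le.mpr a.2) (Subgroup.zpowers_le.mpr b.2)
    have hBr := isPGroup_of_exp hBe.2
    have hlt : r < Nat.card B := by
      rw [← ha, ← Subgroup.orderOf_coe, ← Nat.card_zpowers]
      refine Set.Finite.card_lt_card (Set.toFinite _) (show zpowers (a : G) < B from
        lt_of_le_of_ne le_sup_left fun e => hab ?_)
      obtain ⟨i, hi⟩ := Subgroup.mem_zpowers_iff.mp (e.ge (Subgroup.mem_sup_right (Subgroup.mem_zpowers _)))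
      exact ⟨i, Subtype.ext (by simpa using hi)⟩
    obtain ⟨B₂, hB₂B, -, hB₂, hB₂c⟩ := exists_elementary_two (p_ne_two hG.1 hBr fun e => by
      rw [e, Subgroup.card_bot] at hlt; exact absurd hlt (not_lt.mpr hr.one_lt.le)) hBr
      (not_cyclic_of_elementary hBe.2 hlt)
    exact hfuse r inferInstance B₂ (isPGroup_of_exp hB₂.2) (fun e => by
      rw [e, Subgroup.card_bot] at hB₂c
      exact (Nat.one_lt_pow (by norm_num) hr.one_lt).ne hB₂c) (hB₂B.trans hBD)
      (centralizer_two_le hG hM ((hB₂B.trans hBD).trans hDM) hB₂ hB₂c)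
  · haveI := Fact.mk hr
    obtain ⟨⟨x, hx⟩, hxo⟩ := exists_prime_orderOf_dvd_card' r hd
    rw [Subgroup.orderOf_mk] at hxo
    exact (hprime r inferInstance x hx hxo).1

end CfsgLib.MinSimpleOdd
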