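import Cfsg.Agent.Lib.MinSimpleOdd.TypeP
import Cfsg.Agent.Lib.UniqueSubgroup
import Cfsg.Agent.S1420
import Cfsg.Agent.S1408
import Cfsg.Agent.S1419
import Cfsg.Agent.S1426

/-!
The structure of a nilpotent `M_σ` that is not TI (B–G 15.7).
-/

set_option autoImplicit false
set_option linter.unusedSectionVars false
set_option linter.style.haveILetI false
set_option maxHeartbeats 1000000

namespace CfsgLib.MinSimpleOdd

open Subgroup Cfsg
open scoped Pointwise commutatorElement IsMulCommutative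

universe u
variable {G : Type u} [Group G] [Finite G]

theorem cyclic_of_rank_one {p : ℕ} [Fact p.Prime] {A : Subgroup G} (hc : IsMulCommutative A) (hA : IsPGroup p A)
    (h1 : PRankLE p 1 A) : IsCyclic A := by
  have hpp : p.Prime := Fact.out
  by_cases hA1 : A = ⊥
  · subst hA1; infer_instance
  obtain ⟨X, hXA, hX⟩ := exists_sub_card hA hA1
  obtain ⟨z₀, hz₀, hzX⟩ := exists_gen hX
  have hzA : z₀ ∈ A := hXA (hzX ▸ mem_zpowers z₀)
  set z : A := ⟨z₀, hzA⟩
  have hz : orderOf z = p := by rw [← Subgroup.orderOf_coe]; exact hz₀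
  haveI := hc
  let B : Subgroup A :=
    { carrier := {a | a ^ p = 1}
      mul_mem' := fun {a b} ha hb => by
        show (a * b) ^ p = 1
        rw [(show Commute a b from mul_comm' a b).mul_pow, show a ^ p = 1 from ha, show b ^ p = 1 from hb, one_mul]
      one_mem' := one_pow p
      inv_mem' := fun {a} ha => by
        show a⁻¹ ^ p = 1
        rw [inv_pow, show a ^ p = 1 from ha, inv_one] }
  have hzB : zpowers z ≤ B := Subgroup.zpowers_le.mpr (show z ^ p = 1 by rw [← hz]; exact pow_orderOf_eq_one z)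
  have hBcard : Nat.card B ≤ p ^ 1 := h1 B ⟨⟨fun a b => Subtype.ext (mul_comm' (a : A) b)⟩⟩ fun a ha => ha
  have hBeq : zpowers z = B := Subgroup.eq_of_le_of_card_ge hzB (by rw [Nat.card_zpowers, hz]; simpa using hBcard)
  obtain ⟨a, -, ha⟩ := CfsgLib.UniqueSubgroup.exists_generator (G := A) hA hz
    (fun y hy => hBeq ▸ (show y ∈ B from hy)) ⊤ fun y _ w _ => mul_comm' y w
  exact isCyclic_iff_exists_zpowers_eq_top.mpr ⟨a, ha.symm⟩

/-- An element normalizing a line of order `q` has its `(q-1)`-st power centralizing it. -/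
theorem pow_pred_centralizes {q : ℕ} [Fact q.Prime] {W : Subgroup G} (hW : Nat.card W = q) {e : G}
    (he : e ∈ normalizer (W : Set G)) : e ^ (q - 1) ∈ centralizer (W : Set G) := by
  obtain ⟨w, hw, rfl⟩ := exists_gen hW
  obtain ⟨i, hi⟩ := Subgroup.mem_zpowers_iff.mp ((Subgroup.mem_normalizer_iff.mp he w).mp (mem_zpowers w))
  have hn : ∀ n : ℕ, e ^ n * w * (e ^ n)⁻¹ = w ^ (i ^ n) := fun n => by
    induction n with
    | zero => simp
    | succ n ih =>
      rw [pow_succ' e, show e * e ^ n * w * (e * e ^ n)⁻¹ = e * (e ^ n * w * (e ^ n)⁻¹) * e⁻¹ by group, ih,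
        ← conj_zpow, ← hi, ← zpow_mul, pow_succ' i]
  have hi0 : ((i : ℤ) : ZMod q) ≠ 0 := fun h => by
    have h0 : w ^ i = 1 := orderOf_dvd_iff_zpow_eq_one.mp (hw ▸ (ZMod.intCast_zmod_eq_zero_iff_dvd i q).mp h)
    rw [h0, eq_comm, mul_inv_eq_one, mul_eq_left] at hi
    exact (Fact.out : q.Prime).ne_one (by rw [← hw, hi, orderOf_one])
  have hone : w ^ (i ^ (q - 1)) = w := by
    have h1 : ((i ^ (q - 1) : ℤ) : ZMod q) = ((1 : ℤ) : ZMod q) := by
      push_cast
      exact ZMod.pow_card_sub_one_eq_one hi0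
    conv_rhs => rw [← zpow_one w]
    rw [zpow_eq_zpow_iff_modEq, hw]
    exact (ZMod.intCast_eq_intCast_iff _ _ _).mp h1
  rw [← centralizer_zpowers, Subgroup.mem_centralizer_singleton_iff]
  exact mul_inv_eq_iff_eq_mul.mp ((hn (q - 1)).trans hone)

/-- The normal Sylow subgroups of a nilpotent `M_σ`. -/
theorem exists_core_sylow (hG : IsMinSimpleOddOrder G) {M : Subgroup G} (hM : IsCoatom M)
    (hn : Group.IsNilpotent (sigmaCore M)) (q : ℕ) [Fact q.Prime] :
    ∃ Q : Subgroup G, Q ≤ sigmaCore M ∧ IsPGroup q Q ∧ ¬ q ∣ Q.relIndex (sigmaCore M) ∧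
      M ≤ normalizer (Q : Set G) ∧ ∀ Y : Subgroup G, Y ≤ sigmaCore M → IsPGroup q Y → Y ≤ Q := by
  obtain ⟨P⟩ : Nonempty (Sylow q ↥(sigmaCore M)) := inferInstance
  haveI : (P : Subgroup ↥(sigmaCore M)).Normal :=
    (Group.isNilpotent_of_finite_tfae.out 0 3 rfl rfl).mp hn q inferInstance P
  haveI : (P : Subgroup ↥(sigmaCore M)).Characteristic := Sylow.characteristic_of_normal P inferInstance
  refine ⟨_, Subgroup.map_subtype_le _, P.2.map _, not_dvd_of_sylow _ P,
    (CfsgLib.le_normalizer_map_characteristic (le_normalizer_sigmaCore hG hM le_rfl) _).1, fun Y hY hYq y hy => ?_⟩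
  obtain ⟨T, hT⟩ := (hYq.comap_subtype (K := sigmaCore M)).exists_le_sylow
  haveI := Sylow.unique_of_normal P inferInstance
  have : T = P := Subsingleton.elim _ _
  exact ⟨⟨y, hY hy⟩, this ▸ hT (show (⟨y, hY hy⟩ : sigmaCore M) ∈ Y.subgroupOf (sigmaCore M) from hy), rfl⟩

/-- A non-TI witness for `M_σ`. -/
structure NonTIData (M : Subgroup G) (p : ℕ) (x : G) (N : Subgroup G) : Prop where
  hM : IsCoatom M
  nil : Group.IsNilpotent (sigmaCore M)
  hp : p.Prime
  xs : x ∈ sigmaCore M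
  ord : orderOf x = p
  sov : SigmaOver M x N
  notDer : x ∉ (⁅sigmaCore M, sigmaCore M⁆ : Subgroup G)
  moved : ∃ g : G, g ∉ M ∧ g * x * g⁻¹ ∈ sigmaCore M

theorem exists_nonTI_data (hG : IsMinSimpleOddOrder G) {M : Subgroup G} (hM : IsCoatom M)
    (hn : Group.IsNilpotent (sigmaCore M)) (hti : ¬ IsTISubset (sigmaCore M : Set G)) :
    ∃ p x N, NonTIData M p x N := by
  simp only [IsTISubset, not_forall] at hti
  obtain ⟨g, hg, y, hy, hgy, hy1⟩ := hti
  have hgM : g ∉ M := fun h => hg (le_normalizer_sigmaCore hG hM le_rfl h)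
  obtain ⟨p, hp, hpd⟩ := exists_prime_dvd_order hy1
  haveI := Fact.mk hp
  obtain ⟨X, hX, hXy, -⟩ := exists_line_of_element hpd
  obtain ⟨x, hx, hxX⟩ := exists_gen hX
  obtain ⟨i, rfl⟩ := Subgroup.mem_zpowers_iff.mp (hXy (hxX ▸ mem_zpowers x))
  set x := y ^ i
  have hxs : x ∈ sigmaCore M := Subgroup.zpow_mem _ hy i
  have hgx : g * x * g⁻¹ ∈ sigmaCore M := by rw [← conj_zpow]; exact Subgroup.zpow_mem _ hgy i
  have hx1 : x ≠ 1 := fun e => hp.ne_one (by rw [← hx, e, orderOf_one])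
  have hCM : ¬ centralizer ({x} : Set G) ≤ M := fun hC => by
    obtain ⟨n, hn', hne⟩ := hall_fusion hG hM le_rfl (by rw [Subgroup.relIndex_self]; exact Nat.coprime_one_right _)
      hxs hgx
    have hc : n⁻¹ * g ∈ M := hC (Subgroup.mem_centralizer_singleton_iff.mpr (by
      have : g * x * g⁻¹ = n * x * n⁻¹ := hne.symm
      rw [mul_inv_eq_iff_eq_mul] at this
      rw [mul_assoc, this]; group))
    exact hgM (by simpa using M.mul_mem hn'.1 hc)
  obtain ⟨N, hN⟩ := exists_sigmaOver hG hM hxs hx1 hCM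
  refine ⟨p, x, N, hM, hn, hp, hxs, hx, hN, fun hd => hx1 ?_, g, hgM, hgx⟩
  obtain ⟨E, hE, -⟩ := exists_complement_ge hG hM (bot_le : (⊥ : Subgroup G) ≤ M) fun r hr hd =>
    absurd (Subgroup.card_bot (G := G) ▸ hd) hr.not_dvd_one
  obtain ⟨-, -, h3⟩ := Cfsg.Agent.S1426.result hG M hM E hE
  obtain ⟨-, -, hbot⟩ := h3 g⁻¹ fun h => hgM (by simpa using M.inv_mem h)
  refine Subgroup.mem_bot.mp (hbot ▸ Subgroup.mem_inf.mpr ⟨Subgroup.mem_inf.mpr ⟨hxs, ?_⟩, hd⟩)
  exact ⟨g * x * g⁻¹, piCoreOf_le _ _ hgx, show g⁻¹ * (g * x * g⁻¹) * g⁻¹⁻¹ = x by group⟩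

namespace NonTIData

variable {M N : Subgroup G} {p : ℕ} {x : G}

theorem x_ne (d : NonTIData M p x N) : x ≠ 1 := fun e => d.hp.ne_one (by rw [← d.ord, e, orderOf_one])

theorem p_tau2 (d : NonTIData M p x N) : p ∈ Cfsg.tau2 N := d.sov.tau2 p d.hp d.ord.symm.dvd

theorem meet_not_sigma (d : NonTIData M p x N) (hG : IsMinSimpleOddOrder G) {r : ℕ} (hr : r.Prime)
    {Y : Subgroup G} (hY : Y ≤ M ⊓ N) (hrd : r ∣ Nat.card Y) : r ∉ sigma N :=
  complement_sigma' hG d.sov.hN d.sov.compl r hr (hrd.trans (Subgroup.card_dvd_of_le hY))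

theorem meet_commutative (d : NonTIData M p x N) (hG : IsMinSimpleOddOrder G) {Y : Subgroup G}
    (hY : Y ≤ M ⊓ N) (hn : Group.IsNilpotent Y) : IsMulCommutative Y :=
  (Cfsg.Agent.S1420.result hG N d.sov.hN (M ⊓ N) d.sov.compl).1 Y (hY.trans inf_le_right) hn
    fun _ hr hd => d.meet_not_sigma hG hr hY hd

theorem other_le (d : NonTIData M p x N) {q : ℕ} [Fact q.Prime] (hqp : q ≠ p) {Q : Subgroup G}
    (hQs : Q ≤ sigmaCore M) (hQ : IsPGroup q Q) : Q ≤ centralizer ({x} : Set G) ∧ Q ≤ M ⊓ N := by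
  haveI := d.nil
  have hc : Q ≤ centralizer ({x} : Set G) := fun a ha => by
    rw [Subgroup.mem_centralizer_singleton_iff]
    obtain ⟨i, hi⟩ := hQ ⟨a, ha⟩
    have haG : a ^ q ^ i = 1 := by simpa using congrArg Subtype.val hi
    have hco : (orderOf (⟨a, hQs ha⟩ : sigmaCore M)).Coprime (orderOf (⟨x, d.xs⟩ : sigmaCore M)) := by
      rw [Subgroup.orderOf_mk, Subgroup.orderOf_mk, d.ord]
      exact Nat.Coprime.coprime_dvd_left (orderOf_dvd_of_pow_eq_one haG)
        (((Nat.coprime_primes Fact.out d.hp).mpr hqp).pow_left i)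
    exact congrArg Subtype.val (CfsgLib.commute_of_nilpotent _ _ hco)
  exact ⟨hc, le_inf (hQs.trans (piCoreOf_le _ _)) (hc.trans d.sov.le)⟩

theorem not_le_centralizer (d : NonTIData M p x N) (hG : IsMinSimpleOddOrder G)
    (hna : ¬ IsMulCommutative (sigmaCore M)) : ¬ sigmaCore M ≤ centralizer ({x} : Set G) := fun h =>
  hna (d.meet_commutative hG (le_inf (piCoreOf_le _ _) (h.trans d.sov.le)) d.nil)

/-- The Sylow `p`-subgroup of a nonabelian non-TI `M_σ` is nonabelian, and `x` is not central in it. -/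
theorem sylow_facts (d : NonTIData M p x N) (hG : IsMinSimpleOddOrder G) (hna : ¬ IsMulCommutative (sigmaCore M))
    {P : Subgroup G} [Fact p.Prime] (hPs : P ≤ sigmaCore M) (hP : IsPGroup p P)
    (hPi : ¬ p ∣ P.relIndex (sigmaCore M)) (hmax : ∀ Y : Subgroup G, Y ≤ sigmaCore M → IsPGroup p Y → Y ≤ P) :
    x ∈ P ∧ ¬ IsMulCommutative P ∧ x ∉ centralizer (P : Set G) := by
  have hxP : x ∈ P := hmax (zpowers x) (Subgroup.zpowers_le.mpr d.xs)
    (isPGroup_of_card (by rw [Nat.card_zpowers, d.ord])) (mem_zpowers x)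
  have hxc : x ∉ centralizer (P : Set G) := fun h => d.not_le_centralizer hG hna (by
    rw [← Subgroup.centralizer_closure, ← Subgroup.zpowers_eq_closure]
    refine le_centralizer_of_sylows fun q hq => ?_
    haveI := Fact.mk hq
    by_cases hqp : q = p
    · subst hqp
      refine ⟨P, hPs, hPi, ?_⟩
      rw [Subgroup.le_centralizer_iff]
      exact Subgroup.zpowers_le.mpr h
    · obtain ⟨Q, -, hQs, hQ, hQi⟩ := exists_sylow_ge (p := q) (bot_le : (⊥ : Subgroup G) ≤ sigmaCore M) IsPGroup.of_bot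
      exact ⟨Q, hQs, hQi, (d.other_le hqp hQs hQ).1.trans (centralizer_zpowers x).le⟩)
  refine ⟨hxP, fun hc => hxc fun y hy => ?_, hxc⟩
  exact congrArg Subtype.val (mul_comm' (⟨y, hy⟩ : P) ⟨x, hxP⟩)

/-- B–G 15.7: the other Sylow subgroups of a nonabelian non-TI `M_σ` are cyclic. -/
theorem cyclic_other (d : NonTIData M p x N) (hG : IsMinSimpleOddOrder G) (hna : ¬ IsMulCommutative (sigmaCore M))
    {q : ℕ} [Fact q.Prime] (hqp : q ≠ p) {Q : Subgroup G} (hQs : Q ≤ sigmaCore M) (hQ : IsPGroup q Q) :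
    IsCyclic Q := by
  haveI := Fact.mk d.hp
  have hM := d.hM
  have hsM : sigmaCore M ≤ M := piCoreOf_le _ _
  have hQMN := (d.other_le hqp hQs hQ).2
  haveI := hQ.isNilpotent
  have hQc := d.meet_commutative hG hQMN inferInstance
  by_contra hcyc
  have h1 : ¬ PRankLE q 1 Q := fun h => hcyc (cyclic_of_rank_one hQc hQ h)
  have hQ1 : Q ≠ ⊥ := fun e => hcyc (e ▸ inferInstance)
  have hqd : q ∣ Nat.card Q := by
    obtain ⟨X, hX, hXc⟩ := exists_sub_card hQ hQ1
    exact hXc ▸ Subgroup.card_dvd_of_le hX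
  have hqN : q ∉ sigma N := d.meet_not_sigma hG Fact.out hQMN hqd
  have hq2 : q ∈ Cfsg.tau2 N := ⟨Fact.out, hqN, rank_two_of_not_sigma hG d.sov.hN hqN, fun h => h1
    (pRankLE_of_injective (Subgroup.inclusion (hQMN.trans inf_le_right)) (Subgroup.inclusion_injective _)
      (fun y => Subgroup.mem_top _) (pRankLE_map (G := G) Subgroup.topEquiv.symm h))⟩
  obtain ⟨P, hPs, hP, hPi, -, hmax⟩ := exists_core_sylow hG hM d.nil p
  obtain ⟨-, hPna, -⟩ := d.sylow_facts hG hna hPs hP hPi hmax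
  have hS : ∀ S : Sylow p G, ¬ IsMulCommutative (S : Subgroup G) := fun S hS => by
    obtain ⟨g, hg⟩ := exists_conj_le_sylow S.2 (Sylow.not_dvd_index S) hP
    refine hPna ⟨⟨fun a b => Subtype.ext ?_⟩⟩
    obtain ⟨a', ha', ha⟩ := hg a.2
    obtain ⟨b', hb', hb⟩ := hg b.2
    rw [Subgroup.coe_mul, Subgroup.coe_mul, ← ha, ← hb]
    show MulAut.conj g a' * MulAut.conj g b' = MulAut.conj g b' * MulAut.conj g a'
    rw [← map_mul, ← map_mul]
    exact congrArg _ (congrArg Subtype.val (hS.is_comm.comm (⟨a', ha'⟩ : (S : Subgroup G)) ⟨b', hb'⟩))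
  obtain ⟨A, hAE, hA, hA2⟩ := exists_elementary_in_complement hG d.sov.hN d.sov.compl d.p_tau2
  have := (Cfsg.Agent.S1419.result hG N d.sov.hN (M ⊓ N) d.sov.compl p d.p_tau2 hS A ⟨hAE, hA, hA2⟩).1
  rw [this] at hq2
  exact hqp hq2

/-- B–G 15.7: `O_{p'}(H)` is cyclic. -/
theorem cyclic_pPrimeCore (d : NonTIData M p x N) (hG : IsMinSimpleOddOrder G)
    (hna : ¬ IsMulCommutative (sigmaCore M)) : IsCyclic (pPrimeCore p (fittingHallOf M)) := by
  have hH := fittingHallOf_eq hG d.hM d.nil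
  set H := fittingHallOf M with hHdef
  have hHn : Group.IsNilpotent H := fittingHallOf_nilpotent M
  haveI := hHn
  haveI : IsZGroup (pPrimeCore p H) := ⟨fun q hq S => by
    haveI := Fact.mk hq
    by_cases hqd : q ∣ Nat.card (pPrimeCore p H)
    · have hqp : q ≠ p := fun e => hq.ne_one (Nat.eq_one_of_dvd_coprimes
        (CfsgLib.card_pPrimeCore_coprime (G := H) p) hqd (e ▸ dvd_refl q))
      have hle : ((S : Subgroup (pPrimeCore p H)).map (pPrimeCore p H).subtype).map H.subtype ≤ sigmaCore M :=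
        (Subgroup.map_subtype_le _).trans hH.le
      haveI := d.cyclic_other hG hna hqp hle ((S.2.map _).map _)
      exact isCyclic_of_injective
        (((S : Subgroup (pPrimeCore p H)).equivMapOfInjective (pPrimeCore p H).subtype
          (Subgroup.subtype_injective _)).trans (Subgroup.equivMapOfInjective _ H.subtype
          (Subgroup.subtype_injective _))).toMonoidHom (MulEquiv.injective _)
    · have hS1 : (S : Subgroup (pPrimeCore p H)) = ⊥ := by
        by_contra hne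
        obtain ⟨X, hX, hXc⟩ := exists_sub_card S.2 hne
        exact hqd (hXc ▸ Subgroup.card_subgroup_dvd_card X)
      rw [hS1]
      infer_instance⟩
  infer_instance

/-- The unique central line of the Sylow `p`-subgroup, normal in `M`. -/
theorem central_line (d : NonTIData M p x N) (hG : IsMinSimpleOddOrder G) (hna : ¬ IsMulCommutative (sigmaCore M))
    {P : Subgroup G} [Fact p.Prime] (hPs : P ≤ sigmaCore M) (hP : IsPGroup p P)
    (hPi : ¬ p ∣ P.relIndex (sigmaCore M)) (hn : M ≤ normalizer (P : Set G))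
    (hmax : ∀ Y : Subgroup G, Y ≤ sigmaCore M → IsPGroup p Y → Y ≤ P) :
    ∃ Z : Subgroup G, Z ≤ P ∧ Nat.card Z = p ∧ P ≤ centralizer (Z : Set G) ∧ M ≤ normalizer (Z : Set G) ∧
      x ∉ Z ∧ ∀ Z' : Subgroup G, Z' ≤ P → Nat.card Z' = p → P ≤ centralizer (Z' : Set G) → Z' = Z := by
  have hN := d.sov
  obtain ⟨hxP, hPna, hxc⟩ := d.sylow_facts hG hna hPs hP hPi hmax
  have hX : Nat.card (zpowers x) = p := by rw [Nat.card_zpowers, d.ord]
  have hτ := d.p_tau2
  have key : ∀ Z Z' : Subgroup G, Z ≤ P → Nat.card Z = p → P ≤ centralizer (Z : Set G) →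
      Z' ≤ P → Nat.card Z' = p → P ≤ centralizer (Z' : Set G) → Z' = Z := by
    intro Z Z' hZP hZ hZc hZ'P hZ' hZ'c
    obtain ⟨z, hz, hzZ⟩ := exists_gen hZ
    obtain ⟨z', hz', hz'Z⟩ := exists_gen hZ'
    have hzx : Commute x z := (hZc hxP z (hzZ ▸ mem_zpowers z)).symm
    have hz'x : Commute x z' := (hZ'c hxP z' (hz'Z ▸ mem_zpowers z')).symm
    have hzz' : Commute z z' := hZc (hZ'P (hz'Z ▸ mem_zpowers z')) z (hzZ ▸ mem_zpowers z)
    have hpx : x ^ p = 1 := d.ord ▸ pow_orderOf_eq_one x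
    have hpz : z ^ p = 1 := hz ▸ pow_orderOf_eq_one z
    have hpz' : z' ^ p = 1 := hz' ▸ pow_orderOf_eq_one z'
    have hXe : IsElementaryAbelian p (zpowers x) := elementary_of_card_prime hX
    have hW := elementary_sup_zpowers (y := z) hXe hpz fun w hw => by
      obtain ⟨i, rfl⟩ := Subgroup.mem_zpowers_iff.mp hw
      exact (hzx.zpow_left i).eq
    have hle2 : zpowers x ⊔ zpowers z ≤ centralizer ({z'} : Set G) :=
      sup_le (Subgroup.zpowers_le.mpr (Subgroup.mem_centralizer_singleton_iff.mpr hz'x.eq))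
        (Subgroup.zpowers_le.mpr (Subgroup.mem_centralizer_singleton_iff.mpr hzz'.eq))
    have hB := elementary_sup_zpowers (y := z') hW hpz' fun w hw =>
      Subgroup.mem_centralizer_singleton_iff.mp (hle2 hw)
    set W := zpowers x ⊔ zpowers z with hWdef
    have hWC : W ≤ centralizer ({x} : Set G) :=
      sup_le (Subgroup.zpowers_le.mpr (Subgroup.mem_centralizer_singleton_iff.mpr rfl))
        (Subgroup.zpowers_le.mpr (Subgroup.mem_centralizer_singleton_iff.mpr hzx.symm.eq))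
    have hWN : W ≤ N := hWC.trans hN.le
    have hxz : x ∉ zpowers z := fun h => hxc (by
      intro y hy
      obtain ⟨i, hi⟩ := Subgroup.mem_zpowers_iff.mp h
      rw [← hi]
      have hyz : Commute y z := (hZc hy z (hzZ ▸ mem_zpowers z)).symm
      exact hyz.zpow_right i)
    have hW2 : Nat.card W = p ^ 2 := by
      obtain ⟨k, hk⟩ := (isPGroup_of_exp hW.2).exists_card_eq
      have hle : Nat.card W ≤ p ^ 2 :=
        pRankLE_mono (r := p) hWN hτ.2.2.1 ⊤
          ⟨⟨fun a b => Subtype.ext (hW.1.is_comm.comm (a : W) b)⟩⟩ (fun a _ => Subtype.ext (hW.2 a a.2))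
        |> fun h => by rwa [Subgroup.card_top] at h
      have hlt : zpowers z < W := lt_of_le_of_ne le_sup_right fun e =>
        hxz (e.ge (Subgroup.mem_sup_left (mem_zpowers x)))
      have h0 : Nat.card (zpowers z) < Nat.card W := Set.Finite.card_lt_card (Set.toFinite _) hlt
      rw [Nat.card_zpowers, hz, hk] at h0
      rw [hk] at hle ⊢
      have h1 : 1 < k := (Nat.pow_lt_pow_iff_right d.hp.one_lt).mp (by rwa [pow_one])
      have h2 : k ≤ 2 := (Nat.pow_le_pow_iff_right d.hp.one_lt).mp hle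
      rw [show k = 2 by omega]
    have hBW : W ⊔ zpowers z' = W :=
      (Cfsg.Agent.S1408.result hG N hN.hN p hτ.2.1 hτ.2.2.1 hτ.2.2.2).2 W hWN hW hW2 _ hB le_sup_left
    by_contra hne
    have hsup : zpowers z ⊔ zpowers z' ≤ W := sup_le le_sup_right (le_sup_right.trans hBW.le)
    obtain ⟨k, hk⟩ := ((isPGroup_of_exp hW.2).to_le hsup).exists_card_eq
    have hlt : zpowers z < zpowers z ⊔ zpowers z' := lt_of_le_of_ne le_sup_left fun e => hne (by
      rw [← hzZ, ← hz'Z]
      exact Subgroup.eq_of_le_of_card_ge (le_sup_right.trans e.ge)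
        (by rw [Nat.card_zpowers, Nat.card_zpowers, hz, hz']))
    have h0 : Nat.card (zpowers z) < Nat.card ↥(zpowers z ⊔ zpowers z') :=
      Set.Finite.card_lt_card (Set.toFinite _) hlt
    rw [Nat.card_zpowers, hz, hk] at h0
    have heq : zpowers z ⊔ zpowers z' = W := Subgroup.eq_of_le_of_card_ge hsup (by
      rw [hW2, hk]
      exact Nat.pow_le_pow_right d.hp.pos ((Nat.pow_lt_pow_iff_right d.hp.one_lt).mp (by rwa [pow_one])))
    refine hxc ?_
    have : zpowers z ⊔ zpowers z' ≤ centralizer (P : Set G) := by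
      rw [hzZ, hz'Z]
      exact sup_le (Subgroup.le_centralizer_iff.mp hZc) (Subgroup.le_centralizer_iff.mp hZ'c)
    exact this (heq.ge (Subgroup.mem_sup_left (mem_zpowers x)))
  have hP1 : P ≠ ⊥ := fun e => hPna (e ▸ inferInstance)
  haveI : Nontrivial P := (Subgroup.nontrivial_iff_ne_bot P).mpr hP1
  haveI := hP.center_nontrivial
  obtain ⟨X, hXc, hX'⟩ := exists_sub_card ((hP.to_subgroup (Subgroup.center P)).map P.subtype) fun e => by
    rw [Subgroup.map_eq_bot_iff_of_injective _ P.subtype_injective] at e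
    exact (Subgroup.nontrivial_iff_ne_bot _).mp ‹_› e
  have hXP : X ≤ P := hXc.trans (Subgroup.map_subtype_le _)
  have hXcent : P ≤ centralizer (X : Set G) := fun y hy z hz => by
    obtain ⟨c, hc, rfl⟩ := hXc hz
    exact (congrArg Subtype.val (Subgroup.mem_center_iff.mp hc ⟨y, hy⟩)).symm
  refine ⟨X, hXP, hX', hXcent, fun m hm => mem_normalizer_of_conj_smul ?_, fun h => ?_,
    fun Z' h1 h2 h3 => key X Z' hXP hX' hXcent h1 h2 h3⟩
  · have hPm := conj_smul_eq_of_mem_normalizer (hn hm)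
    exact key X _ hXP hX' hXcent ((conj_smul_mono hXP m).trans hPm.le) (by rw [CfsgLib.card_conj_smul, hX'])
      (by rw [centralizer_conj_smul]; exact hPm.ge.trans (conj_smul_mono hXcent m))
  · refine hxc (Subgroup.le_centralizer_iff.mp hXcent h)

end NonTIData

end CfsgLib.MinSimpleOdd
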