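import Cfsg.Agent.Lib.MinSimpleOdd.SigmaPrime
import Cfsg.Agent.S1416

/-!
Nonabelian `p`-subgroups lie in a unique maximal subgroup (B–G 12.13).
-/

set_option autoImplicit false
set_option linter.unusedSectionVars false
set_option linter.style.haveILetI false
set_option maxHeartbeats 1000000

namespace CfsgLib.MinSimpleOdd

open Subgroup Cfsg
open scoped Pointwise commutatorElement IsMulCommutative

universe u
variable {G : Type u} [Group G] [Finite G] {p : ℕ} [Fact p.Prime]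

/-- Coprime generation for a noncyclic group of order `p²` acting through a central quotient. -/
theorem le_of_fixed_mod_central {P₁ Z K H : Subgroup G} (hZP : Z ≤ P₁) (hP : IsPGroup p P₁)
    (hZc : P₁ ≤ centralizer (Z : Set G)) (hder : ⁅P₁, P₁⁆ ≤ Z) (hexp : ∀ x ∈ P₁, x ^ p = 1)
    (hidx : p < Z.relIndex P₁) (hPK : P₁ ≤ normalizer (K : Set G)) (hZK : K ≤ centralizer (Z : Set G))
    (hcop : (Nat.card P₁).Coprime (Nat.card K))
    (h : ∀ a ∈ P₁, a ∉ Z → K ⊓ centralizer ({a} : Set G) ≤ H) : K ≤ H := by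
  set N := P₁ ⊔ K with hN
  have hNC : N ≤ centralizer (Z : Set G) := sup_le hZc hZK
  have hZN : Z ≤ N := hZP.trans le_sup_left
  haveI : (Z.subgroupOf N).Normal := (Subgroup.normal_subgroupOf_iff_le_normalizer hZN).mpr
    (hNC.trans (Subgroup.centralizer_le_normalizer _))
  set π := QuotientGroup.mk' (Z.subgroupOf N) with hπ
  set A := (P₁.subgroupOf N).map π with hA
  set K' := (K.subgroupOf N).map π with hK'
  have hP' : ∀ x ∈ A, ∃ a, ∃ ha : a ∈ P₁, x = π ⟨a, Subgroup.mem_sup_left ha⟩ := by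
    rintro _ ⟨⟨a, haN⟩, ha, rfl⟩
    exact ⟨a, ha, rfl⟩
  have hAc : IsMulCommutative A := ⟨⟨fun a b => Subtype.ext (by
    obtain ⟨x, hx, ex⟩ := hP' a a.2
    obtain ⟨y, hy, ey⟩ := hP' b b.2
    show (a : N ⧸ Z.subgroupOf N) * b = b * a
    rw [ex, ey, ← map_mul, ← map_mul, hπ, QuotientGroup.mk'_eq_mk']
    refine ⟨⟨y⁻¹ * x⁻¹ * y * x, mul_mem (mul_mem (mul_mem (inv_mem (Subgroup.mem_sup_left hy))
      (inv_mem (Subgroup.mem_sup_left hx))) (Subgroup.mem_sup_left hy)) (Subgroup.mem_sup_left hx)⟩, ?_,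
      Subtype.ext (by show x * y * (y⁻¹ * x⁻¹ * y * x) = y * x; group)⟩
    have h1 := hder (Subgroup.commutator_mem_commutator (inv_mem hy) (inv_mem hx) (H₁ := P₁) (H₂ := P₁))
    rw [commutatorElement_def, inv_inv, inv_inv] at h1
    exact h1)⟩⟩
  haveI := hAc
  have hAcard : Nat.card A = Z.relIndex P₁ := by
    rw [hA, ← Subgroup.relIndex_ker, hπ, QuotientGroup.ker_mk', Subgroup.relIndex_subgroupOf le_sup_left]
  have hAnc : ¬ IsCyclic A := by
    intro hc
    obtain ⟨g, hg⟩ := hc.exists_generator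
    obtain ⟨x, hx, ex⟩ := hP' g g.2
    have hgp : g ^ p = 1 := Subtype.ext (by
      rw [SubmonoidClass.coe_pow, ex, ← map_pow, show (⟨x, Subgroup.mem_sup_left hx⟩ : N) ^ p = 1 from
        Subtype.ext (hexp x hx), map_one, Subgroup.coe_one])
    rw [← hAcard, ← orderOf_eq_card_of_forall_mem_zpowers hg] at hidx
    exact absurd (Nat.le_of_dvd (Fact.out : p.Prime).pos (orderOf_dvd_of_pow_eq_one hgp)) (not_le.mpr hidx)
  have hAK : A ≤ normalizer (K' : Set (N ⧸ Z.subgroupOf N)) := by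
    haveI : (K.subgroupOf N).Normal := (Subgroup.normal_subgroupOf_iff_le_normalizer le_sup_right).mpr
      (sup_le hPK Subgroup.le_normalizer)
    haveI : K'.Normal := Subgroup.Normal.map inferInstance π (QuotientGroup.mk'_surjective _)
    rw [Subgroup.normalizer_eq_top]
    exact le_top
  have hcop' : (Nat.card A).Coprime (Nat.card K') := by
    refine (hcop.coprime_dvd_left ?_).coprime_dvd_right ?_
    · exact (Subgroup.card_map_dvd _ π).trans (Nat.card_congr (Subgroup.subgroupOfEquivOfLe le_sup_left).toEquiv).dvd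
    · exact (Subgroup.card_map_dvd _ π).trans (Nat.card_congr (Subgroup.subgroupOfEquivOfLe le_sup_right).toEquiv).dvd
  intro k hk
  have hle : (K.subgroupOf N).map π ≤ ((H ⊓ K).subgroupOf N).map π := by
    rw [← hK', ← CfsgLib.coprime_generated_by_centralizers hAnc hAK hcop']
    refine iSup₂_le fun a ha => ?_
    rintro _ ⟨⟨⟨v, hvN⟩, hv, rfl⟩, hva⟩
    obtain ⟨x, hx, ex⟩ := hP' a ha.1
    have hxZ : x ∉ Z := fun hz => ha.2 (by rw [ex, hπ, QuotientGroup.mk'_apply, QuotientGroup.eq_one_iff]; exact hz)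
    refine ⟨⟨v, hvN⟩, ⟨h x hx hxZ ⟨hv, ?_⟩, hv⟩, rfl⟩
    have hmem := Subgroup.mem_centralizer_singleton_iff.mp hva
    rw [ex, ← map_mul, ← map_mul, hπ, QuotientGroup.mk'_eq_mk'] at hmem
    obtain ⟨⟨c, hcN⟩, hc, e⟩ := hmem
    have e' : v * x * c = x * v := congrArg Subtype.val e
    have hcK : x⁻¹ * v * x * c ∈ K := by
      rw [show x⁻¹ * v * x * c = x⁻¹ * (v * x * c) by group, e']
      simpa [Subgroup.mem_subgroupOf] using hv
    have hc' : c ∈ K := by
      have h1 : x⁻¹ * v * x ∈ K := by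
        have := (Subgroup.mem_normalizer_iff.mp (hPK (inv_mem hx)) v).mp hv
        rwa [inv_inv] at this
      exact (Subgroup.mul_mem_cancel_left K h1).mp hcK
    have hc1 : c = 1 := Subgroup.disjoint_def.mp (Subgroup.disjoint_of_coprime_natCard hcop) (hZP hc) hc'
    rw [hc1, mul_one] at e'
    exact Subgroup.mem_centralizer_singleton_iff.mpr e'
  obtain ⟨⟨v, hvN⟩, hv, e⟩ := hle ⟨⟨k, Subgroup.mem_sup_right hk⟩, hk, rfl⟩
  rw [hπ, QuotientGroup.mk'_eq_mk'] at e
  obtain ⟨⟨c, hcN⟩, hc, e'⟩ := e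
  have e'' : v * c = k := congrArg Subtype.val e'
  have hcK : c ∈ K := (Subgroup.mul_mem_cancel_left K hv.2).mp (e''.symm ▸ hk)
  have hc1 : c = 1 := Subgroup.disjoint_def.mp (Subgroup.disjoint_of_coprime_natCard hcop) (hZP hc) hcK
  rw [hc1, mul_one] at e''
  exact e'' ▸ hv.1

/-- A Sylow subgroup containing a noncyclic `p`-subgroup `P` lies in every maximal subgroup containing `P`. -/
theorem sylow_le_of_nonabelian (hG : IsMinSimpleOddOrder G) {P : Subgroup G} (hP : IsPGroup p P)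
    (hPna : ¬ IsMulCommutative P) (S : Sylow p G) (hPS : P ≤ (S : Subgroup G)) {M : Subgroup G}
    (hM : IsCoatom M) (hPM : P ≤ M) :
    p ∈ sigma M ∧ (S : Subgroup G) ≤ M ∧ normalizer ((S : Subgroup G) : Set G) ≤ M := by
  have hpσ : p ∈ sigma M := by
    by_contra h
    exact hPna (sigma'_pgroup_commutative hG hM hPM hP h)
  have hnc : ∀ Q : Subgroup G, P ≤ Q → ¬ IsCyclic Q := fun Q hPQ hc => hPna (by
    haveI := hc
    exact ⟨⟨fun a b => Subgroup.inclusion_injective hPQ (by rw [map_mul, map_mul, mul_comm'])⟩⟩)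
  have hSM : (S : Subgroup G) ≤ M := by
    set Q := (S : Subgroup G) ⊓ M with hQ
    have hQp : IsPGroup p Q := S.2.to_le inf_le_left
    have hN := normalizer_noncyclic_sigma_le hG hM hpσ hQp inf_le_right (hnc Q (le_inf hPS hPM))
    by_contra hne
    have hlt := Transitivity.inf_normalizer_lt_qGroup S.2 (inf_le_left : Q ≤ _) fun e => hne (e ▸ inf_le_right)
    exact hlt.not_ge (le_inf inf_le_left (inf_le_right.trans hN))
  exact ⟨hpσ, hSM, normalizer_noncyclic_sigma_le hG hM hpσ S.2 hSM (hnc _ hPS)⟩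

/-- B–G 12.13. -/
theorem nonabelian_uniq (hG : IsMinSimpleOddOrder G) {P : Subgroup G} (hP : IsPGroup p P)
    (hPna : ¬ IsMulCommutative P) : InUniqueMaximal P := by
  have hpp : p.Prime := Fact.out
  have hP1 : P ≠ ⊥ := fun e => hPna (e ▸ ⟨⟨fun a b => Subtype.ext (by
    rw [Subgroup.coe_mul, Subgroup.coe_mul, Subgroup.mem_bot.mp a.2, Subgroup.mem_bot.mp b.2])⟩⟩)
  obtain ⟨M, hM, hPM⟩ := exists_coatom_ge (pgroup_ne_top hG hP)
  refine uniq_mk hM hPM fun H hH hPH => ?_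
  obtain ⟨S, hPS⟩ := hP.exists_le_sylow
  obtain ⟨hpM, hSM, hNM⟩ := sylow_le_of_nonabelian hG hP hPna S hPS hM hPM
  obtain ⟨hpH, hSH, hNH⟩ := sylow_le_of_nonabelian hG hP hPna S hPS hH hPH
  have hSna : ¬ IsMulCommutative (S : Subgroup G) := fun h => hPna
    ⟨⟨fun a b => Subgroup.inclusion_injective hPS (by haveI := h; rw [map_mul, map_mul, mul_comm'])⟩⟩
  by_cases hr : PRankLE p 2 (S : Subgroup G)
  swap
  · exact uniq_eq (uniq_of_rank_three hG S.2 hr) hH hSH hM hSM
  have hrall : ∀ X : Subgroup G, PRankLE p 2 X := fun X => pRankLE_of_sylow S.2 S.not_dvd_index hr X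
  rcases rank_two_structure hG S hr with hab | ⟨P₁, P₂, hsup, -, hna, hc3, hexp, -, -⟩
  · exact absurd hab hSna
  have hP₁S : P₁ ≤ (S : Subgroup G) := le_sup_left.trans hsup.le
  have hP₁p : IsPGroup p P₁ := S.2.to_le hP₁S
  have hxp : ∀ x ∈ P₁, x ^ p = 1 := fun x hx => congrArg Subtype.val
    (hexp ▸ Monoid.pow_exponent_eq_one (⟨x, hx⟩ : P₁) : (⟨x, hx⟩ : P₁) ^ p = 1)
  obtain ⟨z, hzP, hzo, hzc⟩ := exists_central hP₁p (fun e => hna (e ▸ ⟨⟨fun a b => Subtype.ext (by
    rw [Subgroup.coe_mul, Subgroup.coe_mul, Subgroup.mem_bot.mp a.2, Subgroup.mem_bot.mp b.2])⟩⟩))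
  set Z := zpowers z with hZ
  have hZP : Z ≤ P₁ := Subgroup.zpowers_le.mpr hzP
  have hZc : Nat.card Z = p := by rw [hZ, Nat.card_zpowers, hzo]
  have hP₁Z : P₁ ≤ centralizer (Z : Set G) := Subgroup.le_centralizer_iff.mp (Subgroup.zpowers_le.mpr hzc)
  haveI : (Z.subgroupOf P₁).Normal := (Subgroup.normal_subgroupOf_iff_le_normalizer hZP).mpr
    (hP₁Z.trans (Subgroup.centralizer_le_normalizer _))
  have hidx : Z.relIndex P₁ = p ^ 2 := by
    have h := Subgroup.card_mul_index (Z.subgroupOf P₁)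
    rw [Nat.card_congr (Subgroup.subgroupOfEquivOfLe hZP).toEquiv, hZc, hc3, pow_succ' p 2] at h
    exact mul_left_cancel₀ hpp.ne_zero h
  have hder : ⁅P₁, P₁⁆ ≤ Z := by
    have hq : Nat.card (↥P₁ ⧸ Z.subgroupOf P₁) = p ^ 2 := by rw [← Subgroup.index_eq_card]; exact hidx
    letI := IsPGroup.commGroupOfCardEqPrimeSq hq
    rw [Subgroup.commutator_le]
    intro a ha b hb
    have h1 : QuotientGroup.mk' (Z.subgroupOf P₁) ⁅(⟨a, ha⟩ : P₁), ⟨b, hb⟩⁆ = 1 := by
      rw [map_commutatorElement, commutatorElement_eq_one_iff_mul_comm]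
      exact mul_comm _ _
    rw [QuotientGroup.mk'_apply, QuotientGroup.eq_one_iff] at h1
    exact h1
  have hcenter : ∀ x ∈ P₁, x ∈ centralizer (P₁ : Set G) → x ∈ Z := by
    intro x hx hxc
    by_contra hxZ
    refine hna ?_
    set W := (P₁ ⊓ centralizer (P₁ : Set G)).subgroupOf P₁ with hW
    have hWc : W ≤ Subgroup.center P₁ := fun w hw => Subgroup.mem_center_iff.mpr fun v =>
      Subtype.ext (hw.2 v v.2)
    haveI : W.Normal := ⟨fun w hw v => by
      rw [Subgroup.mem_center_iff.mp (hWc hw) v, mul_inv_cancel_right]; exact hw⟩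
    have hlt : Z.subgroupOf P₁ < W := by
      refine lt_of_le_of_ne (fun w hw => ⟨w.2, ?_⟩) fun e => hxZ ?_
      · exact (Subgroup.zpowers_le.mpr hzc) hw
      · exact (show (⟨x, hx⟩ : P₁) ∈ Z.subgroupOf P₁ from e.ge ⟨hx, hxc⟩)
    have hcW : W.index ∣ p := by
      have h1 := Subgroup.index_dvd_of_le hlt.le
      obtain ⟨k, hk, hk'⟩ := (Nat.dvd_prime_pow hpp).mp ((hidx ▸ h1 : W.index ∣ p ^ 2))
      have hne : W.index ≠ (Z.subgroupOf P₁).index := fun e => hlt.ne (Subgroup.eq_of_le_of_card_ge hlt.le (by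
        have a1 := Subgroup.card_mul_index W
        have a2 := Subgroup.card_mul_index (Z.subgroupOf P₁)
        rw [e] at a1
        exact (mul_right_cancel₀ Subgroup.index_ne_zero_of_finite (a1.trans a2.symm)).le))
      rw [hk']
      interval_cases k
      · exact one_dvd _
      · rw [pow_one]
      · exact absurd (hk'.trans hidx.symm) hne
    haveI : IsCyclic (↥P₁ ⧸ W) := by
      rcases (Nat.dvd_prime hpp).mp hcW with h | h
      · haveI : Subsingleton (↥P₁ ⧸ W) := by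
          exact (Nat.card_eq_one_iff_unique.mp (show Nat.card (↥P₁ ⧸ W) = 1 by
            rw [← Subgroup.index_eq_card]; exact h)).1
        infer_instance
      · exact isCyclic_of_prime_card (p := p) (by rw [← Subgroup.index_eq_card]; exact h)
    exact ⟨⟨commutative_of_cyclic_center_quotient (QuotientGroup.mk' W) (by rw [QuotientGroup.ker_mk']; exact hWc)⟩⟩
  by_contra hne
  -- elementary subgroups of order `p²` through `Z`
  have hA : ∀ x ∈ P₁, x ∉ Z → IsElementaryAbelian p (zpowers x ⊔ Z) ∧ Nat.card ↥(zpowers x ⊔ Z) = p ^ 2 := by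
    intro x hx hxZ
    have hxo : orderOf x = p := orderOf_eq_prime (hxp x hx) fun e => hxZ (e ▸ one_mem _)
    have hA' := elementary_sup_zpowers (E := Z) ⟨inferInstance, fun a ha => hxp a (hZP ha)⟩ (y := x)
      (hxp x hx) fun a ha => hP₁Z hx a ha
    rw [sup_comm] at hA'
    refine ⟨hA', ?_⟩
    have hle : zpowers x ⊔ Z ≤ P₁ := sup_le (Subgroup.zpowers_le.mpr hx) hZP
    obtain ⟨k, hk⟩ := (hP₁p.to_le hle).exists_card_eq
    have h0 : Nat.card Z < Nat.card ↥(zpowers x ⊔ Z) := Set.Finite.card_lt_card (Set.toFinite _)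
      (show Z < zpowers x ⊔ Z from lt_of_le_of_ne le_sup_right fun e =>
        hxZ (e.ge (Subgroup.mem_sup_left (Subgroup.mem_zpowers x))))
    have h2 := card_le_of_pRankLE (hrall P₁) hle hA'.1 hA'.2
    rw [hZc, hk] at h0
    rw [hk] at h2 ⊢
    congr 1
    have := (Nat.pow_lt_pow_iff_right hpp.one_lt).mp (by rwa [pow_one] : p ^ 1 < p ^ k)
    have := (Nat.pow_le_pow_iff_right hpp.one_lt).mp h2
    omega
  -- in each maximal subgroup some line has its normalizer inside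
  have hline : ∀ L : Subgroup G, IsCoatom L → p ∈ sigma L → (S : Subgroup G) ≤ L →
      (L ≤ normalizer ((S : Subgroup G) : Set G)) ∨ ∀ x ∈ P₁, x ∉ Z → ∃ X, X ≤ zpowers x ⊔ Z ∧
        Nat.card X = p ∧ normalizer (X : Set G) ≤ L ∧
        ∀ L' : Subgroup G, IsCoatom L' → normalizer (X : Set G) ≤ L' → L' = L := by
    intro L hL hpL hSL
    refine or_iff_not_imp_right.mpr fun hno => ?_
    push Not at hno
    obtain ⟨x, hx, hxZ, hall⟩ := hno
    obtain ⟨hAe, hAc⟩ := hA x hx hxZ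
    obtain ⟨-, hnil⟩ := Cfsg.Agent.S1416.result hG L hL p (zpowers x ⊔ Z)
      ⟨(sup_le (Subgroup.zpowers_le.mpr hx) hZP).trans (hP₁S.trans hSL), hAe, hAc⟩
    obtain ⟨-, -, hn⟩ := hnil fun X hX hXc ⟨h1, h2⟩ => by
      obtain ⟨L', hL', hle, hne'⟩ := hall X hX hXc h1
      exact hne' (h2 L' hL' hle)
    have hSc : (S : Subgroup G) ≤ sigmaCore L := le_sigmaCore hG hL hSL fun r hr hd => by
      rw [card_dvd_of_pgroup S.2 hr hd]; exact hpL
    have hO : piCoreOf {p} (sigmaCore L) = (S : Subgroup G) :=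
      S.3 (isPGroup_piCoreOf p _) (le_piCoreOf_of_nilpotent hn hSc S.2)
    exact hO ▸ (le_normalizer_piCoreOf_self _ L).trans (normalizer_le_normalizer_piCoreOf _ _)
  rcases hline M hM hpM hSM with hMS | hlM
  · refine hne ?_
    rcases eq_or_lt_of_le (hMS.trans hNH) with e | e
    · exact e.symm
    · exact absurd (hM.2 _ e) hH.1
  rcases hline H hH hpH hSH with hHS | hlH
  · refine hne ?_
    rcases eq_or_lt_of_le (hHS.trans hNM) with e | e
    · exact e
    · exact absurd (hH.2 _ e) hM.1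
  obtain ⟨x, hx, hxZ⟩ : ∃ x ∈ P₁, x ∉ Z := by
    by_contra hall
    push Not at hall
    have := Subgroup.card_dvd_of_le (hall : P₁ ≤ Z)
    rw [hc3, hZc] at this
    exact absurd (Nat.le_of_dvd hpp.pos this) (not_le.mpr (by nth_rw 1 [← pow_one p]; exact Nat.pow_lt_pow_right hpp.one_lt (by norm_num)))
  -- lines other than `Z` are conjugate in `P₁`
  have horbit : ∀ x ∈ P₁, x ∉ Z → ∀ X, X ≤ zpowers x ⊔ Z → Nat.card X = p → X ≠ Z →
      ∀ Y, Y ≤ zpowers x ⊔ Z → Nat.card Y = p → Y ≠ Z → ∃ n ∈ P₁, Y = MulAut.conj n • X := by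
    intro x hx hxZ X hX hXc hXZ Y hY hYc hYZ
    obtain ⟨hAe, hAc⟩ := hA x hx hxZ
    set A := zpowers x ⊔ Z with hAdef
    have hAP : A ≤ P₁ := sup_le (Subgroup.zpowers_le.mpr hx) hZP
    have hAm : IsMaxTwo p A := ⟨hAe, hAc, fun B hB hle => by
      refine (Subgroup.eq_of_le_of_card_ge hle ?_).symm
      rw [hAc]
      exact card_le_of_pRankLE (hrall B) le_rfl hB.1 hB.2⟩
    have hPA : P₁ ≤ normalizer (A : Set G) := fun n hn => mem_normalizer_of_conj_smul (by
      refine Subgroup.eq_of_le_of_card_ge ?_ (CfsgLib.card_conj_smul n A).ge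
      rintro _ ⟨a, ha, rfl⟩
      show n * a * n⁻¹ ∈ A
      have h1 : n * a * n⁻¹ * a⁻¹ ∈ A := (hder.trans le_sup_right)
        (commutatorElement_def n a ▸ Subgroup.commutator_mem_commutator hn (hAP ha))
      have h2 := mul_mem h1 ha
      rwa [inv_mul_cancel_right] at h2)
    obtain ⟨⟨a, haX⟩, hao⟩ := exists_prime_orderOf_dvd_card' (G := X) p (dvd_of_eq hXc.symm)
    rw [Subgroup.orderOf_mk] at hao
    have haX' : zpowers a = X := Subgroup.eq_of_le_of_card_ge (Subgroup.zpowers_le.mpr haX)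
      (by rw [Nat.card_zpowers, hao, hXc])
    have haZ : a ∉ Z := fun h => hXZ (Subgroup.eq_of_le_of_card_ge
      (haX' ▸ Subgroup.zpowers_le.mpr h) (by rw [hXc, hZc]))
    obtain ⟨n, hn, hna'⟩ : ∃ n ∈ P₁, n * a ≠ a * n := by
      by_contra hall
      push Not at hall
      exact haZ (hcenter a (hAP (hX haX)) fun n hn => hall n hn)
    obtain ⟨l, hl⟩ := orbit_line hAm hP₁p hAP hPA (Subgroup.mem_sup_right (Subgroup.mem_zpowers z)) hzo hzc
      (hX haX) haZ hn hna' hY hYc hYZ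
    exact ⟨n ^ l, P₁.zpow_mem hn l, by rw [hl, haX']⟩
  have hP₁M : P₁ ≤ M := hP₁S.trans hSM
  have hP₁H : P₁ ≤ H := hP₁S.trans hSH
  -- the line of `H` is `Z`, or `M` and `H` coincide
  obtain ⟨XM, hXM, hXMc, hXMn, hXMu⟩ := hlM x hx hxZ
  obtain ⟨XH, hXH, hXHc, hXHn, hXHu⟩ := hlH x hx hxZ
  have hconj : ∀ n : G, ∀ L X : Subgroup G, n ∈ L → normalizer (X : Set G) ≤ L →
      normalizer ((MulAut.conj n • X : Subgroup G) : Set G) ≤ L := fun n L X hn hle m hm => by
    have h1 : n⁻¹ * m * n ∈ L := hle (mem_normalizer_of_conj_smul (by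
      rw [← CfsgLib.conj_smul_mul, ← CfsgLib.conj_smul_mul, conj_smul_eq_of_mem_normalizer hm,
        CfsgLib.conj_smul_mul, inv_mul_cancel, map_one, one_smul]))
    have := L.mul_mem (L.mul_mem hn h1) (L.inv_mem hn)
    rwa [show n * (n⁻¹ * m * n) * n⁻¹ = m by group] at this
  -- it suffices to treat one order
  suffices key : ∀ M H : Subgroup G, IsCoatom M → IsCoatom H → H ≠ M → (S : Subgroup G) ≤ H →
      normalizer ((S : Subgroup G) : Set G) ≤ M →
      (∀ y ∈ P₁, y ∉ Z → ∃ X, X ≤ zpowers y ⊔ Z ∧ Nat.card X = p ∧ normalizer (X : Set G) ≤ M ∧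
        ∀ L' : Subgroup G, IsCoatom L' → normalizer (X : Set G) ≤ L' → L' = M) →
      normalizer (Z : Set G) ≤ H → False by
    by_cases eH : XH = Z
    · exact key M H hM hH hne hSH hNM hlM (eH ▸ hXHn)
    by_cases eM : XM = Z
    · exact key H M hH hM (Ne.symm hne) hSM hNH hlH (eM ▸ hXMn)
    obtain ⟨n, hn, e⟩ := horbit x hx hxZ XM hXM hXMc eM XH hXH hXHc eH
    exact hne (hXHu M hM (e ▸ hconj n M XM (hP₁M hn) hXMn)).symm
  clear * - hG hr hrall hpp S hP₁S hP₁p hxp hzP hzo hzc hZP hZc hP₁Z hidx hder hcenter hA horbit hconj x hx hxZ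
  intro M H hM hH hne hSH hNM hlM hNZ
  have hP₁M : P₁ ≤ M := hP₁S.trans (Subgroup.le_normalizer.trans hNM)
  -- the centralisers of noncentral elements lie in `M`
  have hCx : ∀ a ∈ P₁, a ∉ Z → centralizer ({a} : Set G) ≤ M := by
    intro a ha haZ
    obtain ⟨X, hX, hXc, hXn, hXu⟩ := hlM a ha haZ
    have hXZ : X ≠ Z := fun e => hne (hXu H hH (e ▸ hNZ))
    obtain ⟨n, hn, e⟩ := horbit a ha haZ X hX hXc hXZ (zpowers a) le_sup_left
      (by rw [Nat.card_zpowers, orderOf_eq_prime (hxp a ha) fun e => haZ (e ▸ one_mem _)])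
      fun e => haZ (e ▸ Subgroup.mem_zpowers a)
    rw [← Subgroup.centralizer_closure, ← Subgroup.zpowers_eq_closure]
    exact (Subgroup.centralizer_le_normalizer _).trans (e ▸ hconj n M X (hP₁M hn) hXn)
  set K := coreP p H with hK
  have hKH : K ≤ H := piCoreOf_le _ _
  have hPK : P₁ ≤ normalizer (K : Set G) := (hP₁S.trans hSH).trans (le_normalizer_piCoreOf_self _ H)
  have hcop : (Nat.card P₁).Coprime (Nat.card K) := by
    obtain ⟨k, hk⟩ := hP₁p.exists_card_eq
    rw [hk]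
    exact (coprime_coreP p H).symm.pow_left k
  -- `O_{p'}(H) ≤ M`
  have hKM : K ≤ M := by
    have hD : K ⊓ centralizer (Z : Set G) ≤ M := by
      refine le_of_fixed_mod_central hZP hP₁p hP₁Z hder hxp ?_ ?_ inf_le_right
        (hcop.coprime_dvd_right (Subgroup.card_dvd_of_le inf_le_left)) fun a ha haZ => inf_le_right.trans (hCx a ha haZ)
      · rw [hidx]; exact lt_self_pow₀ hpp.one_lt (by norm_num)
      · intro n hn
        refine mem_normalizer_of_conj_smul ?_
        rw [Subgroup.smul_inf, conj_smul_eq_of_mem_normalizer (hPK hn),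
          conj_smul_eq_of_mem_normalizer (Subgroup.le_normalizer (hP₁Z hn))]
    obtain ⟨hAe, hAc⟩ := hA x hx hxZ
    haveI := hAe.1
    have hAP : zpowers x ⊔ Z ≤ P₁ := sup_le (Subgroup.zpowers_le.mpr hx) hZP
    rw [← CfsgLib.coprime_generated_by_centralizers (A := zpowers x ⊔ Z) (K := K)
      (not_cyclic_of_elementary hAe.2 (by rw [hAc]; exact lt_self_pow₀ hpp.one_lt (by norm_num)))
      (hAP.trans hPK) (hcop.coprime_dvd_left (Subgroup.card_dvd_of_le hAP))]
    refine iSup₂_le fun a ha => ?_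
    by_cases haZ : a ∈ Z
    · have e : zpowers a = Z := Subgroup.eq_of_le_of_card_ge (Subgroup.zpowers_le.mpr haZ)
        (by rw [hZc, Nat.card_zpowers, orderOf_eq_prime (hxp a (hZP haZ)) ha.2])
      refine le_trans (inf_le_inf_left _ (le_of_eq ?_)) hD
      rw [← e, Subgroup.zpowers_eq_closure, Subgroup.centralizer_closure]
    · exact inf_le_right.trans (hCx a (hAP ha.1) haZ)
  obtain ⟨Q, -, -, hle, -, hQP⟩ := exists_frattini hG.1 (solvable_of_ne_top hG hH.1) hSH S.2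
    fun hd => S.not_dvd_index (hd.trans (Dvd.intro _ (Subgroup.relIndex_mul_index hSH)))
  rw [hQP ((show p ∣ Nat.card (S : Subgroup G) by
    have := Subgroup.orderOf_dvd_natCard (S : Subgroup G) (hP₁S hzP); rwa [hzo] at this).trans
    (Subgroup.card_dvd_of_le hSH)) (hrall H)] at hle
  have hHM : H ≤ M := hle.trans (sup_le hKM (inf_le_right.trans hNM))
  rcases eq_or_lt_of_le hHM with e | e
  · exact hne e
  · exact hM.1 (hH.2 _ e)

end CfsgLib.MinSimpleOdd
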