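import Cfsg.Agent.Lib.MinSimpleOdd.SigmaCentralizers
import Cfsg.Agent.Lib.OddLocal.CommutatorPLength
import Cfsg.Agent.S1459
import Cfsg.Agent.S1461
import Cfsg.Agent.S1448

/-!
Proper subgroups have `p`-length one; fusion in Sylow normalisers (B–G 10.6, 10.7).
-/

set_option autoImplicit false
set_option linter.unusedSectionVars false
set_option maxHeartbeats 1000000

namespace CfsgLib.MinSimpleOdd

open Subgroup Cfsg
open scoped Pointwise commutatorElement

universe u
variable {G : Type u} [Group G] [Finite G] {p : ℕ} [Fact p.Prime]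

theorem pLengthLE_of_pPrimePCore {H : Type u} [Group H] [Finite H]
    (h : ((pPrimePCore p H).index).Coprime p) : PLengthLE p 1 H := by
  haveI : (pPrimeCore p H).Normal := Subgroup.sSup_normal _ (fun _ h => h.1)
  haveI : (pCore p (H ⧸ pPrimeCore p H)).Normal := Subgroup.sSup_normal _ (fun _ h => h.1)
  haveI : (pPrimePCore p H).Normal := Subgroup.normal_comap _
  have h1 : pPrimeCore p H ≤ PSeries.U p H 1 := PSeries.le_succ_of_even Even.zero fun x hx =>
    ⟨Nat.card (pPrimeCore p H), CfsgLib.card_pPrimeCore_coprime p, by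
      rw [show x ^ Nat.card (pPrimeCore p H) = 1 from
        congrArg Subtype.val (pow_card_eq_one' (x := (⟨x, hx⟩ : pPrimeCore p H)))]
      exact one_mem _⟩
  have h2 : pPrimePCore p H ≤ PSeries.U p H 2 := PSeries.le_succ_of_odd (by decide) fun x hx => by
    obtain ⟨k, hk⟩ := CfsgLib.isPGroup_pCore (G := H ⧸ pPrimeCore p H) p ⟨_, hx⟩
    refine ⟨k, h1 ((QuotientGroup.eq_one_iff _).mp ?_)⟩
    rw [QuotientGroup.mk_pow]
    exact congrArg Subtype.val hk
  have h3 : (⊤ : Subgroup H) ≤ PSeries.U p H 3 := PSeries.le_succ_of_even (by decide) fun x _ =>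
    ⟨(pPrimePCore p H).index, h, h2 ((pPrimePCore p H).pow_index_mem x)⟩
  exact top_le_iff.mp h3

theorem pLengthLE_subgroup {H : Type u} [Group H] [Finite H] {K : Type u} [Group K] [Finite K] (f : K →* H)
    (hf : Function.Injective f) (h : PLengthLE p 1 H) : PLengthLE p 1 K :=
  PSeries.pLengthLE_family (fun _ : Unit => f)
    (by rw [iInf_const]; exact (MonoidHom.ker_eq_bot_iff f).mpr hf) (fun _ => h)

section Maximal

variable (hG : IsMinSimpleOddOrder G) {M : Subgroup G} (hM : IsCoatom M)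

include hG hM

theorem core_le_derived {π : Set ℕ} (hπ : π ⊆ sigma M) : piCoreOf π M ≤ ⁅M, M⁆ := by
  intro x hx
  set D := ⁅M, M⁆ with hD
  have hDM : D ≤ M := Subgroup.commutator_le_self M
  have hcop : (Nat.card (piCoreOf π M)).Coprime (D.relIndex M) := Nat.coprime_of_dvd fun q hq h1 h2 => by
    haveI := Fact.mk hq
    obtain ⟨P, hPM, hPp, hidx, hN⟩ := exists_sigma_sylow (hπ (pi_piCoreOf _ _ q hq h1))
    exact hidx ((h2.trans (Dvd.intro _ (Subgroup.relIndex_mul_index hDM))).trans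
      (Subgroup.index_dvd_of_le (sylow_le_derived hG hM hPM hPp hidx hN)))
  have hDn : (D.subgroupOf M).Normal := by
    rw [hD, ← Subgroup.map_subtype_commutator M, Subgroup.subgroupOf,
      Subgroup.comap_map_eq_self_of_injective M.subtype_injective]
    infer_instance
  have h1 : orderOf (QuotientGroup.mk' (D.subgroupOf M) ⟨x, piCoreOf_le _ _ hx⟩) ∣ Nat.card (piCoreOf π M) :=
    (orderOf_map_dvd _ _).trans (by rw [Subgroup.orderOf_mk]; exact Subgroup.orderOf_dvd_natCard _ hx)
  have h2 : orderOf (QuotientGroup.mk' (D.subgroupOf M) ⟨x, piCoreOf_le _ _ hx⟩) ∣ D.relIndex M := by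
    rw [Subgroup.relIndex, Subgroup.index_eq_card]
    exact _root_.orderOf_dvd_natCard _
  exact Subgroup.mem_subgroupOf.mp ((QuotientGroup.eq_one_iff _).mp
    (orderOf_eq_one_iff.mp (Nat.eq_one_of_dvd_coprimes hcop h1 h2)))

theorem derived_lt : ¬ M ≤ ⁅M, M⁆ := by
  intro h
  haveI := solvable_of_ne_top hG hM.1
  have hM1 : M ≠ ⊥ := fun e => by
    haveI := isSimple hG
    have hn := normalizer_coatom hG hM
    rw [e, Subgroup.normalizer_eq_top] at hn
    exact top_ne_bot hn
  haveI : Nontrivial M := (Subgroup.nontrivial_iff_ne_bot M).mpr hM1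
  refine (Group.IsSolvable.commutator_lt_top_of_nontrivial M).ne (Subgroup.map_injective M.subtype_injective ?_)
  rw [Subgroup.map_subtype_commutator, ← MonoidHom.range_eq_map, Subgroup.range_subtype]
  exact le_antisymm (Subgroup.commutator_le_self M) h

theorem exists_prime_not_sigma : ∃ t : ℕ, t.Prime ∧ t ∣ Nat.card M ∧ t ∉ sigma M := by
  by_contra h
  push_neg at h
  obtain ⟨hH, -⟩ := isPiHall_core hG hM (alpha_subset_sigma hG hM) subset_rfl
  refine derived_lt hG hM (le_trans ?_ (core_le_derived hG hM (π := sigma M) subset_rfl))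
  refine Subgroup.relIndex_eq_one.mp (Nat.eq_one_iff_not_exists_prime_dvd.mpr fun q hq hd => ?_)
  exact hH.2.2 q hq (h q hq (hd.trans (Subgroup.relIndex_dvd_card _ _))) hd

/-- B–G 10.6 for maximal subgroups. -/
theorem pLengthLE_maximal : PLengthLE p 1 M := by
  haveI := solvable_of_ne_top hG hM.1
  have hpp : p.Prime := Fact.out
  by_cases hpM : p ∣ Nat.card M
  swap
  · refine pLengthLE_of_pPrimePCore (Nat.Coprime.coprime_dvd_left ?_
      ((hpp.coprime_iff_not_dvd.mpr hpM).symm))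
    exact Subgroup.index_dvd_card _
  by_cases hr : PRankLE p 2 M
  · exact pLengthLE_of_pPrimePCore
      (Cfsg.Agent.S1450.result (odd_subgroup hG.1 M) p hpM hr).2.2.2.2.2
  have hpα : p ∈ alpha M := ⟨hpp, hr⟩
  obtain ⟨hHall, -⟩ := isPiHall_core hG hM subset_rfl (alpha_subset_sigma hG hM)
  obtain ⟨t, ht, htM, htσ⟩ := exists_prime_not_sigma hG hM
  haveI := Fact.mk ht
  set H := piCore (alpha M) ↥M with hH
  have hHidx : ∀ q : ℕ, q.Prime → q ∈ alpha M → ¬ q ∣ H.index := fun q hq hqa hd => hHall.2.2 q hq hqa (by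
    rwa [Subgroup.relIndex, piCoreOf, Subgroup.subgroupOf,
      Subgroup.comap_map_eq_self_of_injective M.subtype_injective])
  have hcop : (Nat.card H).Coprime H.index :=
    Nat.coprime_of_dvd fun q hq h1 h2 => hHidx q hq (card_piCore _ q hq h1) h2
  obtain ⟨R, hR⟩ := Subgroup.exists_right_complement'_of_coprime hcop
  have htR : ¬ t ∣ R.index := by
    rw [hR.index_eq_card]
    exact fun hd => htσ (alpha_subset_sigma hG hM (card_piCore _ t ht hd))
  obtain ⟨T, -, hTR, hTt, hTidx⟩ := exists_sylow_ge (X := R) (R := (⊥ : Subgroup ↥M)) bot_le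
    (IsPGroup.of_bot (p := t))
  have hTidx' : ¬ t ∣ T.index := by
    rw [← Subgroup.relIndex_mul_index hTR]
    exact fun hd => (ht.dvd_mul.mp hd).elim hTidx htR
  obtain ⟨x, hx, hxo, hxZ, -⟩ := exists_central_element hG hM htM htσ (hTt.toSylow hTidx')
  obtain ⟨z, hz, rfl⟩ := hx
  obtain ⟨w, -, rfl⟩ := hz
  have hzR : (w : ↥M) ∈ R := hTR w.2
  change IsZGroup ↥(alphaCore M ⊓ centralizer ({(((w : ↥M)) : G)} : Set G)) at hxZ
  have hzo : orderOf (w : ↥M) = t := by
    rw [← Subgroup.orderOf_coe]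
    exact hxo
  have hHM' : H ≤ commutator ↥M := by
    intro y hy
    have h := core_le_derived hG hM (alpha_subset_sigma hG hM)
      (show (y : G) ∈ piCoreOf (alpha M) M from Subgroup.mem_map_of_mem M.subtype hy)
    rw [← Subgroup.map_subtype_commutator] at h
    obtain ⟨y', hy', e⟩ := h
    rwa [Subtype.ext e] at hy'
  obtain ⟨hHR, -⟩ := (Cfsg.Agent.S1459.result (G := ↥M)).1 H R inferInstance hcop hR hHM'
  have hcopR : (Nat.card R).Coprime (Nat.card H) := by
    rw [← hR.symm.index_eq_card]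
    exact hcop.symm
  obtain ⟨P, hPH, hPp, hPidx, hn⟩ := CfsgLib.CommPLength.main (p := p) _ ↥M rfl (odd_subgroup hG.1 M) H R
    (zpowers (w : ↥M)) inferInstance hR.sup_eq_top hcopR (Subgroup.zpowers_le.mpr hzR)
    (by rw [Nat.card_zpowers, hzo]; exact ht) (by
      haveI := hxZ
      refine IsZGroup.of_injective (G' := ↥(alphaCore M ⊓ centralizer ({(((w : ↥M)) : G)} : Set G)))
        (f := (M.subtype.comp (Subgroup.subtype _)).codRestrict _ fun y => ?_) ?_
      · exact ⟨Subgroup.mem_map_of_mem M.subtype y.2.1, Subgroup.mem_centralizer_singleton_iff.mpr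
          (congrArg Subtype.val (y.2.2 _ (Subgroup.mem_zpowers _))).symm⟩
      · intro a b e
        exact Subtype.ext (Subtype.ext
          (congrArg (fun v : ↥(alphaCore M ⊓ centralizer ({(((w : ↥M)) : G)} : Set G)) => (v : G)) e)))
    hHR.symm
  haveI hCn : (coreP p H).Normal := CommPLength.coreP_normal
  refine CommPLength.pLengthLE_of_sup_normal hPp ?_ (coprime_coreP p H) ?_
  · rw [← Subgroup.relIndex_mul_index hPH]
    exact fun hd => (hpp.dvd_mul.mp hd).elim hPidx (hHidx p hpp hpα)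
  · -- `P O` is the product with the Sylow subgroups
    refine ⟨fun y hy g => ?_⟩
    set W := P ⊔ coreP p H with hW
    have hWH : W ≤ H := sup_le hPH (piCoreOf_le _ _)
    have hgP : MulAut.conj g • P ≤ W := by
      refine CommPLength.sylow_le_of_normalized hPH hPp hPidx le_sup_left hn ?_ ?_
      · intro v hv
        rw [CfsgLib.mem_conj_smul_iff] at hv
        have := (inferInstance : H.Normal).conj_mem _ (hPH hv) g
        simpa [mul_assoc] using this
      · obtain ⟨k, hk⟩ := hPp.exists_card_eq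
        exact IsPGroup.of_card (n := k) (by rw [CfsgLib.card_conj_smul, hk])
    have hgW : MulAut.conj g • W ≤ W := by
      rw [hW, Subgroup.smul_sup, conj_smul_eq_of_mem_normalizer
        ((Subgroup.normalizer_eq_top (H := coreP p H)).ge (Subgroup.mem_top g))]
      exact sup_le hgP le_sup_right
    exact hgW (by rw [CfsgLib.mem_conj_smul_iff]; simpa [mul_assoc] using hy)

end Maximal

/-- B–G 10.6. -/
theorem pLengthLE_proper (hG : IsMinSimpleOddOrder G) {H : Subgroup G} (hH : H ≠ ⊤) : PLengthLE p 1 H := by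
  obtain ⟨M, hM, hHM⟩ := exists_coatom_ge hH
  exact pLengthLE_subgroup (Subgroup.inclusion hHM) (Subgroup.inclusion_injective hHM)
    (pLengthLE_maximal hG hM)

section Sylow

variable (hG : IsMinSimpleOddOrder G) (P : Sylow p G)

include hG

/-- A maximal subgroup containing the normaliser of a Sylow subgroup. -/
theorem exists_maximal_normalizer (hP : (P : Subgroup G) ≠ ⊥) :
    ∃ M : Subgroup G, IsCoatom M ∧ (P : Subgroup G) ≤ M ∧ normalizer ((P : Subgroup G) : Set G) ≤ M := by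
  obtain ⟨M, hM, hle⟩ := exists_coatom_ge (normalizer_ne_top hG hP (pgroup_ne_top hG P.2))
  exact ⟨M, hM, Subgroup.le_normalizer.trans hle, hle⟩

theorem le_derived_normalizer :
    (P : Subgroup G) ≤ ⁅normalizer ((P : Subgroup G) : Set G), normalizer ((P : Subgroup G) : Set G)⁆ := by
  rcases eq_or_ne (P : Subgroup G) ⊥ with h | h
  · rw [h]; exact bot_le
  obtain ⟨M, hM, hPM, hN⟩ := exists_maximal_normalizer hG P h
  haveI := solvable_of_ne_top hG hM.1
  set S := P.subtype hPM with hS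
  have hSM : (S : Subgroup ↥M) ≤ commutator ↥M := fun x hx => by
    obtain ⟨y, hy, e⟩ := (Subgroup.map_subtype_commutator M).ge
      (sylow_le_derived hG hM hPM P.2 P.not_dvd_index hN hx)
    rwa [Subtype.ext e] at hy
  have h1 := (Cfsg.Agent.S1461.result p (pLengthLE_maximal hG hM) S).1 hSM
  intro x hx
  have h2 := Subgroup.mem_map_of_mem M.subtype (h1 (show (⟨x, hPM hx⟩ : M) ∈ (S : Subgroup ↥M) from hx))
  rw [Subgroup.map_commutator] at h2
  have hle : (normalizer ((S : Subgroup ↥M) : Set ↥M)).map M.subtype ≤ normalizer ((P : Subgroup G) : Set G) := by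
    refine (Subgroup.le_normalizer_map _).trans ?_
    rw [show (S : Subgroup ↥M).map M.subtype = (P : Subgroup G) from Subgroup.map_subgroupOf_eq_of_le hPM]
  exact Subgroup.commutator_mono hle hle h2

/-- B–G 10.7 (a). -/
theorem sylow_eq_commutator {V : Subgroup G}
    (hV : IsComplIn (P : Subgroup G) V (normalizer ((P : Subgroup G) : Set G))) :
    (P : Subgroup G) = ⁅(P : Subgroup G), V⁆ := by
  obtain ⟨hPN, hVN, hPV, hfac⟩ := hV
  rcases eq_or_ne (P : Subgroup G) ⊥ with h | h
  · rw [h, Subgroup.commutator_bot_left]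
  set N := normalizer ((P : Subgroup G) : Set G) with hN
  haveI := solvable_of_ne_top hG (normalizer_ne_top hG h (pgroup_ne_top hG P.2))
  haveI : ((P : Subgroup G).subgroupOf N).Normal :=
    (Subgroup.normal_subgroupOf_iff_le_normalizer hPN).mpr le_rfl
  have hc : Subgroup.IsComplement' ((P : Subgroup G).subgroupOf N) (V.subgroupOf N) := by
    refine Subgroup.isComplement'_of_disjoint_and_mul_eq_univ ?_ (Set.eq_univ_of_forall fun m => ?_)
    · rw [disjoint_iff, eq_bot_iff]
      intro m hm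
      exact Subgroup.mem_bot.mpr (Subtype.ext (Subgroup.mem_bot.mp (hPV ▸ (⟨hm.1, hm.2⟩ :
        (m : G) ∈ (P : Subgroup G) ⊓ V))))
    · obtain ⟨a, ha, b, hb, e⟩ := hfac m m.2
      exact Set.mem_mul.mpr ⟨⟨a, hPN ha⟩, ha, ⟨b, hVN hb⟩, hb, Subtype.ext e.symm⟩
  have hidx : ¬ p ∣ ((P : Subgroup G).subgroupOf N).index := fun hd =>
    P.not_dvd_index (hd.trans (Dvd.intro _ (Subgroup.relIndex_mul_index hPN)))
  obtain ⟨k, hk⟩ := P.2.exists_card_eq
  have hcop : (Nat.card ((P : Subgroup G).subgroupOf N)).Coprime ((P : Subgroup G).subgroupOf N).index := by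
    rw [Nat.card_congr (Subgroup.subgroupOfEquivOfLe hPN).toEquiv, hk]
    exact ((Fact.out : p.Prime).coprime_iff_not_dvd.mpr hidx).pow_left k
  have hle : (P : Subgroup G).subgroupOf N ≤ commutator ↥N := fun x hx => by
    obtain ⟨y, hy, e⟩ := (Subgroup.map_subtype_commutator N).ge (le_derived_normalizer hG P hx)
    rwa [Subtype.ext e] at hy
  have h1 := congrArg (Subgroup.map N.subtype)
    ((Cfsg.Agent.S1459.result (G := ↥N)).1 _ _ inferInstance hcop hc hle).1
  rwa [Subgroup.map_subgroupOf_eq_of_le hPN, Subgroup.map_commutator, Subgroup.map_subgroupOf_eq_of_le hPN,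
    Subgroup.map_subgroupOf_eq_of_le hVN] at h1

/-- B–G 10.7 (c). -/
theorem fusion_in_normalizer {Q : Subgroup G} {x : G} (hQ : Q ≤ (P : Subgroup G))
    (hxQ : MulAut.conj x • Q ≤ (P : Subgroup G)) :
    ∃ y ∈ normalizer ((P : Subgroup G) : Set G), MulAut.conj x • Q = MulAut.conj y • Q := by
  rcases eq_or_ne Q ⊥ with rfl | hQ1
  · exact ⟨1, one_mem _, by rw [Subgroup.smul_bot, Subgroup.smul_bot]⟩
  obtain ⟨M, hM, hPM, hN⟩ := exists_maximal_normalizer hG P fun e => hQ1 (le_bot_iff.mp (e ▸ hQ))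
  haveI := solvable_of_ne_top hG hM.1
  obtain ⟨m, hm, c, hc, rfl⟩ := conj_eq_mul hG hM hPM P.2 P.not_dvd_index hN (P.2.to_le hQ) hQ1
    (hQ.trans hPM) (hxQ.trans hPM)
  have hcQ : MulAut.conj c • Q = Q :=
    conj_smul_eq_of_mem_normalizer (Subgroup.centralizer_le_normalizer _ hc)
  have hmQ : MulAut.conj m • Q ≤ (P : Subgroup G) := by
    rwa [← CfsgLib.conj_smul_mul, hcQ] at hxQ
  obtain ⟨g, hg, d, hd, e⟩ := (Cfsg.Agent.S1461.result p (pLengthLE_maximal hG hM) (P.subtype hPM)).2.1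
    (Q.subgroupOf M : Set ↥M) ⟨m, hm⟩ (fun y hy => hQ hy) (by
      rintro _ ⟨y, hy, rfl⟩
      refine hmQ (CfsgLib.mem_conj_smul_iff.mpr ?_)
      show m⁻¹ * (m * (y : G) * m⁻¹) * m ∈ Q
      simpa [mul_assoc, Subgroup.mem_subgroupOf] using hy)
  refine ⟨(g : G), ?_, ?_⟩
  · have h := Subgroup.mem_map_of_mem M.subtype hg
    have h' := Subgroup.le_normalizer_map _ h
    rwa [show ((P.subtype hPM : Sylow p M) : Subgroup ↥M).map M.subtype = (P : Subgroup G) from
      Subgroup.map_subgroupOf_eq_of_le hPM] at h'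
  · have e' : (g : G) * d = m := congrArg Subtype.val e
    rw [← CfsgLib.conj_smul_mul m c, hcQ, ← e', ← CfsgLib.conj_smul_mul]
    congr 1
    refine conj_smul_eq_of_mem_normalizer (Subgroup.centralizer_le_normalizer _ fun y hy => ?_)
    exact congrArg Subtype.val (hd ⟨y, hPM (hQ hy)⟩ hy)

/-- B–G 10.7 (d). -/
theorem normalizer_sylow {Q : Subgroup G} (hQ : Q ≤ (P : Subgroup G)) :
    ¬ p ∣ ((P : Subgroup G) ⊓ normalizer (Q : Set G)).relIndex (normalizer (Q : Set G)) := by
  set N := normalizer (Q : Set G) with hN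
  have hQP : Q ≤ (P : Subgroup G) ⊓ N := le_inf hQ Subgroup.le_normalizer
  obtain ⟨R, hUR, hRN, hRp, hRidx⟩ := exists_sylow_ge (X := N)
    (inf_le_right : (P : Subgroup G) ⊓ N ≤ N) (P.2.to_le inf_le_left)
  obtain ⟨T, hT⟩ := hRp.exists_le_sylow
  obtain ⟨g, hg⟩ := MulAction.exists_smul_eq G P T
  have hgT : MulAut.conj g • (P : Subgroup G) = (T : Subgroup G) := by
    rw [← hg, Sylow.coe_subgroup_smul]
  have hRg : R ≤ MulAut.conj g • (P : Subgroup G) := hgT ▸ hT
  obtain ⟨y, hy, e⟩ := fusion_in_normalizer hG P hQ (x := g⁻¹) (by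
    have := conj_smul_mono ((hQP.trans hUR).trans hRg) g⁻¹
    rwa [CfsgLib.conj_smul_mul, inv_mul_cancel, map_one, one_smul] at this)
  have hgy : g * y ∈ N := mem_normalizer_of_conj_smul (by
    rw [← CfsgLib.conj_smul_mul, ← e, CfsgLib.conj_smul_mul, mul_inv_cancel, map_one, one_smul])
  have hR' : MulAut.conj (g * y)⁻¹ • R ≤ (P : Subgroup G) ⊓ N := by
    refine le_inf ?_ ((conj_smul_mono hRN _).trans (smul_eq_self_of_mem (N.inv_mem hgy)).le)
    refine (conj_smul_mono hRg _).trans ?_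
    rw [CfsgLib.conj_smul_mul, mul_inv_rev, mul_assoc, inv_mul_cancel, mul_one,
      conj_smul_eq_of_mem_normalizer (Subgroup.inv_mem _ hy)]
  have he : R = (P : Subgroup G) ⊓ N := (Subgroup.eq_of_le_of_card_ge hUR (by
    rw [← CfsgLib.card_conj_smul (g * y)⁻¹ R]
    exact Subgroup.card_le_of_le hR')).symm
  rwa [← he]

/-- B–G 10.7 (e). -/
theorem normalizer_le_of_normal {R Q : Subgroup G} (hR : IsPGroup p R) (hQ : Q ≤ (P : Subgroup G) ⊓ R)
    (hN : normalizer ((P : Subgroup G) : Set G) ≤ normalizer (Q : Set G)) :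
    normalizer (R : Set G) ≤ normalizer (Q : Set G) := by
  obtain ⟨T, hT⟩ := hR.exists_le_sylow
  obtain ⟨g, hg⟩ := MulAction.exists_smul_eq G P T
  have hgT : MulAut.conj g • (P : Subgroup G) = (T : Subgroup G) := by
    rw [← hg, Sylow.coe_subgroup_smul]
  have hRg : R ≤ MulAut.conj g • (P : Subgroup G) := hgT ▸ hT
  have key : ∀ h : G, MulAut.conj h • Q ≤ R → MulAut.conj h • Q = MulAut.conj g • Q := by
    intro h hh
    obtain ⟨y, hy, e⟩ := fusion_in_normalizer hG P (hQ.trans inf_le_left) (x := g⁻¹ * h) (by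
      have := conj_smul_mono (hh.trans hRg) g⁻¹
      rwa [CfsgLib.conj_smul_mul, CfsgLib.conj_smul_mul, inv_mul_cancel, map_one, one_smul] at this)
    rw [conj_smul_eq_of_mem_normalizer (hN hy)] at e
    have e' := congrArg (fun Z => MulAut.conj g • Z) e
    simp only [CfsgLib.conj_smul_mul, mul_inv_cancel_left] at e'
    exact e'
  have h1 := key 1 (by rw [map_one, one_smul]; exact hQ.trans inf_le_right)
  rw [map_one, one_smul] at h1
  intro n hn
  refine mem_normalizer_of_conj_smul ?_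
  rw [key n ((conj_smul_mono (hQ.trans inf_le_right) n).trans (conj_smul_eq_of_mem_normalizer hn).le), ← h1]

/-- B–G 10.7 (b). -/
theorem rank_two_structure (hr : PRankLE p 2 (P : Subgroup G)) :
    IsMulCommutative (P : Subgroup G) ∨ ∃ P₁ P₂ : Subgroup G, P₁ ⊔ P₂ = (P : Subgroup G) ∧
      (∀ a ∈ P₁, ∀ b ∈ P₂, a * b = b * a) ∧ ¬ IsMulCommutative P₁ ∧ Nat.card P₁ = p ^ 3 ∧
      Monoid.exponent P₁ = p ∧ IsCyclic P₂ ∧
      Subgroup.closure {x : G | x ∈ P₂ ∧ x ^ p = 1} = P₁ ⊓ centralizer (P₁ : Set G) := by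
  rcases eq_or_ne (P : Subgroup G) ⊥ with h | h
  · exact Or.inl ⟨⟨fun a b => Subtype.ext (by
      rw [Subgroup.coe_mul, Subgroup.coe_mul, Subgroup.mem_bot.mp (h.le a.2 : (a : G) ∈ (⊥ : Subgroup G)),
        Subgroup.mem_bot.mp (h.le b.2 : (b : G) ∈ (⊥ : Subgroup G))])⟩⟩
  have hpp : p.Prime := Fact.out
  set N := normalizer ((P : Subgroup G) : Set G) with hN
  have hPN : (P : Subgroup G) ≤ N := Subgroup.le_normalizer
  haveI : ((P : Subgroup G).subgroupOf N).Normal :=
    (Subgroup.normal_subgroupOf_iff_le_normalizer hPN).mpr le_rfl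
  have hidx : ¬ p ∣ ((P : Subgroup G).subgroupOf N).index := fun hd =>
    P.not_dvd_index (hd.trans (Dvd.intro _ (Subgroup.relIndex_mul_index hPN)))
  obtain ⟨k, hk⟩ := P.2.exists_card_eq
  have hcop : (Nat.card ((P : Subgroup G).subgroupOf N)).Coprime ((P : Subgroup G).subgroupOf N).index := by
    rw [Nat.card_congr (Subgroup.subgroupOfEquivOfLe hPN).toEquiv, hk]
    exact (hpp.coprime_iff_not_dvd.mpr hidx).pow_left k
  obtain ⟨V', hV'⟩ := Subgroup.exists_right_complement'_of_coprime hcop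
  set V := V'.map N.subtype with hVdef
  have hVN : V ≤ N := Subgroup.map_subtype_le _
  have hVsub : V.subgroupOf N = V' := by
    rw [hVdef, Subgroup.subgroupOf, Subgroup.comap_map_eq_self_of_injective N.subtype_injective]
  have hVc : IsComplIn (P : Subgroup G) V N := by
    refine ⟨hPN, hVN, ?_, fun m hm => ?_⟩
    · rw [eq_bot_iff]
      rintro v ⟨hvP, w, hw, rfl⟩
      exact Subgroup.mem_bot.mpr (congrArg Subtype.val
        (Subgroup.disjoint_def.mp hV'.disjoint (show w ∈ (P : Subgroup G).subgroupOf N from hvP) hw))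
    · obtain ⟨⟨a, b⟩, e⟩ := hV'.2 ⟨m, hm⟩
      exact ⟨_, a.2, _, Subgroup.mem_map_of_mem N.subtype b.2, (congrArg Subtype.val e).symm⟩
  have hcopV : (Nat.card V).Coprime p := by
    rw [hVdef, Subgroup.card_map_of_injective N.subtype_injective, ← hV'.symm.index_eq_card]
    exact (hpp.coprime_iff_not_dvd.mpr hidx).symm
  obtain ⟨-, hres⟩ := Cfsg.Agent.S1448.result p (p_ne_two hG.1 P.2 h) (P : Subgroup G) V P.2 h hr hVN hcopV
    (odd_subgroup hG.1 V) (sylow_eq_commutator hG P hVc).symm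
  refine hres.imp id ?_
  rintro ⟨R₁, R₂, h1, h2, h3, h4, h5, h6, h7⟩
  refine ⟨R₁, R₂, h1, h2, h3, h4, h5, h6, h7.trans ?_⟩
  -- the derived group of `R₁` is its centre
  have hR₁p : IsPGroup p R₁ := IsPGroup.of_card h4
  haveI : Nontrivial R₁ := Finite.one_lt_card_iff_nontrivial.mp (by rw [h4]; exact Nat.one_lt_pow (by norm_num) hpp.one_lt)
  haveI := hR₁p.center_nontrivial
  set Z := Subgroup.center R₁ with hZ
  obtain ⟨j, hj⟩ := (hR₁p.to_subgroup Z).exists_card_eq
  have hj3 : j ≤ 3 := by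
    have := Subgroup.card_le_card_group Z
    rw [hj, h4] at this
    exact (Nat.pow_le_pow_iff_right hpp.one_lt).mp this
  have hj0 : j ≠ 0 := fun e => by
    rw [e, pow_zero, Nat.card_eq_one_iff_unique] at hj
    exact not_subsingleton _ hj.1
  have hQcard : Nat.card (R₁ ⧸ Z) * p ^ j = p ^ 3 := by
    rw [← hj, ← Subgroup.card_eq_card_quotient_mul_card_subgroup, h4]
  have hnotcyc : ¬ IsCyclic (R₁ ⧸ Z) := fun hc => h3 ⟨⟨fun a b =>
    commutative_of_cyclic_center_quotient (QuotientGroup.mk' Z) (by rw [QuotientGroup.ker_mk']) a b⟩⟩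
  have hj1 : j = 1 := by
    by_contra hne
    apply hnotcyc
    have hj2 : 2 ≤ j := by omega
    have hle : Nat.card (R₁ ⧸ Z) ≤ p := by
      have h8 : Nat.card (R₁ ⧸ Z) * p ^ 2 ≤ p ^ 3 :=
        (Nat.mul_le_mul_left _ (Nat.pow_le_pow_right hpp.pos hj2)).trans hQcard.le
      rw [show p ^ 3 = p * p ^ 2 by ring] at h8
      exact Nat.le_of_mul_le_mul_right h8 (pow_pos hpp.pos 2)
    obtain ⟨i, hi⟩ := (hR₁p.to_quotient Z).exists_card_eq
    rcases Nat.eq_zero_or_pos i with rfl | hi0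
    · rw [pow_zero, Nat.card_eq_one_iff_unique] at hi
      haveI := hi.1
      infer_instance
    · exact isCyclic_of_prime_card (p := p) (le_antisymm hle (hi ▸ Nat.le_self_pow hi0.ne' p))
  rw [hj1, pow_one] at hj hQcard
  have hQ2 : Nat.card (R₁ ⧸ Z) = p ^ 2 := by
    refine Nat.eq_of_mul_eq_mul_right hpp.pos ?_
    rw [hQcard]; ring
  have hle : commutator R₁ ≤ Z := by
    rw [_root_.commutator_def, Subgroup.commutator_le]
    intro a _ b _
    rw [← QuotientGroup.eq_one_iff]
    show QuotientGroup.mk' Z ⁅a, b⁆ = 1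
    rw [map_commutatorElement, commutatorElement_eq_one_iff_mul_comm]
    haveI : IsMulCommutative (R₁ ⧸ Z) := IsPGroup.isMulCommutative_of_card_eq_prime_sq hQ2
    exact mul_comm' _ _
  have hne : commutator R₁ ≠ ⊥ := fun e => h3 ⟨⟨fun a b => by
    rw [← commutatorElement_eq_one_iff_mul_comm, ← Subgroup.mem_bot, ← e]
    exact Subgroup.commutator_mem_commutator (Subgroup.mem_top a) (Subgroup.mem_top b)⟩⟩
  have heq : commutator R₁ = Z := by
    refine Subgroup.eq_of_le_of_card_ge hle ?_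
    obtain ⟨i, hi⟩ := (hR₁p.to_subgroup (commutator R₁)).exists_card_eq
    rw [hj, hi]
    exact Nat.le_self_pow (fun e => hne (Subgroup.card_eq_one.mp (by rw [hi, e, pow_zero]))) p
  rw [← Subgroup.map_subtype_commutator, heq, hZ]
  ext v
  constructor
  · rintro ⟨w, hw, rfl⟩
    exact ⟨w.2, fun a ha => congrArg Subtype.val (Subgroup.mem_center_iff.mp hw ⟨a, ha⟩)⟩
  · rintro ⟨hv, hvc⟩
    exact ⟨⟨v, hv⟩, Subgroup.mem_center_iff.mpr fun a => Subtype.ext (hvc a a.2), rfl⟩

end Sylow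

end CfsgLib.MinSimpleOdd
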