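import Cfsg.Agent.Lib.MinSimpleOdd.SigmaOverlap
import Cfsg.Agent.S1418

/-!
`σ(M)`-subgroups are conjugate into `M_σ` (B–G 12.16).
-/

set_option autoImplicit false
set_option linter.unusedSectionVars false
set_option linter.style.haveILetI false
set_option maxHeartbeats 1000000

namespace CfsgLib.MinSimpleOdd

open Subgroup Cfsg
open scoped Pointwise commutatorElement IsMulCommutative

universe u
variable {G : Type u} [Group G] [Finite G] {p : ℕ} [Fact p.Prime]

/-- A maximal subgroup containing a full Sylow subgroup of rank three is unique up to conjugation. -/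
theorem sigma_alpha_conj (hG : IsMinSimpleOddOrder G) {M L : Subgroup G} (hM : IsCoatom M) (hL : IsCoatom L)
    {r : ℕ} (hrM : r ∈ sigma M) (hrL : r ∈ alpha L) : ∃ g : G, L = MulAut.conj g • M := by
  haveI := Fact.mk hrM.1
  obtain ⟨R, hRL, hRp, hRi, -⟩ := exists_sigma_sylow (alpha_subset_sigma hG hL hrL)
  obtain ⟨P, hPM, hPp, hPi, -⟩ := exists_sigma_sylow hrM
  obtain ⟨g, hg⟩ := MulAction.exists_smul_eq G (hPp.toSylow hPi) (hRp.toSylow hRi)
  have hR : R = MulAut.conj g • P := (congrArg (fun U : Sylow r G => (U : Subgroup G)) hg).symm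
  have hU := uniq_of_rank_three hG hRp fun h => hrL.2 (pRankLE_of_sylow hRp hRi h L)
  exact ⟨g, uniq_eq hU hL hRL (conj_isCoatom hM g) (hR ▸ conj_smul_mono hPM g)⟩

/-- The `σ(M)`-subgroups of `M*` are conjugate into `M` when `q ∈ σ(M*)`. -/
theorem index_inf_of_sigma (hG : IsMinSimpleOddOrder G) {M L : Subgroup G} (hM : IsCoatom M) (hL : IsCoatom L)
    (hnc : ∀ g : G, L ≠ MulAut.conj g • M) {S : Subgroup G} (hSM : S ≤ M) (hSL : S ≤ L) (hS : IsPGroup p S)
    (hNS : normalizer (S : Set G) ≤ M) (hSi : ¬ p ∣ S.relIndex L) (hpL : p ∈ sigma L) :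
    ∀ r : ℕ, r.Prime → r ∈ sigma M → ¬ r ∣ (M ⊓ L).relIndex L := by
  intro r hr hrM hd
  have hSG : ¬ p ∣ S.index := by
    obtain ⟨P, hPL, hPp, hPi, -⟩ := exists_sigma_sylow hpL
    rw [← Subgroup.relIndex_mul_index hSL]
    refine fun hd => ((Fact.out : p.Prime).dvd_mul.mp hd).elim hSi fun h => ?_
    exact hPi (h.trans (Subgroup.index_dvd_of_le hPL))
  set π := alpha L ∪ {p} with hπ
  have hSd : S ≤ ⁅L, L⁆ := sylow_le_derived hG hL hSL hS hSG
    (normalizer_sigma_sylow_le hG hL hpL hSL hS hSG)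
  set O := piCoreOf π L with hO
  have hαπ : alpha L ⊆ π := fun t ht => Or.inl ht
  have hpπ : p ∈ π := Or.inr (Set.mem_singleton p)
  have hSO : S ≤ O := sylow_le_core (π := π) hG hL hαπ hpπ hSL hS hSd
  have hOL : O ≤ L := piCoreOf_le _ _
  have hLO : L ≤ normalizer (O : Set G) := le_normalizer_piCoreOf_self _ _
  set N := L ⊓ normalizer (S : Set G) with hN
  have hfac : L ≤ O ⊔ N := by
    intro l hl
    have hle : MulAut.conj l • S ≤ O := (conj_smul_mono hSO l).trans (conj_smul_eq_of_mem_normalizer (hLO hl)).le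
    obtain ⟨c, hc, hcS⟩ := CfsgLib.pi_le_conj_hall (π := ({p} : Set ℕ)) (U := MulAut.conj l • S)
      (solvable_of_le hOL (solvable_of_ne_top hG hL.1))
      ⟨hSO, fun t ht hd => card_dvd_of_pgroup hS ht hd, fun t ht htp hd => by
        subst htp
        exact hSi (Subgroup.relIndex_mul_relIndex S O L hSO hOL ▸ Dvd.dvd.mul_right hd (O.relIndex L))⟩
      hle fun t ht hd => by rw [CfsgLib.card_conj_smul] at hd; exact card_dvd_of_pgroup hS ht hd
    rw [CfsgLib.conj_smul_mul] at hcS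
    have hcl : c * l ∈ N := ⟨mul_mem (hOL hc) hl, mem_normalizer_of_conj_smul
      (Subgroup.eq_of_le_of_card_ge hcS (CfsgLib.card_conj_smul _ S).ge)⟩
    rw [show l = c⁻¹ * (c * l) by group]
    exact mul_mem (Subgroup.mem_sup_left (inv_mem hc)) (Subgroup.mem_sup_right hcl)
  have h1 : N.relIndex L ∣ Nat.card O := by
    have h2 := (Subgroup.card_dvd_of_le hfac).trans (CfsgLib.Signalizer.card_sup_dvd ((inf_le_left : N ≤ L).trans hLO))
    rw [← Subgroup.card_mul_index (N.subgroupOf L),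
      Nat.card_congr (Subgroup.subgroupOfEquivOfLe (inf_le_left : N ≤ L)).toEquiv] at h2
    exact Nat.dvd_of_mul_dvd_mul_left Nat.card_pos h2
  rcases pi_piCoreOf π L r hr ((hd.trans (Subgroup.relIndex_dvd_of_le_left L
    (le_inf (inf_le_right.trans hNS) inf_le_left))).trans h1) with h | h
  · obtain ⟨g, hg⟩ := sigma_alpha_conj hG hM hL hrM h
    exact hnc g hg
  · rw [Set.mem_singleton_iff] at h
    subst h
    exact hSi (hd.trans (Subgroup.relIndex_dvd_of_le_left L (le_inf hSM hSL)))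

/-- B–G 12.16. -/
theorem sigma_conj_into (hG : IsMinSimpleOddOrder G) {M : Subgroup G} (hM : IsCoatom M) {Y : Subgroup G}
    (hY1 : Y ≠ ⊥) (hY : ∀ r : ℕ, r.Prime → r ∣ Nat.card Y → r ∈ sigma M) :
    ∃ g : G, MulAut.conj g • Y ≤ sigmaCore M := by
  have hcore : ∀ g : G, MulAut.conj g • Y ≤ M → MulAut.conj g • Y ≤ sigmaCore M := fun g hg =>
    le_sigmaCore hG hM hg fun r hr hd => hY r hr (by rwa [CfsgLib.card_conj_smul] at hd)
  suffices ∃ g : G, MulAut.conj g • Y ≤ M from this.imp hcore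
  have hYtop : Y ≠ ⊤ := fun e => by
    obtain ⟨t, ht, htM, htσ⟩ := exists_prime_not_sigma hG hM
    exact htσ (hY t ht (htM.trans (Subgroup.card_dvd_of_le (e ▸ le_top))))
  haveI := solvable_of_ne_top hG hYtop
  haveI hnt : Nontrivial Y := (Subgroup.nontrivial_iff_ne_bot Y).mpr hY1
  obtain ⟨V, hVn, -, hV1, hVmin⟩ := CfsgLib.exists_minimal_normal (N := (⊤ : Subgroup Y))
    (fun e => not_nontrivial_iff_subsingleton.mpr (Subgroup.subsingleton_iff.mp (subsingleton_of_bot_eq_top e.symm)) hnt)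
  haveI := hVn
  obtain ⟨hVc, q, hq, hVe⟩ := CfsgLib.minimal_normal_elementary hV1 inferInstance hVmin
  haveI := Fact.mk hq
  have hVq : IsPGroup q V := fun v => ⟨1, Subtype.ext (by simpa using hVe v v.2)⟩
  -- the elements of order `q`
  set X : Subgroup G := (Subgroup.closure {x : Y | x ∈ V ∧ x ^ q = 1}).map Y.subtype with hX
  have hXY : X ≤ Y := Subgroup.map_subtype_le _
  haveI := hVc
  have hXel : ∀ x ∈ Subgroup.closure {x : Y | x ∈ V ∧ x ^ q = 1}, x ∈ V ∧ x ^ q = 1 := by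
    intro x hx
    induction hx using Subgroup.closure_induction with
    | mem x hx => exact hx
    | one => exact ⟨one_mem _, one_pow _⟩
    | mul a b _ _ ha hb =>
      refine ⟨mul_mem ha.1 hb.1, ?_⟩
      rw [(show Commute a b from congrArg Subtype.val (mul_comm' (⟨a, ha.1⟩ : V) ⟨b, hb.1⟩)).mul_pow, ha.2, hb.2,
        one_mul]
    | inv a _ ha => exact ⟨inv_mem ha.1, by rw [inv_pow, ha.2, inv_one]⟩
  have hXe : IsElementaryAbelian q X := by
    refine ⟨⟨⟨fun a b => Subtype.ext ?_⟩⟩, ?_⟩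
    · obtain ⟨x, hx, ex⟩ := a.2
      obtain ⟨y, hy, ey⟩ := b.2
      show (a : G) * b = b * a
      rw [← ex, ← ey, ← map_mul, ← map_mul, show x * y = y * x from
        congrArg Subtype.val (mul_comm' (⟨x, (hXel x hx).1⟩ : V) ⟨y, (hXel y hy).1⟩)]
    · rintro _ ⟨x, hx, rfl⟩
      rw [← map_pow, (hXel x hx).2, map_one]
  have hXq := isPGroup_of_exp hXe.2
  have hX1 : X ≠ ⊥ := fun e => by
    haveI : Nontrivial V := (Subgroup.nontrivial_iff_ne_bot V).mpr hV1
    obtain ⟨k, hk⟩ := hVq.exists_card_eq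
    obtain ⟨⟨v, hvV⟩, hvo⟩ := exists_prime_orderOf_dvd_card' (G := V) q (by
      rw [hk]
      refine dvd_pow_self q fun e0 => hV1 (Subgroup.card_eq_one.mp (by rw [hk, e0, pow_zero])))
    rw [Subgroup.orderOf_mk] at hvo
    have h1 : (v : G) ∈ X := ⟨v, Subgroup.subset_closure ⟨hvV, hvo ▸ pow_orderOf_eq_one v⟩, rfl⟩
    rw [e, Subgroup.mem_bot] at h1
    rw [show v = 1 from Subtype.ext h1, orderOf_one] at hvo
    exact hq.one_lt.ne hvo
  have hYX : Y ≤ normalizer (X : Set G) := fun y hy => mem_normalizer_of_conj_smul (by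
    refine Subgroup.eq_of_le_of_card_ge ?_ (CfsgLib.card_conj_smul y X).ge
    rintro _ ⟨_, ⟨x, hx, rfl⟩, rfl⟩
    refine ⟨⟨y, hy⟩ * x * ⟨y, hy⟩⁻¹, Subgroup.subset_closure ⟨hVn.conj_mem _ (hXel x hx).1 _, ?_⟩, rfl⟩
    rw [conj_pow, (hXel x hx).2, mul_one, mul_inv_cancel])
  have hqY : q ∣ Nat.card Y := by
    obtain ⟨k, hk⟩ := hXq.exists_card_eq
    exact (hk ▸ dvd_pow_self q fun e => hX1 (Subgroup.card_eq_one.mp (by rw [hk, e, pow_zero]))).trans
      (Subgroup.card_dvd_of_le hXY)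
  have hqσ := hY q hq hqY
  -- move `X` into `M`
  obtain ⟨P, hPM, hPp, hPi, -⟩ := exists_sigma_sylow hqσ
  obtain ⟨g, hg⟩ := exists_conj_le_sylow hPp hPi hXq
  set Y' := MulAut.conj g⁻¹ • Y with hY'
  set X' := MulAut.conj g⁻¹ • X with hX'
  have hX'M : X' ≤ M := by
    have := conj_smul_mono hg g⁻¹
    rw [CfsgLib.conj_smul_mul, inv_mul_cancel, map_one, one_smul] at this
    exact this.trans hPM
  suffices ∃ h : G, MulAut.conj h • Y' ≤ M by
    obtain ⟨h, hh⟩ := this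
    exact ⟨h * g⁻¹, by rwa [← CfsgLib.conj_smul_mul]⟩
  have hY'X : Y' ≤ normalizer (X' : Set G) := by
    intro a ha
    obtain ⟨b, hb, rfl⟩ := ha
    refine mem_normalizer_of_conj_smul ?_
    show MulAut.conj (MulAut.conj g⁻¹ b) • (MulAut.conj g⁻¹ • X) = MulAut.conj g⁻¹ • X
    rw [CfsgLib.conj_smul_mul, show MulAut.conj g⁻¹ b * g⁻¹ = g⁻¹ * b by simp [mul_assoc],
      ← CfsgLib.conj_smul_mul, conj_smul_eq_of_mem_normalizer (hYX hb)]
  have hX'q : IsPGroup q X' := IsPGroup.of_card (n := hXq.exists_card_eq.choose) (by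
    rw [CfsgLib.card_conj_smul]; exact hXq.exists_card_eq.choose_spec)
  have hX'1 : X' ≠ ⊥ := fun e => hX1 (Subgroup.card_eq_one.mp (by
    rw [← CfsgLib.card_conj_smul g⁻¹, show MulAut.conj g⁻¹ • X = ⊥ from e, Subgroup.card_bot]))
  have hX'e : IsElementaryAbelian q X' := by
    haveI := hXe.1
    refine ⟨Subgroup.map_isMulCommutative _ _, ?_⟩
    rintro _ ⟨x, hx, rfl⟩
    show (MulAut.conj g⁻¹ x) ^ q = 1
    rw [← map_pow, hXe.2 x hx, map_one]
  obtain ⟨L, hL, hNL⟩ := exists_coatom_ge (normalizer_ne_top hG hX'1 (pgroup_ne_top hG hX'q))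
  have hY'L : Y' ≤ L := hY'X.trans hNL
  by_cases hLM : L = M
  · exact ⟨1, by rw [map_one, one_smul]; exact hLM ▸ hY'L⟩
  have hXI : X' ≤ M ⊓ L := le_inf hX'M (Subgroup.le_normalizer.trans hNL)
  obtain ⟨S₀, hXS₀, hS₀I, hS₀q, hS₀i⟩ := exists_sylow_ge hXI hX'q
  obtain ⟨S, hS, -⟩ := sylow_of_relIndex hS₀I hS₀q hS₀i
  obtain ⟨hnc, hNS, hSi⟩ := sigma_overlap hG hM hqσ hX'q hX'1 hX'M hL hLM hNL S (hS ▸ hXS₀)
  rw [hS] at hNS hSi
  have hY'π : ∀ r : ℕ, r.Prime → r ∣ Nat.card Y' → r ∈ sigma M := fun r hr hd =>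
    hY r hr (by rwa [hY', CfsgLib.card_conj_smul] at hd)
  haveI hLs := solvable_of_ne_top hG hL.1
  by_cases hqL : q ∈ sigma L
  · -- a Hall `σ(M)`-subgroup of `M ∩ L` is one of `L`
    have hidx := index_inf_of_sigma hG hM hL hnc (hS₀I.trans inf_le_left) (hS₀I.trans inf_le_right) hS₀q hNS hSi hqL
    obtain ⟨H, hH⟩ := CfsgLib.exists_isPiHallOf (sigma M) (solvable_of_le (inf_le_right : M ⊓ L ≤ L) hLs)
    obtain ⟨l, -, hle⟩ := CfsgLib.pi_le_conj_hall hLs
      (⟨hH.1.trans inf_le_right, hH.2.1, fun r hr hrσ hd => by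
        rw [← Subgroup.relIndex_mul_relIndex H (M ⊓ L) L hH.1 inf_le_right] at hd
        exact (hr.dvd_mul.mp hd).elim (hH.2.2 r hr hrσ) (hidx r hr hrσ)⟩ : IsPiHallOf (sigma M) H L) hY'L hY'π
    exact ⟨l, hle.trans (hH.1.trans inf_le_left)⟩
  -- now `q` is in `τ₂(L)`
  have hr2 : PRankLE q 2 L := by
    by_contra h
    exact hqL (alpha_subset_sigma hG hL ⟨hq, h⟩)
  have hr1 : ¬ PRankLE q 1 L := by
    intro h1
    have hle := card_le_of_pRankLE h1 (hXI.trans inf_le_right) hX'e.1 hX'e.2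
    rw [pow_one] at hle
    have hXc : Nat.card X' = q := by
      refine le_antisymm hle ?_
      obtain ⟨k, hk⟩ := hX'q.exists_card_eq
      rw [hk]
      exact Nat.le_self_pow (fun e => hX'1 (Subgroup.card_eq_one.mp (by rw [hk, e, pow_zero]))) q
    exact (order_p_normalizer_le hG hL hqL hXc hNL).1.2 h1
  have hqτ : q ∈ tau2 L := ⟨hq, hqL, hr2, hr1⟩
  obtain ⟨A, hAS, hAc, hAe, hAcard⟩ := exists_elementary_of_not_pRankLE
    (fun h => hr1 (pRankLE_of_sylow_rel (hS₀I.trans inf_le_right) hS₀q hSi h))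
  have hAL : A ≤ L := hAS.trans (hS₀I.trans inf_le_right)
  have hAM : A ≤ M := hAS.trans (hS₀I.trans inf_le_left)
  have hA2 : Nat.card A = q ^ 2 := by
    obtain ⟨k, hk⟩ := (isPGroup_of_exp hAe).exists_card_eq
    have h2 := card_le_of_pRankLE hr2 hAL hAc hAe
    rw [hk] at hAcard h2 ⊢
    congr 1
    exact le_antisymm ((Nat.pow_le_pow_iff_right hq.one_lt).mp h2)
      ((Nat.pow_lt_pow_iff_right hq.one_lt).mp hAcard)
  have hNA : normalizer (A : Set G) ≤ M := normalizer_noncyclic_sigma_le hG hM hqσ (isPGroup_of_exp hAe) hAM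
    (not_cyclic_of_elementary hAe (by rw [hA2]; exact lt_self_pow₀ hq.one_lt (by norm_num)))
  obtain ⟨hall, hU⟩ := CfsgLib.exists_isPiHallOf {r | r ∉ sigma L} hLs
  obtain ⟨m, hm, hmA⟩ := CfsgLib.pi_le_conj_hall hLs hU hAL fun r hr hd => by
    rw [card_dvd_of_pgroup (isPGroup_of_exp hAe) hr hd]; exact hqL
  set E := MulAut.conj m⁻¹ • hall with hE
  have hEL : E ≤ L := (conj_smul_mono hU.1 _).trans (smul_eq_self_of_mem (inv_mem hm)).le
  have hsL : sigmaCore L ≤ L := piCoreOf_le _ _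
  have hcop : (Nat.card E).Coprime (Nat.card (sigmaCore L)) := Nat.coprime_of_dvd fun r hr h1 h2 =>
    hU.2.1 r hr (by rwa [hE, CfsgLib.card_conj_smul] at h1) ((sigmaCore_hall hG hL).1.2.1 r hr h2)
  have hdisj := disjoint_iff.mp (Subgroup.disjoint_of_coprime_natCard hcop)
  have hEc : IsComplIn E (sigmaCore L) L := by
    refine ⟨hEL, hsL, hdisj, fun x hx => ?_⟩
    have htop : L ≤ E ⊔ sigmaCore L := by
      have hN := le_normalizer_sigmaCore hG hL hEL
      refine Subgroup.relIndex_eq_one.mp (Nat.eq_one_iff_not_exists_prime_dvd.mpr fun r hr hd => ?_)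
      by_cases hrσ : r ∈ sigma L
      · exact (sigmaCore_hall hG hL).1.2.2 r hr hrσ (hd.trans (Subgroup.relIndex_dvd_of_le_left L le_sup_right))
      · refine hU.2.2 r hr hrσ ?_
        have h1 := hd.trans (Subgroup.relIndex_dvd_of_le_left L (le_sup_left : E ≤ _))
        have a1 := Subgroup.card_mul_index (E.subgroupOf L)
        have a2 := Subgroup.card_mul_index (hall.subgroupOf L)
        rw [Nat.card_congr (Subgroup.subgroupOfEquivOfLe hEL).toEquiv] at a1
        rw [Nat.card_congr (Subgroup.subgroupOfEquivOfLe hU.1).toEquiv, ← a1, hE, CfsgLib.card_conj_smul] at a2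
        have a3 := mul_left_cancel₀ Nat.card_pos.ne' a2
        rw [Subgroup.relIndex, a3]
        exact h1
    have h1 := htop hx
    rw [← SetLike.mem_coe, Subgroup.coe_mul_of_left_le_normalizer_right E (sigmaCore L)
      (le_normalizer_sigmaCore hG hL hEL)] at h1
    obtain ⟨a, ha, b, hb, rfl⟩ := Set.mem_mul.mp h1
    exact ⟨a, ha, b, hb, rfl⟩
  have hAE : A ≤ E := by
    have := conj_smul_mono hmA m⁻¹
    rwa [CfsgLib.conj_smul_mul, inv_mul_cancel, map_one, one_smul] at this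
  obtain ⟨-, ⟨-, hEN, -⟩, -⟩ := Cfsg.Agent.S1418.result hG L hL E hEc q hqτ A ⟨hAE, ⟨hAc, hAe⟩, hA2⟩
  have hEM : E ≤ M := hEN ▸ inf_le_right.trans hNA
  -- the sets `σ(M)` and `σ(L)` are disjoint
  obtain ⟨A₀, hexc⟩ := exists_exc hG hL hqτ hAL ⟨hAc, hAe⟩ hA2
  have hdis : ∀ r, r ∈ sigma M → r ∉ sigma L := fun r hrM hrL => by
    obtain ⟨g', hg'⟩ := sigma_disjoint hG hL hM (hexc.nilpotent hG hL) hrL hrM
    refine hnc g'⁻¹ ?_
    rw [hg', CfsgLib.conj_smul_mul, inv_mul_cancel, map_one, one_smul]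
  obtain ⟨l, -, hle⟩ := CfsgLib.pi_le_conj_hall hLs (complement_hall hG hL hEc) hY'L
    fun r hr hd => hdis r (hY'π r hr hd)
  exact ⟨l, hle.trans hEM⟩

end CfsgLib.MinSimpleOdd
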