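import Cfsg.Agent.Lib.MinSimpleOdd.SigmaPrime

/-!
`σ(M)`-subgroups in two maximal subgroups (B–G 12.15).
-/

set_option autoImplicit false
set_option linter.unusedSectionVars false
set_option linter.style.haveILetI false
set_option maxHeartbeats 1000000

namespace CfsgLib.MinSimpleOdd

open Subgroup Cfsg
open scoped Pointwise commutatorElement IsMulCommutative

universe u
variable {G : Type u} [Group G] [Finite G] {p : ℕ} [Fact p.Prime]

/-- A `p`-subgroup that is Sylow in its normalizer in `H` is Sylow in `H`. -/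
theorem sylow_of_relIndex_normalizer {S H : Subgroup G} (hSH : S ≤ H) (hS : IsPGroup p S)
    (h : ¬ p ∣ S.relIndex (H ⊓ normalizer (S : Set G))) : ¬ p ∣ S.relIndex H := by
  obtain ⟨T, hST, hTH, hTp, hTi⟩ := exists_sylow_ge hSH hS
  rcases eq_or_ne S T with e | e
  · rwa [e]
  have hlt := Transitivity.inf_normalizer_lt_qGroup hTp hST e
  exact absurd (eq_of_sylow h hlt.le (inf_le_inf_right _ hTH) (hTp.to_le inf_le_left)) hlt.ne'

/-- B–G 12.15. -/
theorem sigma_overlap (hG : IsMinSimpleOddOrder G) {M : Subgroup G} (hM : IsCoatom M) (hp : p ∈ sigma M)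
    {X : Subgroup G} (hXp : IsPGroup p X) (hX1 : X ≠ ⊥) (hXM : X ≤ M) {Mstar : Subgroup G} (hMs : IsCoatom Mstar)
    (hne : Mstar ≠ M) (hNX : normalizer (X : Set G) ≤ Mstar) (S : Sylow p ↥(M ⊓ Mstar))
    (hXS : X ≤ (S : Subgroup ↥(M ⊓ Mstar)).map (M ⊓ Mstar).subtype) :
    (∀ g : G, Mstar ≠ MulAut.conj g • M) ∧
      normalizer (((S : Subgroup ↥(M ⊓ Mstar)).map (M ⊓ Mstar).subtype : Subgroup G) : Set G) ≤ M ∧
      ¬ p ∣ ((S : Subgroup ↥(M ⊓ Mstar)).map (M ⊓ Mstar).subtype).relIndex Mstar := by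
  obtain ⟨P, hPM, hPp, hPidx, hNP⟩ := exists_sigma_sylow hp
  have hXMs : X ≤ Mstar := Subgroup.le_normalizer.trans hNX
  constructor
  · rintro g rfl
    obtain ⟨m, hm, c, hc, e⟩ := conj_eq_mul hG hM hPM hPp hPidx hNP hXp hX1 hXM (g := g⁻¹) (by
      have := conj_smul_mono hXMs g⁻¹
      rwa [CfsgLib.conj_smul_mul, inv_mul_cancel, map_one, one_smul] at this)
    have hg : MulAut.conj g • M = MulAut.conj c⁻¹ • M := by
      conv_lhs => rw [show g = c⁻¹ * m⁻¹ by rw [← mul_inv_rev, ← e, inv_inv]]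
      rw [← CfsgLib.conj_smul_mul, smul_eq_self_of_mem (inv_mem hm)]
    have hcL : c ∈ MulAut.conj g • M := hNX (Subgroup.centralizer_le_normalizer _ hc)
    refine hne ?_
    have h1 : MulAut.conj c • (MulAut.conj g • M) = MulAut.conj g • M := smul_eq_self_of_mem hcL
    rw [hg, CfsgLib.conj_smul_mul, mul_inv_cancel, map_one, one_smul] at h1
    exact hg.trans h1.symm
  set S₀ := (S : Subgroup ↥(M ⊓ Mstar)).map (M ⊓ Mstar).subtype with hS₀
  have hS₀I : S₀ ≤ M ⊓ Mstar := Subgroup.map_subtype_le _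
  have hS₀p : IsPGroup p S₀ := S.2.map _
  have hS₀M : S₀ ≤ M := hS₀I.trans inf_le_left
  have hi : ∀ Y : Subgroup G, S₀ ≤ Y → Y ≤ M ⊓ Mstar → ¬ p ∣ S₀.relIndex Y := fun Y h1 h2 hd =>
    not_dvd_of_sylow (M ⊓ Mstar) S (hd.trans (by
      rw [← Subgroup.relIndex_mul_relIndex _ Y _ h1 h2]
      exact Dvd.intro _ rfl))
  have hN : normalizer (S₀ : Set G) ≤ M := by
    by_cases hc : IsCyclic S₀
    · have hNS : normalizer (S₀ : Set G) ≤ normalizer (X : Set G) := fun n hn => mem_normalizer_of_conj_smul (by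
        have hle : MulAut.conj n • X ≤ S₀ := (conj_smul_mono hXS n).trans (conj_smul_eq_of_mem_normalizer hn).le
        have e : (MulAut.conj n • X).subgroupOf S₀ = X.subgroupOf S₀ := CfsgLib.PowerGraph.subgroup_eq_of_card (by
          rw [Nat.card_congr (Subgroup.subgroupOfEquivOfLe hle).toEquiv,
            Nat.card_congr (Subgroup.subgroupOfEquivOfLe hXS).toEquiv, CfsgLib.card_conj_smul])
        have := congrArg (fun U : Subgroup S₀ => U.map S₀.subtype) e
        rwa [Subgroup.map_subgroupOf_eq_of_le hle, Subgroup.map_subgroupOf_eq_of_le hXS] at this)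
      have hSi : ¬ p ∣ S₀.relIndex M := sylow_of_relIndex_normalizer hS₀M hS₀p
        (hi _ (le_inf hS₀M Subgroup.le_normalizer) (inf_le_inf_left _ (hNS.trans hNX)))
      refine normalizer_sigma_sylow_le hG hM hp hS₀M hS₀p ?_
      rw [← Subgroup.relIndex_mul_index hS₀M]
      refine fun hd => ((Fact.out : p.Prime).dvd_mul.mp hd).elim hSi fun hd' => ?_
      exact hPidx (hd'.trans (Subgroup.index_dvd_of_le hPM))
    · exact normalizer_noncyclic_sigma_le hG hM hp hS₀p hS₀M hc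
  refine ⟨hN, sylow_of_relIndex_normalizer (hS₀I.trans inf_le_right) hS₀p
    (hi _ (le_inf (hS₀I.trans inf_le_right) Subgroup.le_normalizer) (le_inf (inf_le_right.trans hN) inf_le_left))⟩

end CfsgLib.MinSimpleOdd
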