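import Cfsg.Agent.Lib.MinSimpleOdd.SigmaAction
import Cfsg.Agent.Lib.MinSimpleOdd.SigmaOverlap
import Cfsg.Agent.Lib.MinSimpleOdd.SigmaConj
import Cfsg.Agent.Lib.MinSimpleOdd.SigmaCentralizers
import Cfsg.Agent.Lib.MinSimpleOdd.FrobeniusType
import Cfsg.Agent.Lib.MinSimpleOdd.NonabelianUniq
import Cfsg.Agent.S1418

/-!
Subgroups of order prime outside `σ(M)` and their action on `M_σ` (B–G §13).
-/

set_option autoImplicit false
set_option linter.unusedSectionVars false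
set_option linter.style.haveILetI false
set_option maxHeartbeats 1000000

namespace CfsgLib.MinSimpleOdd

open Subgroup Cfsg
open scoped Pointwise commutatorElement IsMulCommutative

universe u
variable {G : Type u} [Group G] [Finite G]

theorem commutator_le_of_normalizes {V T : Subgroup G} (h : T ≤ normalizer (V : Set G)) : ⁅V, T⁆ ≤ V := by
  rw [Subgroup.commutator_le]
  intro v hv t ht
  rw [commutatorElement_def, show v * t * v⁻¹ * t⁻¹ = v * (t * v⁻¹ * t⁻¹) by group]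
  exact mul_mem hv ((Subgroup.mem_normalizer_iff.mp (h ht) v⁻¹).mp (inv_mem hv))

theorem inf_eq_bot_of_pgroup {q : ℕ} [Fact q.Prime] {V O : Subgroup G} (hV : IsPGroup q V)
    (h : ¬ q ∣ Nat.card O) : V ⊓ O = ⊥ := by
  refine disjoint_iff.mp (Subgroup.disjoint_of_coprime_natCard ?_)
  obtain ⟨k, hk⟩ := hV.exists_card_eq
  rw [hk]
  exact ((Fact.out : q.Prime).coprime_iff_not_dvd.mpr h).pow_left k

/-- A subgroup normalised by `T` and by which a normal `q'`-subgroup containing `T` is normalised. -/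
theorem centralizes_of_normal_core {q : ℕ} [Fact q.Prime] {L O V T : Subgroup G}
    (hLO : L ≤ normalizer (O : Set G)) (hVL : V ≤ L) (hTO : T ≤ O) (hV : IsPGroup q V)
    (hTV : T ≤ normalizer (V : Set G)) (h : ¬ q ∣ Nat.card O) : T ≤ centralizer (V : Set G) := by
  have h1 : ⁅V, T⁆ ≤ O := by
    rw [Subgroup.commutator_le]
    intro v hv t ht
    exact O.mul_mem ((Subgroup.mem_normalizer_iff.mp (hLO (hVL hv)) t).mp (hTO ht)) (inv_mem (hTO ht))
  rw [Subgroup.le_centralizer_iff]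
  exact Subgroup.commutator_eq_bot_iff_le_centralizer.mp
    (le_bot_iff.mp ((le_inf (commutator_le_of_normalizes hTV) h1).trans (inf_eq_bot_of_pgroup hV h).le))

/-- Iterating `v d v⁻¹ = z d` with `z` centralised by `v`. -/
theorem pow_conj_eq {v d z : G} (h : v * d * v⁻¹ = z * d) (hvz : Commute v z) :
    ∀ n : ℕ, v ^ n * d * (v ^ n)⁻¹ = z ^ n * d := by
  intro n
  induction n with
  | zero => simp
  | succ n ih =>
    calc v ^ (n + 1) * d * (v ^ (n + 1))⁻¹ = v * (v ^ n * d * (v ^ n)⁻¹) * v⁻¹ := by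
          rw [pow_succ']; group
      _ = v * z ^ n * d * v⁻¹ := by rw [ih]; group
      _ = z ^ n * (v * d * v⁻¹) := by rw [(hvz.pow_right n).eq]; group
      _ = z ^ (n + 1) * d := by rw [h, pow_succ, mul_assoc]

theorem eq_one_of_fixed_mod {v d z : G} (h : v * d * v⁻¹ = z * d) (hvz : Commute v z)
    (hcop : (orderOf z).Coprime (orderOf v)) : z = 1 := by
  have h1 := pow_conj_eq h hvz (orderOf v)
  rw [pow_orderOf_eq_one, one_mul, inv_one, mul_one, right_eq_mul] at h1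
  exact orderOf_eq_one_iff.mp (Nat.eq_one_of_dvd_coprimes hcop dvd_rfl (orderOf_dvd_of_pow_eq_one h1))

theorem normalizer_le_of_cyclic {Q X : Subgroup G} (hc : IsCyclic Q) (hXQ : X ≤ Q) :
    normalizer (Q : Set G) ≤ normalizer (X : Set G) := fun n hn => mem_normalizer_of_conj_smul (by
  haveI := hc
  have hnX : MulAut.conj n • X ≤ Q := (conj_smul_mono hXQ n).trans (conj_smul_eq_of_mem_normalizer hn).le
  have e : (MulAut.conj n • X).subgroupOf Q = X.subgroupOf Q := CfsgLib.PowerGraph.subgroup_eq_of_card (by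
    rw [Nat.card_congr (Subgroup.subgroupOfEquivOfLe hnX).toEquiv,
      Nat.card_congr (Subgroup.subgroupOfEquivOfLe hXQ).toEquiv, CfsgLib.card_conj_smul])
  rw [← Subgroup.map_subgroupOf_eq_of_le hnX, e, Subgroup.map_subgroupOf_eq_of_le hXQ])

theorem exists_sub_card {q : ℕ} [Fact q.Prime] {Q : Subgroup G} (hQ : IsPGroup q Q) (h1 : Q ≠ ⊥) :
    ∃ X : Subgroup G, X ≤ Q ∧ Nat.card X = q := by
  obtain ⟨x, hx, hxo, -⟩ := exists_central hQ h1
  exact ⟨zpowers x, Subgroup.zpowers_le.mpr hx, by rw [Nat.card_zpowers, hxo]⟩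

theorem ne_bot_of_card {q : ℕ} [hq : Fact q.Prime] {X : Subgroup G} (h : Nat.card X = q) : X ≠ ⊥ := fun e => by
  rw [e, Subgroup.card_bot] at h
  exact hq.out.ne_one h.symm

theorem elementary_of_card_prime {q : ℕ} [Fact q.Prime] {X : Subgroup G} (h : Nat.card X = q) :
    IsElementaryAbelian q X := by
  haveI : IsCyclic X := isCyclic_of_prime_card h
  refine ⟨inferInstance, fun b hb => ?_⟩
  have : (⟨b, hb⟩ : X) ^ q = 1 := h ▸ pow_card_eq_one'
  exact congrArg Subtype.val this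

theorem derived_le_of_sup {X O N : Subgroup G} (hXO : X ≤ normalizer (O : Set G)) (hOX : O ≤ X) (hNX : N ≤ X)
    (hfac : X ≤ O ⊔ N) : ⁅X, X⁆ ≤ O ⊔ ⁅N, N⁆ := by
  haveI : (O.subgroupOf X).Normal := (Subgroup.normal_subgroupOf_iff_le_normalizer hOX).mpr hXO
  set f := QuotientGroup.mk' (O.subgroupOf X) with hf
  set N' := N.subgroupOf X with hN'
  have htop : (⊤ : Subgroup X).map f = N'.map f := by
    refine le_antisymm ?_ (Subgroup.map_mono le_top)
    rw [show (⊤ : Subgroup X) = O.subgroupOf X ⊔ N' by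
      rw [hN', ← Subgroup.subgroupOf_sup hOX hNX, eq_comm]
      exact Subgroup.subgroupOf_eq_top.mpr hfac, Subgroup.map_sup]
    refine sup_le ?_ le_rfl
    rw [show (O.subgroupOf X).map f = ⊥ by
      rw [Subgroup.map_eq_bot_iff, hf, QuotientGroup.ker_mk']]
    exact bot_le
  have h1 : ⁅(⊤ : Subgroup X), ⊤⁆ ≤ ⁅N', N'⁆ ⊔ O.subgroupOf X := by
    have h2 : Subgroup.map f (⁅(⊤ : Subgroup X), ⊤⁆) ≤ Subgroup.map f (⁅N', N'⁆) := by
      rw [Subgroup.map_commutator, Subgroup.map_commutator, htop]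
    have h3 := Subgroup.map_le_iff_le_comap.mp h2
    rwa [Subgroup.comap_map_eq, hf, QuotientGroup.ker_mk'] at h3
  have h4 := Subgroup.map_mono (f := X.subtype) h1
  rw [Subgroup.map_commutator, ← MonoidHom.range_eq_map, Subgroup.range_subtype, Subgroup.map_sup,
    Subgroup.map_commutator, hN', Subgroup.map_subgroupOf_eq_of_le hNX,
    Subgroup.map_subgroupOf_eq_of_le hOX, sup_comm] at h4
  exact h4

theorem not_dvd_derived {p : ℕ} [Fact p.Prime] {X O N : Subgroup G} (hXO : X ≤ normalizer (O : Set G))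
    (hOX : O ≤ X) (hNX : N ≤ X) (hfac : X ≤ O ⊔ N) (hO : ¬ p ∣ Nat.card O)
    (hN : ¬ p ∣ Nat.card ↥⁅N, N⁆) : ¬ p ∣ Nat.card ↥⁅X, X⁆ := fun hd => by
  have h := (hd.trans (Subgroup.card_dvd_of_le (derived_le_of_sup hXO hOX hNX hfac))).trans
    (CfsgLib.Signalizer.card_sup_dvd (((Subgroup.commutator_le_self N).trans hNX).trans hXO))
  exact ((Fact.out : p.Prime).dvd_mul.mp h).elim hN hO

theorem card_derived_conj (g : G) (M : Subgroup G) :
    Nat.card ↥⁅MulAut.conj g • M, MulAut.conj g • M⁆ = Nat.card ↥⁅M, M⁆ := by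
  have : MulAut.conj g • ⁅M, M⁆ = ⁅MulAut.conj g • M, MulAut.conj g • M⁆ := Subgroup.map_commutator _ _ _
  rw [← this, CfsgLib.card_conj_smul]

theorem pRankLE_conj {p k : ℕ} [Fact p.Prime] (g : G) {M : Subgroup G} (h : PRankLE p k M) :
    PRankLE p k ↥(MulAut.conj g • M : Subgroup G) :=
  pRankLE_map ((MulAut.conj g).subgroupMap M) h

theorem pRankLE_of_conj {p k : ℕ} [Fact p.Prime] {g : G} {M : Subgroup G} (h : PRankLE p k ↥(MulAut.conj g • M : Subgroup G)) :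
    PRankLE p k M :=
  pRankLE_map ((MulAut.conj g).subgroupMap M).symm h

theorem le_centralizer_of_sylows {C T : Subgroup G} (h : ∀ q : ℕ, q.Prime → ∃ Q : Subgroup G, Q ≤ C ∧
    ¬ q ∣ Q.relIndex C ∧ Q ≤ centralizer (T : Set G)) : C ≤ centralizer (T : Set G) := by
  have h1 : (C ⊓ centralizer (T : Set G)).relIndex C = 1 := Nat.eq_one_iff_not_exists_prime_dvd.mpr fun q hq hd => by
    obtain ⟨Q, hQC, hQi, hQT⟩ := h q hq
    exact hQi (hd.trans (Subgroup.relIndex_dvd_of_le_left C (le_inf hQC hQT)))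
  exact (Subgroup.relIndex_eq_one.mp h1).trans inf_le_right

theorem le_normal_hall {π : Set ℕ} {M O U : Subgroup G} (hM : Group.IsSolvable M) (hO : IsPiHallOf π O M)
    (hn : M ≤ normalizer (O : Set G)) (hUM : U ≤ M) (hU : ∀ r : ℕ, r.Prime → r ∣ Nat.card U → r ∈ π) : U ≤ O := by
  obtain ⟨m, hm, hle⟩ := CfsgLib.pi_le_conj_hall hM hO hUM hU
  have h := conj_smul_mono hle m⁻¹
  rwa [CfsgLib.conj_smul_mul, inv_mul_cancel, map_one, one_smul,
    conj_smul_eq_of_mem_normalizer (hn (inv_mem hm))] at h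

section Main

variable (hG : IsMinSimpleOddOrder G) {M : Subgroup G} (hM : IsCoatom M)

include hG hM

theorem sigma_le_derived {T : Subgroup G} (hTM : T ≤ M)
    (hT : ∀ r : ℕ, r.Prime → r ∣ Nat.card T → r ∈ sigma M) : T ≤ ⁅M, M⁆ :=
  (le_sigmaCore hG hM hTM hT).trans (core_le_derived hG hM subset_rfl)

/-- A `t`-subgroup of `M'` centralises the `q`-groups of `M` it normalises (`q ∉ α(M)`). -/
theorem centralizes_of_derived {q t : ℕ} [Fact q.Prime] [Fact t.Prime] (hqt : q ≠ t) (hqα : q ∉ alpha M)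
    {V T : Subgroup G} (hV : IsPGroup q V) (hVM : V ≤ M) (hT : IsPGroup t T) (hTd : T ≤ ⁅M, M⁆)
    (hTV : T ≤ normalizer (V : Set G)) : T ≤ centralizer (V : Set G) := by
  have hTO : T ≤ piCoreOf (alpha M ∪ {t}) M := sylow_le_core (π := alpha M ∪ {t}) hG hM
    (fun r hr => Or.inl hr) (Or.inr rfl) (hTd.trans (Subgroup.commutator_le_self M)) hT hTd
  refine centralizes_of_normal_core (le_normalizer_piCoreOf_self _ M) hVM hTO hV hTV fun hd => ?_
  rcases pi_piCoreOf _ M q Fact.out hd with h | h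
  · exact hqα h
  · exact hqt h

theorem centralizes_of_sigma {q t : ℕ} [Fact q.Prime] [Fact t.Prime] (hqt : q ≠ t) (hqα : q ∉ alpha M)
    {V T : Subgroup G} (hV : IsPGroup q V) (hVM : V ≤ M) (hT : IsPGroup t T) (hTM : T ≤ M) (ht : t ∈ sigma M)
    (hTV : T ≤ normalizer (V : Set G)) : T ≤ centralizer (V : Set G) :=
  centralizes_of_derived hG hM hqt hqα hV hVM hT
    (sigma_le_derived hG hM hTM fun r hr hd => by rw [card_dvd_of_pgroup hT hr hd]; exact ht) hTV

theorem tau2_nilpotent {p : ℕ} (hp : p ∈ tau2 M) : Group.IsNilpotent (sigmaCore M) := by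
  haveI := Fact.mk hp.1
  obtain ⟨E, hE, -⟩ := exists_complement_ge hG hM (bot_le : (⊥ : Subgroup G) ≤ M) fun r hr hd => by
    rw [Subgroup.card_bot] at hd
    exact absurd hd hr.not_dvd_one
  obtain ⟨A, hAE, hAe, hA2⟩ := exists_elementary_in_complement hG hM hE hp
  obtain ⟨A₀, hexc⟩ := exists_exc hG hM hp (hAE.trans hE.1) hAe hA2
  exact hexc.nilpotent hG hM

/-- Frattini argument in `O_π(M)`. -/
theorem frattini_core {q : ℕ} [Fact q.Prime] {Y : Subgroup G} (hY : Y ≤ ⁅M, M⁆) (hYq : IsPGroup q Y)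
    (hYi : ¬ q ∣ Y.relIndex ⁅M, M⁆) :
    ∃ O : Subgroup G, O ≤ M ∧ M ≤ normalizer (O : Set G) ∧
      (∀ r : ℕ, r.Prime → r ∣ Nat.card O → r ∈ alpha M ∪ {q}) ∧ M ≤ O ⊔ (M ⊓ normalizer (Y : Set G)) := by
  set D := ⁅M, M⁆ with hD
  have hDM : D ≤ M := Subgroup.commutator_le_self M
  have hMD : M ≤ normalizer (D : Set G) := fun g hg => mem_normalizer_of_conj_smul (by
    have : MulAut.conj g • ⁅M, M⁆ = ⁅MulAut.conj g • M, MulAut.conj g • M⁆ := Subgroup.map_commutator _ _ _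
    rw [hD, this, smul_eq_self_of_mem hg])
  set O := piCoreOf (alpha M ∪ {q}) M ⊓ D with hO
  have hMO : M ≤ normalizer (O : Set G) := fun g hg => mem_normalizer_of_conj_smul (by
    rw [hO, Subgroup.smul_inf, conj_smul_eq_of_mem_normalizer (le_normalizer_piCoreOf_self _ M hg),
      conj_smul_eq_of_mem_normalizer (hMD hg)])
  have hYO : Y ≤ O := le_inf (sylow_le_core (π := alpha M ∪ {q}) hG hM (fun r hr => Or.inl hr) (Or.inr rfl)
    (hY.trans hDM) hYq hY) hY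
  refine ⟨O, inf_le_right.trans hDM, hMO,
    fun r hr hd => pi_piCoreOf _ M r hr (hd.trans (Subgroup.card_dvd_of_le inf_le_left)), fun l hl => ?_⟩
  have hle : MulAut.conj l • Y ≤ O :=
    (conj_smul_mono hYO l).trans (conj_smul_eq_of_mem_normalizer (hMO hl)).le
  obtain ⟨c, hc, hcS⟩ := CfsgLib.pi_le_conj_hall (π := ({q} : Set ℕ)) (U := MulAut.conj l • Y)
    (solvable_of_le (inf_le_right.trans hDM) (solvable_of_ne_top hG hM.1))
    ⟨hYO, fun t ht hd => card_dvd_of_pgroup hYq ht hd, fun t ht htp hd => by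
      subst htp
      exact hYi (Subgroup.relIndex_mul_relIndex Y O D hYO inf_le_right ▸ Dvd.dvd.mul_right hd (O.relIndex D))⟩
    hle fun t ht hd => by rw [CfsgLib.card_conj_smul] at hd; exact card_dvd_of_pgroup hYq ht hd
  rw [CfsgLib.conj_smul_mul] at hcS
  have hcl : c * l ∈ M ⊓ normalizer (Y : Set G) := ⟨mul_mem ((inf_le_right.trans hDM) hc) hl,
    mem_normalizer_of_conj_smul (Subgroup.eq_of_le_of_card_ge hcS (CfsgLib.card_conj_smul _ Y).ge)⟩
  rw [show l = c⁻¹ * (c * l) by group]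
  exact mul_mem (Subgroup.mem_sup_left (inv_mem hc)) (Subgroup.mem_sup_right hcl)

/-- The primes of the index of `M ∩ L` in `L` when `q ∈ σ(L)`. -/
theorem index_inf_alpha {q : ℕ} [Fact q.Prime] {K S : Subgroup G} (hSK : S ≤ K) (hSM : S ≤ M)
    (hS : IsPGroup q S) (hNS : normalizer (S : Set G) ≤ K) (hSi : ¬ q ∣ S.relIndex M) (hqM : q ∈ sigma M) :
    ∀ r : ℕ, r.Prime → r ∣ (K ⊓ M).relIndex M → r ∈ alpha M := by
  intro r hr hd
  have hSG := not_dvd_index_of_sigma hG hM hqM hSM hSi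
  have hSd : S ≤ ⁅M, M⁆ := sylow_le_derived hG hM hSM hS hSG (normalizer_sigma_sylow_le hG hM hqM hSM hS hSG)
  obtain ⟨O, -, hMO, hOπ, hfac⟩ := frattini_core hG hM hSd hS fun h =>
    hSi (h.trans (Dvd.intro _ (Subgroup.relIndex_mul_relIndex S _ M hSd (Subgroup.commutator_le_self M))))
  set N := M ⊓ normalizer (S : Set G) with hN
  have h1 : N.relIndex M ∣ Nat.card O := by
    have h2 := (Subgroup.card_dvd_of_le hfac).trans
      (CfsgLib.Signalizer.card_sup_dvd ((inf_le_left : N ≤ M).trans hMO))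
    rw [← Subgroup.card_mul_index (N.subgroupOf M),
      Nat.card_congr (Subgroup.subgroupOfEquivOfLe (inf_le_left : N ≤ M)).toEquiv] at h2
    exact Nat.dvd_of_mul_dvd_mul_left Nat.card_pos h2
  rcases hOπ r hr ((hd.trans (Subgroup.relIndex_dvd_of_le_left M
    (le_inf (inf_le_right.trans hNS) inf_le_left))).trans h1) with h | h
  · exact h
  · rw [Set.mem_singleton_iff] at h
    subst h
    exact absurd (hd.trans (Subgroup.relIndex_dvd_of_le_left M (le_inf hSK hSM))) hSi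

omit hG hM in
theorem rank_two_not_conj {p : ℕ} [Fact p.Prime] (hr1 : PRankLE p 1 M) {A : Subgroup G}
    (hA : IsElementaryAbelian p A) (hA2 : Nat.card A = p ^ 2) (g : G) (h : MulAut.conj g • A ≤ M) : False := by
  haveI := hA.1
  have hle := card_le_of_pRankLE hr1 h (Subgroup.map_isMulCommutative _ _) (by
    rintro _ ⟨a, ha, rfl⟩
    show (MulAut.conj g a) ^ p = 1
    rw [← map_pow, hA.2 a ha, map_one])
  rw [CfsgLib.card_conj_smul, hA2] at hle
  exact absurd ((Nat.pow_le_pow_iff_right (Fact.out : p.Prime).one_lt).mp hle) (by norm_num)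

omit hG hM in
theorem rank_two_not_le {p : ℕ} [Fact p.Prime] (hr1 : PRankLE p 1 M) {A : Subgroup G}
    (hA : IsElementaryAbelian p A) (hA2 : Nat.card A = p ^ 2) (h : A ≤ M) : False :=
  rank_two_not_conj hr1 hA hA2 1 (by rwa [map_one, one_smul])

/-- A complement of `L_σ` inside `M` when `q ∈ σ(M) ∩ τ₂(L)`. -/
theorem exists_complement_le {L : Subgroup G} (hL : IsCoatom L) {q : ℕ} [Fact q.Prime] (hqM : q ∈ sigma M)
    (hqL : q ∈ tau2 L) {S : Subgroup G} (hSM : S ≤ M) (hSL : S ≤ L) (hS : IsPGroup q S)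
    (hSi : ¬ q ∣ S.relIndex L) :
    ∃ B E : Subgroup G, B ≤ S ∧ IsElementaryAbelian q B ∧ Nat.card B = q ^ 2 ∧
      IsComplIn E (sigmaCore L) L ∧ E ≤ M := by
  have hq : q.Prime := Fact.out
  obtain ⟨B, hBS, hBc, hBe, hBcard⟩ := exists_elementary_of_not_pRankLE
    (fun h => hqL.2.2.2 (pRankLE_of_sylow_rel hSL hS hSi h))
  have hBM := hBS.trans hSM
  have hBL := hBS.trans hSL
  have hB2 : Nat.card B = q ^ 2 := by
    obtain ⟨k, hk⟩ := (isPGroup_of_exp hBe).exists_card_eq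
    have h2 := card_le_of_pRankLE hqL.2.2.1 hBL hBc hBe
    rw [hk] at hBcard h2 ⊢
    congr 1
    exact le_antisymm ((Nat.pow_le_pow_iff_right hq.one_lt).mp h2)
      ((Nat.pow_lt_pow_iff_right hq.one_lt).mp hBcard)
  have hNB : normalizer (B : Set G) ≤ M := normalizer_noncyclic_sigma_le hG hM hqM (isPGroup_of_exp hBe) hBM
    (not_cyclic_of_elementary hBe (by rw [hB2]; exact lt_self_pow₀ hq.one_lt (by norm_num)))
  obtain ⟨E, hE, hBE⟩ := exists_complement_ge hG hL hBL fun r hr hd => by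
    rw [card_dvd_of_pgroup (isPGroup_of_exp hBe) hr hd]; exact hqL.2.1
  exact ⟨B, E, hBS, ⟨hBc, hBe⟩, hB2, hE,
    (Cfsg.Agent.S1418.result hG L hL E hE q hqL B ⟨hBE, ⟨hBc, hBe⟩, hB2⟩).1.1.trans hNB⟩

/-- A `q`-subgroup centralised by an elementary subgroup of order `p²` when `M` has `p`-rank one. -/
theorem overlap_data {p q : ℕ} [Fact p.Prime] [Fact q.Prime] (hr1 : PRankLE p 1 M) (hqM : q ∈ sigma M)
    {X Q : Subgroup G} (hXc : Nat.card X = q) (hXQ : X ≤ Q) (hQM : Q ≤ M) (hQq : IsPGroup q Q)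
    (hQX : Q ≤ normalizer (X : Set G)) {A : Subgroup G} (hA : IsElementaryAbelian p A)
    (hA2 : Nat.card A = p ^ 2) (hAX : A ≤ centralizer (X : Set G)) :
    ∃ L Q₁ : Subgroup G, IsCoatom L ∧ normalizer (X : Set G) ≤ L ∧ (∀ g : G, L ≠ MulAut.conj g • M) ∧
      Q ≤ Q₁ ∧ Q₁ ≤ M ⊓ L ∧ IsPGroup q Q₁ ∧ normalizer (Q₁ : Set G) ≤ M ∧ p ∈ sigma L ∧
      ((q ∈ sigma L ∧ p ∈ alpha L) ∨
        (q ∈ tau2 L ∧ ∃ B : Subgroup G, B ≤ Q₁ ∧ IsElementaryAbelian q B ∧ Nat.card B = q ^ 2)) := by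
  have hq : q.Prime := Fact.out
  have hXq : IsPGroup q X := IsPGroup.of_card (n := 1) (by rw [hXc, pow_one])
  have hX1 := ne_bot_of_card hXc
  have hAN : A ≤ normalizer (X : Set G) := hAX.trans (Subgroup.centralizer_le_normalizer _)
  obtain ⟨L, hL, hNL⟩ := exists_coatom_ge (normalizer_ne_top hG hX1 (pgroup_ne_top hG hXq))
  have hne : L ≠ M := fun e => rank_two_not_le hr1 hA hA2 (hAN.trans (e ▸ hNL))
  have hQI : Q ≤ M ⊓ L := le_inf hQM (hQX.trans hNL)
  obtain ⟨Q₁, hQQ₁, hQ₁I, hQ₁q, hQ₁i⟩ := exists_sylow_ge hQI hQq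
  obtain ⟨S, hS, -⟩ := sylow_of_relIndex hQ₁I hQ₁q hQ₁i
  obtain ⟨hnc, hNS, hSi⟩ := sigma_overlap hG hM hqM hXq hX1 (hXQ.trans hQM) hL hne hNL S
    (hS ▸ hXQ.trans hQQ₁)
  rw [hS] at hNS hSi
  have hAL : A ≤ L := hAN.trans hNL
  have hAp : IsPGroup p A := isPGroup_of_exp hA.2
  have hLs := solvable_of_ne_top hG hL.1
  refine ⟨L, Q₁, hL, hNL, hnc, hQQ₁, hQ₁I, hQ₁q, hNS, ?_⟩
  by_cases hqL : q ∈ sigma L
  · have hpα : p ∈ alpha L := by
      by_contra hpα
      have hidx : ¬ p ∣ (M ⊓ L).relIndex L := fun hd => hpα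
        (index_inf_alpha hG hL (hQ₁I.trans inf_le_left) (hQ₁I.trans inf_le_right) hQ₁q hNS hSi hqL p Fact.out hd)
      obtain ⟨R, -, hRI, hRp, hRi⟩ := exists_sylow_ge (p := p) (bot_le : (⊥ : Subgroup G) ≤ M ⊓ L) IsPGroup.of_bot
      obtain ⟨l, -, hle⟩ := CfsgLib.pi_le_conj_hall hLs (π := ({p} : Set ℕ))
        (⟨hRI.trans inf_le_right, fun t ht hd => card_dvd_of_pgroup hRp ht hd, fun t ht htp hd => by
          subst htp
          rw [← Subgroup.relIndex_mul_relIndex R (M ⊓ L) L hRI inf_le_right] at hd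
          exact ((Fact.out : t.Prime).dvd_mul.mp hd).elim hRi hidx⟩ : IsPiHallOf ({p} : Set ℕ) R L)
        hAL fun t ht hd => card_dvd_of_pgroup hAp ht hd
      exact rank_two_not_conj hr1 hA hA2 l (hle.trans (hRI.trans inf_le_left))
    exact ⟨alpha_subset_sigma hG hL hpα, Or.inl ⟨hqL, hpα⟩⟩
  · obtain ⟨hr2, hnr1⟩ := (order_p_normalizer_le hG hL hqL hXc hNL).1
    have hqτ : q ∈ tau2 L := ⟨hq, hqL, hr2, hnr1⟩
    obtain ⟨B, E, hBQ, hBe, hB2, hE, hEM⟩ := exists_complement_le hG hM hL hqM hqτ (hQ₁I.trans inf_le_left)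
      (hQ₁I.trans inf_le_right) hQ₁q hSi
    refine ⟨?_, Or.inr ⟨hqτ, B, hBQ, hBe, hB2⟩⟩
    by_contra hpL
    obtain ⟨l, -, hle⟩ := CfsgLib.pi_le_conj_hall hLs (complement_hall hG hL hE) hAL fun t ht hd => by
      rw [card_dvd_of_pgroup hAp ht hd]; exact hpL
    exact rank_two_not_conj hr1 hA hA2 l (hle.trans hEM)

omit hM in
/-- A `q`-element moved by a `σ(H)'`-group is centralised by `A` when `p ∈ τ₂(H)`. -/
theorem tau2_centralizes_moved {H : Subgroup G} (hH : IsCoatom H) {p q t : ℕ} [Fact p.Prime] [Fact q.Prime]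
    [Fact t.Prime] (hpH : p ∈ tau2 H) (hqH : q ∉ sigma H) (htH : t ∉ sigma H) (hqp : q ≠ p) (hqt : q ≠ t)
    {Q T : Subgroup G} (hQq : IsPGroup q Q) (hQc : IsCyclic Q) (hT : IsPGroup t T) (hQH : Q ≤ H) (hTH : T ≤ H)
    (hTQ : T ≤ normalizer (Q : Set G)) (hmove : ¬ T ≤ centralizer (Q : Set G)) :
    Q ⊓ centralizer (T : Set G) = ⊥ ∧
      ∃ A : Subgroup G, IsElementaryAbelian p A ∧ Nat.card A = p ^ 2 ∧ A ≤ centralizer (Q : Set G) := by
  haveI := hQc
  haveI : IsMulCommutative Q := inferInstance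
  have hcop : (Nat.card Q).Coprime (Nat.card T) := coprime_pGroups Fact.out Fact.out hqt hQq hT
  have hUQ : ⁅Q, T⁆ ≤ Q := commutator_le_of_normalizes hTQ
  have hU0 : ⁅Q, T⁆ ≠ ⊥ := fun e =>
    hmove (Subgroup.le_centralizer_iff.mp (Subgroup.commutator_eq_bot_iff_le_centralizer.mp e))
  have hfix : Q ⊓ centralizer (T : Set G) = ⊥ := by
    by_contra hne
    obtain ⟨X, hX, hXc⟩ := exists_sub_card (hQq.to_le inf_le_left) hne
    obtain ⟨Z, hZ, hZc⟩ := exists_sub_card (hQq.to_le hUQ) hU0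
    have e : X = Z := by
      rw [← Subgroup.map_subgroupOf_eq_of_le (hX.trans inf_le_left), ← Subgroup.map_subgroupOf_eq_of_le (hZ.trans hUQ)]
      congr 1
      exact CfsgLib.PowerGraph.subgroup_eq_of_card (by
        rw [Nat.card_congr (Subgroup.subgroupOfEquivOfLe (hX.trans inf_le_left)).toEquiv,
          Nat.card_congr (Subgroup.subgroupOfEquivOfLe (hZ.trans hUQ)).toEquiv, hXc, hZc])
    refine ne_bot_of_card hXc (le_bot_iff.mp ?_)
    rw [← CfsgLib.SmallFixed.commutator_fixed_bot hTQ hcop]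
    exact le_inf (e ▸ hZ) (hX.trans inf_le_right)
  refine ⟨hfix, ?_⟩
  obtain ⟨E, hE, hUE⟩ := exists_complement_ge hG hH (sup_le hQH hTH) fun r hr hd => by
    rcases hr.dvd_mul.mp (hd.trans (CfsgLib.Signalizer.card_sup_dvd hTQ)) with h | h
    · rw [card_dvd_of_pgroup hT hr h]; exact htH
    · rw [card_dvd_of_pgroup hQq hr h]; exact hqH
  obtain ⟨A, hAE, hAe, hA2⟩ := exists_elementary_in_complement hG hH hE hpH
  have hEA : E ≤ normalizer (A : Set G) := (Cfsg.Agent.S1418.result hG H hH E hE p hpH A ⟨hAE, hAe, hA2⟩).1.1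
  haveI := complement_derived_commutative hG hH hE
  have hQE : Q ≤ E := le_sup_left.trans hUE
  have hQd : Q ≤ ⁅E, E⁆ := le_of_commutator_le hTQ hcop hfix
    (Subgroup.commutator_mono hQE (le_sup_right.trans hUE))
  refine ⟨A, hAe, hA2, fun a ha u hu => ?_⟩
  set w := u * a * u⁻¹ * a⁻¹ with hw
  have hwA : w ∈ A := A.mul_mem ((Subgroup.mem_normalizer_iff.mp (hEA (hQE hu)) a).mp ha) (inv_mem ha)
  have hwd : w ∈ ⁅E, E⁆ := Subgroup.commutator_mem_commutator (hQE hu) (hAE ha)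
  have hcomm : Commute u w := congrArg Subtype.val (mul_comm' (⟨u, hQd hu⟩ : ↥(⁅E, E⁆ : Subgroup G)) ⟨w, hwd⟩)
  have h1 : w = 1 := eq_one_of_fixed_mod (d := a) (by rw [hw]; group) hcomm (by
    refine Nat.Coprime.coprime_dvd_left (orderOf_dvd_of_pow_eq_one (hAe.2 w hwA)) ?_
    refine Nat.Coprime.coprime_dvd_right (Subgroup.orderOf_dvd_natCard _ hu) ?_
    exact (coprime_pGroup Fact.out Fact.out hqp hQq).symm)
  rw [hw, mul_inv_eq_one, mul_inv_eq_iff_eq_mul] at h1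
  exact h1

/-- A Sylow subgroup of `C_{M_σ}(P)` is one of `M ∩ L` when `P ≤ O_α(L)`. -/
theorem sylow_of_meet {L : Subgroup G} (hL : IsCoatom L) {p q : ℕ} [Fact p.Prime] [Fact q.Prime]
    (hqM : q ∈ sigma M) (hqL : q ∉ alpha L) (hpM : ¬ p ∣ Nat.card ↥⁅M, M⁆) (hpL : p ∈ alpha L)
    {P Q Q₁ : Subgroup G} (hP : Nat.card P = p) (hPM : P ≤ M) (hPL : P ≤ L)
    (hQC : Q ≤ sigmaCore M ⊓ centralizer (P : Set G))
    (hQi : ¬ q ∣ Q.relIndex (sigmaCore M ⊓ centralizer (P : Set G)))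
    (hQQ₁ : Q ≤ Q₁) (hQ₁ : Q₁ ≤ M ⊓ L) (hQ₁q : IsPGroup q Q₁) : Q₁ = Q := by
  by_contra hne
  have hpp : p.Prime := Fact.out
  have hlt := Transitivity.inf_normalizer_lt_qGroup hQ₁q hQQ₁ (Ne.symm hne)
  set Q₂ := Q₁ ⊓ normalizer (Q : Set G) with hQ₂
  obtain ⟨hHall, -⟩ := isPiHall_core hG hL subset_rfl (alpha_subset_sigma hG hL)
  set K := piCoreOf (alpha L) L ⊓ (M ⊓ normalizer (Q : Set G)) with hK
  have hPp : IsPGroup p P := IsPGroup.of_card (n := 1) (by rw [hP, pow_one])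
  have hPO : P ≤ piCoreOf (alpha L) L := le_normal_hall (solvable_of_ne_top hG hL.1) hHall
    (le_normalizer_piCoreOf_self _ L) hPL fun r hr hd => by rw [card_dvd_of_pgroup hPp hr hd]; exact hpL
  have hPK : P ≤ K := le_inf hPO (le_inf hPM
    ((Subgroup.le_centralizer_iff.mp (hQC.trans inf_le_right)).trans (Subgroup.centralizer_le_normalizer _)))
  have hQ₂M : Q₂ ≤ M := inf_le_left.trans (hQ₁.trans inf_le_left)
  have hQ₂q : IsPGroup q Q₂ := hQ₁q.to_le inf_le_left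
  have hQ₂K : Q₂ ≤ normalizer (K : Set G) := fun y hy => mem_normalizer_of_conj_smul (by
    rw [hK, Subgroup.smul_inf, Subgroup.smul_inf,
      conj_smul_eq_of_mem_normalizer (le_normalizer_piCoreOf_self _ L (hQ₁ hy.1).2),
      smul_eq_self_of_mem (hQ₂M hy),
      conj_smul_eq_of_mem_normalizer (Subgroup.le_normalizer hy.2)])
  have hcop : (Nat.card Q₂).Coprime (Nat.card K) := Nat.coprime_of_dvd fun r hr h1 h2 => by
    rw [card_dvd_of_pgroup hQ₂q hr h1] at h2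
    exact hqL (pi_piCoreOf _ L q Fact.out (h2.trans (Subgroup.card_dvd_of_le inf_le_left)))
  have hKs : Group.IsSolvable K := solvable_of_le (inf_le_right.trans inf_le_left) (solvable_of_ne_top hG hM.1)
  obtain ⟨Pf, hPf, hQ₂Pf⟩ := CfsgLib.exists_invariant_hall ({p} : Set ℕ) hQ₂K hcop hKs
  obtain ⟨c, hc, hle⟩ := CfsgLib.pi_le_conj_hall hKs hPf hPK fun r hr hd => card_dvd_of_pgroup hPp hr hd
  have hPfp : IsPGroup p Pf := isPGroup_of_inv (B := (⊥ : Subgroup G)) (H := ⊤) ⟨le_top, hPf.2.1, bot_le⟩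
  have hfix : Pf ≤ centralizer (Q₂ : Set G) := by
    refine Subgroup.commutator_eq_bot_iff_le_centralizer.mp (le_bot_iff.mp ?_)
    rw [← inf_eq_bot_of_pgroup hPfp hpM]
    exact le_inf (commutator_le_of_normalizes hQ₂Pf)
      (Subgroup.commutator_mono (hPf.1.trans (inf_le_right.trans inf_le_left)) hQ₂M)
  set Q₃ := MulAut.conj c⁻¹ • Q₂ with hQ₃
  have hcM : c⁻¹ ∈ M := inv_mem (hc.2.1)
  have hQ₃P : Q₃ ≤ centralizer (P : Set G) := by
    intro y hy x hx
    rw [hQ₃, CfsgLib.mem_conj_smul_iff, inv_inv] at hy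
    have h1 : c * x * c⁻¹ ∈ Pf := hle ⟨x, hx, rfl⟩
    have h2 := hfix h1 _ hy
    calc x * y = c⁻¹ * (c * x * c⁻¹ * (c * y * c⁻¹)) * c := by group
      _ = c⁻¹ * (c * y * c⁻¹ * (c * x * c⁻¹)) * c := by rw [h2]
      _ = y * x := by group
  have hQ₃q : IsPGroup q Q₃ := hQ₂q.map _
  have hQ₃C : Q₃ ≤ sigmaCore M ⊓ centralizer (P : Set G) := le_inf (le_sigmaCore hG hM
    ((conj_smul_mono hQ₂M _).trans (smul_eq_self_of_mem hcM).le)
    fun r hr hd => by rw [card_dvd_of_pgroup hQ₃q hr hd]; exact hqM) hQ₃P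
  have hQQ₃ : Q ≤ Q₃ :=
    (conj_smul_eq_of_mem_normalizer (inv_mem hc.2.2)).ge.trans (conj_smul_mono hlt.le _)
  have e := eq_of_sylow hQi hQQ₃ hQ₃C hQ₃q
  have h2 : Nat.card Q < Nat.card Q₂ := Set.Finite.card_lt_card (Set.toFinite _) hlt
  rw [← CfsgLib.card_conj_smul c⁻¹ Q₂, ← hQ₃, e] at h2
  exact lt_irrefl _ h2

omit hM in
/-- A `p`-subgroup of `L_σ ∩ M` cannot exist when `q ∈ τ₂(L)` and `p ∤ |M'|`. -/
theorem sigma_meet_tau2 {L : Subgroup G} (hL : IsCoatom L) {p q : ℕ} [Fact p.Prime] [Fact q.Prime]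
    (hqL : q ∈ tau2 L) (hpM : ¬ p ∣ Nat.card ↥⁅M, M⁆) {B P : Subgroup G} (hBM : B ≤ M) (hBL : B ≤ L)
    (hB : IsElementaryAbelian q B) (hB2 : Nat.card B = q ^ 2) (hPM : P ≤ M) (hP : Nat.card P = p)
    (hPL : P ≤ sigmaCore L) : False := by
  set D := sigmaCore L ⊓ M with hD
  have hBD : B ≤ normalizer (D : Set G) := fun b hb => mem_normalizer_of_conj_smul (by
    rw [hD, Subgroup.smul_inf, conj_smul_eq_of_mem_normalizer (le_normalizer_sigmaCore hG hL hBL hb),
      smul_eq_self_of_mem (hBM hb)])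
  have hBq : IsPGroup q B := isPGroup_of_exp hB.2
  have hcop : (Nat.card B).Coprime (Nat.card D) := Nat.coprime_of_dvd fun r hr h1 h2 => by
    rw [card_dvd_of_pgroup hBq hr h1] at h2
    exact hqL.2.1 ((sigmaCore_hall hG hL).1.2.1 q Fact.out (h2.trans (Subgroup.card_dvd_of_le inf_le_left)))
  obtain ⟨Pf, hPf, hBPf⟩ := CfsgLib.exists_invariant_hall ({p} : Set ℕ) hBD hcop
    (solvable_of_le (inf_le_left.trans (piCoreOf_le _ _)) (solvable_of_ne_top hG hL.1))
  have hPfp : IsPGroup p Pf := isPGroup_of_inv (B := (⊥ : Subgroup G)) (H := ⊤) ⟨le_top, hPf.2.1, bot_le⟩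
  have hfix : Pf ≤ centralizer (B : Set G) := by
    refine Subgroup.commutator_eq_bot_iff_le_centralizer.mp (le_bot_iff.mp ?_)
    rw [← inf_eq_bot_of_pgroup hPfp hpM]
    exact le_inf (commutator_le_of_normalizes hBPf) (Subgroup.commutator_mono (hPf.1.trans inf_le_right) hBM)
  obtain ⟨B₀, hexc⟩ := exists_exc hG hL hqL hBL hB hB2
  obtain ⟨S, hBS, hSL, hSq, hSi⟩ := exists_sylow_ge hBL hBq
  obtain ⟨-, hC, -⟩ := hexc.structure' hG hL hBS hSL hSq hSi
  have hPf1 : Pf = ⊥ := le_bot_iff.mp ((le_inf (hPf.1.trans inf_le_left) hfix).trans hC.le)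
  refine hPf.2.2 p Fact.out rfl ?_
  rw [hPf1, Subgroup.relIndex_bot_left]
  exact hP ▸ Subgroup.card_dvd_of_le (le_inf hPL hPM)

/-- For a `τ₁`-type subgroup `P`, the maximal subgroups above `N(P)` have `p ∈ σ`. -/
theorem sigma_of_moved {p q t : ℕ} [Fact p.Prime] [Fact q.Prime] [Fact t.Prime] (hpM : p ∉ sigma M)
    (hr1 : PRankLE p 1 M) (htp : t = p ∨ ¬ p ∣ Nat.card ↥⁅M, M⁆) (htM : t ∉ sigma M)
    {P : Subgroup G} (hP : Nat.card P = p) (hPM : P ≤ M) {H : Subgroup G} (hH : IsCoatom H)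
    (hNH : normalizer (P : Set G) ≤ H) {T : Subgroup G} (hT : IsPGroup t T) (hTM : T ≤ M)
    (hTP : T ≤ centralizer (P : Set G)) {Q : Subgroup G} (hQq : IsPGroup q Q)
    (hQC : Q ≤ sigmaCore M ⊓ centralizer (P : Set G))
    (hQi : ¬ q ∣ Q.relIndex (sigmaCore M ⊓ centralizer (P : Set G)))
    (hTQ : T ≤ normalizer (Q : Set G)) (hmove : ¬ T ≤ centralizer (Q : Set G)) :
    (∀ g : G, H ≠ MulAut.conj g • M) ∧ q ∈ sigma M ∧ q ∉ alpha H ∧ p ∈ sigma H := by
  have hpp : p.Prime := Fact.out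
  have hq : q.Prime := Fact.out
  have hQ1 : Q ≠ ⊥ := fun e => hmove (by
    rw [e]
    intro y _ x hx
    rw [Subgroup.coe_bot, Set.mem_singleton_iff] at hx
    subst hx
    rw [one_mul, mul_one])
  have hqM : q ∈ sigma M := by
    obtain ⟨k, hk⟩ := hQq.exists_card_eq
    have hk0 : k ≠ 0 := fun e => hQ1 (Subgroup.card_eq_one.mp (by rw [hk, e, pow_zero]))
    exact (sigmaCore_hall hG hM).1.2.1 q hq
      ((hk ▸ dvd_pow_self q hk0).trans (Subgroup.card_dvd_of_le (hQC.trans inf_le_left)))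
  have hnc : ∀ g : G, H ≠ MulAut.conj g • M := by
    rintro g rfl
    exact (order_p_normalizer_le hG (conj_isCoatom hM g) (by rwa [sigma_conj]) hP hNH).1.2 (pRankLE_conj g hr1)
  have hqH : q ∉ alpha H := fun h => by
    obtain ⟨g, hg⟩ := sigma_alpha_conj hG hM hH hqM h
    exact hnc g hg
  refine ⟨hnc, hqM, hqH, ?_⟩
  by_contra hpH
  obtain ⟨hr2, hnr1⟩ := (order_p_normalizer_le hG hH hpH hP hNH).1
  have hpτ : p ∈ tau2 H := ⟨hpp, hpH, hr2, hnr1⟩
  have hQM : Q ≤ M := (hQC.trans inf_le_left).trans (piCoreOf_le _ _)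
  have hQP : Q ≤ centralizer (P : Set G) := hQC.trans inf_le_right
  have hQH : Q ≤ H := (hQP.trans (Subgroup.centralizer_le_normalizer _)).trans hNH
  have hTH : T ≤ H := (hTP.trans (Subgroup.centralizer_le_normalizer _)).trans hNH
  have hqσ : q ∉ sigma H := fun h => by
    obtain ⟨g, hg⟩ := sigma_disjoint hG hH hM (tau2_nilpotent hG hH hpτ) h hqM
    exact hnc g⁻¹ (by rw [hg, CfsgLib.conj_smul_mul, inv_mul_cancel, map_one, one_smul])
  have hqt : q ≠ t := fun e => htM (e ▸ hqM)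
  have hqp : q ≠ p := fun e => hpM (e ▸ hqM)
  have htH : t ∉ sigma H := fun h => hmove (centralizes_of_sigma hG hH hqt hqH hQq hQH hT hTH h hTQ)
  by_cases hQc : IsCyclic Q
  swap
  · obtain ⟨B, hBQ, -, hBe, hB2⟩ := exists_elementary_two (p_ne_two hG.1 hQq hQ1) hQq hQc
    have hqτ : q ∈ tau2 H := by
      refine ⟨hq, hqσ, ?_, fun h => ?_⟩
      · by_contra h
        exact hqH ⟨hq, h⟩
      · have := card_le_of_pRankLE h (hBQ.trans hQH) hBe.1 hBe.2
        rw [hB2] at this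
        exact absurd ((Nat.pow_le_pow_iff_right hq.one_lt).mp this) (by norm_num)
    obtain ⟨E, hE, hBE⟩ := exists_complement_ge hG hH (hBQ.trans hQH) fun r hr hd => by
      rw [card_dvd_of_pgroup (isPGroup_of_exp hBe.2) hr hd]; exact hqσ
    obtain ⟨A, hAE, hAe, hA2⟩ := exists_elementary_in_complement hG hH hE hpτ
    have hBA : B ≤ centralizer (A : Set G) := fun b hb =>
      tau2_element_centralizes hG hH hE hpτ hAE hAe hA2 (hBE hb) fun r hr hd => by
        rw [card_dvd_of_pgroup (isPGroup_of_exp hBe.2) hr (hd.trans (Subgroup.orderOf_dvd_natCard _ hb))]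
        exact hqτ
    exact rank_two_not_le hr1 hAe hA2 ((Subgroup.le_centralizer_iff.mp hBA).trans
      (centralizer_two_le hG hM (hBQ.trans hQM) hBe hB2))
  obtain ⟨hfix, A, hAe, hA2, hAQ⟩ := tau2_centralizes_moved hG hH hpτ hqσ htH hqp hqt hQq hQc hT hQH hTH hTQ hmove
  obtain ⟨X, hXQ, hXc⟩ := exists_sub_card hQq hQ1
  have hNQX := normalizer_le_of_cyclic hQc hXQ
  have hXq : IsPGroup q X := hQq.to_le hXQ
  obtain ⟨L, Q₁, hL, hNL, hncL, hQQ₁, hQ₁I, hQ₁q, hNQ₁, hpL, hor⟩ := overlap_data hG hM hr1 hqM hXc hXQ hQM hQq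
    (Subgroup.le_normalizer.trans hNQX) hAe hA2 (hAQ.trans (centralizer_anti hXQ))
  have hqLα : q ∉ alpha L := fun h => by
    obtain ⟨g, hg⟩ := sigma_alpha_conj hG hM hL hqM h
    exact hncL g hg
  rcases htp with rfl | hpM'
  · have hTX : T ≤ normalizer (X : Set G) := hTQ.trans hNQX
    have h1 := centralizes_of_sigma hG hL hqt hqLα hXq
      (Subgroup.le_normalizer.trans hNL) hT (hTX.trans hNL) hpL hTX
    exact ne_bot_of_card hXc (le_bot_iff.mp (hfix ▸ le_inf hXQ (Subgroup.le_centralizer_iff.mp h1)))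
  have hPX : P ≤ normalizer (X : Set G) := ((Subgroup.le_centralizer_iff.mp hQP).trans
    (centralizer_anti hXQ)).trans (Subgroup.centralizer_le_normalizer _)
  rcases hor with ⟨-, hpα⟩ | ⟨hqτ, B, hBQ₁, hBe, hB2⟩
  · have e := sylow_of_meet hG hM hL hqM hqLα hpM' hpα hP hPM (hPX.trans hNL) hQC hQi hQQ₁ hQ₁I hQ₁q
    refine rank_two_not_le hr1 hAe hA2 (hAQ.trans ?_)
    rw [e] at hNQ₁
    exact (Subgroup.centralizer_le_normalizer _).trans hNQ₁
  · exact sigma_meet_tau2 hG hL hqτ hpM' (hBQ₁.trans (hQ₁I.trans inf_le_left))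
      (hBQ₁.trans (hQ₁I.trans inf_le_right)) hBe hB2 hPM hP
      (le_sigmaCore hG hL (hPX.trans hNL) fun r hr hd => by
        rw [card_dvd_of_pgroup (IsPGroup.of_card (n := 1) (by rw [hP, pow_one])) hr hd]; exact hpL)

/-- B–G 13.? : a cyclic Sylow subgroup of `E` acts in prime manner. -/
theorem cyclic_sylow_prime_action {p : ℕ} [Fact p.Prime] (hpM : p ∉ sigma M) (hr1 : PRankLE p 1 M)
    {S : Subgroup G} (hS : IsPGroup p S) (hSc : IsCyclic S) (hSM : S ≤ M) {x : G} (hx : x ∈ S) (hx1 : x ≠ 1) :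
    sigmaCore M ⊓ centralizer ({x} : Set G) = sigmaCore M ⊓ centralizer (S : Set G) := by
  refine le_antisymm ?_ (inf_le_inf_left _ (Subgroup.centralizer_le (Set.singleton_subset_iff.mpr hx)))
  haveI := hSc
  haveI : IsMulCommutative S := inferInstance
  have hpp : p.Prime := Fact.out
  have hxS : zpowers x ≤ S := Subgroup.zpowers_le.mpr hx
  obtain ⟨P, hPx, hP⟩ := exists_sub_card (hS.to_le hxS) (fun e => hx1 (Subgroup.zpowers_eq_bot.mp e))
  refine le_inf inf_le_left ?_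
  refine (inf_le_inf_left _ ?_ : sigmaCore M ⊓ centralizer ({x} : Set G) ≤
    sigmaCore M ⊓ centralizer (P : Set G)).trans ?_
  · rw [← Subgroup.centralizer_closure, ← Subgroup.zpowers_eq_closure]
    exact centralizer_anti hPx
  set C := sigmaCore M ⊓ centralizer (P : Set G) with hC
  have hCσ : C ≤ sigmaCore M := inf_le_left
  have hPS : P ≤ S := hPx.trans hxS
  have hSP : S ≤ centralizer (P : Set G) := (Subgroup.le_centralizer S).trans (centralizer_anti hPS)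
  have hSC : S ≤ normalizer (C : Set G) := fun s hs => mem_normalizer_of_conj_smul (by
    rw [hC, Subgroup.smul_inf, conj_smul_eq_of_mem_normalizer (le_normalizer_sigmaCore hG hM hSM hs),
      conj_smul_eq_of_mem_normalizer (CfsgLib.CharP.normalizer_le_normalizer_centralizer _
        (Subgroup.centralizer_le_normalizer _ (hSP hs)))])
  have hcop : (Nat.card S).Coprime (Nat.card C) :=
    coprime_sigmaCore hG hM hpM hS hCσ
  obtain ⟨H, hH, hNH⟩ := exists_coatom_ge (normalizer_ne_top hG (ne_bot_of_card hP)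
    (pgroup_ne_top hG (hS.to_le hPS)))
  refine le_centralizer_of_sylows fun q hq => ?_
  haveI := Fact.mk hq
  obtain ⟨Q, hQ, hSQ⟩ := CfsgLib.exists_invariant_hall ({q} : Set ℕ) hSC hcop
    (solvable_of_le (inf_le_left.trans (piCoreOf_le _ _)) (solvable_of_ne_top hG hM.1))
  have hQq : IsPGroup q Q := isPGroup_of_inv (B := (⊥ : Subgroup G)) (H := ⊤) ⟨le_top, hQ.2.1, bot_le⟩
  refine ⟨Q, hQ.1, hQ.2.2 q hq rfl, ?_⟩
  by_contra hmove
  have hmove' : ¬ S ≤ centralizer (Q : Set G) := fun h => hmove (Subgroup.le_centralizer_iff.mp h)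
  obtain ⟨-, hqM, hqH, hpH⟩ := sigma_of_moved hG hM hpM hr1 (Or.inl rfl) hpM hP (hPS.trans hSM) hH hNH hS hSM hSP
    hQq hQ.1 (hQ.2.2 q hq rfl) hSQ hmove'
  exact hmove' (centralizes_of_sigma hG hH (fun e => hpM (by subst e; exact hqM)) hqH hQq
    (((hQ.1.trans inf_le_right).trans (Subgroup.centralizer_le_normalizer _)).trans hNH) hS
    ((hSP.trans (Subgroup.centralizer_le_normalizer _)).trans hNH) hpH hSQ)

end Main

end CfsgLib.MinSimpleOdd
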