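import Cfsg.Agent.Lib.MinSimpleOdd.PrimeAction
import Cfsg.Agent.Lib.OddLocal.NarrowDerived
import Cfsg.Agent.S1443

/-!
Centralisers in `M_σ` of subgroups of order `p ∈ τ₁(M)` (B–G §13).
-/

set_option autoImplicit false
set_option linter.unusedSectionVars false
set_option linter.style.haveILetI false
set_option maxHeartbeats 1000000

namespace CfsgLib.MinSimpleOdd

open Subgroup Cfsg
open scoped Pointwise commutatorElement IsMulCommutative

universe u
variable {G : Type u} [Group G] [Finite G]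

theorem central_derived_trivial {Γ : Type u} [Group Γ] [Finite Γ] {H : Subgroup Γ} [IsMulCommutative H] {y : Γ}
    (hy : ∀ g : Γ, g * y = y * g) (hd : y ∈ commutator Γ) (hcop : (orderOf y).Coprime H.index) : y = 1 := by
  set f : Γ →* H := MonoidHom.transfer (MonoidHom.id H) with hf
  have h1 : f y = 1 := Abelianization.commutator_subset_ker f hd
  rw [hf, MonoidHom.transfer_eq_pow _ y (fun k g₀ _ => by
    have : Commute g₀⁻¹ (y ^ k) := (show Commute g₀⁻¹ y from hy _).pow_right k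
    rw [this.eq, mul_assoc, inv_mul_cancel, mul_one])] at h1
  exact orderOf_eq_one_iff.mp
    (Nat.eq_one_of_dvd_coprimes hcop dvd_rfl (orderOf_dvd_of_pow_eq_one (congrArg Subtype.val h1)))

theorem map_subgroupOf_normalizer {K X : Subgroup G} {Γ : Type u} [Group Γ] (f : K →* Γ) {y : K}
    (hy : (y : G) ∈ normalizer (X : Set G)) :
    f y ∈ normalizer (((X.subgroupOf K).map f : Subgroup Γ) : Set Γ) :=
  Subgroup.le_normalizer_map f ⟨y, Subgroup.mem_normalizer_iff.mpr fun z => by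
    simp only [Subgroup.mem_subgroupOf, Subgroup.coe_mul, Subgroup.coe_inv]
    exact Subgroup.mem_normalizer_iff.mp hy z, rfl⟩

theorem le_normalizer_commutator {Q W : Subgroup G} (hWQ : W ≤ normalizer (Q : Set G)) :
    W ≤ normalizer ((⁅Q, W⁆ : Subgroup G) : Set G) := fun w hw => mem_normalizer_of_conj_smul (by
  have : MulAut.conj w • ⁅Q, W⁆ = ⁅MulAut.conj w • Q, MulAut.conj w • W⁆ := Subgroup.map_commutator _ _ _
  rw [this, conj_smul_eq_of_mem_normalizer (hWQ hw), conj_smul_eq_of_mem_normalizer (Subgroup.le_normalizer hw)])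

theorem elementary_line {p : ℕ} [Fact p.Prime] {B X : Subgroup G} (hB : IsElementaryAbelian p B)
    (hX : Nat.card X = p) (hc : B ≤ centralizer (X : Set G)) :
    IsElementaryAbelian p (B ⊔ X : Subgroup G) := by
  haveI : IsCyclic X := isCyclic_of_prime_card hX
  obtain ⟨y, hy⟩ := IsCyclic.exists_generator (α := X)
  have e : zpowers (y : G) = X := le_antisymm (Subgroup.zpowers_le.mpr y.2) fun z hz => by
    obtain ⟨i, hi⟩ := Subgroup.mem_zpowers_iff.mp (hy ⟨z, hz⟩)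
    exact Subgroup.mem_zpowers_iff.mpr ⟨i, congrArg Subtype.val hi⟩
  rw [← e]
  exact elementary_sup_zpowers hB ((elementary_of_card_prime hX).2 _ y.2) fun b hb => (hc hb y y.2).symm

theorem cyclic_moved_fixed_bot {q : ℕ} [Fact q.Prime] {Q T : Subgroup G} (hQq : IsPGroup q Q) (hQc : IsCyclic Q)
    (hTQ : T ≤ normalizer (Q : Set G)) (hcop : (Nat.card Q).Coprime (Nat.card T))
    (hmove : ¬ T ≤ centralizer (Q : Set G)) : Q ⊓ centralizer (T : Set G) = ⊥ := by
  haveI := hQc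
  haveI : IsMulCommutative Q := inferInstance
  have hUQ : ⁅Q, T⁆ ≤ Q := commutator_le_of_normalizes hTQ
  have hU0 : ⁅Q, T⁆ ≠ ⊥ := fun e =>
    hmove (Subgroup.le_centralizer_iff.mp (Subgroup.commutator_eq_bot_iff_le_centralizer.mp e))
  by_contra hne
  obtain ⟨X, hX, hXc⟩ := exists_sub_card (hQq.to_le inf_le_left) hne
  obtain ⟨Z, hZ, hZc⟩ := exists_sub_card (hQq.to_le hUQ) hU0
  have e : X = Z := by
    rw [← Subgroup.map_subgroupOf_eq_of_le (hX.trans inf_le_left), ← Subgroup.map_subgroupOf_eq_of_le (hZ.trans hUQ)]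
    congr 1
    exact CfsgLib.PowerGraph.subgroup_eq_of_card (by
      rw [Nat.card_congr (Subgroup.subgroupOfEquivOfLe (hX.trans inf_le_left)).toEquiv,
        Nat.card_congr (Subgroup.subgroupOfEquivOfLe (hZ.trans hUQ)).toEquiv, hXc, hZc])
  refine ne_bot_of_card hXc (le_bot_iff.mp ?_)
  rw [← CfsgLib.SmallFixed.commutator_fixed_bot hTQ hcop]
  exact le_inf (e ▸ hZ) (hX.trans inf_le_right)

/-- `[Q, W]` centralises `T` when the elements of order `p` of `T` fixed by `W` lie in the central `P`. -/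
theorem commutator_centralizes {p q t : ℕ} [Fact p.Prime] [Fact q.Prime] [Fact t.Prime] (hp2 : p ≠ 2)
    (hqp : q ≠ p) (hqt : q ≠ t) (htp : t ≠ p) {P W Q T : Subgroup G} (hP : Nat.card P = p)
    (hTp : IsPGroup p T) (hTP : T ≤ centralizer (P : Set G)) (hW : Nat.card W = t)
    (hWP : W ≤ centralizer (P : Set G)) (hQq : IsPGroup q Q) [IsMulCommutative Q]
    (hQP : Q ≤ centralizer (P : Set G)) (hWQ : W ≤ normalizer (Q : Set G)) (hWT : W ≤ normalizer (T : Set G))
    (hQT : Q ≤ normalizer (T : Set G))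
    (hfix : ∀ d ∈ T, d ^ p = 1 → d ∈ centralizer (W : Set G) → d ∈ P) :
    ⁅Q, W⁆ ≤ centralizer (T : Set G) := by
  haveI : IsCyclic W := isCyclic_of_prime_card hW
  obtain ⟨⟨w, hwW⟩, hwgen⟩ := IsCyclic.exists_generator (α := W)
  have hWw : zpowers w = W := le_antisymm (Subgroup.zpowers_le.mpr hwW) fun z hz => by
    obtain ⟨i, hi⟩ := Subgroup.mem_zpowers_iff.mp (hwgen ⟨z, hz⟩)
    exact Subgroup.mem_zpowers_iff.mpr ⟨i, congrArg Subtype.val hi⟩
  have hwo : orderOf w = t := by rw [← Nat.card_zpowers, hWw, hW]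
  have hcentW : ∀ {z : G}, Commute w z → z ∈ centralizer (W : Set G) := fun {z} hz => by
    rw [← hWw, ← SetLike.mem_coe]
    intro x hx
    obtain ⟨i, rfl⟩ := Subgroup.mem_zpowers_iff.mp hx
    exact (hz.zpow_left i).eq
  set U := ⁅Q, W⁆ with hU
  have hUQ : U ≤ Q := commutator_le_of_normalizes hWQ
  have hUq : IsPGroup q U := hQq.to_le hUQ
  have hWU : W ≤ normalizer (U : Set G) := le_normalizer_commutator hWQ
  have hUW : U ⊓ centralizer (W : Set G) = ⊥ := CfsgLib.SmallFixed.commutator_fixed_bot hWQ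
    (coprime_pGroups Fact.out Fact.out hqt hQq (IsPGroup.of_card (n := 1) (by rw [hW, pow_one])))
  have hPp : IsPGroup p P := IsPGroup.of_card (n := 1) (by rw [hP, pow_one])
  obtain ⟨D, hDch, hDe, -, hDdet⟩ := CfsgLib.NarrowDerived.exists_omega_critical hp2 hTp
  set D' := D.map T.subtype with hD'
  have hD'T : D' ≤ T := Subgroup.map_subtype_le _
  have hD'e : ∀ d ∈ D', d ^ p = 1 := by
    rintro _ ⟨d, hd, rfl⟩
    rw [← map_pow, hDe d hd, map_one]
  have hNT : ∀ {g : G}, g ∈ normalizer (T : Set G) → g ∈ normalizer (D' : Set G) := fun {g} hg =>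
    mem_normalizer_of_conj_smul (by
      refine Subgroup.eq_of_le_of_card_ge ?_ (CfsgLib.card_conj_smul g D').ge
      rintro _ ⟨_, ⟨d, hd, rfl⟩, rfl⟩
      exact ⟨T.normalizerMonoidHom ⟨g, hg⟩ d,
        (Subgroup.characteristic_iff_map_le.mp hDch) _ ⟨d, hd, rfl⟩, rfl⟩)
  set C := centralizer (P : Set G) with hC
  have hPC : P ≤ C := by
    haveI : IsCyclic P := isCyclic_of_prime_card hP
    exact Subgroup.le_centralizer P
  haveI hZn : (P.subgroupOf C).Normal := (Subgroup.normal_subgroupOf_iff_le_normalizer hPC).mpr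
    (Subgroup.centralizer_le_normalizer _)
  set π := QuotientGroup.mk' (P.subgroupOf C) with hπ
  have hker : ∀ {z : C}, π z = 1 → (z : G) ∈ P := fun {z} hz =>
    Subgroup.mem_subgroupOf.mp ((QuotientGroup.eq_one_iff z).mp hz)
  have hUC : U ≤ C := hUQ.trans hQP
  have hDC : D' ≤ C := hD'T.trans hTP
  set x := π ⟨w, hWP hwW⟩ with hx
  have hwP : w ∉ P := fun h => htp ((Nat.prime_dvd_prime_iff_eq Fact.out Fact.out).mp
    (hwo ▸ hP ▸ Subgroup.orderOf_dvd_natCard P h))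
  have hxo : orderOf x = t := orderOf_eq_prime
    (by rw [hx, ← map_pow, show (⟨w, hWP hwW⟩ : C) ^ t = 1 from Subtype.ext (hwo ▸ pow_orderOf_eq_one w), map_one])
    fun e => hwP (hker e)
  set Ub := (U.subgroupOf C).map π with hUb
  set Db := (D'.subgroupOf C).map π with hDb
  have hxUb : x ∈ normalizer (Ub : Set _) := map_subgroupOf_normalizer π (hWU hwW)
  have hxDb : x ∈ normalizer (Db : Set _) := map_subgroupOf_normalizer π (hNT (hWT hwW))
  have hUDb : Ub ≤ normalizer (Db : Set _) := by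
    rintro _ ⟨u, hu, rfl⟩
    exact map_subgroupOf_normalizer π (hNT (hQT (hUQ hu)))
  have hUbfix : Ub ⊓ centralizer ({x} : Set _) = ⊥ := by
    rw [eq_bot_iff]
    rintro _ ⟨⟨u, hu, rfl⟩, huC⟩
    have h1 : π (⟨w, hWP hwW⟩ * u * ⟨w, hWP hwW⟩⁻¹ * u⁻¹) = 1 := by
      have := Subgroup.mem_centralizer_singleton_iff.mp huC
      rw [map_mul, map_mul, map_mul, map_inv, map_inv, ← hx, ← this, mul_inv_cancel_right, mul_inv_cancel]
    have h2 : w * (u : G) * w⁻¹ * (u : G)⁻¹ ∈ P := hker h1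
    have h3 : w * (u : G) * w⁻¹ * (u : G)⁻¹ ∈ U :=
      U.mul_mem ((Subgroup.mem_normalizer_iff.mp (hWU hwW) _).mp hu) (inv_mem hu)
    have h4 : w * (u : G) * w⁻¹ * (u : G)⁻¹ = 1 := Subgroup.disjoint_def.mp
      (Subgroup.disjoint_of_coprime_natCard (coprime_pGroups Fact.out Fact.out hqp hUq hPp)) h3 h2
    rw [mul_inv_eq_one, mul_inv_eq_iff_eq_mul] at h4
    have h5 : (u : G) ∈ U ⊓ centralizer (W : Set G) := ⟨hu, hcentW h4⟩
    rw [hUW, Subgroup.mem_bot] at h5
    rw [Subgroup.mem_bot, show u = 1 from Subtype.ext h5, map_one]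
  have hDbfix : Db ⊓ centralizer ({x} : Set _) = ⊥ := by
    rw [eq_bot_iff]
    rintro _ ⟨⟨d, hd, rfl⟩, hdC⟩
    have h1 : π (⟨w, hWP hwW⟩ * d * ⟨w, hWP hwW⟩⁻¹ * d⁻¹) = 1 := by
      have := Subgroup.mem_centralizer_singleton_iff.mp hdC
      rw [map_mul, map_mul, map_mul, map_inv, map_inv, ← hx, ← this, mul_inv_cancel_right, mul_inv_cancel]
    set z := w * (d : G) * w⁻¹ * (d : G)⁻¹ with hz
    have hzP : z ∈ P := hker h1
    have hwz : Commute w z := ((hWP hwW) z hzP).symm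
    have hz1 : z = 1 := eq_one_of_fixed_mod (d := (d : G)) (by rw [hz]; group) hwz (by
      refine Nat.Coprime.coprime_dvd_left (hP ▸ Subgroup.orderOf_dvd_natCard P hzP) ?_
      rw [hwo]
      exact (Nat.coprime_primes Fact.out Fact.out).mpr htp.symm)
    rw [hz, mul_inv_eq_one, mul_inv_eq_iff_eq_mul] at hz1
    exact Subgroup.mem_bot.mpr ((QuotientGroup.eq_one_iff d).mpr (Subgroup.mem_subgroupOf.mpr
      (hfix d (hD'T hd) (hD'e d hd) (hcentW hz1))))
  have hcopb : (Nat.card Ub).Coprime (Nat.card Db) := coprime_pGroups Fact.out Fact.out hqp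
    ((hUq.comap_subtype (K := C)).map π) (((hTp.to_le hD'T).comap_subtype (K := C)).map π)
  have hcent := centralizes_of_fpf (p := t) hxo hxUb hxDb hUDb hcopb hUbfix hDbfix
  have hUD : ∀ u ∈ U, ∀ d ∈ D', u * d = d * u := by
    intro u hu d hd
    set z := u * d * u⁻¹ * d⁻¹ with hz
    have h1 : π (⟨u, hUC hu⟩ * ⟨d, hDC hd⟩ * ⟨u, hUC hu⟩⁻¹ * ⟨d, hDC hd⟩⁻¹) = 1 := by
      have := hcent (Subgroup.mem_map_of_mem π (show (⟨u, hUC hu⟩ : C) ∈ U.subgroupOf C from hu)) _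
        (Subgroup.mem_map_of_mem π (show (⟨d, hDC hd⟩ : C) ∈ D'.subgroupOf C from hd))
      rw [map_mul, map_mul, map_mul, map_inv, map_inv, ← this, mul_inv_cancel_right, mul_inv_cancel]
    have hzP : z ∈ P := hker h1
    have huz : Commute u z := ((hUC hu) z hzP).symm
    have hz1 : z = 1 := eq_one_of_fixed_mod (d := d) (by rw [hz]; group) huz (by
      refine Nat.Coprime.coprime_dvd_left (hP ▸ Subgroup.orderOf_dvd_natCard P hzP) ?_
      exact Nat.Coprime.coprime_dvd_right (Subgroup.orderOf_dvd_natCard U hu)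
        (coprime_pGroup Fact.out Fact.out hqp hUq).symm)
    rw [hz, mul_inv_eq_one, mul_inv_eq_iff_eq_mul] at hz1
    exact hz1
  intro u hu y hy
  set α := T.normalizerMonoidHom ⟨u, hQT (hUQ hu)⟩ with hα
  have hα1 : α = 1 := by
    refine hDdet α ?_ fun d hd => Subtype.ext ?_
    · refine Nat.Coprime.coprime_dvd_left ((orderOf_map_dvd T.normalizerMonoidHom _).trans ?_)
        (coprime_pGroup Fact.out Fact.out hqp hUq)
      rw [Subgroup.orderOf_mk]
      exact Subgroup.orderOf_dvd_natCard _ hu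
    · show u * (d : G) * u⁻¹ = d
      rw [hUD u hu d ⟨d, hd, rfl⟩, mul_inv_cancel_right]
  have h1 : u * y * u⁻¹ = y := by
    have := congrArg (fun f : MulAut T => ((f ⟨y, hy⟩ : T) : G)) hα1
    exact this
  rw [mul_inv_eq_iff_eq_mul] at h1
  exact h1.symm

section Main

variable (hG : IsMinSimpleOddOrder G) {M : Subgroup G} (hM : IsCoatom M)

include hG hM

theorem rank_one_fixed {t : ℕ} [Fact t.Prime] (ht : t ∉ sigma M) (htτ : t ∉ tau2 M) {W : Subgroup G}
    (hW : Nat.card W = t) (hWM : W ≤ M) : RankLE 1 ↥(alphaCore M ⊓ centralizer (W : Set G)) := by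
  by_contra hr
  have hWt : IsPGroup t W := IsPGroup.of_card (n := 1) (by rw [hW, pow_one])
  have hU := centralizer_uniq hG hM hWM (fun q hq hd => by
    rw [card_dvd_of_pgroup hWt hq hd]
    exact fun h => ht (alpha_subset_sigma hG hM h)) hr
  obtain ⟨L, hL, hNL⟩ := exists_coatom_ge (normalizer_ne_top hG (ne_bot_of_card hW) (pgroup_ne_top hG hWt))
  have e : L = M := uniq_eq hU hL (inf_le_right.trans ((Subgroup.centralizer_le_normalizer _).trans hNL))
    hM inf_le_left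
  obtain ⟨hr2, hr1⟩ := (order_p_normalizer_le hG hM ht hW (e ▸ hNL)).1
  exact htτ ⟨Fact.out, ht, hr2, hr1⟩

/-- An invariant Sylow subgroup of `M_α` above `P` centralised by `[Q, W]`. -/
theorem cent_sylow {p q t : ℕ} [Fact p.Prime] [Fact q.Prime] [Fact t.Prime] (hpM : p ∈ alpha M)
    (hqM : q ∉ alpha M) (htM : t ∉ alpha M) (hqt : q ≠ t) {P W Q : Subgroup G} (hP : Nat.card P = p)
    (hPM : P ≤ M) (hW : Nat.card W = t) (hWM : W ≤ M) (hWP : W ≤ centralizer (P : Set G))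
    (hrk : RankLE 1 ↥(alphaCore M ⊓ centralizer (W : Set G))) (hQq : IsPGroup q Q) [IsMulCommutative Q]
    (hQM : Q ≤ M) (hQP : Q ≤ centralizer (P : Set G)) (hWQ : W ≤ normalizer (Q : Set G)) :
    ∃ S : Subgroup G, IsPiHallOf ({p} : Set ℕ) S (alphaCore M) ∧ P ≤ S ∧ S ≤ M ∧ Q ≤ normalizer (S : Set G) ∧
      ⁅Q, W⁆ ≤ centralizer (S : Set G) ∧ IsPGroup p S ∧ ¬ PRankLE p 2 S := by
  have hpp : p.Prime := Fact.out
  obtain ⟨hHall, -⟩ := isPiHall_core hG hM subset_rfl (alpha_subset_sigma hG hM)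
  change IsPiHallOf (alpha M) (alphaCore M) M at hHall
  set K := alphaCore M with hK
  have hMK : M ≤ normalizer (K : Set G) := le_normalizer_piCoreOf_self _ M
  have hPp : IsPGroup p P := IsPGroup.of_card (n := 1) (by rw [hP, pow_one])
  have hWt : IsPGroup t W := IsPGroup.of_card (n := 1) (by rw [hW, pow_one])
  have hPK : P ≤ K := le_normal_hall (solvable_of_ne_top hG hM.1) hHall hMK hPM
    fun r hr hd => by rw [card_dvd_of_pgroup hPp hr hd]; exact hpM
  set A := Q ⊔ W with hA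
  have hAM : A ≤ M := sup_le hQM hWM
  have hAP : A ≤ centralizer (P : Set G) := sup_le hQP hWP
  have hcop : (Nat.card A).Coprime (Nat.card K) := Nat.coprime_of_dvd fun r hr h1 h2 => by
    rcases hr.dvd_mul.mp (h1.trans (CfsgLib.Signalizer.card_sup_dvd hWQ)) with h | h
    · rw [card_dvd_of_pgroup hWt hr h] at h2; exact htM (hHall.2.1 t Fact.out h2)
    · rw [card_dvd_of_pgroup hQq hr h] at h2; exact hqM (hHall.2.1 q Fact.out h2)
  obtain ⟨S, hS, hAS, hPS⟩ := CfsgLib.le_invariant_hall (π := ({p} : Set ℕ)) (hAM.trans hMK) hcop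
    (solvable_of_le hHall.1 (solvable_of_ne_top hG hM.1)) hPK (hAP.trans (Subgroup.centralizer_le_normalizer _))
    fun r hr hd => card_dvd_of_pgroup hPp hr hd
  have hSp : IsPGroup p S := isPGroup_of_inv (B := (⊥ : Subgroup G)) (H := ⊤) ⟨le_top, hS.2.1, bot_le⟩
  have hSM : S ≤ M := hS.1.trans hHall.1
  have hSi : ¬ p ∣ S.relIndex M := by
    intro hd
    rw [← Subgroup.relIndex_mul_relIndex S K M hS.1 hHall.1] at hd
    exact (hpp.dvd_mul.mp hd).elim (hS.2.2 p hpp rfl) (hHall.2.2 p hpp hpM)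
  refine ⟨S, hS, hPS, hSM, le_sup_left.trans hAS, ?_, hSp, fun h => hpM.2 (pRankLE_of_sylow_rel hSM hSp hSi h)⟩
  have hp2 : p ≠ 2 := p_ne_two hG.1 hPp (ne_bot_of_card hP)
  have htp : t ≠ p := fun e => htM (e ▸ hpM)
  have hqp : q ≠ p := fun e => hqM (e ▸ hpM)
  set T := S ⊓ centralizer (P : Set G) with hT
  have hAT : A ≤ normalizer (T : Set G) := fun a ha => mem_normalizer_of_conj_smul (by
    rw [hT, Subgroup.smul_inf, conj_smul_eq_of_mem_normalizer (hAS ha),
      conj_smul_eq_of_mem_normalizer (CfsgLib.CharP.normalizer_le_normalizer_centralizer _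
        (Subgroup.centralizer_le_normalizer _ (hAP ha)))])
  have hfix : ∀ d ∈ T, d ^ p = 1 → d ∈ centralizer (W : Set G) → d ∈ P := by
    intro d hd hde hdW
    by_contra hdP
    have hB := elementary_sup_zpowers (elementary_of_card_prime hP) hde fun e he => hd.2 e he
    have hle : P ⊔ zpowers d ≤ K ⊓ centralizer (W : Set G) :=
      sup_le (le_inf hPK (Subgroup.le_centralizer_iff.mp hWP)) (Subgroup.zpowers_le.mpr ⟨hS.1 hd.1, hdW⟩)
    have h1 := card_le_of_pRankLE (hrk p hpp) hle hB.1 hB.2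
    rw [pow_one] at h1
    have h2 : P = P ⊔ zpowers d := Subgroup.eq_of_le_of_card_ge le_sup_left (by rwa [hP])
    exact hdP (h2.ge (Subgroup.mem_sup_right (Subgroup.mem_zpowers d)))
  have h1 := commutator_centralizes hp2 hqp hqt htp hP (hSp.to_le inf_le_left) inf_le_right hW hWP hQq hQP hWQ
    (le_sup_right.trans hAT) (le_sup_left.trans hAT) hfix
  have hUQ : ⁅Q, W⁆ ≤ Q := commutator_le_of_normalizes hWQ
  refine Cfsg.Agent.S1443.result p hp2 S P ⁅Q, W⁆ hSp hPS (elementary_of_card_prime hP)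
    ((hUQ.trans le_sup_left).trans hAS) (coprime_pGroup hpp Fact.out hqp (hQq.to_le hUQ)) ?_
  intro y hy _ a ha
  exact Subgroup.mem_centralizer_singleton_iff.mpr (h1 ha y hy).symm

omit hM in
theorem tau2_conj {q : ℕ} [Fact q.Prime] {L : Subgroup G} (g : G) (h : q ∈ tau2 L) :
    q ∈ tau2 (MulAut.conj g • L) :=
  ⟨h.1, by rw [sigma_conj]; exact h.2.1, pRankLE_conj g h.2.2.1, fun h1 => h.2.2.2 (pRankLE_of_conj h1)⟩

omit hM in
theorem not_conj_symm {H : Subgroup G} (h : ∀ g : G, H ≠ MulAut.conj g • M) (g : G) :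
    M ≠ MulAut.conj g • H := fun e => h g⁻¹ (by
  rw [e, CfsgLib.conj_smul_mul, inv_mul_cancel, map_one, one_smul])

/-- A subgroup of order `p ∈ τ₁(M)`: the centraliser in `M_σ` is centralised by its centraliser in `E`. -/
theorem tau1_centralizer_le {p r : ℕ} [Fact p.Prime] [Fact r.Prime] (hp : p ∈ tau1 M) (hrM : r ∉ sigma M)
    {P R : Subgroup G} (hP : Nat.card P = p) (hPM : P ≤ M) (hR : Nat.card R = r) (hRM : R ≤ M)
    (hRP : R ≤ centralizer (P : Set G)) :
    sigmaCore M ⊓ centralizer (P : Set G) ≤ centralizer (R : Set G) := by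
  obtain ⟨hpp, hpM, -, hpd, hr1⟩ := hp
  have hPp : IsPGroup p P := IsPGroup.of_card (n := 1) (by rw [hP, pow_one])
  have hRr : IsPGroup r R := IsPGroup.of_card (n := 1) (by rw [hR, pow_one])
  have hMs := solvable_of_ne_top hG hM.1
  set C := sigmaCore M ⊓ centralizer (P : Set G) with hC
  have hCσ : C ≤ sigmaCore M := inf_le_left
  have hRC : R ≤ normalizer (C : Set G) := fun s hs => mem_normalizer_of_conj_smul (by
    rw [hC, Subgroup.smul_inf, conj_smul_eq_of_mem_normalizer (le_normalizer_sigmaCore hG hM hRM hs),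
      conj_smul_eq_of_mem_normalizer (CfsgLib.CharP.normalizer_le_normalizer_centralizer _
        (Subgroup.centralizer_le_normalizer _ (hRP hs)))])
  obtain ⟨H, hH, hNH⟩ := exists_coatom_ge (normalizer_ne_top hG (ne_bot_of_card hP) (pgroup_ne_top hG hPp))
  refine le_centralizer_of_sylows fun q hq => ?_
  haveI := Fact.mk hq
  obtain ⟨Q, hQ, hRQ⟩ := CfsgLib.exists_invariant_hall ({q} : Set ℕ) hRC (coprime_sigmaCore hG hM hrM hRr hCσ)
    (solvable_of_le (hCσ.trans (piCoreOf_le _ _)) hMs)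
  have hQq : IsPGroup q Q := isPGroup_of_inv (B := (⊥ : Subgroup G)) (H := ⊤) ⟨le_top, hQ.2.1, bot_le⟩
  have hQi := hQ.2.2 q hq rfl
  refine ⟨Q, hQ.1, hQi, ?_⟩
  by_contra hmove
  have hmove' : ¬ R ≤ centralizer (Q : Set G) := fun h => hmove (Subgroup.le_centralizer_iff.mp h)
  obtain ⟨hnc, hqM, hqH, hpH⟩ :=
    sigma_of_moved hG hM hpM hr1 (Or.inr hpd) hrM hP hPM hH hNH hRr hRM hRP hQq hQ.1 hQi hRQ hmove'
  have hnc' := not_conj_symm hG hnc
  have hqp : q ≠ p := fun e => hpM (by subst e; exact hqM)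
  have hqr : q ≠ r := fun e => hrM (by subst e; exact hqM)
  have hQP : Q ≤ centralizer (P : Set G) := hQ.1.trans inf_le_right
  have hQM : Q ≤ M := (hQ.1.trans hCσ).trans (piCoreOf_le _ _)
  have hQH : Q ≤ H := (hQP.trans (Subgroup.centralizer_le_normalizer _)).trans hNH
  have hRH : R ≤ H := (hRP.trans (Subgroup.centralizer_le_normalizer _)).trans hNH
  have hPH : P ≤ H := Subgroup.le_normalizer.trans hNH
  have hPσ : P ≤ sigmaCore H := le_sigmaCore hG hH hPH fun r hr hd => by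
    rw [card_dvd_of_pgroup hPp hr hd]; exact hpH
  have hQ1 : Q ≠ ⊥ := fun e => hmove (e ▸ bot_le)
  haveI hQab : IsMulCommutative Q := by
    by_contra h
    exact hnc 1 (by rw [map_one, one_smul]; exact uniq_eq (nonabelian_uniq hG hQq h) hH hQH hM hQM)
  have hne : H ≠ M := fun e => hnc 1 (by rw [map_one, one_smul, e])
  set U := ⁅Q, R⁆ with hU
  have hUQ : U ≤ Q := commutator_le_of_normalizes hRQ
  have hU1 : U ≠ ⊥ := fun e =>
    hmove (Subgroup.commutator_eq_bot_iff_le_centralizer.mp e)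
  have hUd : U ≤ ⁅H, H⁆ := Subgroup.commutator_mono hQH hRH
  have hrH : r ∉ sigma H := fun h => hmove' (centralizes_of_sigma hG hH hqr hqH hQq hQH hRr hRH h hRQ)
  have hqH2 : PRankLE q 2 H := by
    by_contra h
    exact hqH ⟨hq, h⟩
  -- `q` is not in `τ₂(H)`
  have hqτ : q ∉ tau2 H := by
    intro hqτ
    by_cases hQc : IsCyclic Q
    swap
    · obtain ⟨B, hBQ, -, hBe, hB2⟩ := exists_elementary_two (p_ne_two hG.1 hQq hQ1) hQq hQc
      exact sigma_meet_tau2 hG hH hqτ hpd (hBQ.trans hQM) (hBQ.trans hQH) hBe hB2 hPM hP hPσ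
    obtain ⟨X, hXQ, hXc⟩ := exists_sub_card hQq hQ1
    have hXq : IsPGroup q X := hQq.to_le hXQ
    obtain ⟨E, hE, hXE⟩ := exists_complement_ge hG hH (hXQ.trans hQH) fun t ht hd => by
      rw [card_dvd_of_pgroup hXq ht hd]; exact hqτ.2.1
    obtain ⟨B, hBE, hBe, hB2⟩ := exists_elementary_in_complement hG hH hE hqτ
    obtain ⟨⟨-, hsub⟩, -, huniq⟩ := Cfsg.Agent.S1418.result hG H hH E hE q hqτ B ⟨hBE, hBe, hB2⟩
    have hne' : sigmaCore H ⊓ centralizer (X : Set G) ≠ ⊥ := fun e => ne_bot_of_card hP (le_bot_iff.mp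
      (e ▸ le_inf hPσ ((Subgroup.le_centralizer_iff.mp hQP).trans (centralizer_anti hXQ))))
    obtain ⟨-, huniq⟩ := huniq X (hsub X hXE hXc) hXc hne'
    obtain ⟨L, hL, hNL⟩ := exists_coatom_ge (normalizer_ne_top hG (ne_bot_of_card hXc) (pgroup_ne_top hG hXq))
    obtain rfl := huniq L hL ((Subgroup.centralizer_le_normalizer _).trans hNL)
    obtain ⟨Q₁, hQQ₁, hQ₁I, hQ₁q, hQ₁i⟩ := exists_sylow_ge (le_inf hQM hQH) hQq
    obtain ⟨S, hS, -⟩ := sylow_of_relIndex hQ₁I hQ₁q hQ₁i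
    obtain ⟨-, -, hSi⟩ := sigma_overlap hG hM hqM hXq (ne_bot_of_card hXc) (hXQ.trans hQM) hL hne hNL S
      (hS ▸ hXQ.trans hQQ₁)
    rw [hS] at hSi
    obtain ⟨B', E', hBQ₁, hB'e, hB'2, -⟩ := exists_complement_le hG hM hL hqM hqτ (hQ₁I.trans inf_le_left)
      (hQ₁I.trans inf_le_right) hQ₁q hSi
    exact sigma_meet_tau2 hG hL hqτ hpd (hBQ₁.trans (hQ₁I.trans inf_le_left))
      (hBQ₁.trans (hQ₁I.trans inf_le_right)) hB'e hB'2 hPM hP hPσ
  -- `r` is not in `τ₂(H)`
  have hrτ : r ∉ tau2 H := by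
    intro hrτ
    by_cases hqσ : q ∈ sigma H
    · obtain ⟨g, hg⟩ := sigma_disjoint hG hH hM (tau2_nilpotent hG hH hrτ) hqσ hqM
      exact hnc' g hg
    obtain ⟨E, hE, hUE⟩ := exists_complement_ge hG hH (sup_le hQH hRH) fun t ht hd => by
      rcases ht.dvd_mul.mp (hd.trans (CfsgLib.Signalizer.card_sup_dvd hRQ)) with h | h
      · rw [card_dvd_of_pgroup hRr ht h]; exact hrH
      · rw [card_dvd_of_pgroup hQq ht h]; exact hqσ
    obtain ⟨B, hBE, hBe, hB2⟩ := exists_elementary_in_complement hG hH hE hrτ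
    obtain ⟨⟨hEB, hsub⟩, -⟩ := Cfsg.Agent.S1418.result hG H hH E hE r hrτ B ⟨hBE, hBe, hB2⟩
    refine hmove' (centralizes_of_normal_core hEB (le_sup_left.trans hUE)
      (hsub R (le_sup_right.trans hUE) hR) hQq hRQ fun hd => hqr ?_)
    exact card_dvd_of_pgroup (isPGroup_of_exp hBe.2) hq hd
  -- `p ∈ α(H)`
  have hpα : p ∈ alpha H := by
    by_contra hpα
    obtain ⟨Y, hUY, hYd, hYq, hYi⟩ := exists_sylow_ge hUd (hQq.to_le hUQ)
    have hY1 : Y ≠ ⊥ := fun e => hU1 (le_bot_iff.mp (e ▸ hUY))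
    obtain ⟨g, hg⟩ := sigma_conj_into hG hM hY1 fun t ht hd => by
      rw [card_dvd_of_pgroup hYq ht hd]; exact hqM
    set M₁ := MulAut.conj g⁻¹ • M with hM₁
    have hM₁c := conj_isCoatom hM g⁻¹
    rw [← hM₁] at hM₁c
    have hYM₁ : Y ≤ M₁ := by
      have := conj_smul_mono (hg.trans (piCoreOf_le _ _)) g⁻¹
      rwa [CfsgLib.conj_smul_mul, inv_mul_cancel, map_one, one_smul] at this
    have hqM₁ : q ∈ sigma M₁ := by rw [hM₁, sigma_conj]; exact hqM
    have hpM₁ : ¬ p ∣ Nat.card ↥⁅M₁, M₁⁆ := by rwa [hM₁, card_derived_conj]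
    obtain ⟨O, hOH, hHO, hOπ, hfac⟩ := frattini_core hG hH hYd hYq hYi
    have hpO : ¬ p ∣ Nat.card O := fun h => (hOπ p hpp h).elim hpα fun h => hqp (Set.mem_singleton_iff.mp h).symm
    have key : ∀ K : Subgroup G, normalizer (Y : Set G) ≤ K → ¬ p ∣ Nat.card ↥⁅K, K⁆ → False := by
      intro K hNK hpK
      refine not_dvd_derived hHO hOH inf_le_left hfac hpO (fun hd => hpK (hd.trans (Subgroup.card_dvd_of_le
        (Subgroup.commutator_mono (inf_le_right.trans hNK) (inf_le_right.trans hNK))))) ?_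
      exact hP ▸ Subgroup.card_dvd_of_le (sigma_le_derived hG hH hPH fun t ht hd => by
        rw [card_dvd_of_pgroup hPp ht hd]; exact hpH)
    by_cases hYc : IsCyclic Y
    swap
    · exact key M₁ (normalizer_noncyclic_sigma_le hG hM₁c hqM₁ hYq hYM₁ hYc) hpM₁
    obtain ⟨X, hXY, hXc⟩ := exists_sub_card hYq hY1
    have hXq : IsPGroup q X := hYq.to_le hXY
    have hNYX := normalizer_le_of_cyclic hYc hXY
    obtain ⟨L, hL, hNL⟩ := exists_coatom_ge (normalizer_ne_top hG (ne_bot_of_card hXc) (pgroup_ne_top hG hXq))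
    by_cases hLM : L = M₁
    · exact key M₁ (hNYX.trans (hLM ▸ hNL)) hpM₁
    refine key L (hNYX.trans hNL) ?_
    obtain ⟨S, hYS, hSI, hSq, hSi⟩ := exists_sylow_ge (le_inf hYM₁ ((Subgroup.le_normalizer.trans hNYX).trans hNL)) hYq
    obtain ⟨S', hS', -⟩ := sylow_of_relIndex hSI hSq hSi
    obtain ⟨hncL, hNS, hSiL⟩ := sigma_overlap hG hM₁c hqM₁ hXq (ne_bot_of_card hXc) (hXY.trans hYM₁) hL hLM hNL S'
      (hS' ▸ hXY.trans hYS)
    rw [hS'] at hNS hSiL
    have hqL : q ∉ alpha L := fun h => by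
      obtain ⟨x, hx⟩ := sigma_alpha_conj hG hM₁c hL hqM₁ h
      exact hncL x hx
    have hpL : p ∉ alpha L := fun h => by
      obtain ⟨T, hTH, hTp, hTi, -⟩ := exists_sigma_sylow hpH
      refine h.2 (pRankLE_of_sylow hTp hTi (pRankLE_mono hTH ?_) L)
      by_contra hh
      exact hpα ⟨hpp, hh⟩
    by_cases hqσ : q ∈ sigma L
    · have hSd : S ≤ ⁅L, L⁆ := sylow_le_derived hG hL (hSI.trans inf_le_right) hSq
        (not_dvd_index_of_sigma hG hL hqσ (hSI.trans inf_le_right) hSiL)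
        (normalizer_sigma_sylow_le hG hL hqσ (hSI.trans inf_le_right) hSq
          (not_dvd_index_of_sigma hG hL hqσ (hSI.trans inf_le_right) hSiL))
      obtain ⟨O', hO'L, hLO', hO'π, hfac'⟩ := frattini_core hG hL hSd hSq fun h =>
        hSiL (h.trans (Dvd.intro _ (Subgroup.relIndex_mul_relIndex S _ L hSd (Subgroup.commutator_le_self L))))
      refine not_dvd_derived hLO' hO'L inf_le_left hfac'
        (fun h => (hO'π p hpp h).elim hpL fun h => hqp (Set.mem_singleton_iff.mp h).symm) fun hd => hpM₁ ?_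
      exact hd.trans (Subgroup.card_dvd_of_le (Subgroup.commutator_mono (inf_le_right.trans hNS) (inf_le_right.trans hNS)))
    obtain ⟨hr2, hnr1⟩ := (order_p_normalizer_le hG hL hqσ hXc hNL).1
    have hqτL : q ∈ tau2 L := ⟨hq, hqσ, hr2, hnr1⟩
    obtain ⟨B, E, -, -, -, hE, hEM⟩ := exists_complement_le hG hM₁c hL hqM₁ hqτL (hSI.trans inf_le_left)
      (hSI.trans inf_le_right) hSq hSiL
    by_cases hpσ : p ∈ sigma L
    · obtain ⟨x, hx⟩ := sigma_disjoint hG hL hH (tau2_nilpotent hG hL hqτL) hpσ hpH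
      exact absurd (hx ▸ tau2_conj hG x hqτL) hqτ
    refine not_dvd_derived (le_normalizer_sigmaCore hG hL le_rfl) (piCoreOf_le _ _) hE.1
      (fun m hm => ?_) (fun h => hpσ ((sigmaCore_hall hG hL).1.2.1 p hpp h))
      fun hd => hpM₁ (hd.trans (Subgroup.card_dvd_of_le (Subgroup.commutator_mono hEM hEM)))
    obtain ⟨a, ha, b, hb, rfl⟩ := hE.2.2.2 m hm
    exact mul_mem (Subgroup.mem_sup_right ha) (Subgroup.mem_sup_left hb)
  -- an invariant Sylow subgroup centralised by `U`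
  obtain ⟨S, hS, hPS, hSH, hQS, hUS, hSp, hS3⟩ := cent_sylow hG hH hpα hqH
    (fun h => hrH (alpha_subset_sigma hG hH h)) hqr hP hPH hR hRH hRP (rank_one_fixed hG hH hrH hrτ hR hRH) hQq
    hQH hQP hRQ
  rw [← hU] at hUS
  have hr12 : PRankLE p 2 M := fun B hB he =>
    (hr1 B hB he).trans (Nat.pow_le_pow_right hpp.pos one_le_two)
  have hnoncyc : ∀ (V T : Subgroup G), ¬ PRankLE p 2 T → V ≤ Q → V ≤ centralizer (T : Set G) → IsCyclic V := by
    intro V T hT3 hVQ hVT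
    by_contra hVc
    obtain ⟨B, hBV, -, hBe, hB2⟩ := exists_elementary_two (p_ne_two hG.1 hQq hQ1) (hQq.to_le hVQ) hVc
    exact hT3 (pRankLE_mono ((Subgroup.le_centralizer_iff.mp (hBV.trans hVT)).trans
      (centralizer_two_le hG hM ((hBV.trans hVQ).trans hQM) hBe hB2)) hr12)
  haveI hUc : IsCyclic U := hnoncyc U S hS3 hUQ hUS
  obtain ⟨X, hXU, hXc⟩ := exists_sub_card (hQq.to_le hUQ) hU1
  have hXq : IsPGroup q X := hQq.to_le (hXU.trans hUQ)
  have hXQ := hXU.trans hUQ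
  have hNX : normalizer (X : Set G) ≤ H := by
    obtain ⟨L, hL, hNL⟩ := exists_coatom_ge (normalizer_ne_top hG (ne_bot_of_card hXc) (pgroup_ne_top hG hXq))
    have hSL : S ≤ L := ((Subgroup.le_centralizer_iff.mp (hXU.trans hUS)).trans
      (Subgroup.centralizer_le_normalizer _)).trans hNL
    rwa [← uniq_eq (uniq_of_rank_three hG hSp hS3) hL hSL hH hSH]
  have hqσ : q ∈ sigma H := by
    by_contra hqσ
    obtain ⟨h2, h1⟩ := (order_p_normalizer_le hG hH hqσ hXc hNX).1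
    exact hqτ ⟨hq, hqσ, h2, h1⟩
  have hτM : ∀ t, t ∉ tau2 M := fun t ht => by
    obtain ⟨g, hg⟩ := sigma_disjoint hG hM hH (tau2_nilpotent hG hM ht) hqM hqσ
    exact hnc g hg
  have hτH : ∀ t, t ∉ tau2 H := fun t ht => by
    obtain ⟨g, hg⟩ := sigma_disjoint hG hH hM (tau2_nilpotent hG hH ht) hqσ hqM
    exact hnc' g hg
  -- `Q` is a Sylow subgroup of `G` and `N(Q) ≤ M ∩ H`
  obtain ⟨Q₁, hQQ₁, hQ₁I, hQ₁q, hQ₁i⟩ := exists_sylow_ge (le_inf hQM hQH) hQq
  have hQ₁ : Q₁ = Q := sylow_of_meet hG hM hH hqM hqH hpd hpα hP hPM hPH hQ.1 hQi hQQ₁ hQ₁I hQ₁q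
  obtain ⟨Q', hQ', -⟩ := sylow_of_relIndex hQ₁I hQ₁q hQ₁i
  obtain ⟨-, hNM, hQiH⟩ := sigma_overlap hG hM hqM hXq (ne_bot_of_card hXc) (hXQ.trans hQM) hH hne hNX Q'
    (hQ' ▸ hXQ.trans hQQ₁)
  rw [hQ', hQ₁] at hNM hQiH
  have hQiG := not_dvd_index_of_sigma hG hH hqσ hQH hQiH
  have hNH' := normalizer_sigma_sylow_le hG hH hqσ hQH hQq hQiG
  set N := normalizer (Q : Set G) with hN
  have hQN : Q ≤ N := Subgroup.le_normalizer
  have hQd : Q ≤ ⁅N, N⁆ := le_derived_normalizer hG (hQq.toSylow hQiG)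
  have hqN : ∀ T : Subgroup G, IsPGroup q T → T ≤ N → T ≤ Q := fun T hT hTN => by
    have h := eq_of_sylow (X := (⊤ : Subgroup G)) (R := Q) (T := Q ⊔ T) (by rwa [Subgroup.relIndex_top_right])
      le_sup_left le_top (IsPGroup.to_sup_of_normal_left' hQq hT hTN)
    exact h ▸ le_sup_right
  have hNQ : ⁅N, N⁆ ≤ centralizer (Q : Set G) := by
    refine le_centralizer_of_sylows fun t ht => ?_
    haveI := Fact.mk ht
    obtain ⟨T, -, hTD, hTt, hTi⟩ := exists_sylow_ge (p := t) (bot_le : (⊥ : Subgroup G) ≤ ⁅N, N⁆) IsPGroup.of_bot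
    refine ⟨T, hTD, hTi, ?_⟩
    have hTN : T ≤ N := hTD.trans (Subgroup.commutator_le_self N)
    by_cases htq : t = q
    · subst htq
      exact (hqN T hTt hTN).trans (Subgroup.le_centralizer Q)
    · exact centralizes_of_derived hG hM (Ne.symm htq) (fun h => by
        obtain ⟨g, hg⟩ := sigma_alpha_conj hG hH hM hqσ h
        exact hnc' g hg) hQq hQM hTt (hTD.trans (Subgroup.commutator_mono hNM hNM)) hTN
  have hcopQR : (Nat.card Q).Coprime (Nat.card R) := coprime_pGroups hq Fact.out hqr hQq hRr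
  have hUR : U ⊓ centralizer (R : Set G) = ⊥ := CfsgLib.SmallFixed.commutator_fixed_bot hRQ hcopQR
  have hQc : ¬ IsCyclic Q := fun hc => by
    have hQU : Q ≤ U := le_of_commutator_le hRQ hcopQR (cyclic_moved_fixed_bot hQq hc hRQ hcopQR hmove') le_rfl
    refine hS3 (pRankLE_mono ?_ hr12)
    exact ((Subgroup.le_centralizer_iff.mp (hQU.trans hUS)).trans (Subgroup.centralizer_le_normalizer _)).trans hNM
  set Y₀ := Q ⊓ centralizer (R : Set G) with hY₀
  have hY₀Q : Y₀ ≤ Q := inf_le_left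
  have hY₀1 : Y₀ ≠ ⊥ := fun e => hQc (by
    have hQU : Q ≤ U := le_of_commutator_le hRQ hcopQR e le_rfl
    rwa [le_antisymm hQU hUQ])
  have hUY₀ : U ⊓ Y₀ = ⊥ := le_bot_iff.mp (hUR ▸ inf_le_inf_left _ inf_le_right)
  have hqM2 : PRankLE q 2 M := by
    by_contra h
    obtain ⟨g, hg⟩ := sigma_alpha_conj hG hH hM hqσ ⟨hq, h⟩
    exact hnc' g hg
  have hY₀c : IsCyclic Y₀ := by
    by_contra hYc
    obtain ⟨B, hBY, -, hBe, hB2⟩ := exists_elementary_two (p_ne_two hG.1 hQq hQ1) (hQq.to_le hY₀Q) hYc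
    have hBX := elementary_line hBe hXc
      (((hBY.trans hY₀Q).trans (Subgroup.le_centralizer Q)).trans (centralizer_anti hXQ))
    have h2 := card_le_of_pRankLE hqM2 (sup_le ((hBY.trans hY₀Q).trans hQM) (hXQ.trans hQM)) hBX.1 hBX.2
    have hlt : B < B ⊔ X := lt_of_le_of_ne le_sup_left fun e => ne_bot_of_card hXc
      (le_bot_iff.mp (hUY₀ ▸ le_inf hXU ((le_sup_right.trans e.ge).trans hBY)))
    have h3 : Nat.card B < Nat.card ↥(B ⊔ X) := Set.Finite.card_lt_card (Set.toFinite _) hlt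
    omega
  have hRN : R ≤ N := hRQ
  have hNY₀ : N ≤ normalizer (Y₀ : Set G) := fun n hn => mem_normalizer_of_conj_smul (by
    refine Subgroup.eq_of_le_of_card_ge ?_ (CfsgLib.card_conj_smul n Y₀).ge
    rintro _ ⟨y, hy, rfl⟩
    show n * y * n⁻¹ ∈ Y₀
    refine ⟨(Subgroup.mem_normalizer_iff.mp hn y).mp hy.1, fun x hx => ?_⟩
    have hc := hNQ (Subgroup.commutator_mem_commutator (inv_mem hn) (hRN hx)) y hy.1
    have hxy : x * y = y * x := hy.2 x hx
    rw [commutatorElement_def, inv_inv] at hc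
    calc x * (n * y * n⁻¹) = n * ((n⁻¹ * x * n * x⁻¹) * (x * y)) * n⁻¹ := by group
      _ = n * (((n⁻¹ * x * n * x⁻¹) * y) * x) * n⁻¹ := by rw [hxy]; group
      _ = n * ((y * (n⁻¹ * x * n * x⁻¹)) * x) * n⁻¹ := by rw [← hc]
      _ = n * y * n⁻¹ * x := by group)
  have hnot : ¬ N ≤ centralizer (Y₀ : Set G) := by
    intro hle
    obtain ⟨X₀, hX₀, hX₀c⟩ := exists_sub_card (hQq.to_le hY₀Q) hY₀1
    refine ne_bot_of_card hX₀c ((Subgroup.eq_bot_iff_forall _).mpr fun y hy => ?_)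
    have hyQ : y ∈ Q := hY₀Q (hX₀ hy)
    haveI : IsMulCommutative (Q.subgroupOf N) := ⟨⟨fun a b => by
      apply Subtype.ext
      apply Subtype.ext
      exact congrArg (fun z : Q => (z : G)) (mul_comm' (⟨_, a.2⟩ : Q) ⟨_, b.2⟩)⟩⟩
    have hyd : (⟨y, hQN hyQ⟩ : N) ∈ commutator N := by
      obtain ⟨z, hz, e⟩ := (Subgroup.map_subtype_commutator N).ge (hQd hyQ)
      have e' : z = ⟨y, hQN hyQ⟩ := Subtype.ext e
      rwa [e'] at hz
    have h1 : (⟨y, hQN hyQ⟩ : N) = 1 := central_derived_trivial (H := Q.subgroupOf N)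
      (fun a => Subtype.ext ((hle a.2) y (hX₀ hy)).symm) hyd (by
        rw [Subgroup.orderOf_mk]
        refine Nat.Coprime.coprime_dvd_left (Subgroup.orderOf_dvd_natCard _ hyQ) ?_
        obtain ⟨k, hk⟩ := hQq.exists_card_eq
        rw [hk]
        exact (hq.coprime_iff_not_dvd.mpr fun hd => hQiG
          (hd.trans (Dvd.intro _ (Subgroup.relIndex_mul_index hQN)))).pow_left k)
    exact congrArg Subtype.val h1
  -- `N = C_N(Q) C_N(P)`
  have hPQ : P ≤ centralizer (Q : Set G) := Subgroup.le_centralizer_iff.mp hQP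
  have hnotP : ¬ N ⊓ centralizer (P : Set G) ≤ centralizer (Y₀ : Set G) := by
    intro hle
    refine hnot fun n hn => ?_
    set CQ := N ⊓ centralizer (Q : Set G) with hCQ
    obtain ⟨Pc, hPPc, hPcC, hPcp, hPci⟩ := exists_sylow_ge
      (le_inf (hPQ.trans (Subgroup.centralizer_le_normalizer _)) hPQ : P ≤ CQ) hPp
    have hcn : MulAut.conj n • Pc ≤ CQ := by
      refine (conj_smul_mono hPcC n).trans (le_of_eq ?_)
      rw [hCQ, Subgroup.smul_inf, smul_eq_self_of_mem hn, conj_smul_eq_of_mem_normalizer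
        (CfsgLib.CharP.normalizer_le_normalizer_centralizer _ hn)]
    obtain ⟨c, hc, hcS⟩ := CfsgLib.pi_le_conj_hall (π := ({p} : Set ℕ))
      (solvable_of_le ((inf_le_left : CQ ≤ N).trans hNM) hMs)
      (⟨hPcC, fun t ht hd => card_dvd_of_pgroup hPcp ht hd, fun t ht htp hd => by
        subst htp; exact hPci hd⟩ : IsPiHallOf ({p} : Set ℕ) Pc CQ)
      hcn fun t ht hd => by rw [CfsgLib.card_conj_smul] at hd; exact card_dvd_of_pgroup hPcp ht hd
    rw [CfsgLib.conj_smul_mul] at hcS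
    have hcl : c * n ∈ normalizer (Pc : Set G) :=
      mem_normalizer_of_conj_smul (Subgroup.eq_of_le_of_card_ge hcS (CfsgLib.card_conj_smul _ Pc).ge)
    have hclN : c * n ∈ N := mul_mem hc.1 hn
    have hclP : c * n ∈ centralizer (P : Set G) := fun x hx => by
      have h1 : ⁅c * n, x⁆ ∈ Pc ⊓ ⁅M, M⁆ := by
        refine ⟨?_, Subgroup.commutator_mem_commutator (hNM hclN) (hPM hx)⟩
        rw [commutatorElement_def]
        exact Pc.mul_mem ((Subgroup.mem_normalizer_iff.mp hcl x).mp (hPPc hx)) (inv_mem (hPPc hx))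
      rw [inf_eq_bot_of_pgroup hPcp hpd, Subgroup.mem_bot, commutatorElement_def, mul_inv_eq_one,
        mul_inv_eq_iff_eq_mul] at h1
      exact h1.symm
    rw [show n = c⁻¹ * (c * n) by group]
    exact mul_mem (inv_mem (centralizer_anti hY₀Q hc.2)) (hle ⟨hclN, hclP⟩)
  obtain ⟨t, ht, T₀, hT₀, hT₀t, hT₀Y⟩ : ∃ t : ℕ, t.Prime ∧ ∃ T : Subgroup G,
      T ≤ N ⊓ centralizer (P : Set G) ∧ IsPGroup t T ∧ ¬ T ≤ centralizer (Y₀ : Set G) := by
    by_contra hall
    push_neg at hall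
    refine hnotP (le_centralizer_of_sylows fun t ht => ?_)
    haveI := Fact.mk ht
    obtain ⟨T, -, hTD, hTt, hTi⟩ := exists_sylow_ge (p := t)
      (bot_le : (⊥ : Subgroup G) ≤ N ⊓ centralizer (P : Set G)) IsPGroup.of_bot
    exact ⟨T, hTD, hTi, hall t ht T hTD hTt⟩
  haveI := Fact.mk ht
  obtain ⟨v, hv, hvY⟩ := SetLike.not_le_iff_exists.mp hT₀Y
  set T := zpowers v with hTv
  have hTT₀ : T ≤ T₀ := Subgroup.zpowers_le.mpr hv
  have hTt : IsPGroup t T := hT₀t.to_le hTT₀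
  have hTN : T ≤ N := (hTT₀.trans hT₀).trans inf_le_left
  have hTP : T ≤ centralizer (P : Set G) := (hTT₀.trans hT₀).trans inf_le_right
  have hTY : ¬ T ≤ centralizer (Y₀ : Set G) := fun h => hvY (h (Subgroup.mem_zpowers v))
  have hqt : q ≠ t := fun e => by
    subst e
    exact hTY (((hqN T hTt hTN).trans (Subgroup.le_centralizer Q)).trans (centralizer_anti hY₀Q))
  have hTM : T ≤ M := hTN.trans hNM
  have hTH : T ≤ H := hTN.trans hNH'
  have htM : t ∉ sigma M := fun h => hTY ((centralizes_of_sigma hG hM hqt (fun h => by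
    obtain ⟨g, hg⟩ := sigma_alpha_conj hG hH hM hqσ h
    exact hnc' g hg) hQq hQM hTt hTM h hTN).trans (centralizer_anti hY₀Q))
  have htH : t ∉ sigma H := fun h =>
    hTY ((centralizes_of_sigma hG hH hqt hqH hQq hQH hTt hTH h hTN).trans (centralizer_anti hY₀Q))
  have htM1 : PRankLE t 1 M := by
    by_contra h
    refine hτM t ⟨ht, htM, ?_, h⟩
    by_contra h2
    exact htM (alpha_subset_sigma hG hM ⟨ht, h2⟩)
  have hT1 : T ≠ ⊥ := fun e => hTY (by rw [e]; exact bot_le)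
  obtain ⟨W, hWT, hW⟩ := exists_sub_card hTt hT1
  have hWN := hWT.trans hTN
  obtain ⟨S', hS', hPS', hS'H, hQS', hUS', hS'p, hS'3⟩ := cent_sylow hG hH hpα hqH
    (fun h => htH (alpha_subset_sigma hG hH h)) hqt hP hPH hW (hWT.trans hTH) (hWT.trans hTP)
    (rank_one_fixed hG hH htH (hτH t) hW (hWT.trans hTH)) hQq hQH hQP hWN
  -- the commutator groups centralise a common invariant Sylow subgroup
  have hcyc : IsCyclic ↥(U ⊔ ⁅Q, W⁆ : Subgroup G) := by
    obtain ⟨hHall, -⟩ := isPiHall_core hG hH subset_rfl (alpha_subset_sigma hG hH)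
    obtain ⟨c, hc, hcS⟩ := CfsgLib.invariant_hall_conj (A := Q) (G := alphaCore H)
      (hQH.trans (le_normalizer_piCoreOf_self _ H))
      (Nat.coprime_of_dvd fun x hx h1 h2 => by
        rw [card_dvd_of_pgroup hQq hx h1] at h2
        exact hqH (hHall.2.1 q hq h2))
      (solvable_of_le hHall.1 (solvable_of_ne_top hG hH.1)) hS hQS hS' hQS'
    refine hnoncyc _ S' hS'3 (sup_le hUQ (commutator_le_of_normalizes hWN)) (sup_le ?_ hUS')
    intro u hu x hx
    rw [← hcS] at hx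
    obtain ⟨s, hs, rfl⟩ := hx
    have h1 : s * u = u * s := hUS hu s hs
    have h2 : Commute u c := hc.2 u (hUQ hu)
    show c * s * c⁻¹ * u = u * (c * s * c⁻¹)
    calc c * s * c⁻¹ * u = c * (s * u) * c⁻¹ := by rw [mul_assoc, ← h2.inv_right.eq]; group
      _ = c * u * s * c⁻¹ := by rw [h1]; group
      _ = u * (c * s * c⁻¹) := by rw [← h2.eq]; group
  by_cases hWY : W ≤ centralizer (Y₀ : Set G)
  swap
  · obtain ⟨X₁, hX₁, hX₁c⟩ := exists_sub_card (Q := (⁅Y₀, W⁆ : Subgroup G))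
      (hQq.to_le ((commutator_le_of_normalizes (hWN.trans hNY₀)).trans hY₀Q))
      (fun e => hWY (Subgroup.le_centralizer_iff.mp (Subgroup.commutator_eq_bot_iff_le_centralizer.mp e)))
    have hX₁Y : X₁ ≤ Y₀ := hX₁.trans (commutator_le_of_normalizes (hWN.trans hNY₀))
    have hX₁U : X₁ ≤ U ⊔ ⁅Q, W⁆ := (hX₁.trans (Subgroup.commutator_mono hY₀Q le_rfl)).trans le_sup_right
    haveI := hcyc
    have hXU' : X ≤ U ⊔ ⁅Q, W⁆ := hXU.trans le_sup_left
    have e : X = X₁ := by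
      rw [← Subgroup.map_subgroupOf_eq_of_le hXU', ← Subgroup.map_subgroupOf_eq_of_le hX₁U]
      congr 1
      exact CfsgLib.PowerGraph.subgroup_eq_of_card (by
        rw [Nat.card_congr (Subgroup.subgroupOfEquivOfLe hXU').toEquiv,
          Nat.card_congr (Subgroup.subgroupOfEquivOfLe hX₁U).toEquiv, hXc, hX₁c])
    exact ne_bot_of_card hXc (le_bot_iff.mp (hUY₀ ▸ le_inf hXU (e ▸ hX₁Y)))
  have hWt : IsPGroup t W := hTt.to_le hWT
  obtain ⟨L, hL, hNWL⟩ := exists_coatom_ge (normalizer_ne_top hG (ne_bot_of_card hW) (pgroup_ne_top hG hWt))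
  have hTL : T ≤ L := by
    haveI : IsCyclic T := Subgroup.isCyclic_zpowers v
    exact (((Subgroup.le_centralizer T).trans (centralizer_anti hWT)).trans
      (Subgroup.centralizer_le_normalizer _)).trans hNWL
  have hYL : Y₀ ≤ L :=
    ((Subgroup.le_centralizer_iff.mp hWY).trans (Subgroup.centralizer_le_normalizer _)).trans hNWL
  have hncL : ∀ g : G, L ≠ MulAut.conj g • M := by
    rintro g rfl
    exact (order_p_normalizer_le hG (conj_isCoatom hM g) (by rwa [sigma_conj]) hW hNWL).1.2 (pRankLE_conj g htM1)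
  have hqL : q ∉ alpha L := fun h => by
    obtain ⟨g, hg⟩ := sigma_alpha_conj hG hM hL hqM h
    exact hncL g hg
  have hY₀q : IsPGroup q Y₀ := hQq.to_le hY₀Q
  have hTY₀ : T ≤ normalizer (Y₀ : Set G) := hTN.trans hNY₀
  have htL : t ∉ sigma L := fun h => hTY (centralizes_of_sigma hG hL hqt hqL hY₀q hYL hTt hTL h hTY₀)
  obtain ⟨h2, h1⟩ := (order_p_normalizer_le hG hL htL hW hNWL).1
  have htτ : t ∈ tau2 L := ⟨ht, htL, h2, h1⟩
  have hqσL : q ∉ sigma L := fun h => by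
    obtain ⟨g, hg⟩ := sigma_disjoint hG hL hM (tau2_nilpotent hG hL htτ) h hqM
    exact hncL g⁻¹ (by rw [hg, CfsgLib.conj_smul_mul, inv_mul_cancel, map_one, one_smul])
  obtain ⟨hfixY, A, hAe, hA2, hAY⟩ :=
    tau2_centralizes_moved hG hL htτ hqσL htL hqt hqt hY₀q hY₀c hTt hYL hTL hTY₀ hTY
  obtain ⟨X₀, hX₀Y, hX₀c⟩ := exists_sub_card hY₀q hY₀1
  have hNYX := normalizer_le_of_cyclic hY₀c hX₀Y
  obtain ⟨L', Q₂, hL', hNL', hncL', -, -, -, -, htL', -⟩ := overlap_data hG hM htM1 hqM hX₀c hX₀Y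
    (hY₀Q.trans hQM) hY₀q (Subgroup.le_normalizer.trans hNYX) hAe hA2 (hAY.trans (centralizer_anti hX₀Y))
  have hqL' : q ∉ alpha L' := fun h => by
    obtain ⟨g, hg⟩ := sigma_alpha_conj hG hM hL' hqM h
    exact hncL' g hg
  have h3 := centralizes_of_sigma hG hL' hqt hqL' (hY₀q.to_le hX₀Y) (Subgroup.le_normalizer.trans hNL') hTt
    ((hTY₀.trans hNYX).trans hNL') htL' (hTY₀.trans hNYX)
  exact ne_bot_of_card hX₀c (le_bot_iff.mp (hfixY ▸ le_inf hX₀Y (Subgroup.le_centralizer_iff.mp h3)))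

end Main

end CfsgLib.MinSimpleOdd
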