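import Cfsg.Agent.Lib.MinSimpleOdd.SigmaDisjoint

/-!
Subgroups of prime order outside `σ(M)` that centralise part of `M_σ` (B–G §13).
-/

set_option autoImplicit false
set_option linter.unusedSectionVars false
set_option linter.style.haveILetI false
set_option maxHeartbeats 1000000

namespace CfsgLib.MinSimpleOdd

open Subgroup Cfsg
open scoped Pointwise commutatorElement IsMulCommutative

universe u
variable {G : Type u} [Group G] [Finite G]

theorem le_centralizer_self_of_prime {q : ℕ} [Fact q.Prime] {X : Subgroup G} (h : Nat.card X = q) :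
    X ≤ centralizer (X : Set G) := by
  haveI := (elementary_of_card_prime h).1
  exact Subgroup.le_centralizer X

theorem pgroup_le_sigmaCore (hG : IsMinSimpleOddOrder G) {M : Subgroup G} (hM : IsCoatom M) {t : ℕ}
    [Fact t.Prime] (ht : t ∈ sigma M) {T : Subgroup G} (hT : IsPGroup t T) (hTM : T ≤ M) : T ≤ sigmaCore M :=
  le_sigmaCore hG hM hTM (pi_of_pgroup hT ht)

theorem normalizer_le_normalizer_centralizer (S : Subgroup G) :
    normalizer (S : Set G) ≤ normalizer (centralizer (S : Set G) : Set G) := by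
  have key : ∀ n ∈ normalizer (S : Set G), ∀ c ∈ centralizer (S : Set G), n * c * n⁻¹ ∈ centralizer (S : Set G) := by
    intro n hn c hc y hy
    have hy' : n⁻¹ * y * n ∈ S := by
      have := (Subgroup.mem_normalizer_iff.mp (inv_mem hn) y).mp hy
      rwa [inv_inv] at this
    calc y * (n * c * n⁻¹) = n * (n⁻¹ * y * n * c) * n⁻¹ := by group
      _ = n * (c * (n⁻¹ * y * n)) * n⁻¹ := by rw [hc _ hy']
      _ = n * c * n⁻¹ * y := by group
  intro n hn
  refine Subgroup.mem_normalizer_iff.mpr fun c => ⟨key n hn c, fun h => ?_⟩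
  have := key n⁻¹ (inv_mem hn) _ h
  simpa [mul_assoc] using this

/-- A maximal subgroup over `C(X)`, `X ≤ M` of order `q`, with `q` in both `σ`, is `M`. -/
theorem eq_of_sigma (hG : IsMinSimpleOddOrder G) {M L : Subgroup G} (hM : IsCoatom M) (hL : IsCoatom L) {q : ℕ}
    [Fact q.Prime] (hqM : q ∈ sigma M) (hqL : q ∈ sigma L) {X : Subgroup G} (hXM : X ≤ M) (hXc : Nat.card X = q)
    (hCL : centralizer (X : Set G) ≤ L) : L = M := by
  obtain ⟨g, hg⟩ := sigma_disjointness hG hM hL hqM hqL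
  obtain ⟨P, hPM, hP, hPi, hPN⟩ := exists_sigma_sylow hqM
  have hXg : MulAut.conj g⁻¹ • X ≤ M := by
    have h := conj_smul_mono ((le_centralizer_self_of_prime hXc).trans hCL) g⁻¹
    rwa [hg, CfsgLib.conj_smul_mul, inv_mul_cancel, map_one, one_smul] at h
  obtain ⟨m, hm, c, hc, he⟩ := conj_eq_mul hG hM hPM hP hPi hPN (isPGroup_of_card hXc) (ne_bot_of_card hXc)
    hXM hXg
  have hL' : L = MulAut.conj c⁻¹ • M := by
    rw [hg, show g = c⁻¹ * m⁻¹ by rw [← mul_inv_rev, ← he, inv_inv], ← CfsgLib.conj_smul_mul,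
      smul_eq_self_of_mem (inv_mem hm)]
  have hcM : c ∈ M := by
    have h2 : c ∈ MulAut.conj c⁻¹ • M := hL' ▸ hCL hc
    rw [CfsgLib.mem_conj_smul_iff] at h2
    simpa using h2
  rw [hL', smul_eq_self_of_mem (inv_mem hcM)]

theorem sigmaCore_inf_bot (hG : IsMinSimpleOddOrder G) {M H : Subgroup G} (hM : IsCoatom M) (hH : IsCoatom H)
    (hn : ∀ g : G, H ≠ MulAut.conj g • M) : sigmaCore M ⊓ sigmaCore H = ⊥ := by
  refine Subgroup.card_eq_one.mp (Nat.eq_one_iff_not_exists_prime_dvd.mpr fun r hr hd => ?_)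
  haveI := Fact.mk hr
  obtain ⟨g, hg⟩ := sigma_disjointness hG hM hH
    ((sigmaCore_hall hG hM).1.2.1 r hr (hd.trans (Subgroup.card_dvd_of_le inf_le_left)))
    ((sigmaCore_hall hG hH).1.2.1 r hr (hd.trans (Subgroup.card_dvd_of_le inf_le_right)))
  exact hn g hg

theorem meet_commute (hG : IsMinSimpleOddOrder G) {M H : Subgroup G} (hM : IsCoatom M) (hH : IsCoatom H)
    (hn : ∀ g : G, H ≠ MulAut.conj g • M) :
    sigmaCore M ⊓ H ≤ centralizer ((sigmaCore H ⊓ M : Subgroup G) : Set G) := by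
  intro a ha b hb
  have h1 : a * b * a⁻¹ ∈ sigmaCore H :=
    (Subgroup.mem_normalizer_iff.mp (le_normalizer_sigmaCore hG hH le_rfl ha.2) b).mp hb.1
  have h2 : b * a⁻¹ * b⁻¹ ∈ sigmaCore M :=
    (Subgroup.mem_normalizer_iff.mp (le_normalizer_sigmaCore hG hM le_rfl hb.2) a⁻¹).mp (inv_mem (show a ∈ sigmaCore M from ha.1))
  have h3 : a * b * a⁻¹ * b⁻¹ ∈ sigmaCore M ⊓ sigmaCore H := by
    refine ⟨?_, (sigmaCore H).mul_mem h1 ((sigmaCore H).inv_mem hb.1)⟩
    have := mul_mem (show a ∈ sigmaCore M from ha.1) h2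
    rwa [show a * b * a⁻¹ * b⁻¹ = a * (b * a⁻¹ * b⁻¹) by group]
  rw [sigmaCore_inf_bot hG hM hH hn, Subgroup.mem_bot, mul_inv_eq_one, mul_inv_eq_iff_eq_mul] at h3
  exact h3.symm

/-- An elementary subgroup of order `t²` cannot centralise `X` together with `W`. -/
theorem no_two (hG : IsMinSimpleOddOrder G) {M : Subgroup G} (hM : IsCoatom M) {t q : ℕ} [Fact t.Prime]
    [Fact q.Prime] (hr1 : PRankLE t 1 M) (hqM : q ∈ sigma M) {W X : Subgroup G} (hW : Nat.card W = t)
    (hWM : W ≤ M) (hWX : W ≤ centralizer (X : Set G)) (hX : Nat.card X = q) (hXM : X ≤ M) {A : Subgroup G}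
    (hA : IsElementaryAbelian t A) (hA2 : Nat.card A = t ^ 2) : ¬ A ≤ centralizer (X : Set G) := fun hAX => by
  obtain ⟨L, Q, hL, hNL, hnc, -, hQ, -, -, htL, h⟩ := overlap_data hG hM hr1 hqM hX (le_refl X) hXM
    (isPGroup_of_card hX) Subgroup.le_normalizer hA hA2 hAX
  have hCL := (Subgroup.centralizer_le_normalizer _).trans hNL
  rcases h with ⟨hqL, -⟩ | ⟨hqL, B, hBQ, hB, hB2⟩
  · exact hnc 1 (by rw [map_one, one_smul]; exact eq_of_sigma hG hM hL hqM hqL hXM hX hCL)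
  · have hLM : M ≠ L := fun e => hnc 1 (by rw [map_one, one_smul, e])
    exact ne_bot_of_card hW (le_bot_iff.mp
      ((sigma_meet_bot hG hL hqL (hBQ.trans (hQ.trans inf_le_right)) hB hB2 hM hLM
        (hBQ.trans (hQ.trans inf_le_left))) ▸
        le_inf (pgroup_le_sigmaCore hG hL htL (isPGroup_of_card hW) (hWX.trans hCL)) hWM))

/-- Inside a maximal subgroup over `N(X)`, primes outside `σ(M)` behave as in `M`. -/
theorem normalizer_data (hG : IsMinSimpleOddOrder G) {M : Subgroup G} (hM : IsCoatom M) {t q : ℕ}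
    [Fact t.Prime] [Fact q.Prime] (hqM : q ∈ sigma M) {X : Subgroup G} (hX : Nat.card X = q) (hXM : X ≤ M)
    {L : Subgroup G} (hL : IsCoatom L) (hNL : normalizer (X : Set G) ≤ L) {W : Subgroup G} (hW : Nat.card W = t)
    (hWL : W ≤ L) (hWM : W ≤ M) :
    (PRankLE t 1 M → PRankLE t 1 L) ∧
      (¬ t ∣ Nat.card ↥(⁅M, M⁆ : Subgroup G) → ¬ t ∣ Nat.card ↥(⁅L, L⁆ : Subgroup G)) := by
  by_cases hLM : L = M
  · subst hLM
    exact ⟨id, id⟩
  have hCL := (Subgroup.centralizer_le_normalizer _).trans hNL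
  have hqL : q ∉ sigma L := fun h => hLM (eq_of_sigma hG hM hL hqM h hXM hX hCL)
  obtain ⟨⟨hq2, hq1⟩, -, -⟩ := order_p_normalizer_le hG hL hqL hX hNL
  have hqτ : q ∈ tau2 L := ⟨Fact.out, hqL, hq2, hq1⟩
  obtain ⟨S', hXS', hS'ML, hS', hS'i⟩ := exists_sylow_ge (p := q) (X := M ⊓ L)
    (le_inf hXM (Subgroup.le_normalizer.trans hNL)) (isPGroup_of_card hX)
  obtain ⟨S, hS, -⟩ := sylow_of_relIndex hS'ML hS' hS'i
  obtain ⟨-, -, hSi⟩ := sigma_overlap hG hM hqM (isPGroup_of_card hX) (ne_bot_of_card hX) hXM hL hLM hNL S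
    (hS.symm ▸ hXS')
  obtain ⟨B, E, hBS, hB, hB2, hE, hEM⟩ := exists_complement_le hG hM hL hqM hqτ (hS'ML.trans inf_le_left)
    (hS'ML.trans inf_le_right) hS' (hS ▸ hSi)
  have hbot : sigmaCore L ⊓ M = ⊥ := sigma_meet_bot hG hL hqτ ((hBS.trans hS'ML).trans inf_le_right) hB hB2 hM
    (fun e => hLM e.symm) ((hBS.trans hS'ML).trans inf_le_left)
  have htL : t ∉ sigma L := fun h => ne_bot_of_card hW (le_bot_iff.mp
    (hbot ▸ le_inf (pgroup_le_sigmaCore hG hL h (isPGroup_of_card hW) hWL) hWM))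
  refine ⟨fun h1 => ?_, fun hd => ?_⟩
  · obtain ⟨T, -, hTE, hT, hTi⟩ := exists_sylow_ge (p := t) (bot_le : (⊥ : Subgroup G) ≤ E) IsPGroup.of_bot
    refine pRankLE_of_sylow_rel (hTE.trans hE.1) hT (fun hdd => ?_) (pRankLE_mono (hTE.trans hEM) h1)
    rw [← Subgroup.relIndex_mul_relIndex T E L hTE hE.1] at hdd
    rcases (Fact.out : t.Prime).dvd_mul.mp hdd with h | h
    · exact hTi h
    · exact (complement_hall hG hL hE).2.2 t Fact.out htL h
  · refine not_dvd_derived (O := sigmaCore L) (N := E) (le_normalizer_sigmaCore hG hL le_rfl) (piCoreOf_le _ _)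
      hE.1 (fun m hm => ?_) (fun h => htL ((sigmaCore_hall hG hL).1.2.1 t Fact.out h)) fun h => ?_
    · obtain ⟨a, ha, b, hb, rfl⟩ := hE.2.2.2 m hm
      exact mul_mem (Subgroup.mem_sup_right ha) (Subgroup.mem_sup_left hb)
    · exact hd (h.trans (Subgroup.card_dvd_of_le (Subgroup.commutator_mono hEM hEM)))

/-- The data attached to a line `W`, of order `t ∉ σ(M)`, commuting with `X ≤ M` of order `q ∈ σ(M)`, and a
maximal subgroup `L` over `N(W)` in which `t` is not in `σ`. -/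
structure LineData (t q : ℕ) (M L E A W X : Subgroup G) : Prop where
  hM : IsCoatom M
  hL : IsCoatom L
  tM : t ∉ sigma M
  tM1 : PRankLE t 1 M
  qM : q ∈ sigma M
  cW : Nat.card W = t
  cX : Nat.card X = q
  WM : W ≤ M
  XM : X ≤ M
  WX : W ≤ centralizer (X : Set G)
  NW : normalizer (W : Set G) ≤ L
  nconj : ∀ g : G, L ≠ MulAut.conj g • M
  tL : t ∈ tau2 L
  qL : q ∈ tau1 L
  hE : IsComplIn E (sigmaCore L) L
  XE : X ≤ E
  AE : A ≤ E
  hA : IsElementaryAbelian t A
  hA2 : Nat.card A = t ^ 2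
  WA : W ≤ A
  meet : A ⊓ centralizer (X : Set G) = W

theorem tau2_line_moved (hG : IsMinSimpleOddOrder G) {M L : Subgroup G} (hM : IsCoatom M) (hL : IsCoatom L)
    {t q : ℕ} [Fact t.Prime] [Fact q.Prime] (htM : t ∉ sigma M) (hr1 : PRankLE t 1 M) (hqM : q ∈ sigma M)
    {W X : Subgroup G} (hW : Nat.card W = t) (hX : Nat.card X = q) (hWM : W ≤ M) (hXM : X ≤ M)
    (hWX : W ≤ centralizer (X : Set G)) (hNL : normalizer (W : Set G) ≤ L) (htL : t ∉ sigma L) :
    ∃ E A : Subgroup G, LineData t q M L E A W X := by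
  obtain ⟨⟨ht2, ht1⟩, -, -⟩ := order_p_normalizer_le hG hL htL hW hNL
  have htτ : t ∈ tau2 L := ⟨Fact.out, htL, ht2, ht1⟩
  have hnc : ∀ g : G, L ≠ MulAut.conj g • M := fun g e => ht1 (e ▸ pRankLE_conj g hr1)
  have hqL : q ∉ sigma L := fun h => by
    obtain ⟨g, hg⟩ := sigma_disjointness hG hM hL hqM h
    exact hnc g hg
  have hXW : X ≤ centralizer (W : Set G) := Subgroup.le_centralizer_iff.mp hWX
  have hXNW : X ≤ normalizer (W : Set G) := hXW.trans (Subgroup.centralizer_le_normalizer _)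
  obtain ⟨E, hE, hWXE⟩ := exists_complement_ge hG hL (U := W ⊔ X)
    (sup_le (Subgroup.le_normalizer.trans hNL) (hXNW.trans hNL)) fun s hs hd => by
      rcases hs.dvd_mul.mp (hd.trans (CfsgLib.Signalizer.card_sup_dvd hXNW)) with h | h
      · exact pi_of_card hX (π := {s | s ∉ sigma L}) hqL s hs h
      · exact pi_of_card hW (π := {s | s ∉ sigma L}) htL s hs h
  have hXE : X ≤ E := le_sup_right.trans hWXE
  have hWE : W ≤ E := le_sup_left.trans hWXE
  obtain ⟨A, hAE, hA, hA2⟩ := exists_elementary_in_complement hG hL hE htτ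
  have hpow : ∀ {s : ℕ} [Fact s.Prime] {Y : Subgroup G}, Nat.card Y = s → ∀ y ∈ Y, s ∈ tau2 L →
      ∀ r : ℕ, r.Prime → r ∣ orderOf y → r ∈ tau2 L := fun {s} _ {Y} hY y hy hs r hr hd => by
    rw [(Nat.prime_dvd_prime_iff_eq hr Fact.out).mp (hY ▸ hd.trans (Subgroup.orderOf_dvd_natCard _ hy))]
    exact hs
  have hWCA : W ≤ centralizer (A : Set G) := fun w hw =>
    tau2_element_centralizes hG hL hE htτ hAE hA hA2 (hWE hw) (hpow hW w hw htτ)
  have hWA : W ≤ A := by
    have he := elementary_line hA hW (Subgroup.le_centralizer_iff.mp hWCA)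
    have h := card_le_of_pRankLE ht2 (sup_le (hAE.trans hE.1) (hWE.trans hE.1)) he.1 he.2
    exact le_sup_right.trans (Subgroup.eq_of_le_of_card_ge (le_sup_left : A ≤ A ⊔ W) (by rwa [hA2])).ge
  have hnAX : ¬ A ≤ centralizer (X : Set G) := no_two hG hM hr1 hqM hW hWM hWX hX hXM hA hA2
  have hq1 : q ∈ tau1 L := by
    have hq2 : q ∉ tau2 L := fun h => hnAX (Subgroup.le_centralizer_iff.mp fun x hx =>
      tau2_element_centralizes hG hL hE htτ hAE hA hA2 (hXE hx) (hpow hX x hx h))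
    refine (tau1_or_tau3 hG hL hqL (rank_one_of_not_sigma hG hL hqL hq2) hX (hXE.trans hE.1)).resolve_right
      fun h => ?_
    obtain ⟨E₃, hXE₃, -, hd, -⟩ := exists_tau3_hall hG hL hE hXE (pi_of_card hX h)
    exact hnAX (Subgroup.le_centralizer_iff.mp ((hXE₃.trans hd).trans (derived_centralizes hG hL hE htτ hAE hA hA2)))
  refine ⟨E, A, ⟨hM, hL, htM, hr1, hqM, hW, hX, hWM, hXM, hWX, hNL, hnc, htτ, hq1, hE, hXE, hAE, hA, hA2, hWA,
    ?_⟩⟩
  have hWle : W ≤ A ⊓ centralizer (X : Set G) := le_inf hWA hWX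
  refine (Subgroup.eq_of_le_of_card_ge hWle ?_).symm
  rw [hW, card_line hA2 inf_le_left (fun e => ne_bot_of_card hW (le_bot_iff.mp (e ▸ hWle)))
    (fun e => hnAX (e ▸ inf_le_right))]

variable {t q : ℕ} [Fact t.Prime] [Fact q.Prime] {M L E A W X : Subgroup G}

/-- The situation over `N(A)`. -/
theorem LineData.moved_sylow (hG : IsMinSimpleOddOrder G) (d : LineData t q M L E A W X) :
    ∃ L₂ S V : Subgroup G, IsCoatom L₂ ∧ t ∈ sigma L₂ ∧ t ∉ beta L₂ ∧ A ≤ S ∧ S ≤ sigmaCore L₂ ∧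
      IsPGroup t S ∧ ¬ t ∣ S.index ∧ X ≤ normalizer (S : Set G) ∧ ¬ S ≤ L ∧
      IsComplIn S V (normalizer (S : Set G)) ∧ V ≤ normalizer (W : Set G) := by
  have hA := d.hA
  have hAL : A ≤ L := d.AE.trans d.hE.1
  obtain ⟨A₀, hexc⟩ := exists_exc hG d.hL d.tL hAL hA d.hA2
  obtain ⟨L₂, hL₂, hNA⟩ := exists_coatom_ge (normalizer_ne_top hG
    (fun e => by
      have h := d.hA2
      rw [e, Subgroup.card_bot] at h
      have := (Fact.out : t.Prime).one_lt
      nlinarith) (pgroup_ne_top hG (isPGroup_of_exp hA.2)))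
  obtain ⟨T, hAT, hTL, hT, hTi⟩ := exists_sylow_ge (p := t) hAL (isPGroup_of_exp hA.2)
  obtain ⟨hΩ, -, -⟩ := hexc.structure' hG d.hL hAT hTL hT hTi
  have hTA : normalizer (T : Set G) ≤ normalizer (A : Set G) := fun n hn => Subgroup.mem_normalizer_iff.mpr fun a => by
    have hn' := Subgroup.mem_normalizer_iff.mp hn a
    constructor <;> intro ha
    · exact (hΩ _ (hn'.mp (hAT ha))).mp (by rw [conj_pow, hA.2 a ha, mul_one, mul_inv_cancel])
    · refine (hΩ _ (hn'.mpr (hAT ha))).mp ?_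
      have h := hA.2 _ ha
      rwa [conj_pow, conj_eq_one_iff] at h
  have hTL₂ : T ≤ L₂ := (Subgroup.le_normalizer.trans hTA).trans hNA
  have htL₂ : t ∈ sigma L₂ := by
    by_contra h
    obtain ⟨T₂, hTT₂, hT₂L, hT₂, hT₂i⟩ := exists_sylow_ge (p := t) hTL₂ hT
    haveI := sigma'_pgroup_commutative hG hL₂ hT₂L hT₂ h
    have hT₂A : T₂ ≤ centralizer (A : Set G) :=
      (Subgroup.le_centralizer T₂).trans (Subgroup.centralizer_le (SetLike.coe_subset_coe.mpr (hAT.trans hTT₂)))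
    have he : T₂ = T := eq_of_sylow hTi hTT₂ (hT₂A.trans (centralizer_two_le hG d.hL hAL hA d.hA2)) hT₂
    subst he
    refine h ⟨Fact.out, ?_, ?_⟩
    · exact (dvd_pow_self t two_ne_zero).trans (d.hA2 ▸ Subgroup.card_dvd_of_le (hAT.trans hT₂L))
    · obtain ⟨P, hP, -⟩ := sylow_of_relIndex hT₂L hT₂ hT₂i
      exact ⟨P, by rw [hP]; exact hTA.trans hNA⟩
  have hEA : E ≤ normalizer (A : Set G) :=
    (Cfsg.Agent.S1418.result hG L d.hL E d.hE t d.tL A ⟨d.AE, hA, d.hA2⟩).1.1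
  have hXL₂ : X ≤ L₂ := (d.XE.trans hEA).trans hNA
  have hqL₂ : q ∉ sigma L₂ := fun h => by
    obtain ⟨g, hg⟩ := sigma_disjointness hG d.hM hL₂ d.qM h
    rw [hg, sigma_conj] at htL₂
    exact d.tM htL₂
  obtain ⟨S, hAS, hSs, hS, hSi, hXS, -⟩ := exists_invariant_sylow hG hL₂ htL₂ hqL₂ hXL₂ (isPGroup_of_card d.cX)
    (pgroup_le_sigmaCore hG hL₂ htL₂ (isPGroup_of_exp hA.2) (hAT.trans hTL₂)) (isPGroup_of_exp hA.2)
    (d.XE.trans hEA)
  have hSL₂ : S ≤ L₂ := hSs.trans (piCoreOf_le _ _)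
  have hNS : normalizer (S : Set G) ≤ L₂ := normalizer_sigma_sylow_le hG hL₂ htL₂ hSL₂ hS hSi
  have htβ : t ∉ beta L₂ := fun h =>
    (order_p_normalizer_le hG d.hL d.tL.2.1 d.cW d.NW).2.1 h.2
  have hqt : q ≠ t := fun e => d.tM (e ▸ d.qM)
  have hNsol : Group.IsSolvable (normalizer (S : Set G)) := solvable_of_le hNS (solvable_of_ne_top hG hL₂.1)
  obtain ⟨V, hV, hXV⟩ := exists_hall_ge (π := {r | r ≠ t}) hNsol hXS (pi_of_card d.cX (π := {r | r ≠ t}) hqt)
  have hVN : V ≤ normalizer (S : Set G) := hV.1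
  have hVt : (Nat.card V).Coprime t := ((Nat.Prime.coprime_iff_not_dvd Fact.out).mpr
    fun h => hV.2.1 t Fact.out h rfl).symm
  have hSV : IsComplIn S V (normalizer (S : Set G)) := by
    have hbot : S ⊓ V = ⊥ := inf_eq_bot_of_pgroup hS fun h => hV.2.1 t Fact.out h rfl
    refine ⟨Subgroup.le_normalizer, hVN, hbot, fun m hm => ?_⟩
    have hle : normalizer (S : Set G) ≤ S ⊔ V := by
      refine (Subgroup.eq_of_le_of_card_ge (sup_le Subgroup.le_normalizer hVN) ?_).ge
      refine Nat.le_of_dvd Nat.card_pos ?_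
      rw [← Subgroup.relIndex_bot_left (H := normalizer (S : Set G)),
        ← Subgroup.relIndex_mul_relIndex ⊥ (S ⊔ V) _ bot_le (sup_le Subgroup.le_normalizer hVN),
        Subgroup.relIndex_bot_left]
      have h1 : (S ⊔ V).relIndex (normalizer (S : Set G)) = 1 := by
        refine Nat.eq_one_iff_not_exists_prime_dvd.mpr fun r hr hd => ?_
        by_cases hrt : r = t
        · subst hrt
          refine hSi ?_
          refine (hd.trans (Subgroup.relIndex_dvd_of_le_left (H := S) (K := S ⊔ V) _ le_sup_left)).trans ?_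
          exact Subgroup.relIndex_dvd_index_of_le Subgroup.le_normalizer
        · exact hV.2.2 r hr hrt (hd.trans (Subgroup.relIndex_dvd_of_le_left (H := V) (K := S ⊔ V) _ le_sup_right))
      rw [h1, mul_one]
    obtain ⟨a, ha, b, hb, hab⟩ := CfsgLib.mem_sup_of_le_normalizer hVN (hle hm)
    exact ⟨a, ha, b, hb, hab.symm⟩
  have hVd : (⁅V, V⁆ : Subgroup G) ≤ centralizer (S : Set G) :=
    centralizes_of_derived_beta hG hL₂ htβ hS hSL₂ (Subgroup.commutator_mono (hVN.trans hNS) (hVN.trans hNS))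
      (hVt.coprime_dvd_left (Subgroup.card_dvd_of_le (Subgroup.commutator_le_self V)))
      ((Subgroup.commutator_le_self V).trans hVN)
  set C := S ⊓ centralizer (X : Set G) with hC
  have hVC : V ≤ normalizer (C : Set G) := by
    have key : ∀ v ∈ V, ∀ s ∈ C, v * s * v⁻¹ ∈ C := by
      intro v hv s hs
      refine ⟨(Subgroup.mem_normalizer_iff.mp (hVN hv) s).mp hs.1, fun x hx => ?_⟩
      have hc : x⁻¹ * v⁻¹ * x⁻¹⁻¹ * v⁻¹⁻¹ ∈ centralizer (S : Set G) :=
        hVd (Subgroup.commutator_mem_commutator (V.inv_mem (hXV hx)) (V.inv_mem hv))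
      have h1 := hc s hs.1
      have h2 := hs.2 x hx
      simp only [inv_inv] at h1
      -- `v⁻¹ x v = x (x⁻¹ v⁻¹ x v)`
      have h3 : s * (v⁻¹ * x * v) = v⁻¹ * x * v * s := by
        calc s * (v⁻¹ * x * v) = s * x * (x⁻¹ * v⁻¹ * x * v) := by group
          _ = x * s * (x⁻¹ * v⁻¹ * x * v) := by rw [h2]
          _ = x * ((x⁻¹ * v⁻¹ * x * v) * s) := by rw [mul_assoc, h1]
          _ = v⁻¹ * x * v * s := by group
      calc x * (v * s * v⁻¹) = v * (v⁻¹ * x * v * s) * v⁻¹ := by group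
        _ = v * (s * (v⁻¹ * x * v)) * v⁻¹ := by rw [h3]
        _ = v * s * v⁻¹ * x := by group
    intro v hv
    refine Subgroup.mem_normalizer_iff.mpr fun s => ⟨key v hv s, fun h => ?_⟩
    have := key v⁻¹ (V.inv_mem hv) _ h
    simpa [mul_assoc] using this
  have hWC : W ≤ C := le_inf (d.WA.trans hAS) d.WX
  have hCc : IsCyclic C := by
    by_contra h
    have hC1 : C ≠ ⊥ := fun e => ne_bot_of_card d.cW (le_bot_iff.mp (e ▸ hWC))
    have hCt : IsPGroup t C := hS.to_le inf_le_left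
    obtain ⟨B, hBC, -, hB, hB2⟩ := exists_elementary_two (p_ne_two hG.1 hCt hC1) hCt h
    exact no_two hG d.hM d.tM1 d.qM d.cW d.WM d.WX d.cX d.XM hB hB2 (hBC.trans inf_le_right)
  have hVW : V ≤ normalizer (W : Set G) := hVC.trans (normalizer_le_of_cyclic hCc hWC)
  refine ⟨L₂, S, V, hL₂, htL₂, htβ, hAS, hSs, hS, hSi, hXS, fun hSL => ?_, hSV, hVW⟩
  refine d.tL.2.1 ⟨Fact.out, ?_, ?_⟩
  · exact (dvd_pow_self t two_ne_zero).trans (d.hA2 ▸ Subgroup.card_dvd_of_le hAL)
  · obtain ⟨P, hP, -⟩ := sylow_of_relIndex hSL hS fun h => hSi (h.trans (Subgroup.relIndex_dvd_index_of_le hSL))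
    refine ⟨P, ?_⟩
    rw [hP]
    intro m hm
    obtain ⟨a, ha, b, hb, rfl⟩ := hSV.2.2.2 m hm
    exact mul_mem (hSL ha) ((hVW.trans d.NW) hb)

/-- `X` has non-trivial fixed points on `L_σ`. -/
theorem LineData.moved_fixed (hG : IsMinSimpleOddOrder G) (d : LineData t q M L E A W X) :
    sigmaCore L ⊓ centralizer (X : Set G) ≠ ⊥ := by
  intro he
  obtain ⟨L₂, S, V, hL₂, htL₂, -, hAS, -, hS, -, hXS, hSL, -, -⟩ := d.moved_sylow hG
  have hA := d.hA
  have hAL : A ≤ L := d.AE.trans d.hE.1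
  have hCA : centralizer (A : Set G) ≤ L := centralizer_two_le hG d.hL hAL hA d.hA2
  have hS1 : S ≠ ⊥ := fun e => hSL (e ▸ bot_le)
  obtain ⟨z, hzS, hz, hzC⟩ := exists_central hS hS1
  have hzA : z ∈ A := by
    have hzc : Nat.card (zpowers z) = t := by rw [Nat.card_zpowers, hz]
    have hcz : A ≤ centralizer (zpowers z : Set G) := fun a ha x hx => by
      obtain ⟨i, rfl⟩ := Subgroup.mem_zpowers_iff.mp hx
      have hcm : Commute a z := hzC a (hAS ha)
      exact ((hcm.zpow_right i).eq).symm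
    have hel := elementary_line hA hzc hcz
    have h := card_le_of_pRankLE (d.tL.2.2.1) (sup_le hAL (Subgroup.zpowers_le.mpr
      (hCA fun a ha => hzC a (hAS ha)))) hel.1 hel.2
    exact (Subgroup.eq_of_le_of_card_ge (le_sup_left : A ≤ A ⊔ zpowers z) (by rwa [d.hA2])).ge
      (Subgroup.mem_sup_right (mem_zpowers z))
  set Z := A ⊓ centralizer (S : Set G) with hZ
  have hZ1 : Z ≠ ⊥ := fun e => by
    have : z = 1 := Subgroup.mem_bot.mp (e ▸ (⟨hzA, hzC⟩ : z ∈ Z))
    rw [this, orderOf_one] at hz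
    exact (Fact.out : t.Prime).ne_one hz.symm
  have hZne : Z ≠ A := fun e => hSL ((Subgroup.le_centralizer_iff.mp (e.ge.trans inf_le_right)).trans hCA)
  have hZc : Nat.card Z = t := card_line d.hA2 inf_le_left hZ1 hZne
  have hSZ : S ≤ centralizer (Z : Set G) := Subgroup.le_centralizer_iff.mp inf_le_right
  have hZW : Z ⊓ centralizer (X : Set G) = ⊥ := by
    by_contra h
    have hle : Z ⊓ centralizer (X : Set G) ≤ W := d.meet ▸ inf_le_inf_right _ inf_le_left
    have e : Z ⊓ centralizer (X : Set G) = W := Subgroup.eq_of_le_of_card_ge hle (by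
      rw [d.cW]
      obtain ⟨k, hk⟩ := (isPGroup_of_card hZc).to_le (inf_le_left : Z ⊓ centralizer (X : Set G) ≤ Z) |>.exists_card_eq
      rw [hk]
      exact Nat.le_self_pow (fun e => h (Subgroup.card_eq_one.mp (by rw [hk, e, pow_zero]))) t)
    exact hSL (((hSZ.trans (Subgroup.centralizer_le (SetLike.coe_subset_coe.mpr
      (e ▸ inf_le_left : W ≤ Z)))).trans (Subgroup.centralizer_le_normalizer _)).trans d.NW)
  have hEA : E ≤ normalizer (A : Set G) :=
    (Cfsg.Agent.S1418.result hG L d.hL E d.hE t d.tL A ⟨d.AE, hA, d.hA2⟩).1.1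
  obtain ⟨x, hx, hxX⟩ := exists_gen d.cX
  have hxm : x ∈ X := hxX ▸ mem_zpowers x
  have hxZ : x ∈ normalizer (Z : Set G) := mem_normalizer_of_conj_smul (by
    have hn : MulAut.conj x • centralizer (S : Set G) = centralizer (S : Set G) :=
      conj_smul_eq_of_mem_normalizer (normalizer_le_normalizer_centralizer S (hXS hxm))
    rw [hZ, Subgroup.smul_inf, conj_smul_eq_of_mem_normalizer (hEA (d.XE hxm)), hn])
  have hZσ : Z ≤ centralizer (sigmaCore L : Set G) := centralizes_of_fpf hx hxZ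
    (le_normalizer_sigmaCore hG d.hL le_rfl (d.XE.trans d.hE.1 hxm))
    ((inf_le_left.trans hAL).trans (le_normalizer_sigmaCore hG d.hL le_rfl))
    (coprime_sigmaCore hG d.hL d.tL.2.1 (isPGroup_of_card hZc) le_rfl)
    (by rw [centralizer_zpowers, hxX]; exact hZW) (by rw [centralizer_zpowers, hxX]; exact he)
  obtain ⟨L₅, hL₅, hNZ⟩ := exists_coatom_ge (normalizer_ne_top hG hZ1 (pgroup_ne_top hG (isPGroup_of_card hZc)))
  have hLL₅ : sigmaCore L ≤ L₅ :=
    ((Subgroup.le_centralizer_iff.mp hZσ).trans (Subgroup.centralizer_le_normalizer _)).trans hNZ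
  have hAL₅ : A ≤ L₅ := by
    haveI := hA.1
    exact (((Subgroup.le_centralizer A).trans (Subgroup.centralizer_le (SetLike.coe_subset_coe.mpr
      inf_le_left))).trans (Subgroup.centralizer_le_normalizer _)).trans hNZ
  have hL5 : L₅ = L := by
    by_contra hne
    exact sigmaCore_ne_bot hG d.hL (le_bot_iff.mp
      (sigma_meet_bot hG d.hL d.tL hAL hA d.hA2 hL₅ hne hAL₅ ▸ le_inf le_rfl hLL₅))
  exact hSL ((hSZ.trans (Subgroup.centralizer_le_normalizer _)).trans (hNZ.trans hL5.le))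

/-- B–G 13.? : a `τ₁(M)`-line centralising part of `M_σ` is in `σ` of the maximal subgroup over its
normaliser. -/
theorem tau1_bad_sigma (hG : IsMinSimpleOddOrder G) {M L : Subgroup G} (hM : IsCoatom M) (hL : IsCoatom L)
    {t : ℕ} [Fact t.Prime] (ht : t ∈ tau1 M) {W : Subgroup G} (hW : Nat.card W = t) (hWM : W ≤ M)
    (hbad : sigmaCore M ⊓ centralizer (W : Set G) ≠ ⊥) (hNL : normalizer (W : Set G) ≤ L) : t ∈ sigma L := by
  by_contra htL
  obtain ⟨q, hq, hqd⟩ := Nat.exists_prime_and_dvd (fun h => hbad (Subgroup.card_eq_one.mp h))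
  haveI := Fact.mk hq
  obtain ⟨x, hx⟩ := exists_prime_orderOf_dvd_card' q hqd
  have hxmem : (x : G) ∈ sigmaCore M ⊓ centralizer (W : Set G) := x.2
  have hxle : zpowers (x : G) ≤ sigmaCore M ⊓ centralizer (W : Set G) := Subgroup.zpowers_le.mpr hxmem
  have hXc : Nat.card (zpowers (x : G)) = q := by rw [Nat.card_zpowers, Subgroup.orderOf_coe, hx]
  have hqM : q ∈ sigma M := (sigmaCore_hall hG hM).1.2.1 q hq
    (hqd.trans (Subgroup.card_dvd_of_le inf_le_left))
  obtain ⟨E, A, d⟩ := tau2_line_moved hG hM hL ht.2.1 ht.2.2.2.2 hqM hW hXc hWM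
    (hxle.trans (inf_le_left.trans (piCoreOf_le _ _))) (Subgroup.le_centralizer_iff.mp (hxle.trans inf_le_right))
    hNL htL
  set X := zpowers (x : G) with hXdef
  have hA := d.hA
  have hEA : E ≤ normalizer (A : Set G) :=
    (Cfsg.Agent.S1418.result hG L hL E d.hE t d.tL A ⟨d.AE, hA, d.hA2⟩).1.1
  -- `E` centralises `W`
  have hEW : E ≤ centralizer (W : Set G) := by
    refine le_centralizer_of_sylows fun r hr => ?_
    haveI := Fact.mk hr
    have hsub : centralizer (A : Set G) ≤ centralizer (W : Set G) :=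
      Subgroup.centralizer_le (SetLike.coe_subset_coe.mpr d.WA)
    by_cases hrE : r ∣ Nat.card E
    swap
    · exact ⟨⊥, bot_le, by rwa [Subgroup.relIndex_bot_left], bot_le⟩
    rcases tau_cases hG hL d.hE hr hrE with h | h | h
    · obtain ⟨E₁, hE₁, hXE₁⟩ := exists_hall_ge (π := tau1 L) (solvable_of_le d.hE.1 (solvable_of_ne_top hG hL.1))
        d.XE (pi_of_card hXc d.qL)
      obtain ⟨R, -, hRE₁, hR, hRi⟩ := exists_sylow_ge (p := r) (bot_le : (⊥ : Subgroup G) ≤ E₁) IsPGroup.of_bot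
      refine ⟨R, hRE₁.trans hE₁.1, fun hd => ?_, ?_⟩
      · rw [← Subgroup.relIndex_mul_relIndex R E₁ E hRE₁ hE₁.1] at hd
        rcases hr.dvd_mul.mp hd with h' | h'
        · exact hRi h'
        · exact hE₁.2.2 r hr h h'
      haveI := cyclic_isCommutative (tau1_hall_cyclic hG hL d.hE hE₁)
      have hRX : R ≤ centralizer (X : Set G) :=
        (hRE₁.trans (Subgroup.le_centralizer E₁)).trans (Subgroup.centralizer_le (SetLike.coe_subset_coe.mpr hXE₁))
      obtain ⟨M₀, hM₀, hNM₀⟩ := exists_coatom_ge (normalizer_ne_top hG (ne_bot_of_card hXc)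
        (pgroup_ne_top hG (isPGroup_of_card hXc)))
      have hCM₀ := (Subgroup.centralizer_le_normalizer _).trans hNM₀
      have hd := (normalizer_data hG hM hqM hXc d.XM hM₀ hNM₀ hW (d.WX.trans hCM₀) hWM).2 ht.2.2.2.1
      refine centralizes_of_not_dvd hd (isPGroup_of_card hW) (d.WX.trans hCM₀) (hRX.trans hCM₀) fun y hy => ?_
      refine mem_normalizer_of_conj_smul ?_
      rw [← d.meet, Subgroup.smul_inf, conj_smul_eq_of_mem_normalizer (hEA (hE₁.1 (hRE₁ hy))),
        smul_eq_self_of_mem (hRX hy)]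
    · obtain ⟨R, -, hRE, hR, hRi⟩ := exists_sylow_ge (p := r) (bot_le : (⊥ : Subgroup G) ≤ E) IsPGroup.of_bot
      refine ⟨R, hRE, hRi, fun y hy => hsub ?_⟩
      exact tau2_element_centralizes hG hL d.hE d.tL d.AE hA d.hA2 (hRE hy) fun s hs hd => by
        rw [card_dvd_of_pgroup hR hs (hd.trans (Subgroup.orderOf_dvd_natCard _ hy))]
        exact h
    · obtain ⟨R, -, hRE, hR, hRi⟩ := exists_sylow_ge (p := r) (bot_le : (⊥ : Subgroup G) ≤ E) IsPGroup.of_bot
      obtain ⟨E₃, hRE₃, -, hd, -⟩ := exists_tau3_hall hG hL d.hE hRE (pi_of_pgroup hR h)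
      exact ⟨R, hRE, hRi, ((hRE₃.trans hd).trans (derived_centralizes hG hL d.hE d.tL d.AE hA d.hA2)).trans hsub⟩
  have hNC : normalizer (W : Set G) ≤ centralizer (W : Set G) := by
    intro n hn
    obtain ⟨e, he, b, hb, rfl⟩ := d.hE.2.2.2 n (d.NW hn)
    refine mul_mem (hEW he) fun w hw => ?_
    have hbN : b ∈ normalizer (W : Set G) := by
      have h' := mul_mem (inv_mem (Subgroup.centralizer_le_normalizer _ (hEW he))) hn
      rwa [inv_mul_cancel_left] at h'
    have h1 : b * w * b⁻¹ * w⁻¹ ∈ W := mul_mem ((Subgroup.mem_normalizer_iff.mp hbN w).mp hw) (inv_mem hw)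
    have hwL : w ∈ L := d.NW (Subgroup.le_normalizer hw)
    have h2 : b * w * b⁻¹ * w⁻¹ ∈ sigmaCore L := by
      have h3 := mul_mem hb ((Subgroup.mem_normalizer_iff.mp (le_normalizer_sigmaCore hG hL le_rfl hwL) b⁻¹).mp
        (inv_mem hb))
      rwa [show b * w * b⁻¹ * w⁻¹ = b * (w * b⁻¹ * w⁻¹) by group]
    have h4 : orderOf (b * w * b⁻¹ * w⁻¹) ∣ 1 := by
      rw [← (coprime_sigmaCore hG hL d.tL.2.1 (isPGroup_of_card hW) (le_refl (sigmaCore L))).gcd_eq_one]
      exact Nat.dvd_gcd (Subgroup.orderOf_dvd_natCard _ h1) (Subgroup.orderOf_dvd_natCard _ h2)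
    have h5 := orderOf_eq_one_iff.mp (Nat.dvd_one.mp h4)
    rw [mul_inv_eq_one, mul_inv_eq_iff_eq_mul] at h5
    exact h5.symm
  obtain ⟨L₂, S, V, hL₂, htL₂, -, hAS, hSs, hS, hSi, -, -, hSV, hVW⟩ := d.moved_sylow hG
  have hWS : W ≤ ⁅S, S⁆ := by
    have hcop : (Nat.card S).Coprime (Nat.card V) := by
      obtain ⟨k, hk⟩ := hS.exists_card_eq
      rw [hk]
      refine Nat.Coprime.pow_left k ((Nat.Prime.coprime_iff_not_dvd Fact.out).mpr fun hd => ?_)
      obtain ⟨v, hv⟩ := exists_prime_orderOf_dvd_card' t hd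
      have hvS : (v : G) ∈ S := by
        have e : S ⊔ zpowers (v : G) = S := eq_of_sylow (X := ⊤) (by rw [Subgroup.relIndex_top_right]; exact hSi)
          le_sup_left le_top (IsPGroup.to_sup_of_normal_left' hS
            (isPGroup_of_card (by rw [Nat.card_zpowers, Subgroup.orderOf_coe, hv]))
            (Subgroup.zpowers_le.mpr (hSV.2.1 v.2)))
        exact e.le (Subgroup.mem_sup_right (mem_zpowers _))
      have : (v : G) = 1 := Subgroup.mem_bot.mp (hSV.2.2.1 ▸ (⟨hvS, v.2⟩ : (v : G) ∈ S ⊓ V))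
      rw [← Subgroup.orderOf_coe, this, orderOf_one] at hv
      exact (Fact.out : t.Prime).ne_one hv.symm
    exact (le_inf (d.WA.trans hAS) (Subgroup.le_centralizer_iff.mp (hVW.trans hNC))).trans
      (fixed_le_derived hSV.2.1 hcop (sylow_eq_commutator hG (hS.toSylow hSi) hSV).symm)
  have hu := uniq_centralizer_of_sigma hG hL₂ htL₂ ((d.WA.trans hAS).trans (hSs.trans (piCoreOf_le _ _))) hW
    (Or.inr (hWS.trans (Subgroup.commutator_mono hSs hSs)))
  exact htL (by rw [hu.2 L hL ((Subgroup.centralizer_le_normalizer _).trans hNL)]; exact htL₂)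

end CfsgLib.MinSimpleOdd
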