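import Cfsg.Agent.Lib.MinSimpleOdd.PrimeRegular
import Cfsg.Agent.Lib.FrobAction.Order

/-!
Lines of order `p ∈ τ₃(M)` centralising part of `M_σ` (B–G §13).
-/

set_option autoImplicit false
set_option linter.unusedSectionVars false
set_option linter.style.haveILetI false
set_option maxHeartbeats 1000000

namespace CfsgLib.MinSimpleOdd

open Subgroup Cfsg
open scoped Pointwise commutatorElement IsMulCommutative

universe u
variable {G : Type u} [Group G] [Finite G]

/-- If a fixed-point-free `W` of prime order has all its fixed points in `V` centralised by `R`, then `R`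
centralises `V`. -/
theorem centralizes_of_fixed {t : ℕ} [Fact t.Prime] {R W V : Subgroup G} (hR : Group.IsNilpotent R)
    (hW : Nat.card W = t) (hWR : W ≤ normalizer (R : Set G)) (hfpf : R ⊓ centralizer (W : Set G) = ⊥)
    (hV : R ⊔ W ≤ normalizer (V : Set G)) (hcop : (Nat.card ↥(R ⊔ W)).Coprime (Nat.card V))
    (hsol : Group.IsSolvable V) (h : V ⊓ centralizer (W : Set G) ≤ centralizer (R : Set G)) :
    R ≤ centralizer (V : Set G) := by
  haveI := hR
  have hfree : ∀ e ∈ W, e ≠ 1 → ∀ u ∈ R, e * u = u * e → u = 1 := by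
    intro e he he1 u hu hcomm
    have hgen : zpowers e = W := Subgroup.eq_of_le_of_card_ge (Subgroup.zpowers_le.mpr he)
      (by rw [Nat.card_zpowers, hW, orderOf_eq_prime ((elementary_of_card_prime hW).2 e he) he1])
    refine Subgroup.mem_bot.mp (hfpf ▸ ⟨hu, fun x hx => ?_⟩)
    obtain ⟨i, rfl⟩ := Subgroup.mem_zpowers_iff.mp (hgen.ge hx)
    exact ((show Commute e u from hcomm).zpow_left i).eq
  have hf := CfsgLib.FrobAction.order_formula R W hWR hfree V hV hcop hsol
  have he : V ⊓ centralizer ((R ⊔ W : Subgroup G) : Set G) = V ⊓ centralizer (W : Set G) := by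
    refine le_antisymm (inf_le_inf_left _ (Subgroup.centralizer_le (SetLike.coe_subset_coe.mpr le_sup_right))) ?_
    refine le_inf inf_le_left ?_
    rw [Subgroup.le_centralizer_iff]
    exact sup_le (Subgroup.le_centralizer_iff.mp h) (Subgroup.le_centralizer_iff.mp inf_le_right)
  rw [he] at hf
  have hc := Nat.eq_of_mul_eq_mul_left (pow_pos Nat.card_pos _) hf
  have h2 : V ⊓ centralizer (R : Set G) = V := Subgroup.eq_of_le_of_card_ge inf_le_left hc.le
  exact Subgroup.le_centralizer_iff.mp (inf_eq_left.mp h2)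

/-- A line of a `τ₂`-complement lies in an elementary subgroup of order `p²` of it. -/
theorem exists_line_two (hG : IsMinSimpleOddOrder G) {L E : Subgroup G} (hL : IsCoatom L)
    (hE : IsComplIn E (sigmaCore L) L) {p : ℕ} [Fact p.Prime] (hp : p ∈ tau2 L) {W : Subgroup G}
    (hW : Nat.card W = p) (hWE : W ≤ E) :
    ∃ A : Subgroup G, A ≤ E ∧ IsElementaryAbelian p A ∧ Nat.card A = p ^ 2 ∧ W ≤ A := by
  obtain ⟨A, hAE, hA, hA2⟩ := exists_elementary_in_complement hG hL hE hp
  refine ⟨A, hAE, hA, hA2, ?_⟩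
  have hWA : W ≤ centralizer (A : Set G) := fun w hw =>
    tau2_element_centralizes hG hL hE hp hAE hA hA2 (hWE hw) fun r hr hd => by
      rw [(Nat.prime_dvd_prime_iff_eq hr Fact.out).mp (hW ▸ hd.trans (Subgroup.orderOf_dvd_natCard _ hw))]
      exact hp
  have he := elementary_line hA hW (Subgroup.le_centralizer_iff.mp hWA)
  have h := card_le_of_pRankLE hp.2.2.1 (sup_le (hAE.trans hE.1) (hWE.trans hE.1)) he.1 he.2
  exact le_sup_right.trans (Subgroup.eq_of_le_of_card_ge (le_sup_left : A ≤ A ⊔ W) (by rwa [hA2])).ge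

theorem elementary_conj {p : ℕ} {B : Subgroup G} (hB : IsElementaryAbelian p B) (g : G) :
    IsElementaryAbelian p (MulAut.conj g • B : Subgroup G) := by
  refine ⟨⟨⟨?_⟩⟩, ?_⟩
  · rintro ⟨_, a, ha, rfl⟩ ⟨_, b, hb, rfl⟩
    refine Subtype.ext ?_
    show MulAut.conj g a * MulAut.conj g b = MulAut.conj g b * MulAut.conj g a
    rw [← map_mul, ← map_mul, show a * b = b * a from
      congrArg (fun t : B => (t : G)) (hB.1.is_comm.comm ⟨a, ha⟩ ⟨b, hb⟩)]
  · rintro _ ⟨a, ha, rfl⟩
    show MulAut.conj g a ^ p = 1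
    rw [← map_pow, hB.2 a ha, map_one]

/-- The complement of a second maximal subgroup over `N(X)`. -/
theorem overgroup_data (hG : IsMinSimpleOddOrder G) {M L : Subgroup G} (hM : IsCoatom M) (hL : IsCoatom L)
    (hne : L ≠ M) {q : ℕ} [Fact q.Prime] (hqM : q ∈ sigma M) {X : Subgroup G} (hX : Nat.card X = q) (hXM : X ≤ M)
    (hNL : normalizer (X : Set G) ≤ L) :
    q ∈ tau2 L ∧ sigmaCore L ⊓ M = ⊥ ∧ ∃ E : Subgroup G, IsComplIn E (sigmaCore L) L ∧ E ≤ M := by
  have hCL := (Subgroup.centralizer_le_normalizer _).trans hNL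
  have hqL : q ∉ sigma L := fun h => hne (eq_of_sigma hG hM hL hqM h hXM hX hCL)
  obtain ⟨⟨hq2, hq1⟩, -, -⟩ := order_p_normalizer_le hG hL hqL hX hNL
  have hqτ : q ∈ tau2 L := ⟨Fact.out, hqL, hq2, hq1⟩
  obtain ⟨S', hXS', hS'ML, hS', hS'i⟩ := exists_sylow_ge (p := q) (X := M ⊓ L)
    (le_inf hXM (Subgroup.le_normalizer.trans hNL)) (isPGroup_of_card hX)
  obtain ⟨S, hS, -⟩ := sylow_of_relIndex hS'ML hS' hS'i
  obtain ⟨-, -, hSi⟩ := sigma_overlap hG hM hqM (isPGroup_of_card hX) (ne_bot_of_card hX) hXM hL hne hNL S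
    (hS.symm ▸ hXS')
  obtain ⟨B, E, hBS, hB, hB2, hE, hEM⟩ := exists_complement_le hG hM hL hqM hqτ (hS'ML.trans inf_le_left)
    (hS'ML.trans inf_le_right) hS' (hS ▸ hSi)
  exact ⟨hqτ, sigma_meet_bot hG hL hqτ ((hBS.trans hS'ML).trans inf_le_right) hB hB2 hM
    (fun e => hne e.symm) ((hBS.trans hS'ML).trans inf_le_left), E, hE, hEM⟩

theorem sigma_normalizer_le (hG : IsMinSimpleOddOrder G) {M H : Subgroup G} (hM : IsCoatom M) (hH : IsCoatom H)
    {r q p : ℕ} [Fact r.Prime] [Fact q.Prime] [Fact p.Prime] (hrM : r ∉ sigma M) (hr1 : PRankLE r 1 M)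
    (hqM : q ∈ sigma M) {Z X P : Subgroup G} (hZ : Nat.card Z = r) (hX : Nat.card X = q) (hP : Nat.card P = p)
    (hZM : Z ≤ M) (hXM : X ≤ M) (hZX : Z ≤ centralizer (X : Set G)) (hZH : Z ≤ H) (hrH : r ∈ sigma H)
    (hPX : P ≤ centralizer (X : Set G)) (hPZ : P ≤ centralizer (Z : Set G))
    (hCP : centralizer (P : Set G) ≤ H) : normalizer (Z : Set G) ≤ H := by
  obtain ⟨L, hL, hNL⟩ := exists_coatom_ge (normalizer_ne_top hG (ne_bot_of_card hZ)
    (pgroup_ne_top hG (isPGroup_of_card hZ)))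
  by_cases hLH : L = H
  · exact hLH ▸ hNL
  exfalso
  obtain ⟨hrL, hbot, -⟩ := overgroup_data hG hH hL hLH hrH hZ hZH hNL
  obtain ⟨E, A, d⟩ := tau2_line_moved hG hM hL hrM hr1 hqM hZ hX hZM hXM hZX hNL hrL.2.1
  have hPL : P ≤ L := hPZ.trans ((Subgroup.centralizer_le_normalizer _).trans hNL)
  have hPH : P ≤ H := (le_centralizer_self_of_prime hP).trans hCP
  have hpL : p ∉ sigma L := fun h => ne_bot_of_card hP (le_bot_iff.mp
    (hbot ▸ le_inf (pgroup_le_sigmaCore hG hL h (isPGroup_of_card hP) hPL) hPH))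
  refine d.moved_fixed hG (le_bot_iff.mp (hbot ▸ le_inf inf_le_left ?_))
  exact (tau1_centralizer_le hG hL d.qL hpL hX (d.XE.trans d.hE.1) hP hPL hPX).trans hCP

/-- Transfer: a complement does not centralise a line in its derived group with cyclic Sylow. -/
theorem exists_mover_of_derived (hG : IsMinSimpleOddOrder G) {M : Subgroup G} (hM : IsCoatom M) {E : Subgroup G}
    (hE : IsComplIn E (sigmaCore M) M) {p : ℕ} [Fact p.Prime] (hp : p ∈ tau3 M) {P : Subgroup G}
    (hP : Nat.card P = p) (hPE : P ≤ E) :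
    ∃ t : ℕ, t.Prime ∧ t ≠ p ∧ ∃ T : Subgroup G, T ≤ E ∧ IsPGroup t T ∧ ¬ T ≤ centralizer (P : Set G) := by
  obtain ⟨S, hPS, hSE, hS, hSi⟩ := exists_sylow_ge (p := p) hPE (isPGroup_of_card hP)
  haveI := cyclic_isCommutative (rank_one_cyclic hG hp.2.2.2 hS (hSE.trans hE.1))
  obtain ⟨E₃, hPE₃, -, hd, -⟩ := exists_tau3_hall hG hM hE hPE (pi_of_card hP hp)
  have hne : ¬ E ≤ centralizer (P : Set G) := fun h =>
    ne_bot_of_card hP (central_sylow_derived hSE hS hSi hPS (hPE₃.trans hd) h)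
  obtain ⟨t, ht, T, hTE, hT, hmove⟩ := exists_move hne
  refine ⟨t, ht, ?_, T, hTE, hT, hmove⟩
  rintro rfl
  have hPn : T ≤ normalizer (P : Set G) := hTE.trans (tau3_normalized hG hM hE hPE (pi_of_card hP hp))
  have hc : IsCyclic ↥(P ⊔ T) := rank_one_cyclic hG hp.2.2.2
    (IsPGroup.to_sup_of_normal_left' (isPGroup_of_card hP) hT hPn) (sup_le (hPE.trans hE.1) (hTE.trans hE.1))
  haveI := cyclic_isCommutative hc
  exact hmove ((le_sup_right.trans (Subgroup.le_centralizer (P ⊔ T))).trans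
    (Subgroup.centralizer_le (SetLike.coe_subset_coe.mpr le_sup_left)))

/-- Subgroups of `τ₂ ∪ τ₃`-prime-power order centralise the elementary subgroup of order `p²`. -/
theorem tau23_centralizes (hG : IsMinSimpleOddOrder G) {L E : Subgroup G} (hL : IsCoatom L)
    (hE : IsComplIn E (sigmaCore L) L) {p t : ℕ} [Fact p.Prime] [Fact t.Prime] (hp : p ∈ tau2 L)
    {A T : Subgroup G} (hAE : A ≤ E) (hA : IsElementaryAbelian p A) (hA2 : Nat.card A = p ^ 2)
    (hT : IsPGroup t T) (hTE : T ≤ E) (ht : t ∈ tau2 L ∨ t ∈ tau3 L) : T ≤ centralizer (A : Set G) := by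
  rcases ht with h | h
  · exact fun y hy => tau2_element_centralizes hG hL hE hp hAE hA hA2 (hTE hy) fun s hs hd => by
      rw [card_dvd_of_pgroup hT hs (hd.trans (Subgroup.orderOf_dvd_natCard _ hy))]
      exact h
  · obtain ⟨E₃, hTE₃, -, hd, -⟩ := exists_tau3_hall hG hL hE hTE (pi_of_pgroup hT h)
    exact (hTE₃.trans hd).trans (derived_centralizes hG hL hE hp hAE hA hA2)

/-- B–G 13.? : a `τ₃(M)`-line centralising part of `M_σ` is in `σ` of the maximal subgroup over its
normaliser. -/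
theorem tau3_bad_sigma (hG : IsMinSimpleOddOrder G) {M H : Subgroup G} (hM : IsCoatom M) (hH : IsCoatom H)
    {p : ℕ} [Fact p.Prime] (hp : p ∈ tau3 M) {P : Subgroup G} (hP : Nat.card P = p) (hPM : P ≤ M)
    (hbad : sigmaCore M ⊓ centralizer (P : Set G) ≠ ⊥) (hNH : normalizer (P : Set G) ≤ H) : p ∈ sigma H := by
  by_contra hpH
  have hMs := solvable_of_ne_top hG hM.1
  have hCPH : centralizer (P : Set G) ≤ H := (Subgroup.centralizer_le_normalizer _).trans hNH
  obtain ⟨E, hE, hPE⟩ := exists_complement_ge hG hM hPM (pi_of_card hP (π := {s | s ∉ sigma M}) hp.2.1)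
  have hEP : E ≤ normalizer (P : Set G) := tau3_normalized hG hM hE hPE (pi_of_card hP hp)
  have hEH : E ≤ H := hEP.trans hNH
  set C := sigmaCore M ⊓ centralizer (P : Set G) with hC
  obtain ⟨q, hq, hqC⟩ := Nat.exists_prime_and_dvd (fun h => hbad (Subgroup.card_eq_one.mp h))
  haveI := Fact.mk hq
  have hqM : q ∈ sigma M := (sigmaCore_hall hG hM).1.2.1 q hq (hqC.trans (Subgroup.card_dvd_of_le inf_le_left))
  have hEC : E ≤ normalizer (C : Set G) := fun e he => mem_normalizer_of_conj_smul (by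
    rw [hC, Subgroup.smul_inf, conj_smul_eq_of_mem_normalizer (le_normalizer_sigmaCore hG hM le_rfl (hE.1 he)),
      conj_smul_eq_of_mem_normalizer (normalizer_le_normalizer_centralizer P (hEP he))])
  have hcop : (Nat.card E).Coprime (Nat.card C) := Nat.coprime_of_dvd fun s hs h1 h2 =>
    complement_sigma' hG hM hE s hs h1 ((sigmaCore_hall hG hM).1.2.1 s hs (h2.trans (Subgroup.card_dvd_of_le inf_le_left)))
  obtain ⟨Q, hQ, hEQ⟩ := CfsgLib.exists_invariant_hall ({q} : Set ℕ) hEC hcop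
    (solvable_of_le (inf_le_left.trans (piCoreOf_le _ _)) hMs)
  have hQq : IsPGroup q Q := IsPGroup.of_card (n := (Nat.card Q).primeFactorsList.length)
    (Nat.eq_prime_pow_of_unique_prime_dvd Nat.card_pos.ne' fun {s} hs hd => hQ.2.1 s hs hd)
  have hQ1 : Q ≠ ⊥ := fun e => hQ.2.2 q hq rfl (by rwa [e, Subgroup.relIndex_bot_left])
  obtain ⟨X, hXQ, hX⟩ := exists_sub_card hQq hQ1
  have hXC : X ≤ C := hXQ.trans hQ.1
  have hXM : X ≤ M := hXC.trans (inf_le_left.trans (piCoreOf_le _ _))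
  have hPX : P ≤ centralizer (X : Set G) := Subgroup.le_centralizer_iff.mp (hXC.trans inf_le_right)
  obtain ⟨F, A, d⟩ := tau2_line_moved hG hM hH hp.2.1 hp.2.2.2 hqM hP hX hPM hXM hPX hNH hpH
  have hQH : Q ≤ H := (hQ.1.trans inf_le_right).trans hCPH
  have hEQ' : E ≤ centralizer (Q : Set G) := centralizes_of_not_dvd d.qL.2.2.2.1 hQq hQH hEH hEQ
  have hXE : X ≤ centralizer (E : Set G) :=
    (hXQ.trans (Subgroup.le_centralizer_iff.mp hEQ'))
  have hXu := uniq_centralizer_of_sigma hG hM hqM hXM hX (Or.inr ((le_inf (hXC.trans inf_le_left) hXE).trans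
    (sigma_fixed_le_derived hG hM hE)))
  -- an element of `H_σ` fixed by `X`
  obtain ⟨r, hr, hrd⟩ := Nat.exists_prime_and_dvd (fun h => d.moved_fixed hG (Subgroup.card_eq_one.mp h))
  haveI := Fact.mk hr
  obtain ⟨z, hz⟩ := exists_prime_orderOf_dvd_card' r hrd
  set Z := zpowers (z : G) with hZdef
  have hZle : Z ≤ sigmaCore H ⊓ centralizer (X : Set G) := Subgroup.zpowers_le.mpr z.2
  have hZ : Nat.card Z = r := by rw [hZdef, Nat.card_zpowers, Subgroup.orderOf_coe, hz]
  have hrH : r ∈ sigma H := (sigmaCore_hall hG hH).1.2.1 r hr (hrd.trans (Subgroup.card_dvd_of_le inf_le_left))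
  have hXH : X ≤ H := d.XE.trans d.hE.1
  have hPH : P ≤ H := Subgroup.le_normalizer.trans hNH
  have hZP : Z ≤ centralizer (P : Set G) :=
    hZle.trans (tau1_centralizer_le hG hH d.qL hpH hX hXH hP hPH hPX)
  have hZH : Z ≤ H := hZP.trans hCPH
  have hZM : Z ≤ M := (hZle.trans inf_le_right).trans hXu.1
  have hrM : r ∉ sigma M := fun h => by
    obtain ⟨g, hg⟩ := sigma_disjointness hG hM hH h hrH
    exact d.nconj g hg
  have hHM : H ≠ M := fun e => d.nconj 1 (by rw [map_one, one_smul, e])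
  have hrτ : r ∉ tau2 M := by
    intro h2
    obtain ⟨E', hE', hZE'⟩ := exists_complement_ge hG hM hZM (pi_of_card hZ (π := {s | s ∉ sigma M}) hrM)
    obtain ⟨B, hBE', hB, hB2, hZB⟩ := exists_line_two hG hM hE' h2 hZ hZE'
    obtain ⟨y, hy, hyX⟩ := exists_gen hX
    have hzhat : (z : G) ∈ sigmaHat M := ⟨hZM (mem_zpowers _), y, (hXC.trans inf_le_left) (hyX ▸ mem_zpowers y),
      fun e => by rw [e, orderOf_one] at hy; exact hq.ne_one hy.symm,
      ((hZle (mem_zpowers _)).2 y (hyX ▸ mem_zpowers y)).symm⟩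
    have hzo : ∀ s : ℕ, s.Prime → s ∣ orderOf (z : G) → s ∈ tau2 M := fun s hs hd => by
      rw [Subgroup.orderOf_coe, hz] at hd
      rwa [(Nat.prime_dvd_prime_iff_eq hs Fact.out).mp hd]
    obtain ⟨hCz, -⟩ := tau2_element_uniq hG hM hE' (hZM (mem_zpowers _)) (fun e => by
      rw [← Subgroup.orderOf_coe, e, orderOf_one] at hz
      exact hr.ne_one hz.symm) hzo hzhat
    rw [centralizer_zpowers] at hCz
    obtain ⟨R, hRH, hR, hRi, hRN⟩ := exists_sigma_sylow hrH
    obtain ⟨g, hg⟩ := exists_conj_le_sylow hR hRi (isPGroup_of_exp hB.2)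
    have hBg : B ≤ MulAut.conj g • H := hg.trans (conj_smul_mono hRH g)
    have hZg : MulAut.conj g⁻¹ • Z ≤ H := by
      have h := conj_smul_mono (hZB.trans hBg) g⁻¹
      rwa [CfsgLib.conj_smul_mul, inv_mul_cancel, map_one, one_smul] at h
    obtain ⟨m, hm, c, hc, he⟩ := conj_eq_mul hG hH hRH hR hRi hRN (isPGroup_of_card hZ) (ne_bot_of_card hZ) hZH hZg
    have hcM : c⁻¹ ∈ M := inv_mem (hCz hc)
    have hBH : MulAut.conj c • B ≤ H := by
      have h := conj_smul_mono hBg c
      rw [show g = c⁻¹ * m⁻¹ by rw [← mul_inv_rev, ← he, inv_inv], CfsgLib.conj_smul_mul, ← mul_assoc,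
        mul_inv_cancel, one_mul, smul_eq_self_of_mem (inv_mem hm)] at h
      exact h
    have hBM : MulAut.conj c • B ≤ M :=
      (conj_smul_mono (hBE'.trans hE'.1) c).trans (smul_eq_self_of_mem (hCz hc)).le
    have h := sigma_meet_bot hG hM h2 hBM (elementary_conj hB c) (by rw [CfsgLib.card_conj_smul, hB2])
      hH hHM hBH
    exact ne_bot_of_card hX (le_bot_iff.mp (h ▸ le_inf (hXC.trans inf_le_left) hXH))
  have hr1 : PRankLE r 1 M := rank_one_of_not_sigma hG hM hrM hrτ
  have hNZ : normalizer (Z : Set G) ≤ H := sigma_normalizer_le hG hM hH hrM hr1 hqM hZ hX hP hZM hXM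
    (hZle.trans inf_le_right) hZH hrH hPX (Subgroup.le_centralizer_iff.mp hZP) hCPH
  have hCZH : centralizer (Z : Set G) ≤ H := (Subgroup.centralizer_le_normalizer _).trans hNZ
  -- a mover of `P`
  obtain ⟨t, ht', htp, T, hTE, hT, hTmove⟩ := exists_mover_of_derived hG hM hE hp hP hPE
  haveI := Fact.mk ht'
  have hTP : T ≤ normalizer (P : Set G) := hTE.trans hEP
  have hTH : T ≤ H := hTE.trans hEH
  have htσH : t ∉ sigma H := fun h => hTmove (centralizes_of_normal_core (le_normalizer_sigmaCore hG hH le_rfl)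
    hPH (pgroup_le_sigmaCore hG hH h hT hTH) (isPGroup_of_card hP) hTP fun hd => hpH ((sigmaCore_hall hG hH).1.2.1 p
      Fact.out hd))
  have hcent : ∀ {s : ℕ} [Fact s.Prime] {U : Subgroup G}, IsPGroup s U → U ≤ H → P ≤ normalizer (U : Set G) ∨
      U ≤ normalizer (P : Set G) → s ∉ sigma H → (s ∈ tau2 H ∨ s ∈ tau3 H) → U ≤ centralizer (P : Set G) := by
    intro s _ U hU hUH hn hs h23
    have hd : ∀ r : ℕ, r.Prime → r ∣ Nat.card ↥(P ⊔ U) → r ∈ {x | x ∉ sigma H} := by
      intro r hr hd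
      rcases hn with hn | hn
      · rw [sup_comm] at hd
        rcases hr.dvd_mul.mp (hd.trans (CfsgLib.Signalizer.card_sup_dvd hn)) with h | h
        · exact pi_of_card hP (π := {x | x ∉ sigma H}) hpH r hr h
        · exact pi_of_pgroup hU (π := {x | x ∉ sigma H}) hs r hr h
      · rcases hr.dvd_mul.mp (hd.trans (CfsgLib.Signalizer.card_sup_dvd hn)) with h | h
        · exact pi_of_pgroup hU (π := {x | x ∉ sigma H}) hs r hr h
        · exact pi_of_card hP (π := {x | x ∉ sigma H}) hpH r hr h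
    obtain ⟨F', hF', hle⟩ := exists_complement_ge hG hH (sup_le hPH hUH) hd
    obtain ⟨B, hBF, hB, hB2, hPB⟩ := exists_line_two hG hH hF' d.tL hP (le_sup_left.trans hle)
    exact (tau23_centralizes hG hH hF' d.tL hBF hB hB2 hU (le_sup_right.trans hle) h23).trans
      (Subgroup.centralizer_le (SetLike.coe_subset_coe.mpr hPB))
  obtain ⟨W, hWT, hW⟩ := exists_sub_card hT fun e => hTmove (e ▸ bot_le)
  have htH : t ∈ tau1 H := by
    have h2 : t ∉ tau2 H := fun h => hTmove (hcent hT hTH (Or.inr hTP) htσH (Or.inl h))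
    refine (tau1_or_tau3 hG hH htσH (rank_one_of_not_sigma hG hH htσH h2) hW (hWT.trans hTH)).resolve_right
      fun h => ?_
    exact hTmove (hcent hT hTH (Or.inr hTP) htσH (Or.inr h))
  have hTM : T ≤ M := hTE.trans hE.1
  have htσM : t ∉ sigma M := complement_sigma' hG hM hE t ht'
    ((hW ▸ Subgroup.card_dvd_of_le hWT : t ∣ Nat.card T).trans (Subgroup.card_dvd_of_le hTE))
  have htM : t ∈ tau1 M := by
    have h2 : t ∉ tau2 M := fun h => by
      obtain ⟨B, hBE, hB, hB2⟩ := exists_elementary_in_complement hG hM hE h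
      exact rank_two_not_le htH.2.2.2.2 hB hB2 (hBE.trans hEH)
    refine (tau1_or_tau3 hG hM htσM (rank_one_of_not_sigma hG hM htσM h2) hW (hWT.trans hTM)).resolve_right
      fun h => ?_
    obtain ⟨E₃, hTE₃, -, hd, -⟩ := exists_tau3_hall hG hM hE hTE (pi_of_pgroup hT h)
    obtain ⟨E₃', hPE₃, -, hd', -⟩ := exists_tau3_hall hG hM hE hPE (pi_of_card hP hp)
    haveI := complement_derived_commutative hG hM hE
    exact hTmove (((hTE₃.trans hd).trans (Subgroup.le_centralizer (⁅E, E⁆ : Subgroup G))).trans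
      (Subgroup.centralizer_le (SetLike.coe_subset_coe.mpr (hPE₃.trans hd'))))
  have hWE : W ≤ E := hWT.trans hTE
  have hWX : W ≤ centralizer (X : Set G) :=
    (hWE.trans hEQ').trans (Subgroup.centralizer_le (SetLike.coe_subset_coe.mpr hXQ))
  have hXW : X ≤ centralizer (W : Set G) := Subgroup.le_centralizer_iff.mp hWX
  have hWP : ¬ W ≤ centralizer (P : Set G) := by
    intro h
    obtain ⟨L, hL, hNW⟩ := exists_coatom_ge (normalizer_ne_top hG (ne_bot_of_card hW)
      (pgroup_ne_top hG (isPGroup_of_card hW)))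
    have hbadW : sigmaCore M ⊓ centralizer (W : Set G) ≠ ⊥ := fun e =>
      ne_bot_of_card hX (le_bot_iff.mp (e ▸ le_inf (hXC.trans inf_le_left) hXW))
    have htL : t ∈ sigma L := tau1_bad_sigma hG hM hL htM hW (hWT.trans hTM) hbadW hNW
    have hCW := (Subgroup.centralizer_le_normalizer _).trans hNW
    haveI := cyclic_isCommutative (rank_one_cyclic hG htM.2.2.2.2 hT hTM)
    have hTL : T ≤ L := ((Subgroup.le_centralizer T).trans
      (Subgroup.centralizer_le (SetLike.coe_subset_coe.mpr hWT))).trans hCW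
    have hPL : P ≤ L := (Subgroup.le_centralizer_iff.mp h).trans hCW
    have hpb : p ∈ beta L := by
      by_contra hb
      exact hTmove (centralizes_of_sigma_beta hG hL (fun e => htp e.symm) hb (isPGroup_of_card hP) hPL hT hTL htL hTP)
    have hpL := alpha_subset_sigma hG hL hpb.1
    have hu := uniq_centralizer_of_sigma hG hL hpL hPL hP (Or.inl hpb)
    exact hpH (by rw [hu.2 H hH hCPH]; exact hpL)
  have hWZ : Z ≤ centralizer (W : Set G) :=
    hZle.trans (tau1_centralizer_le hG hH d.qL htσH hX hXH hW (hWT.trans hTH) hWX)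
  have hC1 : sigmaCore M ⊓ centralizer (W : Set G) ≤ sigmaCore M ⊓ H := le_inf inf_le_left
    ((tau1_centralizer_le hG hM htM hrM hW (hWT.trans hTM) hZ hZM hWZ).trans hCZH)
  have hHP : sigmaCore M ⊓ H ≤ centralizer (P : Set G) := by
    have hPK : P ≤ normalizer ((sigmaCore M ⊓ H : Subgroup G) : Set G) := fun y hy => mem_normalizer_of_conj_smul (by
      rw [Subgroup.smul_inf, conj_smul_eq_of_mem_normalizer (le_normalizer_sigmaCore hG hM le_rfl (hPM hy)),
        smul_eq_self_of_mem (hPH hy)])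
    refine le_centralizer_of_sylows fun s hs => ?_
    haveI := Fact.mk hs
    obtain ⟨U, hU, hPU⟩ := CfsgLib.exists_invariant_hall ({s} : Set ℕ) hPK
      (coprime_sigmaCore hG hM hp.2.1 (isPGroup_of_card hP) inf_le_left)
      (solvable_of_le (inf_le_right : sigmaCore M ⊓ H ≤ H) (solvable_of_ne_top hG hH.1))
    refine ⟨U, hU.1, hU.2.2 s hs rfl, ?_⟩
    by_cases hU1 : U = ⊥
    · exact hU1 ▸ bot_le
    have hUs : IsPGroup s U := IsPGroup.of_card (n := (Nat.card U).primeFactorsList.length)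
      (Nat.eq_prime_pow_of_unique_prime_dvd Nat.card_pos.ne' fun {r} hr hd => hU.2.1 r hr hd)
    have hUH : U ≤ H := hU.1.trans inf_le_right
    obtain ⟨U₀, hU₀, hU₀c⟩ := exists_sub_card hUs hU1
    have hsM : s ∈ sigma M := (sigmaCore_hall hG hM).1.2.1 s hs
      (hU₀c ▸ Subgroup.card_dvd_of_le (hU₀.trans (hU.1.trans inf_le_left)))
    have hsH : s ∉ sigma H := fun h => by
      obtain ⟨g, hg⟩ := sigma_disjointness hG hM hH hsM h
      exact d.nconj g hg
    by_cases h2 : s ∈ tau2 H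
    · exact hcent hUs hUH (Or.inl hPU) hsH (Or.inl h2)
    rcases tau1_or_tau3 hG hH hsH (rank_one_of_not_sigma hG hH hsH h2) hU₀c (hU₀.trans hUH) with h | h
    · exact Subgroup.le_centralizer_iff.mp (centralizes_of_not_dvd h.2.2.2.1 hUs hUH hPH hPU)
    · exact hcent hUs hUH (Or.inl hPU) hsH (Or.inr h)
  have hWnP : W ≤ normalizer (P : Set G) := hWT.trans hTP
  have hfpf : P ⊓ centralizer (W : Set G) = ⊥ := cyclic_moved_fixed_bot (isPGroup_of_card hP)
    (isCyclic_of_prime_card hP) hWnP (coprime_pGroups Fact.out ht' (fun e => htp e.symm) (isPGroup_of_card hP)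
      (isPGroup_of_card hW)) hWP
  have hPn : Group.IsNilpotent P := (isPGroup_of_card hP).isNilpotent
  have hmain : P ≤ centralizer (sigmaCore M : Set G) := centralizes_of_fixed hPn hW hWnP hfpf
    ((sup_le hPM (hWT.trans hTM)).trans (le_normalizer_sigmaCore hG hM le_rfl))
    (Nat.coprime_of_dvd fun s hs h1 h2 => by
      have hsσ := (sigmaCore_hall hG hM).1.2.1 s hs h2
      exact complement_sigma' hG hM hE s hs (h1.trans (Subgroup.card_dvd_of_le (sup_le hPE hWE))) hsσ)
    (solvable_of_le (piCoreOf_le _ _) hMs) (hC1.trans hHP)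
  have hMH : M ≤ H := by
    intro m hm
    obtain ⟨a, ha, b, hb, rfl⟩ := hE.2.2.2 m hm
    exact mul_mem (hEH ha) (hCPH (Subgroup.le_centralizer_iff.mp hmain hb))
  rcases hM.le_iff.mp hMH with h | h
  · exact hH.1 h
  · exact hHM h

end CfsgLib.MinSimpleOdd
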