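import Cfsg.Agent.Lib.MinSimpleOdd.FittingRankThree
import Cfsg.Agent.Lib.OddLocal.NarrowStructure
import Cfsg.Agent.Lib.PowerGraph
import Cfsg.Agent.Lib.CharP
import Cfsg.Agent.Lib.ZJ.Complement
import Cfsg.Agent.Lib.BenderMax.LeadsTo
import Cfsg.Agent.S0118
import Cfsg.Agent.S1451

/-!
Self-centralising normal subgroups of rank three lie in a unique maximal subgroup (B–G 9.5, 9.6).
-/

set_option autoImplicit false
set_option linter.unusedSectionVars false
set_option maxHeartbeats 1000000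

namespace CfsgLib.MinSimpleOdd

open Subgroup Cfsg
open scoped Pointwise commutatorElement

universe u
variable {G : Type u} [Group G] [Finite G] {p : ℕ} [Fact p.Prime]

theorem pRankLE_of_injective {r k : ℕ} {H : Type*} [Group H] (f : H →* G) (hf : Function.Injective f)
    {X : Subgroup G} (hfX : ∀ h : H, f h ∈ X) (hX : PRankLE r k X) : PRankLE r k H := by
  have key : ∀ B' : Subgroup G, B' ≤ X → IsMulCommutative B' → (∀ b ∈ B', b ^ r = 1) →
      Nat.card B' ≤ r ^ k := fun B' hB'X hB'c he => by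
    rw [← Nat.card_congr (Subgroup.subgroupOfEquivOfLe hB'X).toEquiv]
    refine hX _ ⟨⟨fun a b => ?_⟩⟩ fun b hb => Subtype.ext (he b hb)
    apply Subtype.ext; apply Subtype.ext
    exact congrArg (fun t : B' => (t : G)) (hB'c.is_comm.comm ⟨((a : X) : G), a.2⟩ ⟨((b : X) : G), b.2⟩)
  intro B hBc he
  rw [← Subgroup.card_map_of_injective (K := B) hf]
  refine key _ ?_ ⟨⟨?_⟩⟩ ?_
  · rintro _ ⟨b, -, rfl⟩
    exact hfX b
  · rintro ⟨_, a, ha, rfl⟩ ⟨_, b, hb, rfl⟩
    exact Subtype.ext (by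
      show f a * f b = f b * f a
      rw [← map_mul, ← map_mul]
      exact congrArg f (congrArg Subtype.val (hBc.is_comm.comm ⟨a, ha⟩ ⟨b, hb⟩)))
  · rintro _ ⟨a, ha, rfl⟩
    rw [← map_pow, he a ha, map_one]

theorem pRankLE_mono {r k : ℕ} {X Y : Subgroup G} (h : Y ≤ X) (hX : PRankLE r k X) : PRankLE r k Y :=
  pRankLE_of_injective Y.subtype Y.subtype_injective (fun y => h y.2) hX

theorem not_rankLE_one {X : Subgroup G} (h : ¬ PRankLE p 2 X) : ¬ RankLE 1 X := fun h1 =>
  h fun B hB he => (h1 p Fact.out B hB he).trans (Nat.pow_le_pow_right (Fact.out : p.Prime).pos one_le_two)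

theorem not_pRankLE_centralizer_self {A : Subgroup G} [IsMulCommutative A] (h : ¬ PRankLE p 2 A) :
    ¬ PRankLE p 2 ↥(centralizer (A : Set G)) := fun h' =>
  h (pRankLE_mono (Subgroup.le_centralizer A) h')

theorem not_cyclic_of_rank {A : Subgroup G} (h : ¬ PRankLE p 2 A) : ¬ IsCyclic A := fun hc => by
  haveI := hc
  exact h fun B _ hexp => (card_le_of_cyclic (G := A) (Fact.out : p.Prime) hexp inferInstance).trans
    (Nat.le_self_pow two_ne_zero p)

theorem commutator_eq_top (hG : IsMinSimpleOddOrder G) : commutator G = ⊤ := by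
  haveI := isSimple hG
  rcases (inferInstance : (commutator G).Normal).eq_bot_or_eq_top with h | h
  · refine absurd ⟨⟨fun a b => ?_⟩⟩ hG.2.2.1
    rw [← commutatorElement_eq_one_iff_mul_comm, ← Subgroup.mem_bot, ← h]
    exact Subgroup.commutator_mem_commutator (Subgroup.mem_top a) (Subgroup.mem_top b)
  · exact h

/-- A Sylow subgroup lies in the derived group of the normaliser of the centre of its Thompson subgroup. -/
theorem le_derived_normalizer_zj (hG : IsMinSimpleOddOrder G) (hp : p ≠ 2) (P : Sylow p G) :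
    (P : Subgroup G) ≤ ⁅normalizer (centerThompsonOf p (P : Subgroup G) : Set G),
      normalizer (centerThompsonOf p (P : Subgroup G) : Set G)⁆ := by
  set N := normalizer (centerThompsonOf p (P : Subgroup G) : Set G) with hN
  have hfree : ¬ ∃ (H K : Subgroup G) (_hK : (K.subgroupOf H).Normal),
      Nonempty ((H ⧸ K.subgroupOf H) ≃* Matrix.SpecialLinearGroup (Fin 2) (ZMod p)) := by
    rintro ⟨H, K, hK, ⟨e⟩⟩
    have hd : Nat.card (Matrix.SpecialLinearGroup (Fin 2) (ZMod p)) ∣ Nat.card G := by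
      rw [← Nat.card_congr e.toEquiv]
      exact (Subgroup.card_quotient_dvd_card _).trans (Subgroup.card_subgroup_dvd_card H)
    haveI : Fact (Even (Fintype.card (Fin 2))) := ⟨by simp⟩
    have hne : ((-1 : Matrix.SpecialLinearGroup (Fin 2) (ZMod p))) ≠ 1 := by
      intro he
      have h0 := congrArg (fun M : Matrix.SpecialLinearGroup (Fin 2) (ZMod p) =>
        (M : Matrix (Fin 2) (Fin 2) (ZMod p)) 0 0) he
      simp at h0
      haveI : Fact (2 < p) := ⟨lt_of_le_of_ne (Fact.out : p.Prime).two_le (Ne.symm hp)⟩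
      exact ZMod.neg_one_ne_one h0
    have ho : orderOf (-1 : Matrix.SpecialLinearGroup (Fin 2) (ZMod p)) = 2 :=
      orderOf_eq_prime (by simp [sq]) hne
    have h2 := _root_.orderOf_dvd_natCard (-1 : Matrix.SpecialLinearGroup (Fin 2) (ZMod p))
    rw [ho] at h2
    exact hG.1.not_two_dvd_nat (h2.trans hd)
  have hPN : (P : Subgroup G) ≤ N := by
    rw [hN, ← ZJ.zj_prime]
    exact Subgroup.le_normalizer.trans (ZJ.normalizer_le_normalizer_zj p _)
  have hf : (P : Subgroup G).focalSubgroup ≤ ⁅N, N⁆ := by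
    rw [Subgroup.focalSubgroup_def, Subgroup.closure_le]
    rintro _ ⟨hg, x, hx, u, rfl⟩
    have hux : u * x⁻¹ * u⁻¹ ∈ (P : Subgroup G) := by
      have := mul_mem (inv_mem hx) hg
      rwa [show x⁻¹ * ⁅x, u⁆ = u * x⁻¹ * u⁻¹ by simp only [commutatorElement_def]; group] at this
    obtain ⟨n, hn, hne⟩ := Cfsg.Agent.S0118.result hp hfree P {x⁻¹}
      (Set.singleton_subset_iff.mpr (inv_mem hx)) u⁻¹ (by
        rw [Set.image_singleton, Set.singleton_subset_iff, inv_inv]
        exact hux)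
    have h1 := hne x⁻¹ rfl
    rw [inv_inv] at h1
    have e : ⁅x, u⁆ = ⁅x, n⁻¹⁆ := by
      rw [commutatorElement_def, commutatorElement_def]
      calc x * u * x⁻¹ * u⁻¹ = x * (u * x⁻¹ * u⁻¹) := by group
        _ = x * (n⁻¹ * x⁻¹ * n) := by rw [h1]
        _ = _ := by group
    rw [e]
    exact Subgroup.commutator_mem_commutator (hPN hx) (inv_mem hn)
  intro g hg
  refine hf ?_
  rw [← Subgroup.commutator_inf_eq_focalSubgroup P, commutator_eq_top hG]
  exact ⟨Subgroup.mem_top g, hg⟩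

/-- A `p`-group in the derived group of the normaliser of an `r`-group with an element whose centraliser has
rank at most two centralises it. -/
theorem centralizes_of_small (hG : IsMinSimpleOddOrder G) {P R : Subgroup G} (hP : IsPGroup p P) {r : ℕ}
    [Fact r.Prime] (hrp : r ≠ p) (hR : IsPGroup r R)
    (hPd : P ≤ ⁅normalizer (R : Set G), normalizer (R : Set G)⁆) {x : R} (hx : x ^ r = 1)
    (hxr : PRankLE r 2 ↥(centralizer ({x} : Set R))) : P ≤ centralizer (R : Set G) := by
  rcases eq_or_ne R ⊥ with h0 | h0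
  · intro a _ b hb
    rw [h0, SetLike.mem_coe, Subgroup.mem_bot] at hb
    rw [hb, one_mul, mul_one]
  have hr := p_ne_two hG.1 hR h0
  set N := normalizer (R : Set G) with hN
  haveI : Group.IsSolvable N := solvable_of_ne_top hG (normalizer_ne_top hG h0 (pgroup_ne_top hG hR))
  set ψ := R.normalizerMonoidHom with hψ
  haveI : Group.IsSolvable ψ.range := solvable_of_surjective ψ.rangeRestrict_surjective
  have hodd : Odd (Nat.card ψ.range) :=
    hG.1.of_dvd_nat ((Subgroup.card_range_dvd ψ).trans (Subgroup.card_subgroup_dvd_card N))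
  have hd := NarrowDerived.derived_isPGroup hr hR hx hxr hodd ψ.range.subtype ψ.range.subtype_injective
  intro g hg
  have hgN : g ∈ N := Subgroup.commutator_le_self N (hPd hg)
  have hgc : (⟨g, hgN⟩ : N) ∈ commutator N := by
    obtain ⟨y, hy, e⟩ := (Subgroup.map_subtype_commutator N).ge (hPd hg)
    have : y = ⟨g, hgN⟩ := Subtype.ext e
    exact this ▸ hy
  have him : ψ.rangeRestrict ⟨g, hgN⟩ ∈ commutator ψ.range := by
    have h := Subgroup.mem_map_of_mem ψ.rangeRestrict hgc
    rw [_root_.commutator_def, Subgroup.map_commutator] at h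
    rw [_root_.commutator_def]
    exact Subgroup.commutator_mono le_top le_top h
  obtain ⟨k, hk⟩ := hd ⟨_, him⟩
  have h1 : orderOf (ψ.rangeRestrict ⟨g, hgN⟩) ∣ r ^ k :=
    orderOf_dvd_of_pow_eq_one (congrArg Subtype.val hk)
  obtain ⟨i, hi⟩ := hP.exists_card_eq
  have h2 : orderOf (ψ.rangeRestrict ⟨g, hgN⟩) ∣ p ^ i := (orderOf_map_dvd _ _).trans (by
    rw [Subgroup.orderOf_mk, ← hi]; exact Subgroup.orderOf_dvd_natCard _ hg)
  have h3 : orderOf (ψ.rangeRestrict ⟨g, hgN⟩) = 1 := Nat.eq_one_of_dvd_coprimes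
    (((Nat.coprime_primes (Fact.out : r.Prime) (Fact.out : p.Prime)).mpr hrp).pow k i) h1 h2
  have h4 : (⟨g, hgN⟩ : N) ∈ ψ.ker := congrArg Subtype.val (orderOf_eq_one_iff.mp h3)
  rw [hψ, Subgroup.normalizerMonoidHom_ker] at h4
  exact h4

/-- All elements of order dividing `r` of `R` have centralisers of rank at least three. -/
abbrev BigCentralizers (r : ℕ) (R : Subgroup G) : Prop :=
  ∀ x : R, x ^ r = 1 → ¬ PRankLE r 2 ↥(centralizer ({x} : Set R))

theorem not_cyclic_of_big {r : ℕ} [Fact r.Prime] {R : Subgroup G} (h : BigCentralizers r R) : ¬ IsCyclic R :=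
  fun hc => by
    haveI := hc
    refine h 1 (one_pow r) fun B _ hexp => ?_
    exact (card_le_of_cyclic (G := ↥(centralizer ({1} : Set R))) (Fact.out : r.Prime) hexp inferInstance).trans
      (Nat.le_self_pow two_ne_zero r)

theorem uniq_elementary_of_big (hG : IsMinSimpleOddOrder G) {s : ℕ} [Fact s.Prime] {R B E : Subgroup G}
    (hR : IsPGroup s R) (hbig : BigCentralizers s R) (hEp : IsPGroup s E) [IsMulCommutative E]
    (hE3 : ¬ PRankLE s 2 E) (hEU : InUniqueMaximal E) (hBR : B ≤ R) (hB : IsElementaryAbelian s B)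
    (hB2 : Nat.card B = s ^ 2) : InUniqueMaximal B := by
  refine uniq_transfer hG hEp hE3 hEU (hR.to_le hBR) (not_cyclic_of_elementary hB.2 ?_) fun h => ?_
  · rw [hB2]
    calc s = s ^ 1 := (pow_one s).symm
      _ < _ := Nat.pow_lt_pow_right (Fact.out : s.Prime).one_lt one_lt_two
  · have hB' : IsElementaryAbelian s (B.subgroupOf R) := by
      refine ⟨⟨⟨fun a b => ?_⟩⟩, fun a ha => Subtype.ext (hB.2 a ha)⟩
      apply Subtype.ext; apply Subtype.ext
      exact congrArg (fun t : B => (t : G)) (hB.1.is_comm.comm ⟨((a : R) : G), a.2⟩ ⟨((b : R) : G), b.2⟩)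
    obtain ⟨x, hx, hxr⟩ := NarrowStructure.exists_small hR (B.subgroupOf R) hB'
      (pRankLE_of_injective (X := centralizer (B : Set G)) (R.subtype.comp (Subgroup.subtype _))
        (R.subtype_injective.comp (Subgroup.subtype_injective _))
        (fun h b hb => congrArg Subtype.val (h.2 ⟨b, hBR hb⟩ hb)) h)
    exact hbig x hx hxr

/-- An invariant `s`-subgroup of rank three, not centralised by `P`, in a maximal subgroup `M` with all
elementary subgroups of order `s²` in a unique maximal subgroup. -/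
structure Good (P : Subgroup G) (p s : ℕ) (M R : Subgroup G) : Prop where
  prime : s.Prime
  ne : s ≠ p
  max : R ∈ maxInvSubgroups ⊤ P {s}
  coatom : IsCoatom M
  le : R ≤ M
  uniq : ∀ B : Subgroup G, B ≤ R → IsElementaryAbelian s B → Nat.card B = s ^ 2 → InUniqueMaximal B
  big : BigCentralizers s R
  moved : ¬ P ≤ centralizer (R : Set G)

section

variable {P A : Subgroup G}

theorem Good.ne_bot {s : ℕ} {M R : Subgroup G} (h : Good P p s M R) : R ≠ ⊥ := fun e => h.moved (by
  intro a _ b hb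
  rw [e, SetLike.mem_coe, Subgroup.mem_bot] at hb
  rw [hb, one_mul, mul_one])

theorem Good.elementary (hG : IsMinSimpleOddOrder G) {s : ℕ} {M R K : Subgroup G} (h : Good P p s M R)
    (hK : K ≤ R) (hnc : ¬ IsCyclic K) : ∃ B : Subgroup G, B ≤ K ∧ InUniqueMaximal B := by
  haveI := Fact.mk h.prime
  have hRs := isPGroup_of_inv h.max.1
  obtain ⟨B, hBK, -, hB, hB2⟩ :=
    exists_elementary_two (p_ne_two hG.1 hRs h.ne_bot) (hRs.to_le hK) hnc
  exact ⟨B, hBK, h.uniq B (hBK.trans hK) hB hB2⟩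

/-- A maximal subgroup containing a noncyclic subgroup of `R` is `M`. -/
theorem Good.eq_of_le (hG : IsMinSimpleOddOrder G) {s : ℕ} {M R K L : Subgroup G} (h : Good P p s M R)
    (hK : K ≤ R) (hnc : ¬ IsCyclic K) (hL : IsCoatom L) (hKL : K ≤ L) : L = M := by
  obtain ⟨B, hBK, hB⟩ := h.elementary hG hK hnc
  exact uniq_eq hB hL (hBK.trans hKL) h.coatom ((hBK.trans hK).trans h.le)

theorem Good.normalizer_le (hG : IsMinSimpleOddOrder G) {s : ℕ} {M R U : Subgroup G} (h : Good P p s M R)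
    (hU : U ≤ R) (hU0 : U ≠ ⊥) : normalizer (U : Set G) ≤ M := by
  haveI := Fact.mk h.prime
  have hRs := isPGroup_of_inv h.max.1
  obtain ⟨L, hL, hle⟩ := exists_coatom_ge (normalizer_ne_top hG hU0 (pgroup_ne_top hG (hRs.to_le hU)))
  have hnc : ¬ IsCyclic ↥(R ⊓ normalizer (U : Set G)) := by
    intro hc
    haveI := hc
    set K := R ⊓ normalizer (U : Set G) with hK
    have hne : K ≠ R := fun e => not_cyclic_of_big h.big (e ▸ hc)
    have hlt := Transitivity.inf_normalizer_lt_qGroup (q := s) hRs (inf_le_left : K ≤ R) hne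
    refine hlt.not_ge (le_inf inf_le_left fun r hr => ?_)
    obtain ⟨-, hrK⟩ := hr
    refine mem_normalizer_of_conj_smul ?_
    have hUK : U ≤ K := le_inf hU Subgroup.le_normalizer
    have hrU : MulAut.conj r • U ≤ K := (conj_smul_mono hUK r).trans (conj_smul_eq_of_mem_normalizer hrK).le
    have e : (MulAut.conj r • U).subgroupOf K = U.subgroupOf K := CfsgLib.PowerGraph.subgroup_eq_of_card (by
      rw [Nat.card_congr (Subgroup.subgroupOfEquivOfLe hrU).toEquiv,
        Nat.card_congr (Subgroup.subgroupOfEquivOfLe hUK).toEquiv, CfsgLib.card_conj_smul])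
    rw [← Subgroup.map_subgroupOf_eq_of_le hrU, e, Subgroup.map_subgroupOf_eq_of_le hUK]
  exact (h.eq_of_le hG inf_le_left hnc hL (inf_le_right.trans hle)) ▸ hle

theorem inv_le_conj {s : ℕ} (hT : Trans A P s) {R U : Subgroup G} (hR : R ∈ maxInvSubgroups ⊤ P {s})
    (hU : U ∈ invSubgroups ⊤ A {s}) (h0 : Trans A A s) :
    ∃ k ∈ centralizer (A : Set G), U ≤ MulAut.conj k • R := by
  obtain ⟨Q, hQ, hUQ⟩ := exists_max_ge hU
  obtain ⟨k, hk, e⟩ := h0.2.2 R (hT.2.1 hR) Q hQ
  exact ⟨k, piCoreOf_le _ _ hk, e ▸ hUQ⟩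

/-- In an elementary abelian group acting on a group of prime order, a subgroup of index at most `p`
centralises. -/
theorem card_le_mul_centralizer_prime {V : Subgroup G} (hV : ∀ v ∈ V, v ^ p = 1) {d : Subgroup G} {s : ℕ}
    [Fact s.Prime] (hd : Nat.card d = s) (hn : V ≤ normalizer (d : Set G)) :
    Nat.card V ≤ p * Nat.card ↥(V ⊓ centralizer (d : Set G)) := by
  haveI : IsCyclic d := isCyclic_of_prime_card hd
  set f := d.normalizerMonoidHom.comp (Subgroup.inclusion hn) with hf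
  haveI : IsCyclic (MulAut d) := by
    haveI : IsCyclic (ZMod (Nat.card d))ˣ := by
      rw [hd]
      infer_instance
    exact isCyclic_of_surjective _ (IsCyclic.mulAutMulEquiv (G := d)).symm.surjective
  have h1 : Nat.card f.range ≤ p := by
    refine card_le_of_cyclic (Fact.out : p.Prime) ?_ inferInstance
    rintro _ ⟨v, rfl⟩
    rw [← map_pow, show v ^ p = 1 from Subtype.ext (hV v v.2), map_one]
  have h2 : Nat.card f.ker ≤ Nat.card ↥(V ⊓ centralizer (d : Set G)) := by
    refine Nat.card_le_card_of_injective (fun v : f.ker => (⟨(v : V), (v : V).2, ?_⟩ :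
      ↥(V ⊓ centralizer (d : Set G)))) fun a b e => by
        apply Subtype.ext; apply Subtype.ext
        exact congrArg (fun t : ↥(V ⊓ centralizer (d : Set G)) => (t : G)) e
    have h' : Subgroup.inclusion hn (v : V) ∈ d.normalizerMonoidHom.ker := v.2
    rw [Subgroup.normalizerMonoidHom_ker] at h'
    exact h'
  have h3 : Nat.card f.range = f.ker.index := (Subgroup.index_ker f).symm
  rw [← f.ker.card_mul_index, ← h3, mul_comm p]
  exact Nat.mul_le_mul h2 h1

theorem card_mul_le_of_le {V W W' : Subgroup G} [IsMulCommutative V] (hW : W ≤ V) (hW' : W' ≤ V) :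
    Nat.card W * Nat.card W' ≤ Nat.card V * Nat.card ↥(W ⊓ W') := by
  exact (CfsgLib.Products.card_mul_card_le W W').trans
    (Nat.mul_le_mul_right _ (Subgroup.card_le_of_le (sup_le hW hW')))

variable (hG : IsMinSimpleOddOrder G) (hP : IsPGroup p P) (hidx : ¬ p ∣ P.index) (hA : IsSCN P A)

include hG hP hidx hA

theorem Good.centralizer_le [IsMulCommutative A] {s : ℕ} {M R : Subgroup G} (h : Good P p s M R)
    (hPd : P ≤ ⁅normalizer (R : Set G), normalizer (R : Set G)⁆) {V : Subgroup G} (hVA : V ≤ A)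
    (hVc : IsMulCommutative V) (hVe : ∀ v ∈ V, v ^ p = 1) (hV3 : Nat.card V = p ^ 3) :
    centralizer (A : Set G) ≤ M := by
  haveI := Fact.mk h.prime
  haveI := hVc
  have hpp : p.Prime := Fact.out
  have hRs := isPGroup_of_inv h.max.1
  have hs := p_ne_two hG.1 hRs h.ne_bot
  have hVR : V ≤ normalizer (R : Set G) := (hVA.trans hA.1).trans h.max.1.2.2
  suffices hx : ∃ x ∈ V, x ≠ 1 ∧ ¬ IsCyclic ↥(R ⊓ centralizer ({x} : Set G)) by
    obtain ⟨x, hxV, hx1, hnc⟩ := hx
    obtain ⟨L, hL, hle⟩ := exists_coatom_ge (centralizer_ne_top hG hx1)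
    rw [h.eq_of_le hG inf_le_left hnc hL (inf_le_right.trans hle)] at hle
    exact (centralizer_anti (hVA)).trans (fun c hc => hle
      (Subgroup.mem_centralizer_singleton_iff.mpr (hc x hxV).symm))
  by_contra hcon
  push_neg at hcon
  obtain ⟨D, hDch, hDe, -, hDf⟩ := NarrowDerived.exists_omega_critical hs hRs
  set D' := D.map R.subtype with hD'
  have hD'R : D' ≤ R := Subgroup.map_subtype_le _
  have hD'e : ∀ d ∈ D', d ^ s = 1 := by
    rintro _ ⟨d, hd, rfl⟩
    rw [← map_pow, hDe d hd, map_one]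
  have hND : normalizer (R : Set G) ≤ normalizer (D' : Set G) :=
    (CfsgLib.le_normalizer_map_characteristic (A := normalizer (R : Set G)) le_rfl D).1
  have hVD : V ≤ normalizer (D' : Set G) := hVR.trans hND
  obtain ⟨k, hk⟩ := (hRs.to_le hD'R).exists_card_eq
  obtain ⟨i, hi⟩ := hP.exists_card_eq
  have hcopD : (Nat.card V).Coprime (Nat.card D') := by
    rw [hV3, hk]
    exact ((Nat.coprime_primes hpp h.prime).mpr (Ne.symm h.ne)).pow 3 k
  -- `D` is not cyclic
  have hDnc : ¬ IsCyclic D' := by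
    intro hc
    haveI := hc
    refine h.moved fun g hg => ?_
    have hgN := h.max.1.2.2 hg
    set ψ := D'.normalizerMonoidHom.comp (Subgroup.inclusion hND) with hψ
    haveI : IsMulCommutative (MulAut D') := ⟨⟨fun a b => by
      apply (IsCyclic.mulAutMulEquiv (G := D')).injective
      rw [map_mul, map_mul, mul_comm]⟩⟩
    have hker : commutator ↥(normalizer (R : Set G)) ≤ ψ.ker := by
      rw [_root_.commutator_def, Subgroup.commutator_le]
      intro a _ b _
      rw [MonoidHom.mem_ker, map_commutatorElement, commutatorElement_eq_one_iff_mul_comm]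
      exact mul_comm' _ _
    have hgc : (⟨g, hgN⟩ : normalizer (R : Set G)) ∈ commutator ↥(normalizer (R : Set G)) := by
      obtain ⟨y, hy, e⟩ := (Subgroup.map_subtype_commutator _).ge (hPd hg)
      have : y = ⟨g, hgN⟩ := Subtype.ext e
      exact this ▸ hy
    have h4 : Subgroup.inclusion hND ⟨g, hgN⟩ ∈ D'.normalizerMonoidHom.ker := hker hgc
    rw [Subgroup.normalizerMonoidHom_ker] at h4
    have h5 : g ∈ centralizer (D' : Set G) := h4
    have h6 : R.normalizerMonoidHom ⟨g, hgN⟩ = 1 := by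
      refine hDf _ ?_ fun d hd => ?_
      · refine (((Nat.coprime_primes hpp h.prime).mpr (Ne.symm h.ne)).pow_left i).coprime_dvd_left ?_
        refine (orderOf_map_dvd _ _).trans ?_
        rw [Subgroup.orderOf_mk, ← hi]
        exact Subgroup.orderOf_dvd_natCard _ hg
      · apply Subtype.ext
        show g * (d : G) * g⁻¹ = d
        have h8 : (d : G) * g = g * d := h5 _ ⟨d, hd, rfl⟩
        rw [← h8, mul_inv_cancel_right]
    have h7 : (⟨g, hgN⟩ : normalizer (R : Set G)) ∈ R.normalizerMonoidHom.ker := h6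
    rw [Subgroup.normalizerMonoidHom_ker] at h7
    exact h7
  -- the centralisers in `D` have order at most `s`
  have hcard : ∀ x ∈ V, x ≠ 1 → Nat.card ↥(D' ⊓ centralizer ({x} : Set G)) ≤ s := fun x hx hx1 => by
    refine card_le_of_cyclic h.prime (fun d hd => hD'e d hd.1) ?_
    haveI := hcon x hx hx1
    exact Subgroup.isCyclic_of_le (inf_le_inf_right _ hD'R)
  have hVnc : ¬ IsCyclic V := not_cyclic_of_elementary hVe (by
    rw [hV3]
    calc p = p ^ 1 := (pow_one p).symm
      _ < _ := Nat.pow_lt_pow_right hpp.one_lt (by norm_num))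
  have hgen := CfsgLib.coprime_generated_by_centralizers hVnc hVD hcopD
  set C := fun x : G => D' ⊓ centralizer ({x} : Set G) with hC
  obtain ⟨x₁, hx₁V, hx₁1, hC₁⟩ : ∃ x ∈ V, x ≠ 1 ∧ C x ≠ ⊥ := by
    by_contra hall
    push_neg at hall
    refine hDnc ?_
    rw [le_bot_iff.mp (hgen.ge.trans (iSup₂_le fun x hx => (hall x hx.1 hx.2).le))]
    infer_instance
  obtain ⟨x₂, hx₂V, hx₂1, hC₂⟩ : ∃ x ∈ V, x ≠ 1 ∧ ¬ C x ≤ C x₁ := by
    by_contra hall
    push_neg at hall
    refine hDnc ?_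
    have : D' = C x₁ := le_antisymm (hgen.ge.trans (iSup₂_le fun x hx => hall x hx.1 hx.2)) inf_le_left
    rw [this]
    haveI := hcon x₁ hx₁V hx₁1
    exact Subgroup.isCyclic_of_le (inf_le_inf_right _ hD'R)
  have hCs : ∀ x ∈ V, x ≠ 1 → C x ≠ ⊥ → Nat.card (C x) = s := fun x hx hx1 h0 => by
    obtain ⟨j, hj⟩ := (hRs.to_le ((inf_le_left : C x ≤ D').trans hD'R)).exists_card_eq
    have hj0 : j ≠ 0 := fun e => h0 (Subgroup.card_eq_one.mp (by rw [hj, e, pow_zero]))
    exact le_antisymm (hcard x hx hx1) (hj ▸ Nat.le_self_pow hj0 s)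
  have hCn : ∀ x ∈ V, V ≤ normalizer (C x : Set G) := fun x hx v hv => by
    refine mem_normalizer_of_conj_smul ?_
    rw [hC, Subgroup.smul_inf, conj_smul_eq_of_mem_normalizer (hVD hv)]
    congr 1
    apply conj_smul_eq_of_mem_normalizer
    exact Subgroup.le_normalizer (Subgroup.mem_centralizer_singleton_iff.mpr
      (congrArg Subtype.val (hVc.is_comm.comm ⟨x, hx⟩ ⟨v, hv⟩)).symm)
  have hC₂0 : C x₂ ≠ ⊥ := fun e => hC₂ (e ▸ bot_le)
  have h1 := card_le_mul_centralizer_prime hVe (hCs x₁ hx₁V hx₁1 hC₁) (hCn x₁ hx₁V)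
  have h2 := card_le_mul_centralizer_prime hVe (hCs x₂ hx₂V hx₂1 hC₂0) (hCn x₂ hx₂V)
  set W := V ⊓ centralizer (C x₁ : Set G)
  set W' := V ⊓ centralizer (C x₂ : Set G)
  have h3 := card_mul_le_of_le (V := V) (inf_le_left : W ≤ V) (inf_le_left : W' ≤ V)
  have h4 : W ⊓ W' ≠ ⊥ := by
    intro e
    rw [e, Subgroup.card_bot, mul_one] at h3
    rw [hV3] at h1 h2 h3
    have hle : p ^ 3 * p ^ 3 ≤ p ^ 2 * p ^ 3 := calc
      p ^ 3 * p ^ 3 ≤ (p * Nat.card W) * (p * Nat.card W') := Nat.mul_le_mul h1 h2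
      _ = p ^ 2 * (Nat.card W * Nat.card W') := by ring
      _ ≤ p ^ 2 * p ^ 3 := Nat.mul_le_mul_left _ h3
    exact absurd ((Nat.pow_le_pow_iff_right hpp.one_lt).mp (Nat.le_of_mul_le_mul_right hle (pow_pos hpp.pos 3)))
      (by norm_num)
  obtain ⟨y, hy1⟩ := Subgroup.ne_bot_iff_exists_ne_one.mp h4
  obtain ⟨x, hx⟩ := y
  have hx1 : x ≠ 1 := fun e => hy1 (Subtype.ext e)
  obtain ⟨⟨hxV, hxc₁⟩, -, hxc₂⟩ := hx
  have hle₁ : C x₁ ≤ C x := fun d hd => ⟨hd.1, Subgroup.mem_centralizer_singleton_iff.mpr (hxc₁ d hd)⟩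
  have hle₂ : C x₂ ≤ C x := fun d hd => ⟨hd.1, Subgroup.mem_centralizer_singleton_iff.mpr (hxc₂ d hd)⟩
  refine hC₂ (hle₂.trans (Subgroup.eq_of_le_of_card_ge hle₁ ?_).ge)
  rw [hCs x₁ hx₁V hx₁1 hC₁]
  exact hcard x hxV hx1

/-- All the good subgroups lie in one maximal subgroup. -/
theorem Good.unique [IsMulCommutative A] (htr : ∀ q : ℕ, [Fact q.Prime] → q ≠ p → Trans A A q ∧ Trans A P q)
    {V : Subgroup G} (hVA : V ≤ A) (hVc : IsMulCommutative V) (hVe : ∀ v ∈ V, v ^ p = 1)
    (hV3 : Nat.card V = p ^ 3)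
    (hPd : ∀ (r : ℕ) (R : Subgroup G), r.Prime → r ≠ p → R ∈ maxInvSubgroups ⊤ P {r} →
      P ≤ ⁅normalizer (R : Set G), normalizer (R : Set G)⁆)
    {q r : ℕ} {M M' R R' : Subgroup G} (h : Good P p q M R) (h' : Good P p r M' R') : M = M' := by
  haveI := Fact.mk h.prime
  haveI := Fact.mk h'.prime
  haveI := hVc
  have hpp : p.Prime := Fact.out
  have hCM := h.centralizer_le hG hP hidx hA (hPd q R h.prime h.ne h.max) hVA hVc hVe hV3
  have hCM' := h'.centralizer_le hG hP hidx hA (hPd r R' h'.prime h'.ne h'.max) hVA hVc hVe hV3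
  by_contra hne
  have hR'M : ¬ R' ≤ M := fun hle =>
    hne (h'.eq_of_le hG le_rfl (not_cyclic_of_big h'.big) h.coatom hle)
  have hRM' : ¬ R ≤ M' := fun hle =>
    hne (h.eq_of_le hG le_rfl (not_cyclic_of_big h.big) h'.coatom hle).symm
  have hqr : q ≠ r := by
    rintro rfl
    obtain ⟨k, hk, hle⟩ := inv_le_conj (htr q h.ne).2 h.max (U := R')
      ⟨le_top, h'.max.1.2.1, hA.1.trans h'.max.1.2.2⟩ (htr q h.ne).1
    exact hR'M (hle.trans ((conj_smul_mono h.le k).trans
      (conj_smul_eq_of_mem_normalizer (Subgroup.le_normalizer (hCM hk))).le))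
  have hAp := hP.to_le hA.1
  have hVnc : ¬ IsCyclic V := not_cyclic_of_elementary hVe (by
    rw [hV3]
    calc p = p ^ 1 := (pow_one p).symm
      _ < _ := Nat.pow_lt_pow_right hpp.one_lt (by norm_num))
  -- a plane in `V` whose fixed points escape
  have key : ∀ {t : ℕ} {S N : Subgroup G}, t.Prime → t ≠ p → S ∈ maxInvSubgroups ⊤ P {t} → ¬ S ≤ N →
      ∃ W : Subgroup G, W ≤ V ∧ p ^ 2 ≤ Nat.card W ∧ ¬ S ⊓ centralizer (W : Set G) ≤ N := by
    intro t S N ht htp hS hSN
    by_contra hall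
    push_neg at hall
    haveI := Fact.mk ht
    obtain ⟨j, hj⟩ := (isPGroup_of_inv hS.1).exists_card_eq
    have hcop : (Nat.card V).Coprime (Nat.card S) := by
      rw [hV3, hj]
      exact ((Nat.coprime_primes hpp ht).mpr (Ne.symm htp)).pow 3 j
    have hVS : V ≤ normalizer (S : Set G) := (hVA.trans hA.1).trans hS.1.2.2
    apply hSN
    rw [← CfsgLib.coprime_generated_by_centralizers hVnc hVS hcop]
    refine iSup₂_le fun x hx => ?_
    obtain ⟨hxV, hx1⟩ := hx
    have hox : orderOf x = p := orderOf_eq_prime (hVe x hxV) hx1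
    have hzx : Nat.card (zpowers x) = p := by rw [Nat.card_zpowers, hox]
    obtain ⟨y, hyV, hyx⟩ : ∃ y ∈ V, y ∉ zpowers x := by
      by_contra hc
      push_neg at hc
      have h0 := Subgroup.card_le_of_le (show V ≤ zpowers x from hc)
      rw [hV3, hzx] at h0
      exact absurd h0 (not_le.mpr (by
        calc p = p ^ 1 := (pow_one p).symm
          _ < _ := Nat.pow_lt_pow_right hpp.one_lt (by norm_num)))
    have hsq : ∀ a ∈ V, ∀ b ∈ V, Nat.card ↥(zpowers a ⊔ zpowers b) ≤ p ^ 2 := fun a ha b hb => by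
      haveI : IsMulCommutative V := hVc
      have hn : zpowers a ≤ normalizer (zpowers b : Set G) :=
        ((Subgroup.zpowers_le.mpr ha).trans ((Subgroup.le_centralizer V).trans
          (centralizer_anti (Subgroup.zpowers_le.mpr hb)))).trans (Subgroup.centralizer_le_normalizer _)
      rw [← SetLike.coe_sort_coe, Subgroup.coe_mul_of_left_le_normalizer_right _ _ hn]
      refine Set.natCard_mul_le.trans ?_
      rw [sq, SetLike.coe_sort_coe, SetLike.coe_sort_coe, Nat.card_zpowers, Nat.card_zpowers]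
      exact Nat.mul_le_mul (Nat.le_of_dvd hpp.pos (orderOf_dvd_of_pow_eq_one (hVe a ha)))
        (Nat.le_of_dvd hpp.pos (orderOf_dvd_of_pow_eq_one (hVe b hb)))
    obtain ⟨z, hzV, hzxy⟩ : ∃ z ∈ V, z ∉ zpowers x ⊔ zpowers y := by
      by_contra hc
      push_neg at hc
      have h0 := (Subgroup.card_le_of_le (show V ≤ zpowers x ⊔ zpowers y from hc)).trans (hsq x hxV y hyV)
      rw [hV3] at h0
      exact absurd ((Nat.pow_le_pow_iff_right hpp.one_lt).mp h0) (by norm_num)
    have big : ∀ a ∈ V, ∀ b ∈ V, a ≠ 1 → b ∉ zpowers a → p ^ 2 ≤ Nat.card ↥(zpowers a ⊔ zpowers b) := by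
      intro a ha b hb ha1 hba
      have hle : zpowers a ⊔ zpowers b ≤ V := sup_le (Subgroup.zpowers_le.mpr ha) (Subgroup.zpowers_le.mpr hb)
      obtain ⟨m, hm⟩ := ((isPGroup_of_exp hVe).to_le hle).exists_card_eq
      have hlt : zpowers a < zpowers a ⊔ zpowers b := lt_of_le_of_ne le_sup_left fun e =>
        hba (e ▸ Subgroup.mem_sup_right (Subgroup.mem_zpowers b))
      have h0 := Set.Finite.card_lt_card (Set.toFinite _) hlt
      change Nat.card (zpowers a) < Nat.card ↥(zpowers a ⊔ zpowers b) at h0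
      rw [Nat.card_zpowers, orderOf_eq_prime (hVe a ha) ha1, hm] at h0
      rw [hm]
      exact Nat.pow_le_pow_right hpp.pos ((Nat.pow_lt_pow_iff_right hpp.one_lt).mp (by rwa [pow_one]))
    set W₀ := zpowers y ⊔ zpowers z with hW₀
    have hy1 : y ≠ 1 := fun e => hyx (e ▸ one_mem _)
    have hzy : z ∉ zpowers y := fun hz => hzxy (Subgroup.mem_sup_right hz)
    have hW₀V : W₀ ≤ V := sup_le (Subgroup.zpowers_le.mpr hyV) (Subgroup.zpowers_le.mpr hzV)
    have hW₀2 := big y hyV z hzV hy1 hzy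
    have hxW : x ∉ W₀ := fun hxW => hzxy (by
      have hle : zpowers x ⊔ zpowers y ≤ W₀ := sup_le (Subgroup.zpowers_le.mpr hxW) le_sup_left
      rw [Subgroup.eq_of_le_of_card_ge hle ((hsq y hyV z hzV).trans (big x hxV y hyV hx1 hyx))]
      exact Subgroup.mem_sup_right (Subgroup.mem_zpowers z))
    haveI : IsMulCommutative W₀ := ⟨⟨fun a b => Subtype.ext
      (congrArg (fun t : V => (t : G)) (hVc.is_comm.comm ⟨a, hW₀V a.2⟩ ⟨b, hW₀V b.2⟩))⟩⟩
    have hW₀nc : ¬ IsCyclic W₀ := not_cyclic_of_elementary (fun w hw => hVe w (hW₀V hw))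
      (lt_of_lt_of_le (by
        calc p = p ^ 1 := (pow_one p).symm
          _ < _ := Nat.pow_lt_pow_right hpp.one_lt one_lt_two) hW₀2)
    set T := S ⊓ centralizer ({x} : Set G) with hT
    have hWT : W₀ ≤ normalizer (T : Set G) := fun w hw => mem_normalizer_of_conj_smul (by
      rw [hT, Subgroup.smul_inf, conj_smul_eq_of_mem_normalizer (hVS (hW₀V hw))]
      congr 1
      exact conj_smul_eq_of_mem_normalizer (Subgroup.le_normalizer (Subgroup.mem_centralizer_singleton_iff.mpr
        (congrArg (fun t : V => (t : G)) (hVc.is_comm.comm ⟨x, hxV⟩ ⟨w, hW₀V hw⟩)).symm)))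
    rw [← CfsgLib.coprime_generated_by_centralizers hW₀nc hWT ((hcop.coprime_dvd_left
      (Subgroup.card_dvd_of_le hW₀V)).coprime_dvd_right (Subgroup.card_dvd_of_le inf_le_left))]
    refine iSup₂_le fun w hw => le_trans ?_ (hall (zpowers x ⊔ zpowers w)
      (sup_le (Subgroup.zpowers_le.mpr hxV) (Subgroup.zpowers_le.mpr (hW₀V hw.1)))
      (big x hxV w (hW₀V hw.1) hx1 fun hwx => hxW ?_))
    · rintro g ⟨⟨hgS, hgx⟩, hgw⟩
      refine ⟨hgS, ?_⟩
      rw [Subgroup.sup_eq_closure, Subgroup.centralizer_closure]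
      rintro a (ha | ha)
      · obtain ⟨i, rfl⟩ := Subgroup.mem_zpowers_iff.mp ha
        exact ((Subgroup.mem_centralizer_singleton_iff.mp hgx : g * x = x * g)).symm |> (Commute.zpow_left · i)
      · obtain ⟨i, rfl⟩ := Subgroup.mem_zpowers_iff.mp ha
        exact ((Subgroup.mem_centralizer_singleton_iff.mp hgw : g * w = w * g)).symm |> (Commute.zpow_left · i)
    · have e : zpowers w = zpowers x := Subgroup.eq_of_le_of_card_ge (Subgroup.zpowers_le.mpr hwx) (by
        rw [hzx, Nat.card_zpowers, orderOf_eq_prime (hVe w (hW₀V hw.1)) hw.2])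
      exact Subgroup.zpowers_le.mpr hw.1 (e ▸ Subgroup.mem_zpowers x)
  obtain ⟨W, hWV, hW2, hW⟩ := key h.prime h.ne h.max hRM'
  obtain ⟨W', hW'V, hW'2, hW'⟩ := key h'.prime h'.ne h'.max hR'M
  have h4 : W ⊓ W' ≠ ⊥ := by
    intro e
    have h3 := card_mul_le_of_le (V := V) hWV hW'V
    rw [e, Subgroup.card_bot, mul_one, hV3] at h3
    have := (Nat.mul_le_mul hW2 hW'2).trans h3
    rw [← pow_add] at this
    exact absurd ((Nat.pow_le_pow_iff_right hpp.one_lt).mp this) (by norm_num)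
  obtain ⟨⟨x, hxW, hxW'⟩, hx1'⟩ := Subgroup.ne_bot_iff_exists_ne_one.mp h4
  have hx1 : x ≠ 1 := fun e => hx1' (Subtype.ext e)
  set X := centralizer ({x} : Set G) with hX
  have hXs := solvable_of_ne_top hG (centralizer_ne_top hG hx1)
  have hAC : A ≤ centralizer (A : Set G) := Subgroup.le_centralizer A
  have hAX : A ≤ X := fun a ha => Subgroup.mem_centralizer_singleton_iff.mpr
    ((hAC ha) x (hVA (hWV hxW))).symm
  have hA1 : A ≠ ⊥ := fun e => hx1 (by
    have := hVA (hWV hxW)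
    rwa [e, Subgroup.mem_bot] at this)
  have hp2 := p_ne_two hG.1 hAp hA1
  set O := coreP p X with hO
  have hAO : A ≤ normalizer (O : Set G) := hAX.trans (le_normalizer_piCoreOf_self _ X)
  obtain ⟨a, ha⟩ := hAp.exists_card_eq
  have hcop : (Nat.card A).Coprime (Nat.card O) := ha ▸ (coprime_coreP p X).symm.pow_left a
  have hOs : Group.IsSolvable O := solvable_of_le (piCoreOf_le _ _) hXs
  set π : Set ℕ := {q, r} with hπ
  have fix : ∀ {t : ℕ} {S W : Subgroup G}, t.Prime → t ≠ p → t ∈ π → S ∈ maxInvSubgroups ⊤ P {t} → W ≤ V →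
      x ∈ W → ∃ H : Subgroup G, IsPiHallOf π H O ∧ A ≤ normalizer (H : Set G) ∧
        S ⊓ centralizer (W : Set G) ≤ H := by
    intro t S W ht htp htπ hS hWV' hxW'
    haveI := Fact.mk ht
    have hSt : IsPGroup t ↥(S ⊓ centralizer (W : Set G)) := (isPGroup_of_inv hS.1).to_le inf_le_left
    have hAn : A ≤ normalizer ((S ⊓ centralizer (W : Set G) : Subgroup G) : Set G) := fun a ha =>
      mem_normalizer_of_conj_smul (by
        rw [Subgroup.smul_inf, conj_smul_eq_of_mem_normalizer (hS.1.2.2 (hA.1 ha))]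
        congr 1
        exact conj_smul_eq_of_mem_normalizer (Subgroup.le_normalizer
          (centralizer_anti (hWV'.trans hVA) (hAC ha))))
    obtain ⟨j, hj⟩ := hSt.exists_card_eq
    have hle : S ⊓ centralizer (W : Set G) ≤ O := le_coreP hXs hp2 hAX hAp
      (fun z _ hz hzo => scn_full hP hidx hA z hz hzo)
      (fun g hg => Subgroup.mem_centralizer_singleton_iff.mpr (hg.2 x hxW').symm)
      (hj ▸ ((Nat.coprime_primes ht hpp).mpr htp).pow_left j) hAn
    exact CfsgLib.le_invariant_hall hAO hcop hOs hle hAn fun u hu hd =>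
      (card_dvd_of_pgroup hSt hu hd).symm ▸ htπ
  obtain ⟨H₁, hH₁, hH₁A, hY₁⟩ := fix h.prime h.ne (Or.inl rfl) h.max hWV hxW
  obtain ⟨H₂, hH₂, hH₂A, hY₂⟩ := fix h'.prime h'.ne (Or.inr rfl) h'.max hW'V hxW'
  obtain ⟨c, hc, hcH⟩ := CfsgLib.invariant_hall_conj hAO hcop hOs hH₁ hH₁A hH₂ hH₂A
  have hH0 : H₂ ≠ ⊥ := fun e => hW' ((hY₂.trans e.le).trans bot_le)
  have hH2s : Group.IsSolvable H₂ := solvable_of_le hH₂.1 hOs
  haveI := hH2s
  have hF : fittingSubgroup H₂ ≠ ⊥ := by
    intro e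
    refine hH0 (le_bot_iff.mp fun h hh => ?_)
    have h1 : (⟨h, hh⟩ : H₂) ∈ fittingSubgroup H₂ := CfsgLib.centralizer_fitting_le (fun w hw => by
      rw [SetLike.mem_coe, e, Subgroup.mem_bot] at hw
      rw [hw, one_mul, mul_one])
    rw [e, Subgroup.mem_bot] at h1
    exact congrArg Subtype.val h1
  obtain ⟨t, ht, htd⟩ := Nat.exists_prime_and_dvd (n := Nat.card (fittingSubgroup H₂))
    (fun e => hF (Subgroup.card_eq_one.mp e))
  haveI := Fact.mk ht
  have hU0 := OO_ne_bot_of_dvd (A := H₂) ht htd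
  have hUA : A ≤ normalizer (BenderMax.OO t H₂ : Set G) :=
    (CfsgLib.le_normalizer_map_characteristic (K := H₂) hH₂A (pCore t H₂)
      (hC := CfsgLib.pCore_characteristic _)).1
  have htπ : t ∈ π := hH₂.2.1 t ht (htd.trans (Subgroup.card_subgroup_dvd_card _))
  have main : ∀ {s : ℕ} {N S : Subgroup G}, Good P p s N S → centralizer (A : Set G) ≤ N → t = s →
      H₂ ≤ N := by
    rintro s N S hg hCN rfl
    obtain ⟨k, hk, hle⟩ := inv_le_conj (htr t hg.ne).2 hg.max (U := BenderMax.OO t H₂)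
      ⟨le_top, fun u hu hd => card_dvd_of_pgroup (BenderMax.OO_isPGroup t H₂) hu hd, hUA⟩ (htr t hg.ne).1
    have h1 : MulAut.conj k⁻¹ • BenderMax.OO t H₂ ≤ S := by
      have := conj_smul_mono hle k⁻¹
      rwa [CfsgLib.conj_smul_mul, inv_mul_cancel, map_one, one_smul] at this
    have h2 : MulAut.conj k⁻¹ • BenderMax.OO t H₂ ≠ ⊥ := fun e => hU0 (by
      have := congrArg (fun Z => MulAut.conj k • Z) e
      simpa [CfsgLib.conj_smul_mul] using this)
    have h3 : MulAut.conj k⁻¹ • H₂ ≤ N := ((conj_smul_mono (le_normalizer_OO t H₂) k⁻¹).trans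
      (CfsgLib.ZJ.normalizer_conj_smul _ _).ge).trans (hg.normalizer_le hG h1 h2)
    have h4 := conj_smul_mono h3 k
    rw [CfsgLib.conj_smul_mul, mul_inv_cancel, map_one, one_smul,
      conj_smul_eq_of_mem_normalizer (Subgroup.le_normalizer (hCN hk))] at h4
    exact h4
  rcases htπ with e | e
  · exact hW' (hY₂.trans (main h hCM e))
  · refine hW ?_
    have h1 : MulAut.conj c • (R ⊓ centralizer (W : Set G)) ≤ M' :=
      ((conj_smul_mono hY₁ c).trans hcH.le).trans (main h' hCM' e)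
    have h2 := conj_smul_mono h1 c⁻¹
    rw [CfsgLib.conj_smul_mul, inv_mul_cancel, map_one, one_smul,
      conj_smul_eq_of_mem_normalizer (Subgroup.le_normalizer (inv_mem (hCM' hc.2)))] at h2
    exact h2

/-- B–G 9.5. -/
theorem scn_three_uniq [IsMulCommutative A] (hA3 : ¬ PRankLE p 2 A) : InUniqueMaximal A := by
  by_contra hU
  have hpp : p.Prime := Fact.out
  have hAp := hP.to_le hA.1
  have hA1 := ne_bot_of_rank hA3
  have hp := p_ne_two hG.1 hAp hA1
  obtain ⟨hTH, htr⟩ := scn_trans hG hP hidx hA hA3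
  obtain ⟨V₀, hV₀A, hV₀c, hV₀e, hV₀⟩ := exists_elementary_of_not_pRankLE hA3
  obtain ⟨V, hVA, hVc, hVe, hV3⟩ : ∃ V : Subgroup G, V ≤ A ∧ IsMulCommutative V ∧ (∀ v ∈ V, v ^ p = 1) ∧
      Nat.card V = p ^ 3 := by
    obtain ⟨k, hk⟩ := (isPGroup_of_exp hV₀e).exists_card_eq
    rw [hk] at hV₀
    have hk3 : 3 ≤ k := (Nat.pow_lt_pow_iff_right hpp.one_lt).mp hV₀
    obtain ⟨K, hK⟩ := Sylow.exists_subgroup_card_pow_prime p (G := V₀) (n := 3) (hk ▸ pow_dvd_pow p hk3)
    refine ⟨K.map V₀.subtype, (Subgroup.map_subtype_le _).trans hV₀A, ⟨⟨?_⟩⟩, ?_,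
      by rw [Subgroup.card_map_of_injective V₀.subtype_injective, hK]⟩
    · rintro ⟨_, a, -, rfl⟩ ⟨_, b, -, rfl⟩
      exact Subtype.ext (congrArg (fun t : V₀ => (t : G)) (hV₀c.is_comm.comm a b))
    · rintro _ ⟨a, -, rfl⟩
      exact hV₀e a a.2
  have hα : ∀ E : Subgroup G, InUniqueMaximal E → A ≤ centralizer (E : Set G) → False := fun E hE hAE =>
    hU (uniq_of_centralized hG hE hAE (not_rankLE_one hA3))
  have hβ : ∀ M : Subgroup G, IsCoatom M → PRankLE p 2 ↥(fittingOf M) := fun M hM => by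
    by_contra h
    exact hU (uniq_of_fitting_rank hG hM h hAp hA3)
  have hdvdA : ∀ {r : ℕ}, r.Prime → r ≠ p → ¬ r ∣ Nat.card A := fun hr hrp hd =>
    hrp (card_dvd_of_pgroup hAp hr hd)
  -- the derived groups of the normalisers
  have hPd : ∀ (r : ℕ) (R : Subgroup G), r.Prime → r ≠ p → R ∈ maxInvSubgroups ⊤ P {r} →
      P ≤ ⁅normalizer (R : Set G), normalizer (R : Set G)⁆ := by
    intro r R hr hrp hR
    haveI := Fact.mk hr
    set S : Sylow p G := hP.toSylow hidx with hS
    set Z := centerThompsonOf p P with hZ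
    have hP1 : P ≠ ⊥ := fun e => hA1 (le_bot_iff.mp (e ▸ hA.1))
    have hZ0 : Z ≠ ⊥ := by rw [hZ, ← ZJ.zj_prime]; exact ZJ.zj_ne_bot (Or.inr rfl) hP hP1
    have hZle : Z ≤ P := by rw [hZ, ← ZJ.zj_prime]; exact ZJ.zj_le p P
    obtain ⟨L, hL, hNL⟩ := exists_coatom_ge (normalizer_ne_top hG hZ0 (pgroup_ne_top hG (hP.to_le hZle)))
    have hd : P ≤ ⁅L, L⁆ :=
      (le_derived_normalizer_zj hG hp S).trans (Subgroup.commutator_mono hNL hNL)
    have hPL : P ≤ L := hd.trans (Subgroup.commutator_le_self L)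
    have hidxL : ¬ p ∣ P.relIndex L := fun h => hidx (h.trans (Dvd.intro _ (Subgroup.relIndex_mul_index hPL)))
    obtain ⟨Q, hQP, hPQ, hfac, hab, -⟩ := exists_frattini hG.1 (solvable_of_ne_top hG hL.1) hPL hP hidxL
    have hAQ : A ≤ Q := hab A hA.1 inferInstance hA.2.1
    have h1 : P ≤ ⁅L ⊓ normalizer (Q : Set G), L ⊓ normalizer (Q : Set G)⁆ :=
      le_derived_of_factor (le_normalizer_piCoreOf_self _ L) (coprime_coreP p L) inf_le_left hfac
        (le_inf hPL hPQ) hP hd
    obtain ⟨h0, hTP⟩ := htr r hrp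
    have hTQ : Trans A Q r := trans_step hG hTH (hdvdA hr hrp) h0 hAQ (hQP.trans hA.2.1) fun u hu hd' => by
      rw [card_dvd_of_pgroup (hP.to_le hQP) hu hd']
      obtain ⟨k, hk⟩ := hAp.exists_card_eq
      have hk0 : k ≠ 0 := fun e => hA1 (Subgroup.card_eq_one.mp (by rw [hk, e, pow_zero]))
      rw [hk]
      exact dvd_pow_self p hk0
    have hRQ : R ∈ maxInvSubgroups ⊤ Q {r} := ⟨⟨le_top, hR.1.2.1, hQP.trans hR.1.2.2⟩,
      fun T hT hle => (hTP.2.1 hR).2 T ⟨le_top, hT.2.1, hAQ.trans hT.2.2⟩ hle⟩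
    have hPN : P ≤ normalizer (Q : Set G) ⊓ normalizer (R : Set G) := le_inf hPQ hR.1.2.2
    refine (le_derived_of_factor (X := normalizer (Q : Set G))
      (O := piCoreOf (primesNotDvd (Nat.card A)) (centralizer (Q : Set G))) ?_ ?_ inf_le_left
      (normalizer_eq_sup hTQ hRQ).le hPN hP
      (h1.trans (Subgroup.commutator_mono inf_le_right inf_le_right))).trans
      (Subgroup.commutator_mono inf_le_right inf_le_right)
    · refine le_trans ?_ (normalizer_le_normalizer_piCoreOf _ _)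
      exact CfsgLib.CharP.normalizer_le_normalizer_centralizer Q
    · rw [primesNotDvd_eq hAp hA1]
      exact coprime_coreP p _
  -- large subgroups give good ones
  have good : ∀ (r : ℕ) (R : Subgroup G), r.Prime → r ≠ p → R ∈ maxInvSubgroups ⊤ P {r} →
      ¬ P ≤ centralizer (R : Set G) → ∃ (s : ℕ) (M S : Subgroup G), Good P p s M S ∧ R ≤ M := by
    intro r R hr hrp hR hmov
    haveI := Fact.mk hr
    have hRr := isPGroup_of_inv hR.1
    have hR0 : R ≠ ⊥ := fun e => hmov (by
      intro a _ b hb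
      rw [e, SetLike.mem_coe, Subgroup.mem_bot] at hb
      rw [hb, one_mul, mul_one])
    obtain ⟨M, hM, hNM⟩ := exists_coatom_ge (normalizer_ne_top hG hR0 (pgroup_ne_top hG hRr))
    have hd : P ≤ ⁅M, M⁆ := (hPd r R hr hrp hR).trans (Subgroup.commutator_mono hNM hNM)
    haveI hMs := solvable_of_ne_top hG hM.1
    have hPM : P ≤ M := hd.trans (Subgroup.commutator_le_self M)
    have hrank : ¬ RankLE 2 (fittingSubgroup M) := by
      intro hrk
      obtain ⟨hnil, -, -⟩ := Cfsg.Agent.S1451.result (odd_subgroup hG.1 M) (Or.inr hrk)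
      have hMD : M ≤ normalizer ((⁅M, M⁆ : Subgroup G) : Set G) := fun g hg => mem_normalizer_of_conj_smul (by
        have : MulAut.conj g • ⁅M, M⁆ = ⁅MulAut.conj g • M, MulAut.conj g • M⁆ :=
          Subgroup.map_commutator _ _ _
        rw [this, conj_smul_eq_of_mem_normalizer (Subgroup.le_normalizer hg)])
      have hDn : Group.IsNilpotent ↥(⁅M, M⁆ : Subgroup G) := by
        haveI := hnil
        rw [← Subgroup.map_subtype_commutator M]
        exact Group.nilpotent_of_surjective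
          ((commutator ↥M).equivMapOfInjective M.subtype M.subtype_injective).toMonoidHom
          (MulEquiv.surjective _)
      exact hA3 (pRankLE_mono ((hA.1.trans hd).trans
        (le_fittingOf_of_normal (Subgroup.commutator_le_self M) hMD hDn)) (hβ M hM))
    rw [RankLE] at hrank
    push_neg at hrank
    obtain ⟨s, hs, hs3⟩ := hrank
    haveI := Fact.mk hs
    have hs3' : ¬ PRankLE s 2 ↥(fittingOf M) := fun h => hs3
      (pRankLE_of_injective (M.subtype.comp (fittingSubgroup M).subtype)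
        (M.subtype_injective.comp (Subgroup.subtype_injective _))
        (fun x => Subgroup.mem_map_of_mem M.subtype x.2) h)
    have hsp : s ≠ p := by
      rintro rfl
      exact hs3' (hβ M hM)
    obtain ⟨E₀, hE₀c, hE₀e, hE₀⟩ : ∃ E : Subgroup (fittingSubgroup M), IsMulCommutative E ∧
        (∀ e ∈ E, e ^ s = 1) ∧ s ^ 2 < Nat.card E := by
      unfold PRankLE at hs3
      push_neg at hs3
      exact hs3
    have hE₀p : IsPGroup s E₀ := fun b => ⟨1, Subtype.ext (by simpa using hE₀e b b.2)⟩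
    obtain ⟨T, hT⟩ := hE₀p.exists_le_sylow
    set E := (E₀.map (fittingSubgroup M).subtype).map M.subtype with hE
    have hEY : E ≤ BenderMax.OO s M :=
      (Subgroup.map_mono (Subgroup.map_mono hT)).trans (BenderMax.sylow_fitting_eq M T).le
    have hEs : IsPGroup s E := (hE₀p.map _).map _
    haveI hEc : IsMulCommutative E := ⟨⟨by
      rintro ⟨_, _, ⟨a, ha, rfl⟩, rfl⟩ ⟨_, _, ⟨b, hb, rfl⟩, rfl⟩
      exact Subtype.ext (congrArg (fun t : E₀ => (((t : fittingSubgroup M) : M) : G))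
        (hE₀c.is_comm.comm ⟨a, ha⟩ ⟨b, hb⟩))⟩⟩
    have hE3 : ¬ PRankLE s 2 E := fun h => by
      refine absurd hE₀ (not_lt.mpr ?_)
      rw [← Subgroup.card_map_of_injective (K := E₀) (fittingSubgroup M).subtype_injective,
        ← Subgroup.card_map_of_injective (f := M.subtype) M.subtype_injective]
      refine card_le_of_pRankLE h le_rfl hEc ?_
      rintro _ ⟨_, ⟨a, ha, rfl⟩, rfl⟩
      rw [← map_pow, ← map_pow, hE₀e a ha, map_one, map_one]
    have hEU : InUniqueMaximal E := uniq_of_fitting_rank hG hM hs3' hEs hE3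
    have hYP : BenderMax.OO s M ∈ invSubgroups ⊤ P {s} := ⟨le_top,
      fun u hu hd' => card_dvd_of_pgroup (BenderMax.OO_isPGroup s M) hu hd',
      hPM.trans (le_normalizer_OO s M)⟩
    obtain ⟨S, hS, hYS⟩ := exists_max_ge hYP
    have hSs := isPGroup_of_inv hS.1
    have hmovS : ¬ P ≤ centralizer (S : Set G) := fun h =>
      hα E hEU ((hA.1.trans h).trans (centralizer_anti (hEY.trans hYS)))
    have hbig : BigCentralizers s S := fun x hx hxr =>
      hmovS (centralizes_of_small hG hP hsp hSs (hPd s S hs hsp hS) hx hxr)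
    have hSu : ∀ B : Subgroup G, B ≤ S → IsElementaryAbelian s B → Nat.card B = s ^ 2 → InUniqueMaximal B :=
      fun B hBS hB hB2 => uniq_elementary_of_big hG hSs hbig hEs hE3 hEU hBS hB hB2
    have hSM : S ≤ M := by
      obtain ⟨L, hL, hSL⟩ := exists_coatom_ge (pgroup_ne_top hG hSs)
      obtain ⟨B, hBE, -, hB, hB2⟩ := exists_elementary_two (p_ne_two hG.1 hEs (ne_bot_of_rank hE3)) hEs
        (not_cyclic_of_rank hE3)
      have hBY := hBE.trans hEY
      exact (uniq_eq (hSu B (hBY.trans hYS) hB hB2) hL ((hBY.trans hYS).trans hSL) hM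
        (hBY.trans (OO_le s M))) ▸ hSL
    exact ⟨s, M, S, ⟨hs, hsp, hS, hM, hSM, hSu, hbig, hmovS⟩, Subgroup.le_normalizer.trans hNM⟩
  by_cases hex : ∃ (s : ℕ) (M R : Subgroup G), Good P p s M R
  · obtain ⟨s, M, R, hR⟩ := hex
    haveI := Fact.mk hR.prime
    have hCM := hR.centralizer_le hG hP hidx hA (hPd s R hR.prime hR.ne hR.max) hVA hVc hVe hV3
    have hAM : A ≤ M := hA.1.trans (hR.max.1.2.2.trans (hR.normalizer_le hG le_rfl hR.ne_bot))
    have hinv : ∀ r : ℕ, r.Prime → r ≠ p → ∀ U ∈ invSubgroups ⊤ A {r}, U ≤ M := by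
      intro r hr hrp U hU'
      haveI := Fact.mk hr
      obtain ⟨R', hR', -⟩ := exists_max_ge (bot_mem_inv (π := ({r} : Set ℕ)) P)
      have hR'M : R' ≤ M := by
        by_cases hc : P ≤ centralizer (R' : Set G)
        · exact fun x hx => hCM fun a ha => (hc (hA.1 ha) x hx).symm
        · obtain ⟨s', M', S', hg, hle⟩ := good r R' hr hrp hR' hc
          rwa [← hg.unique hG hP hidx hA htr hVA hVc hVe hV3 hPd hR] 
      obtain ⟨k, hk, hle⟩ := inv_le_conj (htr r hrp).2 hR' hU' (htr r hrp).1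
      exact hle.trans ((conj_smul_mono hR'M k).trans
        (conj_smul_eq_of_mem_normalizer (Subgroup.le_normalizer (hCM hk))).le)
    refine hU (uniq_of_invariant_le hG hR.coatom hAM hAp hA1 fun Y hY hAY => ?_)
    obtain ⟨k, hk⟩ := hAp.exists_card_eq
    have hk0 : k ≠ 0 := fun e => hA1 (Subgroup.card_eq_one.mp (by rw [hk, e, pow_zero]))
    have hYt : Y ≠ ⊤ := by
      rintro rfl
      rw [Subgroup.card_top] at hY
      exact hpp.ne_one (Nat.eq_one_of_dvd_coprimes hY
        ((hk ▸ dvd_pow_self p hk0).trans (Subgroup.card_subgroup_dvd_card A)) dvd_rfl)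
    refine le_of_invariant_parts hAY (hk ▸ hY.symm.pow_left k) (solvable_of_ne_top hG hYt)
      fun r hr hrY U hU' _ => hinv r hr (fun e => ?_) U hU'
    exact hpp.ne_one (Nat.eq_one_of_dvd_coprimes hY (e ▸ hrY) dvd_rfl)
  · push_neg at hex
    obtain ⟨M, hM, hPM⟩ := exists_coatom_ge (pgroup_ne_top hG hP)
    have hMs := solvable_of_ne_top hG hM.1
    have hidxM : ¬ p ∣ P.relIndex M := fun h => hidx (h.trans (Dvd.intro _ (Subgroup.relIndex_mul_index hPM)))
    obtain ⟨k, hk⟩ := hP.exists_card_eq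
    have hT : coreP p M ≤ centralizer (P : Set G) := by
      refine le_of_invariant_parts (hPM.trans (le_normalizer_piCoreOf_self _ M))
        (hk ▸ (coprime_coreP p M).symm.pow_left k) (solvable_of_le (piCoreOf_le _ _) hMs)
        fun r hr hrT U hU' _ => ?_
      have hrp : r ≠ p := fun e =>
        hpp.ne_one (Nat.eq_one_of_dvd_coprimes (coprime_coreP p M) (e ▸ hrT) dvd_rfl)
      haveI := Fact.mk hr
      obtain ⟨R, hR, hUR⟩ := exists_max_ge hU'
      refine hUR.trans ?_
      by_cases hc : P ≤ centralizer (R : Set G)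
      · exact fun x hx a ha => (hc ha x hx).symm
      · obtain ⟨s', M', S', hg, -⟩ := good r R hr hrp hR hc
        exact absurd hg (hex s' M' S')
    obtain ⟨Q, hQP, -, hfac, hab, -⟩ := exists_frattini hG.1 hMs hPM hP hidxM
    have hMQ : M ≤ normalizer (Q : Set G) := hfac.trans (sup_le
      (hT.trans ((centralizer_anti hQP).trans (Subgroup.centralizer_le_normalizer _))) inf_le_right)
    exact hA3 (pRankLE_mono ((hab A hA.1 inferInstance hA.2.1).trans
      (le_fittingOf_of_normal (hQP.trans hPM) hMQ (hP.to_le hQP).isNilpotent)) (hβ M hM))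

end

/-- B–G 9.6 for abelian subgroups of rank three. -/
theorem uniq_of_abelian_three (hG : IsMinSimpleOddOrder G) {B : Subgroup G} (hBp : IsPGroup p B)
    [IsMulCommutative B] (hB3 : ¬ PRankLE p 2 B) : InUniqueMaximal B := by
  have hp := p_ne_two hG.1 hBp (ne_bot_of_rank hB3)
  obtain ⟨P, hBP⟩ := hBp.exists_le_sylow
  obtain ⟨A, hA, hAc, hA3⟩ := exists_scn_three P.2 hp fun h => hB3 (pRankLE_mono hBP h)
  haveI := hAc
  exact uniq_transfer hG (P.2.to_le hA.1) hA3 (scn_three_uniq hG P.2 P.not_dvd_index hA hA3) hBp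
    (not_cyclic_of_rank hB3) (not_pRankLE_centralizer_self hB3)

/-- B–G 9.6. -/
theorem uniqueness_theorem (hG : IsMinSimpleOddOrder G) {K : Subgroup G} (hK : K ≠ ⊤) (hK2 : ¬ RankLE 1 K)
    (hK3 : ¬ RankLE 2 K ∨ ¬ RankLE 2 (centralizer (K : Set G))) : InUniqueMaximal K := by
  rcases hK3 with h | h
  all_goals
    simp only [RankLE, not_forall] at h
    obtain ⟨r, hr, h⟩ := h
    haveI := Fact.mk hr
    obtain ⟨B, hBX, hBc, hexp, hcard⟩ := exists_elementary_of_not_pRankLE h
    haveI := hBc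
    have hBU : InUniqueMaximal B := uniq_of_abelian_three hG (isPGroup_of_exp hexp)
      fun h' => absurd hcard (not_lt.mpr (card_le_of_pRankLE h' le_rfl hBc hexp))
  · exact uniq_mono hBU hBX hK
  · exact uniq_of_centralized hG hBU (fun k hk b hb => (hBX hb k hk).symm) hK2

end CfsgLib.MinSimpleOdd
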