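import Cfsg.Agent.Lib.MinSimpleOdd.SCNThree
import Cfsg.Agent.S1450

/-!
Fusion at the primes of `σ(M)` and the Hall subgroups `M_α`, `M_σ` (B–G 10.1, 10.2).
-/

set_option autoImplicit false
set_option linter.unusedSectionVars false
set_option maxHeartbeats 1000000

namespace CfsgLib.MinSimpleOdd

open Subgroup Cfsg
open scoped Pointwise commutatorElement

universe u
variable {G : Type u} [Group G] [Finite G] {p : ℕ} [Fact p.Prime]

theorem smul_eq_self_of_mem {M : Subgroup G} {g : G} (hg : g ∈ M) : MulAut.conj g • M = M :=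
  conj_smul_eq_of_mem_normalizer (Subgroup.le_normalizer hg)

theorem normalizer_coatom (hG : IsMinSimpleOddOrder G) {M : Subgroup G} (hM : IsCoatom M) :
    normalizer (M : Set G) = M := by
  refine normalizer_eq hG hM (fun e => ?_) hM.1 Subgroup.le_normalizer
  subst e
  haveI := isSimple hG
  obtain ⟨x, hx⟩ := exists_ne (1 : G)
  have hz : zpowers x = ⊤ := hM.2 _ (bot_lt_iff_ne_bot.mpr (Subgroup.zpowers_ne_bot.mpr hx))
  refine hG.2.2.1 ⟨⟨fun a b => ?_⟩⟩
  obtain ⟨i, rfl⟩ := Subgroup.mem_zpowers_iff.mp (hz.ge (Subgroup.mem_top a))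
  obtain ⟨j, rfl⟩ := Subgroup.mem_zpowers_iff.mp (hz.ge (Subgroup.mem_top b))
  exact (Commute.refl x).zpow_zpow i j

theorem inv_smul_smul_conj {X Y : Subgroup G} {g : G} (h : MulAut.conj g • X ≤ Y) :
    X ≤ MulAut.conj g⁻¹ • Y := by
  have := conj_smul_mono h g⁻¹
  rwa [CfsgLib.conj_smul_mul, inv_mul_cancel, map_one, one_smul] at this

theorem pRankLE_map {k : ℕ} {X : Subgroup G} {H : Type*} [Group H] (e : X ≃* H) (h : PRankLE p k X) :
    PRankLE p k H :=
  pRankLE_of_injective (X.subtype.comp e.symm.toMonoidHom) (X.subtype_injective.comp e.symm.injective)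
    (fun x => (e.symm x).2) h

/-- A Sylow subgroup of rank at most two bounds the rank of the group containing it. -/
theorem pRankLE_of_sylow_rel {k : ℕ} {X S : Subgroup G} (hSX : S ≤ X) (hS : IsPGroup p S)
    (hidx : ¬ p ∣ S.relIndex X) (h : PRankLE p k S) : PRankLE p k X :=
  pRankLE_map (G := X) Subgroup.topEquiv
    (pRankLE_of_sylow (G := X) (hS.comap_subtype (K := X)) hidx
      (pRankLE_map (Subgroup.subgroupOfEquivOfLe hSX).symm h) ⊤)

theorem exists_sigma_sylow {M : Subgroup G} (hp : p ∈ sigma M) :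
    ∃ P : Subgroup G, P ≤ M ∧ IsPGroup p P ∧ ¬ p ∣ P.index ∧ normalizer (P : Set G) ≤ M := by
  obtain ⟨-, -, S, hN⟩ := hp
  set P := (S : Subgroup M).map M.subtype with hP
  have hPp : IsPGroup p P := S.2.map _
  refine ⟨P, Subgroup.map_subtype_le _, hPp, ?_, hN⟩
  obtain ⟨T, hT⟩ := hPp.exists_le_sylow
  have he : (T : Subgroup G) = P := by
    by_contra hne
    have hlt := Transitivity.inf_normalizer_lt_qGroup (q := p) T.2 hT (Ne.symm hne)
    exact hlt.ne (eq_of_sylow (not_dvd_of_sylow M S) hlt.le (inf_le_right.trans hN) (T.2.to_le inf_le_left)).symm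
  rw [← he]
  exact T.not_dvd_index

section Fusion

variable (hG : IsMinSimpleOddOrder G) {M : Subgroup G} (hM : IsCoatom M) {P : Subgroup G} (hPM : P ≤ M)
  (hPp : IsPGroup p P) (hidx : ¬ p ∣ P.index) (hN : normalizer (P : Set G) ≤ M)

include hPp hidx

theorem exists_conj_le_sylow {X : Subgroup G} (hX : IsPGroup p X) : ∃ g : G, X ≤ MulAut.conj g • P := by
  obtain ⟨T, hT⟩ := hX.exists_le_sylow
  obtain ⟨g, hg⟩ := MulAction.exists_smul_eq G (hPp.toSylow hidx) T
  have h2 := congrArg (fun U : Sylow p G => (U : Subgroup G)) hg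
  simp only [Sylow.coe_subgroup_smul] at h2
  exact ⟨g, hT.trans h2.ge⟩

theorem card_le_sylow {X : Subgroup G} (hX : IsPGroup p X) : Nat.card X ≤ Nat.card P := by
  obtain ⟨g, hg⟩ := exists_conj_le_sylow hPp hidx hX
  exact (Subgroup.card_le_of_le hg).trans (CfsgLib.card_conj_smul g P).le

include hG hM hPM hN

/-- B–G 10.1 (b): the centraliser of a `p`-subgroup is transitive on the conjugates of `M` containing it. -/
theorem conj_transitive : ∀ (n : ℕ) (X : Subgroup G), IsPGroup p X → X ≠ ⊥ →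
    Nat.card G - Nat.card X = n → ∀ g h : G, X ≤ MulAut.conj g • M → X ≤ MulAut.conj h • M →
    ∃ c ∈ centralizer (X : Set G), MulAut.conj h • M = MulAut.conj c • MulAut.conj g • M := by
  intro n
  induction n using Nat.strong_induction_on with
  | h n ih =>
  intro X hXp hX1 hn g h hg hh
  by_cases hcard : Nat.card P ≤ Nat.card X
  · -- `X` is a Sylow subgroup of `G`
    refine ⟨1, one_mem _, ?_⟩
    have hconj : ∀ g : G, X ≤ MulAut.conj g • M →
        ∃ m : G, m ∈ M ∧ X = MulAut.conj (g * m) • P := by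
      intro g hg
      have hX' : MulAut.conj g⁻¹ • X ≤ M := by
        have := conj_smul_mono hg g⁻¹
        rwa [CfsgLib.conj_smul_mul, inv_mul_cancel, map_one, one_smul] at this
      have hX'p : IsPGroup p ↥(MulAut.conj g⁻¹ • X : Subgroup G) := by
        obtain ⟨k, hk⟩ := hXp.exists_card_eq
        exact IsPGroup.of_card (n := k) (by rw [CfsgLib.card_conj_smul, hk])
      obtain ⟨T, hT⟩ := (hX'p.comap_subtype (K := M)).exists_le_sylow
      have hidxM : ¬ p ∣ P.relIndex M := fun h =>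
        hidx (h.trans (Dvd.intro _ (Subgroup.relIndex_mul_index hPM)))
      obtain ⟨m, hm⟩ := MulAction.exists_smul_eq M ((hPp.comap_subtype (K := M)).toSylow hidxM) T
      refine ⟨m, m.2, ?_⟩
      have h1 : MulAut.conj g⁻¹ • X ≤ MulAut.conj (m : G) • P := by
        intro x hx
        have h2 : (⟨x, hX' hx⟩ : M) ∈ (T : Subgroup M) := hT hx
        rw [← hm, Sylow.coe_subgroup_smul, CfsgLib.mem_conj_smul_iff] at h2
        rw [CfsgLib.mem_conj_smul_iff]
        exact h2
      have h3 := conj_smul_mono h1 g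
      rw [CfsgLib.conj_smul_mul, mul_inv_cancel, map_one, one_smul, CfsgLib.conj_smul_mul] at h3
      exact Subgroup.eq_of_le_of_card_ge h3 (by rw [CfsgLib.card_conj_smul]; exact hcard)
    obtain ⟨m₁, hm₁, e₁⟩ := hconj g hg
    obtain ⟨m₂, hm₂, e₂⟩ := hconj h hh
    have hn' : (g * m₁)⁻¹ * (h * m₂) ∈ M := hN (mem_normalizer_of_conj_smul (by
      rw [← CfsgLib.conj_smul_mul, ← e₂, e₁, CfsgLib.conj_smul_mul, inv_mul_cancel, map_one, one_smul]))
    rw [map_one, one_smul]
    calc MulAut.conj h • M = MulAut.conj h • MulAut.conj m₂ • M := by rw [smul_eq_self_of_mem hm₂]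
      _ = MulAut.conj (g * m₁) • MulAut.conj ((g * m₁)⁻¹ * (h * m₂)) • M := by
          rw [CfsgLib.conj_smul_mul, CfsgLib.conj_smul_mul, mul_inv_cancel_left]
      _ = MulAut.conj g • MulAut.conj m₁ • M := by rw [smul_eq_self_of_mem hn', CfsgLib.conj_smul_mul]
      _ = _ := by rw [smul_eq_self_of_mem hm₁]
  -- `X` is not a Sylow subgroup
  have hXt := pgroup_ne_top hG hXp
  set L := normalizer (X : Set G) with hL
  have hLs := solvable_of_ne_top hG (normalizer_ne_top hG hX1 hXt)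
  have grow : ∀ g : G, X ≤ MulAut.conj g • M →
      ∃ Q : Subgroup G, X < Q ∧ Q ≤ L ∧ IsPGroup p Q ∧ Q ≤ MulAut.conj g • M := by
    intro g hg
    obtain ⟨S, hXS, hSM, hSp, hSidx⟩ := exists_sylow_ge hg hXp
    have hne : X ≠ S := by
      intro e
      apply hcard
      have hgP : MulAut.conj g • P ≤ MulAut.conj g • M := conj_smul_mono hPM g
      obtain ⟨T, hT, hT'⟩ := sylow_of_relIndex hSM hSp hSidx
      have hgPp : IsPGroup p ↥(MulAut.conj g • P : Subgroup G) := by
        obtain ⟨k, hk⟩ := hPp.exists_card_eq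
        exact IsPGroup.of_card (n := k) (by rw [CfsgLib.card_conj_smul, hk])
      obtain ⟨U, hU⟩ := (hgPp.comap_subtype (K := (MulAut.conj g • M : Subgroup G))).exists_le_sylow
      rw [e, ← hT, Subgroup.card_map_of_injective (Subgroup.subtype_injective _), Nat.card_congr (T.equiv U).toEquiv,
        ← CfsgLib.card_conj_smul g P, ← Nat.card_congr (Subgroup.subgroupOfEquivOfLe hgP).toEquiv]
      exact Subgroup.card_le_of_le hU
    exact ⟨S ⊓ L, Transitivity.inf_normalizer_lt_qGroup (q := p) hSp hXS hne, inf_le_right,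
      hSp.to_le inf_le_left, inf_le_left.trans hSM⟩
  have up : ∀ Q : Subgroup G, X < Q → IsPGroup p Q → ∀ g h : G, Q ≤ MulAut.conj g • M →
      Q ≤ MulAut.conj h • M →
      ∃ c ∈ centralizer (X : Set G), MulAut.conj h • M = MulAut.conj c • MulAut.conj g • M := by
    intro Q hXQ hQp g' h' hg' hh'
    have hlt : Nat.card X < Nat.card Q := Set.Finite.card_lt_card (Set.toFinite _) hXQ
    obtain ⟨c, hc, e⟩ := ih (Nat.card G - Nat.card Q) (by
      rw [← hn]
      have := Subgroup.card_le_card_group Q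
      omega) Q hQp (fun e => hXQ.ne_bot e) rfl g' h' hg' hh'
    exact ⟨c, centralizer_anti hXQ.le hc, e⟩
  obtain ⟨Q₁, hXQ₁, hQ₁L, hQ₁p, hQ₁g⟩ := grow g hg
  obtain ⟨Q₂, hXQ₂, hQ₂L, hQ₂p, hQ₂h⟩ := grow h hh
  obtain ⟨S, hQ₁S, hSL, hSp, hSidx⟩ := exists_sylow_ge hQ₁L hQ₁p
  obtain ⟨S₂, hQ₂S₂, hS₂L, hS₂p, hS₂idx⟩ := exists_sylow_ge hQ₂L hQ₂p
  obtain ⟨T, hT, -⟩ := sylow_of_relIndex hSL hSp hSidx
  obtain ⟨T₂, hT₂, -⟩ := sylow_of_relIndex hS₂L hS₂p hS₂idx
  obtain ⟨l, hl⟩ := MulAction.exists_smul_eq L T T₂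
  obtain ⟨k₀, hk₀⟩ := exists_conj_le_sylow hPp hidx hSp
  have hSk : S ≤ MulAut.conj k₀ • M := hk₀.trans (conj_smul_mono hPM k₀)
  have hS₂k : S₂ ≤ MulAut.conj (l : G) • MulAut.conj k₀ • M := by
    rw [← hT₂, ← hl]
    rintro _ ⟨y, hy, rfl⟩
    rw [Sylow.coe_subgroup_smul, SetLike.mem_coe, CfsgLib.mem_conj_smul_iff] at hy
    rw [CfsgLib.mem_conj_smul_iff]
    exact hSk (hT ▸ ⟨_, hy, rfl⟩)
  have hXS : X < S := lt_of_lt_of_le hXQ₁ hQ₁S
  obtain ⟨c₁, hc₁, e₁⟩ := up Q₁ hXQ₁ hQ₁p g k₀ hQ₁g (hQ₁S.trans hSk)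
  obtain ⟨c₂, hc₂, e₂⟩ := up Q₂ hXQ₂ hQ₂p ((l : G) * k₀) h
    (by rw [← CfsgLib.conj_smul_mul]; exact hQ₂S₂.trans hS₂k) hQ₂h
  set N := normalizer ((MulAut.conj k₀ • M : Subgroup G) : Set G) with hNdef
  have hNeq : N = MulAut.conj k₀ • M := normalizer_coatom hG (conj_isCoatom hM k₀)
  have hcore : coreP p L ≤ centralizer (X : Set G) := by
    obtain ⟨i, hi⟩ := hXp.exists_card_eq
    exact centralizes_of_normalize (piCoreOf_le _ _) (Subgroup.le_normalizer.trans (le_normalizer_piCoreOf_self _ L))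
      (hi ▸ (coprime_coreP p L).pow_right i)
  have hfac : L ≤ centralizer (X : Set G) ⊔ (L ⊓ N) := by
    by_cases hr : PRankLE p 2 S
    · obtain ⟨Q, -, -, hfac, -, hQ⟩ := exists_frattini hG.1 hLs hSL hSp hSidx
      have hpL : p ∣ Nat.card L := by
        obtain ⟨i, hi⟩ := hXp.exists_card_eq
        have hi0 : i ≠ 0 := fun e => hX1 (Subgroup.card_eq_one.mp (by rw [hi, e, pow_zero]))
        exact ((hi ▸ dvd_pow_self p hi0)).trans (Subgroup.card_dvd_of_le Subgroup.le_normalizer)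
      rw [hQ hpL (pRankLE_of_sylow_rel hSL hSp hSidx hr)] at hfac
      refine hfac.trans (sup_le (hcore.trans le_sup_left) ?_)
      rintro m ⟨hmL, hm⟩
      obtain ⟨c, hc, e⟩ := up S hXS hSp k₀ (m * k₀) hSk (by
        rw [← CfsgLib.conj_smul_mul, ← conj_smul_eq_of_mem_normalizer hm]
        exact conj_smul_mono hSk m)
      rw [show m = c * (c⁻¹ * m) by group]
      refine mul_mem (Subgroup.mem_sup_left hc) (Subgroup.mem_sup_right
        ⟨L.mul_mem (L.inv_mem (Subgroup.centralizer_le_normalizer _ hc)) hmL, mem_normalizer_of_conj_smul ?_⟩)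
      rw [← CfsgLib.conj_smul_mul c⁻¹ m, CfsgLib.conj_smul_mul m k₀, e, CfsgLib.conj_smul_mul c⁻¹ c,
        inv_mul_cancel, map_one, one_smul]
    · obtain ⟨B, hBS, hBc, hexp, hBcard⟩ := exists_elementary_of_not_pRankLE hr
      haveI := hBc
      have hSU : InUniqueMaximal S := uniq_mono (uniq_of_abelian_three hG (isPGroup_of_exp hexp)
        fun h' => absurd hBcard (not_lt.mpr (card_le_of_pRankLE h' le_rfl hBc hexp))) hBS
        (pgroup_ne_top hG hSp)
      set Z := centerThompsonOf p S with hZ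
      have hS1 : S ≠ ⊥ := fun e => hXS.ne_bot e
      have hZ0 : Z ≠ ⊥ := by rw [hZ, ← ZJ.zj_prime]; exact ZJ.zj_ne_bot (Or.inr rfl) hSp hS1
      have hZle : Z ≤ S := by rw [hZ, ← ZJ.zj_prime]; exact ZJ.zj_le p S
      obtain ⟨M', hM', hZM'⟩ := exists_coatom_ge (normalizer_ne_top hG hZ0 (pgroup_ne_top hG (hSp.to_le hZle)))
      have hSM' : S ≤ M' := by
        refine le_trans ?_ hZM'
        rw [hZ, ← ZJ.zj_prime]
        exact Subgroup.le_normalizer.trans (ZJ.normalizer_le_normalizer_zj p S)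
      rw [uniq_eq hSU hM' hSM' (conj_isCoatom hM k₀) hSk] at hZM'
      exact (zj_factor hG.1 hLs hSL hSp hSidx).trans
        (sup_le (hcore.trans le_sup_left) ((inf_le_inf_left L (hZM'.trans hNeq.ge)).trans le_sup_right))
  have hLC : L ≤ normalizer (centralizer (X : Set G) : Set G) :=
    CfsgLib.CharP.normalizer_le_normalizer_centralizer X
  obtain ⟨c₃, hc₃, y, hy, e₃⟩ := mem_sup_of_le_normalizer (inf_le_left.trans hLC) (hfac l.2)
  refine ⟨c₂ * c₃ * c₁, mul_mem (mul_mem hc₂ hc₃) hc₁, ?_⟩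
  rw [e₂, ← CfsgLib.conj_smul_mul (l : G) k₀, ← e₃, ← CfsgLib.conj_smul_mul c₃ y,
    conj_smul_eq_of_mem_normalizer hy.2, e₁, CfsgLib.conj_smul_mul, CfsgLib.conj_smul_mul,
    CfsgLib.conj_smul_mul, mul_assoc]

/-- B–G 10.1 (a). -/
theorem conj_eq_mul {X : Subgroup G} (hXp : IsPGroup p X) (hX1 : X ≠ ⊥) (hXM : X ≤ M) {g : G}
    (hg : MulAut.conj g • X ≤ M) : ∃ m ∈ M, ∃ c ∈ centralizer (X : Set G), g = m * c := by
  obtain ⟨c, hc, e⟩ := conj_transitive hG hM hPM hPp hidx hN _ X hXp hX1 rfl 1 g⁻¹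
    (by rwa [map_one, one_smul]) (inv_smul_smul_conj hg)
  rw [map_one, one_smul] at e
  refine ⟨g * c, ?_, c⁻¹, inv_mem hc, by group⟩
  rw [← normalizer_coatom hG hM]
  refine mem_normalizer_of_conj_smul ?_
  rw [← CfsgLib.conj_smul_mul, ← e, CfsgLib.conj_smul_mul, mul_inv_cancel, map_one, one_smul]

/-- B–G 10.1 (c). -/
theorem normalizer_factor {X : Subgroup G} (hXp : IsPGroup p X) (hX1 : X ≠ ⊥) (hXM : X ≤ M) :
    normalizer (X : Set G) = (M ⊓ normalizer (X : Set G)) ⊔ centralizer (X : Set G) := by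
  refine le_antisymm (fun g hg => ?_) (sup_le inf_le_right (Subgroup.centralizer_le_normalizer _))
  obtain ⟨m, hm, c, hc, rfl⟩ := conj_eq_mul hG hM hPM hPp hidx hN hXp hX1 hXM (g := g)
    ((conj_smul_eq_of_mem_normalizer hg).le.trans hXM)
  exact mul_mem (Subgroup.mem_sup_left
    ⟨hm, (Subgroup.mul_mem_cancel_right _ (Subgroup.centralizer_le_normalizer _ hc)).mp hg⟩)
    (Subgroup.mem_sup_right hc)

/-- The Sylow subgroup at a prime of `σ(M)` lies in `M'`. -/
theorem sylow_le_derived : P ≤ ⁅M, M⁆ := by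
  have hf : (hPp.toSylow hidx : Subgroup G).focalSubgroup ≤ ⁅M, M⁆ := by
    rw [Subgroup.focalSubgroup_def, Subgroup.closure_le]
    rintro _ ⟨hg, x, hx, u, rfl⟩
    rcases eq_or_ne x 1 with rfl | hx1
    · rw [commutatorElement_one_left]
      exact one_mem _
    have hx' : x ∈ P := hx
    have hg' : ⁅x, u⁆ ∈ P := hg
    have hux : u * x⁻¹ * u⁻¹ ∈ P := by
      have := mul_mem (inv_mem hx') hg'
      rwa [show x⁻¹ * ⁅x, u⁆ = u * x⁻¹ * u⁻¹ by simp only [commutatorElement_def]; group] at this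
    obtain ⟨m, hm, c, hc, rfl⟩ := conj_eq_mul hG hM hPM hPp hidx hN
      (X := zpowers x⁻¹) (hPp.to_le (Subgroup.zpowers_le.mpr (inv_mem hx')))
      (Subgroup.zpowers_ne_bot.mpr (inv_ne_one.mpr hx1))
      ((Subgroup.zpowers_le.mpr (inv_mem hx')).trans hPM) (g := u) (by
        intro y hy
        rw [CfsgLib.mem_conj_smul_iff] at hy
        obtain ⟨j, hj⟩ := Subgroup.mem_zpowers_iff.mp hy
        rw [show y = u * (u⁻¹ * y * u) * u⁻¹ by group, ← hj, ← conj_zpow]
        exact hPM (zpow_mem hux j))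
    have e : ⁅x, m * c⁆ = ⁅x, m⁆ := by
      have h1 : x⁻¹ * c = c * x⁻¹ := hc x⁻¹ (Subgroup.mem_zpowers _)
      rw [commutatorElement_def, commutatorElement_def]
      calc x * (m * c) * x⁻¹ * (m * c)⁻¹ = x * m * (c * x⁻¹) * c⁻¹ * m⁻¹ := by group
        _ = x * m * (x⁻¹ * c) * c⁻¹ * m⁻¹ := by rw [h1]
        _ = _ := by group
    rw [e]
    exact Subgroup.commutator_mem_commutator (hPM hx') hm
  intro g hg
  refine hf ?_
  rw [← Subgroup.commutator_inf_eq_focalSubgroup, commutator_eq_top hG]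
  exact ⟨Subgroup.mem_top g, hg⟩

end Fusion

section Hall

variable {X : Type u} [Group X] [Finite X] {π : Set ℕ}

theorem piCore_quotient_eq_bot : piCore π (X ⧸ piCore π X) = ⊥ := by
  set f := QuotientGroup.mk' (piCore π X) with hf
  set K := (piCore π (X ⧸ piCore π X)).comap f with hK
  have hle : K ≤ piCore π X := by
    refine le_sSup ⟨inferInstance, fun q hq hd => ?_⟩
    have h1 : piCore π X ≤ K := fun x hx => by
      show f x ∈ piCore π (X ⧸ piCore π X)
      rw [hf, QuotientGroup.mk'_apply, (QuotientGroup.eq_one_iff x).mpr hx]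
      exact one_mem _
    have h0 := Subgroup.relIndex_comap (⊥ : Subgroup (X ⧸ piCore π X)) f K
    rw [MonoidHom.comap_bot, hf, QuotientGroup.ker_mk', hK,
      Subgroup.map_comap_eq_self_of_surjective (QuotientGroup.mk'_surjective _), Subgroup.relIndex_bot_left] at h0
    rw [← CfsgLib.card_mul_relIndex h1, h0] at hd
    rcases hq.dvd_mul.mp hd with h | h
    · exact card_piCore π q hq h
    · exact card_piCore π q hq h
  refine le_bot_iff.mp fun y hy => ?_
  obtain ⟨x, rfl⟩ := QuotientGroup.mk'_surjective (piCore π X) y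
  exact Subgroup.mem_bot.mpr ((QuotientGroup.eq_one_iff x).mpr (hle hy))

theorem pRankLE_quotient {q k : ℕ} [Fact q.Prime] (N : Subgroup X) [N.Normal] (hN : ¬ q ∣ Nat.card N)
    (h : PRankLE q k X) : PRankLE q k (X ⧸ N) := by
  intro E hEc hEe
  set f := QuotientGroup.mk' N with hf
  set K := E.comap f with hK
  obtain ⟨T, -, hTK, hTp, hTidx⟩ := exists_sylow_ge (X := K) (R := ⊥) bot_le (IsPGroup.of_bot (p := q))
  have hTN : T ⊓ N = ⊥ := by
    obtain ⟨i, hi⟩ := hTp.exists_card_eq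
    exact disjoint_iff.mp (Subgroup.disjoint_of_coprime_natCard
      (hi ▸ ((Fact.out : q.Prime).coprime_iff_not_dvd.mpr hN).pow_left i))
  have hinj : ∀ t ∈ T, f t = 1 → t = 1 := fun t ht h1 =>
    Subgroup.mem_bot.mp (hTN ▸ (⟨ht, (QuotientGroup.eq_one_iff t).mp h1⟩ : t ∈ T ⊓ N))
  have hmap : T.map f ≤ E := Subgroup.map_le_iff_le_comap.mpr hTK
  have hTcard : Nat.card (T.map f) = Nat.card T := Nat.card_congr (Equiv.ofBijective
    (fun t : T => (⟨f t, Subgroup.mem_map_of_mem f t.2⟩ : T.map f))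
    ⟨fun a b e => by
      have e' : f (a : X) = f b := congrArg Subtype.val e
      have := hinj _ (T.mul_mem (T.inv_mem a.2) b.2) (by rw [map_mul, map_inv, e', inv_mul_cancel])
      exact Subtype.ext (inv_mul_eq_one.mp this),
    fun ⟨y, t, ht, e⟩ => ⟨⟨t, ht⟩, Subtype.ext e⟩⟩).symm
  have hE : T.map f = E := by
    refine le_antisymm hmap (Subgroup.relIndex_eq_one.mp ?_)
    obtain ⟨i, hi⟩ := (show IsPGroup q E from fun b => ⟨1, Subtype.ext (by simpa using hEe b b.2)⟩).exists_card_eq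
    have h1 : (T.map f).relIndex E ∣ q ^ i := hi ▸ Subgroup.relIndex_dvd_card _ _
    have h2 : (T.map f).relIndex E ∣ T.relIndex K := by
      rw [← Subgroup.map_comap_eq_self_of_surjective (QuotientGroup.mk'_surjective N) E]
      rw [Subgroup.relIndex_map_map, ← hK, sup_eq_left.mpr (show f.ker ≤ K from fun x hx => by
        show f x ∈ E
        rw [show f x = 1 from hx]
        exact one_mem _)]
      exact Subgroup.relIndex_dvd_of_le_left _ le_sup_left
    exact Nat.eq_one_of_dvd_coprimes (((Fact.out : q.Prime).coprime_iff_not_dvd.mpr hTidx).pow_left i) h1 h2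
  rw [← hE, hTcard]
  refine h T ⟨⟨fun a b => Subtype.ext ?_⟩⟩ fun t ht => hinj _ (T.pow_mem ht q) (by
    rw [map_pow]
    exact hEe _ (hmap (Subgroup.mem_map_of_mem f ht)))
  have e : f (a : X) * f (b : X) = f (b : X) * f (a : X) :=
    congrArg Subtype.val (hEc.is_comm.comm ⟨_, hmap (Subgroup.mem_map_of_mem f a.2)⟩
      ⟨_, hmap (Subgroup.mem_map_of_mem f b.2)⟩)
  rw [← map_mul, ← map_mul] at e
  exact mul_inv_eq_one.mp (hinj _ (T.mul_mem (T.mul_mem a.2 b.2) (T.inv_mem (T.mul_mem b.2 a.2)))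
    (show f ((a : X) * b * ((b : X) * a)⁻¹) = 1 by rw [map_mul, map_inv, e, mul_inv_cancel]))

end Hall

section Cores

variable (hG : IsMinSimpleOddOrder G) {M : Subgroup G} (hM : IsCoatom M)

include hG hM

/-- The primes of rank three lie in `σ(M)`. -/
theorem alpha_subset_sigma : alpha M ⊆ sigma M := by
  rintro q ⟨hq, hq3⟩
  haveI := Fact.mk hq
  obtain ⟨S⟩ : Nonempty (Sylow q M) := inferInstance
  set P := (S : Subgroup M).map M.subtype with hP
  have hPM : P ≤ M := Subgroup.map_subtype_le _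
  have hPp : IsPGroup q P := S.2.map _
  have hr : ¬ PRankLE q 2 P := fun h => hq3 (pRankLE_of_sylow_rel hPM hPp (not_dvd_of_sylow M S) h)
  obtain ⟨B, hBP, hBc, hexp, hcard⟩ := exists_elementary_of_not_pRankLE hr
  haveI := hBc
  have hPU : InUniqueMaximal P := uniq_mono (uniq_of_abelian_three hG (isPGroup_of_exp hexp)
    fun h' => absurd hcard (not_lt.mpr (card_le_of_pRankLE h' le_rfl hBc hexp))) hBP (pgroup_ne_top hG hPp)
  obtain ⟨L, hL, hle⟩ := exists_coatom_ge (normalizer_ne_top hG (ne_bot_of_rank hr) (pgroup_ne_top hG hPp))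
  rw [uniq_eq hPU hL (Subgroup.le_normalizer.trans hle) hM hPM] at hle
  refine ⟨hq, ?_, S, hle⟩
  refine dvd_trans ?_ (Subgroup.card_dvd_of_le hPM)
  obtain ⟨k, hk⟩ := hPp.exists_card_eq
  have hk0 : k ≠ 0 := fun e => ne_bot_of_rank hr (Subgroup.card_eq_one.mp (by rw [hk, e, pow_zero]))
  rw [hk]
  exact dvd_pow_self q hk0

theorem derived_quotient_nilpotent {π : Set ℕ} (hα : alpha M ⊆ π) :
    Group.IsNilpotent ↥(commutator (↥M ⧸ piCore π ↥M)) := by
  haveI hMs := solvable_of_ne_top hG hM.1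
  set Q := ↥M ⧸ piCore π ↥M
  have hodd : Odd (Nat.card Q) :=
    (odd_subgroup hG.1 M).of_dvd_nat (Subgroup.card_quotient_dvd_card _)
  refine (Cfsg.Agent.S1451.result hodd (Or.inr fun q hq => ?_)).1
  haveI := Fact.mk hq
  by_cases hqπ : q ∈ π
  · intro E hEc hexp
    have hEq : IsPGroup q E := fun b => ⟨1, Subtype.ext (by simpa using hexp b b.2)⟩
    obtain ⟨T, hT⟩ := hEq.exists_le_sylow
    haveI hnil := CfsgLib.isNilpotent_fittingSubgroup (G := Q)
    have hTn : (T : Subgroup ↥(fittingSubgroup Q)).Normal :=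
      (Group.isNilpotent_of_finite_tfae.out 0 3 rfl rfl).mp hnil q inferInstance T
    have h1 : (T : Subgroup ↥(fittingSubgroup Q)).map (fittingSubgroup Q).subtype ≤ pCore q Q := by
      rw [CfsgLib.sylow_eq_pCore_of_normal T]
      exact CfsgLib.map_pCore_le q _
    have h2 : pCore q Q = ⊥ := le_bot_iff.mp (le_trans
      (show pCore q Q ≤ piCore π Q from le_sSup ⟨inferInstance, fun r hr hd => by
        rw [card_dvd_of_pgroup (CfsgLib.isPGroup_pCore q) hr hd]; exact hqπ⟩)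
      (piCore_quotient_eq_bot (π := π) (X := ↥M)).le)
    rw [← Subgroup.card_map_of_injective (K := E) (fittingSubgroup Q).subtype_injective,
      le_bot_iff.mp ((Subgroup.map_mono hT).trans (h1.trans h2.le)), Subgroup.card_bot]
    exact Nat.one_le_pow _ _ hq.pos
  · have hle : PRankLE q 2 M := by
      by_contra h
      exact hqπ (hα ⟨hq, h⟩)
    have hQ := pRankLE_quotient (piCore π ↥M) (fun hd => hqπ (card_piCore _ q hq hd)) hle
    intro E hEc hexp
    rw [← Subgroup.card_map_of_injective (K := E) (fittingSubgroup Q).subtype_injective]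
    refine hQ _ (Subgroup.map_isMulCommutative _ _) ?_
    rintro _ ⟨b, hb, rfl⟩
    rw [← map_pow, hexp b hb, map_one]

theorem sylow_le_core {π : Set ℕ} (hα : alpha M ⊆ π) {q : ℕ} [Fact q.Prime] (hqπ : q ∈ π) {P : Subgroup G}
    (hPM : P ≤ M) (hPp : IsPGroup q P) (hPd : P ≤ ⁅M, M⁆) : P ≤ piCoreOf π M := by
  haveI hnil := derived_quotient_nilpotent hG hM hα
  set f := QuotientGroup.mk' (piCore π ↥M) with hf
  set D := commutator (↥M ⧸ piCore π ↥M) with hD
  set R := (P.subgroupOf M).map f with hR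
  have hRD : R ≤ D := by
    rintro _ ⟨x, hx, rfl⟩
    obtain ⟨y, hy, e⟩ := (Subgroup.map_subtype_commutator M).ge (hPd hx)
    rw [Subtype.ext e.symm] at *
    have h := Subgroup.mem_map_of_mem f hy
    rw [_root_.commutator_def, Subgroup.map_commutator] at h
    rw [hD, _root_.commutator_def]
    exact Subgroup.commutator_mono le_top le_top h
  have hRq : IsPGroup q R := (hPp.comap_subtype (K := M)).map f
  obtain ⟨T, hT⟩ := (hRq.comap_subtype (K := D)).exists_le_sylow
  have hTn : (T : Subgroup D).Normal :=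
    (Group.isNilpotent_of_finite_tfae.out 0 3 rfl rfl).mp hnil q inferInstance T
  have h1 : (T : Subgroup D).map D.subtype ≤ pCore q (↥M ⧸ piCore π ↥M) := by
    rw [CfsgLib.sylow_eq_pCore_of_normal T]
    exact CfsgLib.map_pCore_le q D
  have h2 : pCore q (↥M ⧸ piCore π ↥M) = ⊥ := le_bot_iff.mp
    (le_trans (show pCore q (↥M ⧸ piCore π ↥M) ≤ piCore π (↥M ⧸ piCore π ↥M) from
      le_sSup ⟨inferInstance, fun r hr hd => by
        rw [card_dvd_of_pgroup (CfsgLib.isPGroup_pCore q) hr hd]; exact hqπ⟩)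
      (piCore_quotient_eq_bot (π := π) (X := ↥M)).le)
  intro x hx
  refine ⟨⟨x, hPM hx⟩, (QuotientGroup.eq_one_iff _).mp ?_, rfl⟩
  have hxR : f ⟨x, hPM hx⟩ ∈ R := Subgroup.mem_map_of_mem f hx
  exact Subgroup.mem_bot.mp (h2 ▸ h1 ⟨⟨_, hRD hxR⟩, hT hxR, rfl⟩)

/-- B–G 10.2: the Hall property of `O_π(M)` for `α(M) ⊆ π ⊆ σ(M)`. -/
theorem isPiHall_core {π : Set ℕ} (hα : alpha M ⊆ π) (hσ : π ⊆ sigma M) :
    IsPiHallOf π (piCoreOf π M) M ∧ IsPiHall π (piCoreOf π M) := by
  have key : ∀ q : ℕ, q.Prime → q ∈ π → ¬ q ∣ (piCoreOf π M).index := by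
    intro q hq hqπ hd
    haveI := Fact.mk hq
    obtain ⟨P, hPM, hPp, hidx, hN⟩ := exists_sigma_sylow (hσ hqπ)
    exact hidx (hd.trans (Subgroup.index_dvd_of_le
      (sylow_le_core hG hM hα hqπ hPM hPp (sylow_le_derived hG hM hPM hPp hidx hN))))
  exact ⟨⟨piCoreOf_le _ _, pi_piCoreOf _ _, fun q hq hqπ hd => key q hq hqπ
    (hd.trans (Dvd.intro _ (Subgroup.relIndex_mul_index (piCoreOf_le _ _))))⟩, pi_piCoreOf _ _, key⟩

/-- B–G 10.2 (d). -/
theorem rankLE_quotient_alpha : RankLE 2 (↥M ⧸ piCore (alpha M) ↥M) := by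
  intro q hq
  haveI := Fact.mk hq
  by_cases hqa : q ∈ alpha M
  · intro E _ hexp
    obtain ⟨k, hk⟩ := (show IsPGroup q E from fun b => ⟨1, Subtype.ext (by simpa using hexp b b.2)⟩).exists_card_eq
    rcases Nat.eq_zero_or_pos k with rfl | hk0
    · rw [hk, pow_zero]; exact Nat.one_le_pow _ _ hq.pos
    exfalso
    have h1 : q ∣ (piCore (alpha M) ↥M).index := by
      rw [Subgroup.index_eq_card]
      exact (hk ▸ dvd_pow_self q hk0.ne').trans (Subgroup.card_subgroup_dvd_card E)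
    refine (isPiHall_core hG hM subset_rfl (alpha_subset_sigma hG hM)).1.2.2 q hq hqa ?_
    rwa [Subgroup.relIndex, piCoreOf, Subgroup.subgroupOf,
      Subgroup.comap_map_eq_self_of_injective M.subtype_injective]
  · have h : PRankLE q 2 M := by
      by_contra h
      exact hqa ⟨hq, h⟩
    exact pRankLE_quotient _ (fun hd => hqa (card_piCore _ q hq hd)) h

end Cores



end CfsgLib.MinSimpleOdd
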