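import Cfsg.Agent.Lib.MinSimpleOdd.SigmaDisjointBasics

/-!
`σ(M)` determines the class of the maximal subgroup `M` (B–G Theorem 13.?): two maximal subgroups
sharing a prime of `σ` are conjugate.
-/

set_option autoImplicit false
set_option linter.unusedSectionVars false
set_option linter.style.haveILetI false
set_option maxHeartbeats 1000000

namespace CfsgLib.MinSimpleOdd

open Subgroup Cfsg
open scoped Pointwise commutatorElement IsMulCommutative

universe u
variable {G : Type u} [Group G] [Finite G]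

theorem isPGroup_of_card {t : ℕ} [Fact t.Prime] {W : Subgroup G} (h : Nat.card W = t) : IsPGroup t W :=
  IsPGroup.of_card (n := 1) (by rw [h, pow_one])

theorem pi_of_card {t : ℕ} [Fact t.Prime] {W : Subgroup G} (h : Nat.card W = t) {π : Set ℕ} (ht : t ∈ π) :
    ∀ r : ℕ, r.Prime → r ∣ Nat.card W → r ∈ π := fun r hr hd => by
  rw [h] at hd
  rwa [(Nat.prime_dvd_prime_iff_eq hr Fact.out).mp hd]

theorem pi_of_pgroup {t : ℕ} [Fact t.Prime] {W : Subgroup G} (h : IsPGroup t W) {π : Set ℕ} (ht : t ∈ π) :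
    ∀ r : ℕ, r.Prime → r ∣ Nat.card W → r ∈ π := fun r hr hd => by
  rw [card_dvd_of_pgroup h hr hd]
  exact ht

theorem exists_gen {t : ℕ} [Fact t.Prime] {W : Subgroup G} (h : Nat.card W = t) :
    ∃ x : G, orderOf x = t ∧ zpowers x = W := by
  obtain ⟨⟨x, hxW⟩, hx1⟩ := Subgroup.ne_bot_iff_exists_ne_one.mp (ne_bot_of_card h)
  have hx : orderOf x = t := orderOf_eq_prime ((elementary_of_card_prime h).2 x hxW)
    fun e => hx1 (Subtype.ext e)
  exact ⟨x, hx, Subgroup.eq_of_le_of_card_ge (Subgroup.zpowers_le.mpr hxW) (by rw [Nat.card_zpowers, hx, h])⟩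

theorem centralizer_zpowers (x : G) : centralizer ({x} : Set G) = centralizer (zpowers x : Set G) := by
  rw [Subgroup.zpowers_eq_closure, Subgroup.centralizer_closure]

/-- Two maximal subgroups, not conjugate, with a common Sylow `q`-subgroup `Q`, `q` in both `σ`. -/
structure SharedSylow (q : ℕ) (M H Q : Subgroup G) : Prop where
  hM : IsCoatom M
  hH : IsCoatom H
  nconj : ∀ g : G, H ≠ MulAut.conj g • M
  qM : q ∈ sigma M
  qH : q ∈ sigma H
  isP : IsPGroup q Q
  idx : ¬ q ∣ Q.index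
  leM : normalizer (Q : Set G) ≤ M
  leH : normalizer (Q : Set G) ≤ H

variable (hG : IsMinSimpleOddOrder G) {q : ℕ} [Fact q.Prime] {M H Q : Subgroup G}

include hG

theorem SharedSylow.symm (d : SharedSylow q M H Q) : SharedSylow q H M Q :=
  ⟨d.hH, d.hM, not_conj_symm hG d.nconj, d.qH, d.qM, d.isP, d.idx, d.leH, d.leM⟩


theorem SharedSylow.not_nilpotent (d : SharedSylow q M H Q) : ¬ Group.IsNilpotent (sigmaCore M) := fun h => by
  obtain ⟨g, hg⟩ := sigma_disjoint hG d.hM d.hH h d.qM d.qH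
  exact d.nconj g hg

theorem SharedSylow.not_tau2 (d : SharedSylow q M H Q) {t : ℕ} [Fact t.Prime] : t ∉ tau2 M := fun h =>
  d.not_nilpotent hG (tau2_nilpotent hG d.hM h)

theorem SharedSylow.alpha_not_sigma (d : SharedSylow q M H Q) {r : ℕ} [Fact r.Prime] (hr : r ∈ alpha M) :
    r ∉ sigma H := fun h => by
  obtain ⟨g, hg⟩ := sigma_alpha_conj hG d.hH d.hM h hr
  exact (d.symm hG).nconj g hg

theorem SharedSylow.not_alpha (d : SharedSylow q M H Q) : q ∉ alpha M := fun h =>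
  d.alpha_not_sigma hG h d.qH

theorem SharedSylow.rank_one (d : SharedSylow q M H Q) {t : ℕ} [Fact t.Prime] (ht : t ∉ sigma M) :
    PRankLE t 1 M :=
  rank_one_of_not_sigma hG d.hM ht (d.not_tau2 hG)

theorem SharedSylow.le (d : SharedSylow q M H Q) : Q ≤ M := Subgroup.le_normalizer.trans d.leM

theorem SharedSylow.le_core (d : SharedSylow q M H Q) : Q ≤ sigmaCore M :=
  le_sigmaCore hG d.hM (d.le hG) (pi_of_pgroup d.isP d.qM)

theorem SharedSylow.ne_bot (d : SharedSylow q M H Q) : Q ≠ ⊥ := fun e => d.idx (by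
  rw [e, Subgroup.index_bot]
  exact d.qM.2.1.trans (Subgroup.card_subgroup_dvd_card M))

theorem SharedSylow.comm (d : SharedSylow q M H Q) : IsMulCommutative Q := by
  by_contra h
  exact d.nconj 1 (by
    rw [map_one, one_smul]
    exact uniq_eq (nonabelian_uniq hG d.isP h) d.hH ((d.symm hG).le hG) d.hM (d.le hG))

theorem SharedSylow.derived_le (d : SharedSylow q M H Q) :
    ⁅normalizer (Q : Set G), normalizer (Q : Set G)⁆ ≤ centralizer (Q : Set G) := by
  haveI := d.comm hG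
  refine le_centralizer_of_sylows fun t ht => ?_
  haveI := Fact.mk ht
  obtain ⟨T, -, hTN, hT, hTi⟩ := exists_sylow_ge (p := t)
    (bot_le : (⊥ : Subgroup G) ≤ ⁅normalizer (Q : Set G), normalizer (Q : Set G)⁆) IsPGroup.of_bot
  refine ⟨T, hTN, hTi, ?_⟩
  have hTQ : T ≤ normalizer (Q : Set G) := hTN.trans (Subgroup.commutator_le_self _)
  by_cases htq : t = q
  · subst htq
    have e : Q ⊔ T = Q := eq_of_sylow (X := ⊤) (by rw [Subgroup.relIndex_top_right]; exact d.idx)
      le_sup_left le_top (IsPGroup.to_sup_of_normal_left' d.isP hT hTQ)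
    exact (le_sup_right.trans e.le).trans (Subgroup.le_centralizer Q)
  · exact centralizes_of_derived hG d.hM (fun e => htq e.symm) (d.not_alpha hG) d.isP (d.le hG) hT
      (hTN.trans (Subgroup.commutator_mono d.leM d.leM)) hTQ

theorem SharedSylow.le_derived (d : SharedSylow q M H Q) :
    Q ≤ ⁅normalizer (Q : Set G), normalizer (Q : Set G)⁆ :=
  le_derived_normalizer hG (d.isP.toSylow d.idx)

/-- A `t`-subgroup of `N(Q)` moving `Q` has `t ∈ τ₁(M)`. -/
theorem SharedSylow.moves_tau1 (d : SharedSylow q M H Q) {t : ℕ} [Fact t.Prime] {V : Subgroup G}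
    (hV : IsPGroup t V) (hVN : V ≤ normalizer (Q : Set G)) (hmove : ¬ V ≤ centralizer (Q : Set G)) :
    t ≠ q ∧ t ∈ tau1 M := by
  haveI := d.comm hG
  have htq : t ≠ q := fun e => by
    subst e
    have e : Q ⊔ V = Q := eq_of_sylow (X := ⊤) (by rw [Subgroup.relIndex_top_right]; exact d.idx)
      le_sup_left le_top (IsPGroup.to_sup_of_normal_left' d.isP hV hVN)
    exact hmove ((le_sup_right.trans e.le).trans (Subgroup.le_centralizer Q))
  have hVM : V ≤ M := hVN.trans d.leM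
  have hts : t ∉ sigma M := fun h =>
    hmove (centralizes_of_sigma hG d.hM (fun e => htq e.symm) (d.not_alpha hG) d.isP (d.le hG) hV hVM h hVN)
  have hV1 : V ≠ ⊥ := fun e => hmove (e ▸ bot_le)
  obtain ⟨W, hWV, hW⟩ := exists_sub_card hV hV1
  rcases tau1_or_tau3 hG d.hM hts (d.rank_one hG hts) hW (hWV.trans hVM) with h | h
  · exact ⟨htq, h⟩
  · exact absurd (centralizes_of_derived hG d.hM (fun e => htq e.symm) (d.not_alpha hG) d.isP (d.le hG) hV
      (tau3_le_derived hG d.hM h hV hVM) hVN) hmove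

/-- Elements of `τ₁(M)`-order in `N(Q)` act without fixed points on `Q`. -/
theorem SharedSylow.fpf (d : SharedSylow q M H Q) {t : ℕ} [Fact t.Prime] (ht : t ∈ tau1 M) {W : Subgroup G}
    (hW : Nat.card W = t) (hWN : W ≤ normalizer (Q : Set G)) : Q ⊓ centralizer (W : Set G) = ⊥ := by
  haveI := d.comm hG
  set N := normalizer (Q : Set G) with hN
  set Y := Q ⊓ centralizer (W : Set G) with hY
  have hWM : W ≤ M := hWN.trans d.leM
  have hY0 : Y ≤ sigmaCore M ⊓ centralizer (W : Set G) := inf_le_inf_right _ (d.le_core hG)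
  have hCY : N ⊓ centralizer (W : Set G) ≤ centralizer (Y : Set G) := by
    refine le_centralizer_of_sylows fun r hr => ?_
    haveI := Fact.mk hr
    obtain ⟨R, -, hRC, hR, hRi⟩ := exists_sylow_ge (p := r)
      (bot_le : (⊥ : Subgroup G) ≤ N ⊓ centralizer (W : Set G)) IsPGroup.of_bot
    refine ⟨R, hRC, hRi, ?_⟩
    have hRQ : R ≤ normalizer (Q : Set G) := hRC.trans inf_le_left
    have hRM : R ≤ M := hRQ.trans d.leM
    by_cases hmove : R ≤ centralizer (Q : Set G)
    · exact hmove.trans (Subgroup.centralizer_le (SetLike.coe_subset_coe.mpr inf_le_left))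
    obtain ⟨-, hr1⟩ := d.moves_tau1 hG hR hRQ hmove
    have hRr : PRankLE r 1 M := d.rank_one hG hr1.2.1
    obtain ⟨R₀, hR₀R, hR₀⟩ := exists_sub_card hR fun e => hmove (e ▸ bot_le)
    obtain ⟨x, hx, hxR⟩ := exists_gen hR₀
    have h1 : Y ≤ sigmaCore M ⊓ centralizer ({x} : Set G) := by
      rw [centralizer_zpowers, hxR]
      exact le_inf (hY0.trans inf_le_left) (hY0.trans (tau1_centralizer_le hG d.hM ht hr1.2.1 hW hWM hR₀
        (hR₀R.trans hRM) (hR₀R.trans (hRC.trans inf_le_right))))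
    rw [cyclic_sylow_prime_action hG d.hM hr1.2.1 hRr hR (rank_one_cyclic hG hRr hR hRM) hRM
      (x := x) (hR₀R (hxR ▸ mem_zpowers x)) (fun e => by
        rw [e, orderOf_one] at hx
        exact hr.ne_one hx.symm)] at h1
    exact Subgroup.le_centralizer_iff.mp (h1.trans inf_le_right)
  have hNd : (⁅N, N⁆ : Subgroup G) ≤ centralizer (Y : Set G) :=
    (d.derived_le hG).trans (Subgroup.centralizer_le (SetLike.coe_subset_coe.mpr inf_le_left))
  have hdN : (⁅N, N⁆ : Subgroup G) ≤ N := Subgroup.commutator_le_self N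
  have htd : ¬ t ∣ Nat.card ↥(⁅N, N⁆ : Subgroup G) := fun h =>
    ht.2.2.2.1 (h.trans (Subgroup.card_dvd_of_le (Subgroup.commutator_mono d.leM d.leM)))
  have hWn : W ≤ normalizer ((⁅N, N⁆ : Subgroup G) : Set G) :=
    hWN.trans (le_normalizer_commutator (Subgroup.le_normalizer (H := N)))
  set J := ⁅N, N⁆ ⊔ W with hJ
  have hJN : J ≤ N := sup_le hdN hWN
  have hJC : J ≤ centralizer (Y : Set G) := sup_le hNd (Subgroup.le_centralizer_iff.mp inf_le_right)
  have hhall : IsPiHallOf ({t} : Set ℕ) W J := by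
    refine ⟨le_sup_right, pi_of_card hW rfl, fun r hr hrt hd => ?_⟩
    rw [Set.mem_singleton_iff] at hrt
    subst hrt
    have h2 : Nat.card J ∣ Nat.card W * Nat.card ↥(⁅N, N⁆ : Subgroup G) := CfsgLib.Signalizer.card_sup_dvd hWn
    rw [← Subgroup.relIndex_bot_left (H := J), ← Subgroup.relIndex_mul_relIndex ⊥ W J bot_le le_sup_right,
      Subgroup.relIndex_bot_left] at h2
    exact htd (hd.trans (Nat.dvd_of_mul_dvd_mul_left Nat.card_pos h2))
  have hNY : N ≤ centralizer (Y : Set G) := by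
    intro n hn
    have hnW : MulAut.conj n • W ≤ J := by
      intro y hy
      rw [CfsgLib.mem_conj_smul_iff] at hy
      have hy' : n⁻¹ * y * n ∈ W := by simpa using hy
      have h3 : n * (n⁻¹ * y * n) * n⁻¹ * (n⁻¹ * y * n)⁻¹ ∈ ⁅N, N⁆ :=
        Subgroup.commutator_mem_commutator hn (hWN hy')
      have h4 := J.mul_mem (Subgroup.mem_sup_left (T := W) h3) (Subgroup.mem_sup_right (S := ⁅N, N⁆) hy')
      have e : n * (n⁻¹ * y * n) * n⁻¹ * (n⁻¹ * y * n)⁻¹ * (n⁻¹ * y * n) = y := by group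
      rwa [e] at h4
    obtain ⟨c, hc, hcW⟩ := CfsgLib.pi_le_conj_hall (solvable_of_le (hJN.trans d.leM) (solvable_of_ne_top hG d.hM.1))
      hhall hnW (by rw [CfsgLib.card_conj_smul]; exact pi_of_card hW rfl)
    have he : MulAut.conj (c * n) • W = W := by
      rw [← CfsgLib.conj_smul_mul]
      exact Subgroup.eq_of_le_of_card_ge hcW (by rw [CfsgLib.card_conj_smul, CfsgLib.card_conj_smul])
    have hcn : c * n ∈ N ⊓ centralizer (W : Set G) := by
      refine ⟨N.mul_mem (hJN hc) hn, ?_⟩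
      exact centralizes_of_not_dvd ht.2.2.2.1 (isPGroup_of_card hW) hWM
        (inf_le_left : M ⊓ normalizer (W : Set G) ≤ M) inf_le_right
        ⟨d.leM (N.mul_mem (hJN hc) hn), mem_normalizer_of_conj_smul he⟩
    have := mul_mem (inv_mem (hJC hc)) (hCY hcn)
    rwa [inv_mul_cancel_left] at this
  exact central_sylow_derived (N := N) Subgroup.le_normalizer d.isP
    (fun h => d.idx (h.trans (Subgroup.relIndex_dvd_index_of_le Subgroup.le_normalizer))) inf_le_left
    (inf_le_left.trans (d.le_derived hG)) hNY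

theorem SharedSylow.exists_mover (d : SharedSylow q M H Q) :
    ∃ t : ℕ, t.Prime ∧ t ∈ tau1 M ∧ t ∈ tau1 H ∧ ∃ W : Subgroup G, Nat.card W = t ∧
      W ≤ normalizer (Q : Set G) := by
  haveI := d.comm hG
  have hne : ¬ normalizer (Q : Set G) ≤ centralizer (Q : Set G) := fun h =>
    d.ne_bot hG (central_sylow_derived Subgroup.le_normalizer d.isP
      (fun h => d.idx (h.trans (Subgroup.relIndex_dvd_index_of_le Subgroup.le_normalizer))) le_rfl
      (d.le_derived hG) h)
  obtain ⟨t, ht, V, hVN, hV, hmove⟩ := exists_move hne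
  haveI := Fact.mk ht
  obtain ⟨W, hWV, hW⟩ := exists_sub_card hV fun e => hmove (e ▸ bot_le)
  exact ⟨t, ht, (d.moves_tau1 hG hV hVN hmove).2, ((d.symm hG).moves_tau1 hG hV hVN hmove).2, W, hW,
    hWV.trans hVN⟩

theorem SharedSylow.alpha_beta (d : SharedSylow q M H Q) {r : ℕ} [Fact r.Prime] (hr : r ∈ alpha M) :
    r ∈ beta M := by
  by_contra hrb
  have hMs := solvable_of_ne_top hG d.hM.1
  have hsM : sigmaCore M ≤ M := piCoreOf_le _ _
  obtain ⟨K, hK, hKn⟩ := exists_nilpotent_hall hG d.hM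
    (core_le_derived hG d.hM subset_rfl : sigmaCore M ≤ ⁅M, M⁆)
  have hrσ : r ∈ sigma M := alpha_subset_sigma hG d.hM hr
  obtain ⟨S, -, hSK, hS, hSi⟩ := exists_sylow_ge (p := r) (bot_le : (⊥ : Subgroup G) ≤ K) IsPGroup.of_bot
  obtain ⟨Q₁, -, hQ₁K, hQ₁, hQ₁i⟩ := exists_sylow_ge (p := q) (bot_le : (⊥ : Subgroup G) ≤ K) IsPGroup.of_bot
  have hsyl : ∀ {p : ℕ} [Fact p.Prime] {P : Subgroup G}, p ∉ beta M → P ≤ K → ¬ p ∣ P.relIndex K →
      ¬ p ∣ P.relIndex (sigmaCore M) := by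
    intro p hp P hpb hPK hPi hd
    rw [← Subgroup.relIndex_mul_relIndex P K (sigmaCore M) hPK (show K ≤ sigmaCore M from hK.1)] at hd
    rcases hp.out.dvd_mul.mp hd with h | h
    · exact hPi h
    · exact hK.2.2 p hp.out ⟨hp.out, hpb⟩ h
  have hQ₁s := hsyl (fun h => d.not_alpha hG h.1) hQ₁K hQ₁i
  obtain ⟨c, hc, hcQ⟩ := CfsgLib.pi_le_conj_hall (solvable_of_le hsM hMs)
    (H := Q₁) (π := {q}) ⟨hQ₁K.trans hK.1, pi_of_pgroup hQ₁ rfl, fun p _ hp => by
      rw [Set.mem_singleton_iff] at hp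
      rw [hp]
      exact hQ₁s⟩ (d.le_core hG) (pi_of_pgroup d.isP rfl)
  have hcQ' : MulAut.conj c • Q = Q₁ := (eq_of_sylow (X := ⊤) (by
    rw [Subgroup.relIndex_top_right, index_conj_smul]; exact d.idx) hcQ le_top hQ₁).symm
  have hrq : r ≠ q := fun e => d.not_alpha hG (e ▸ hr)
  set S' := MulAut.conj c⁻¹ • S with hS'
  have hS'Q : S' ≤ centralizer (Q : Set G) := by
    intro y hy x hx
    rw [hS', CfsgLib.mem_conj_smul_iff, inv_inv] at hy
    have hx' : c * x * c⁻¹ ∈ Q₁ := hcQ' ▸ (by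
      rw [CfsgLib.mem_conj_smul_iff]
      simpa [mul_assoc] using hx)
    have hcm : Commute (c * x * c⁻¹) (c * y * c⁻¹) := by
      haveI := hKn
      have := CfsgLib.commute_of_nilpotent (H := K) ⟨_, hQ₁K hx'⟩ ⟨_, hSK hy⟩ (by
        rw [Subgroup.orderOf_mk, Subgroup.orderOf_mk]
        exact Nat.Coprime.coprime_dvd_left (Subgroup.orderOf_dvd_natCard _ hx')
          (Nat.Coprime.coprime_dvd_right (Subgroup.orderOf_dvd_natCard _ hy)
            (coprime_pGroups Fact.out Fact.out (fun e => hrq e.symm) hQ₁ hS)))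
      exact congrArg Subtype.val this.eq
    have h := hcm.eq
    have e1 : c * x * c⁻¹ * (c * y * c⁻¹) = c * (x * y) * c⁻¹ := by group
    have e2 : c * y * c⁻¹ * (c * x * c⁻¹) = c * (y * x) * c⁻¹ := by group
    rw [e1, e2] at h
    exact mul_left_cancel (mul_right_cancel h)
  have hS'H : S' ≤ H := (hS'Q.trans (Subgroup.centralizer_le_normalizer _)).trans d.leH
  have hS3 : ¬ PRankLE r 2 S := fun h => by
    refine hr.2 (pRankLE_of_sylow_rel (hSK.trans (hK.1.trans hsM)) hS (fun hd => ?_) h)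
    rw [← Subgroup.relIndex_mul_relIndex _ _ _ (hSK.trans hK.1) hsM] at hd
    rcases (Fact.out : r.Prime).dvd_mul.mp hd with h | h
    · exact hsyl hrb hSK hSi h
    · exact (sigmaCore_hall hG d.hM).1.2.2 r Fact.out hrσ h
  obtain ⟨g, hg⟩ := sigma_alpha_conj hG d.hM d.hH hrσ
    (⟨Fact.out, fun h => hS3 (pRankLE_of_conj (pRankLE_mono hS'H h))⟩ : r ∈ alpha H)
  exact d.nconj g hg

theorem SharedSylow.alpha_nonempty (d : SharedSylow q M H Q) : ∃ r : ℕ, r.Prime ∧ r ∈ alpha M := by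
  by_contra hα
  push Not at hα
  refine d.not_nilpotent hG ?_
  have hαc : piCore (alpha M) ↥M = ⊥ := by
    refine Subgroup.card_eq_one.mp (Nat.eq_one_iff_not_exists_prime_dvd.mpr fun r hr hd => ?_)
    exact hα r hr (card_piCore _ r hr hd)
  haveI := derived_quotient_nilpotent hG d.hM (π := alpha M) subset_rfl
  set f := QuotientGroup.mk' (piCore (alpha M) ↥M)
  have hinj : Function.Injective f := by
    rw [← MonoidHom.ker_eq_bot_iff, QuotientGroup.ker_mk', hαc]
  have hle : (commutator ↥M).map f ≤ commutator _ := by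
    rw [_root_.commutator_def, Subgroup.map_commutator]
    exact Subgroup.commutator_mono le_top le_top
  haveI := Group.nilpotent_of_mulEquiv (Subgroup.subgroupOfEquivOfLe hle)
  haveI : Group.IsNilpotent ↥(commutator ↥M) :=
    Group.nilpotent_of_mulEquiv ((commutator ↥M).equivMapOfInjective f hinj).symm
  haveI : Group.IsNilpotent ↥(⁅M, M⁆ : Subgroup G) := Group.nilpotent_of_mulEquiv
    (((commutator ↥M).equivMapOfInjective M.subtype M.subtype_injective).trans
      (MulEquiv.subgroupCongr (Subgroup.map_subtype_commutator M)))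
  exact Group.nilpotent_of_mulEquiv (Subgroup.subgroupOfEquivOfLe (core_le_derived hG d.hM subset_rfl :
    sigmaCore M ≤ ⁅M, M⁆))

/-- For `r ∈ α(M)`, a fixed-point-free element centralises an element of order `r` of `M`. -/
theorem SharedSylow.exists_fixed (d : SharedSylow q M H Q) {t r : ℕ} [Fact t.Prime] [Fact r.Prime]
    (ht : t ∈ tau1 M) (hr : r ∈ alpha M) {W : Subgroup G} (hW : Nat.card W = t)
    (hWN : W ≤ normalizer (Q : Set G)) :
    ∃ R : Subgroup G, R ≤ M ⊓ centralizer (W : Set G) ∧ Nat.card R = r := by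
  have hMs := solvable_of_ne_top hG d.hM.1
  have htq : t ≠ q := fun e => ht.2.1 (e ▸ d.qM)
  have hqr : q ≠ r := fun e => d.not_alpha hG (e ▸ hr)
  have hhall := isPiHall_core hG d.hM (π := alpha M) subset_rfl (alpha_subset_sigma hG d.hM)
  have hQW : Q ⊔ W ≤ M := sup_le (d.le hG) (hWN.trans d.leM)
  have hcop : (Nat.card ↥(Q ⊔ W)).Coprime (Nat.card (alphaCore M)) := by
    refine Nat.coprime_of_dvd fun s hs h1 h2 => ?_
    have hsα : s ∈ alpha M := hhall.1.2.1 s hs h2
    rcases hs.dvd_mul.mp (h1.trans (CfsgLib.Signalizer.card_sup_dvd hWN)) with h | h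
    · rw [hW] at h
      exact ht.2.1 (alpha_subset_sigma hG d.hM ((Nat.prime_dvd_prime_iff_eq hs Fact.out).mp h ▸ hsα))
    · exact d.not_alpha hG (by rwa [card_dvd_of_pgroup d.isP hs h] at hsα)
  obtain ⟨S, hS, hQWS⟩ := CfsgLib.exists_invariant_hall ({r} : Set ℕ)
    (hQW.trans (le_normalizer_piCoreOf_self (alpha M) M)) hcop (solvable_of_le (piCoreOf_le _ _) hMs)
  have hSr : IsPGroup r S := IsPGroup.of_card (n := (Nat.card S).primeFactorsList.length)
    (Nat.eq_prime_pow_of_unique_prime_dvd Nat.card_pos.ne' fun {s} hs hd => hS.2.1 s hs hd)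
  obtain ⟨x, hx, hxW⟩ := exists_gen hW
  have hne : S ⊓ centralizer (W : Set G) ≠ ⊥ := by
    intro he
    have hSQ : Q ≤ centralizer (S : Set G) := centralizes_of_fpf hx
      (hWN (hxW ▸ mem_zpowers x)) (hQWS (Subgroup.mem_sup_right (hxW ▸ mem_zpowers x)))
      (le_sup_left.trans hQWS) (coprime_pGroups Fact.out Fact.out hqr d.isP hSr)
      (by rw [centralizer_zpowers, hxW]; exact d.fpf hG ht hW hWN)
      (by rw [centralizer_zpowers, hxW]; exact he)
    have hSH : S ≤ H :=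
      ((Subgroup.le_centralizer_iff.mp hSQ).trans (Subgroup.centralizer_le_normalizer _)).trans d.leH
    have hSM : S ≤ M := hS.1.trans (piCoreOf_le _ _)
    have hSi : ¬ r ∣ S.relIndex M := fun hd => by
      rw [← Subgroup.relIndex_mul_relIndex _ _ _ hS.1 (piCoreOf_le _ _)] at hd
      rcases (Fact.out : r.Prime).dvd_mul.mp hd with h | h
      · exact hS.2.2 r Fact.out rfl h
      · exact hhall.1.2.2 r Fact.out hr h
    have hS3 : ¬ PRankLE r 2 S := fun h => hr.2 (pRankLE_of_sylow_rel hSM hSr hSi h)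
    obtain ⟨g, hg⟩ := sigma_alpha_conj hG d.hM d.hH (alpha_subset_sigma hG d.hM hr)
      (⟨Fact.out, fun h => hS3 (pRankLE_mono hSH h)⟩ : r ∈ alpha H)
    exact d.nconj g hg
  obtain ⟨R, hR, hRc⟩ := exists_sub_card (hSr.to_le inf_le_left) hne
  exact ⟨R, le_inf (hR.trans (inf_le_left.trans (hS.1.trans (piCoreOf_le _ _)))) (hR.trans inf_le_right), hRc⟩

/-- Inside a maximal subgroup above `N(W)` the prime `r ∈ α(M)` has rank one. -/
theorem SharedSylow.rank_above (d : SharedSylow q M H Q) {t r : ℕ} [Fact t.Prime] [Fact r.Prime]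
    (ht : t ∈ tau1 M) (hr : r ∈ alpha M) {W : Subgroup G} (hW : Nat.card W = t)
    (hWM : W ≤ M) {R : Subgroup G} (hR : R ≤ M ⊓ centralizer (W : Set G)) (hRc : Nat.card R = r)
    {L : Subgroup G} (hL : IsCoatom L) (hWL : normalizer (W : Set G) ≤ L) : PRankLE r 1 L := by
  have hWr : PRankLE t 1 M := ht.2.2.2.2
  have hnc : ∀ g : G, L ≠ MulAut.conj g • M := fun g e => by
    obtain ⟨⟨-, h1⟩, -, -⟩ := order_p_normalizer_le hG hL (by rw [e, sigma_conj]; exact ht.2.1) hW hWL
    exact h1 (e ▸ pRankLE_conj g hWr)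
  have hrs : r ∉ sigma L := fun h => by
    obtain ⟨g, hg⟩ := sigma_alpha_conj hG hL d.hM h hr
    exact not_conj_symm hG hnc g hg
  refine rank_one_of_not_sigma hG hL hrs fun h2 => ?_
  have hRL : R ≤ L := (hR.trans inf_le_right).trans ((Subgroup.centralizer_le_normalizer _).trans hWL)
  have hRu := uniq_centralizer_of_sigma hG d.hM (alpha_subset_sigma hG d.hM hr) (hR.trans inf_le_left) hRc
    (Or.inl (d.alpha_beta hG hr))
  obtain ⟨E, hE, hRE⟩ := exists_complement_ge hG hL hRL (pi_of_card hRc (π := {s | s ∉ sigma L}) hrs)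
  obtain ⟨B, hBE, hB, hB2⟩ := exists_elementary_in_complement hG hL hE h2
  obtain ⟨x, hx, hxR⟩ := exists_gen hRc
  have hxE : x ∈ E := hRE (hxR ▸ mem_zpowers x)
  have hxτ : ∀ s : ℕ, s.Prime → s ∣ orderOf x → s ∈ tau2 L := fun s hs hd => by
    rw [hx] at hd
    rwa [(Nat.prime_dvd_prime_iff_eq hs Fact.out).mp hd]
  have hcent : ∀ {s : ℕ} [Fact s.Prime] {A : Subgroup G}, s ∈ tau2 L → A ≤ E → IsElementaryAbelian s A →
      Nat.card A = s ^ 2 → A ≤ M := by
    intro s _ A hs hAE hA hA2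
    have hxA := tau2_element_centralizes hG hL hE hs hAE hA hA2 hxE hxτ
    refine le_trans ?_ hRu.1
    rw [← hxR]
    exact Subgroup.le_centralizer_iff.mp (Subgroup.zpowers_le.mpr hxA)
  have hBM := hcent h2 hBE hB hB2
  have hLM : M ≠ L := fun e => hnc 1 (by rw [map_one, one_smul, e])
  have hts : t ∉ sigma L := fun h => ne_bot_of_card hW (le_bot_iff.mp
    ((sigma_meet_bot hG hL h2 (hBE.trans hE.1) hB hB2 d.hM hLM hBM) ▸
      le_inf (le_sigmaCore hG hL (Subgroup.le_normalizer.trans hWL) (pi_of_card hW h)) hWM))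
  obtain ⟨⟨-, h1⟩, -, -⟩ := order_p_normalizer_le hG hL hts hW hWL
  have htτ : t ∈ tau2 L := ⟨Fact.out, hts, rank_two_of_not_sigma hG hL hts, h1⟩
  obtain ⟨A, hAE, hA, hA2⟩ := exists_elementary_in_complement hG hL hE htτ
  exact rank_two_not_le hWr hA hA2 (hcent htτ hAE hA hA2)

/-- A fixed-point-free element centralises an element of order `r` of `H`, for `r ∈ α(M)`. -/
theorem SharedSylow.exists_cross (d : SharedSylow q M H Q) {t r : ℕ} [Fact t.Prime] [Fact r.Prime]
    (htM : t ∈ tau1 M) (htH : t ∈ tau1 H) (hr : r ∈ alpha M) {W : Subgroup G} (hW : Nat.card W = t)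
    (hWN : W ≤ normalizer (Q : Set G)) :
    ∃ R : Subgroup G, R ≤ H ⊓ centralizer (W : Set G) ∧ Nat.card R = r := by
  obtain ⟨R₁, hR₁, hR₁c⟩ := d.exists_fixed hG htM hr hW hWN
  obtain ⟨s, hs, hsα⟩ := (d.symm hG).alpha_nonempty hG
  haveI := Fact.mk hs
  obtain ⟨U₁, hU₁, hU₁c⟩ := (d.symm hG).exists_fixed hG htH hsα hW hWN
  obtain ⟨L, hL, hWL⟩ := exists_coatom_ge (normalizer_ne_top hG (ne_bot_of_card hW)
    (pgroup_ne_top hG (isPGroup_of_card hW)))
  have hWC : centralizer (W : Set G) ≤ L := (Subgroup.centralizer_le_normalizer _).trans hWL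
  have hr1 := pRankLE_mono hWC (d.rank_above hG htM hr hW (hWN.trans d.leM) hR₁ hR₁c hL hWL)
  have hs1 := pRankLE_mono hWC ((d.symm hG).rank_above hG htH hsα hW (hWN.trans d.leH) hU₁ hU₁c hL hWL)
  obtain ⟨c, hc, h⟩ := dichotomy (solvable_of_le hWC (solvable_of_ne_top hG hL.1)) hr1 hs1 hR₁c
    (hR₁.trans inf_le_right) hU₁c (hU₁.trans inf_le_right)
  have hcC : MulAut.conj c • centralizer (W : Set G) = centralizer (W : Set G) :=
    smul_eq_self_of_mem hc
  rcases h with h | h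
  · refine ⟨MulAut.conj c • R₁, le_inf (h.trans ?_) ((conj_smul_mono (hR₁.trans inf_le_right) c).trans hcC.le),
      by rw [CfsgLib.card_conj_smul, hR₁c]⟩
    exact normalizer_le_of_uniq hG (ne_bot_of_card hU₁c) (pgroup_ne_top hG (isPGroup_of_card hU₁c))
      (uniq_centralizer_of_sigma hG d.hH (alpha_subset_sigma hG d.hH hsα) (hU₁.trans inf_le_left) hU₁c
        (Or.inl ((d.symm hG).alpha_beta hG hsα))).2
  · have hru := uniq_centralizer_of_sigma hG d.hM (alpha_subset_sigma hG d.hM hr) (hR₁.trans inf_le_left) hR₁c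
      (Or.inl (d.alpha_beta hG hr))
    have hcM : MulAut.conj c • U₁ ≤ M :=
      h.trans (normalizer_le_of_uniq hG (ne_bot_of_card hR₁c) (pgroup_ne_top hG (isPGroup_of_card hR₁c)) hru.2)
    have h2 := (le_inf (le_sigmaCore hG d.hM (hR₁.trans inf_le_left) (pi_of_card hR₁c (alpha_subset_sigma hG d.hM hr)))
      (hR₁.trans inf_le_right)).trans (tau1_centralizer_le hG d.hM htM ((d.symm hG).alpha_not_sigma hG hsα) hW
        (hWN.trans d.leM) (R := MulAut.conj c • U₁) (by rw [CfsgLib.card_conj_smul, hU₁c]) hcM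
        ((conj_smul_mono (hU₁.trans inf_le_right) c).trans hcC.le))
    have hUu := uniq_centralizer_of_sigma hG d.hH (alpha_subset_sigma hG d.hH hsα) (hU₁.trans inf_le_left) hU₁c
      (Or.inl ((d.symm hG).alpha_beta hG hsα))
    refine ⟨MulAut.conj c⁻¹ • R₁, le_inf ?_ ((conj_smul_mono (hR₁.trans inf_le_right) c⁻¹).trans
      (smul_eq_self_of_mem (inv_mem hc)).le), by rw [CfsgLib.card_conj_smul, hR₁c]⟩
    intro y hy
    rw [CfsgLib.mem_conj_smul_iff, inv_inv] at hy
    refine hUu.1 fun u hu => ?_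
    have h3 := h2 hy (c * u * c⁻¹) (by
      rw [SetLike.mem_coe, CfsgLib.mem_conj_smul_iff]
      simpa [mul_assoc] using hu)
    have e1 : c * u * c⁻¹ * (c * y * c⁻¹) = c * (u * y) * c⁻¹ := by group
    have e2 : c * y * c⁻¹ * (c * u * c⁻¹) = c * (y * u) * c⁻¹ := by group
    rw [e1, e2] at h3
    exact mul_left_cancel (mul_right_cancel h3)

theorem SharedSylow.elim (d : SharedSylow q M H Q) : False := by
  haveI := d.comm hG
  obtain ⟨r, hr', hr⟩ := d.alpha_nonempty hG
  haveI := Fact.mk hr'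
  obtain ⟨t₀, ht₀', ht₀M, ht₀H, W₀, hW₀, hW₀N⟩ := d.exists_mover hG
  haveI := Fact.mk ht₀'
  obtain ⟨R₀, hR₀, hR₀c⟩ := d.exists_cross hG ht₀M ht₀H hr hW₀ hW₀N
  have hrq : r ≠ q := fun e => d.not_alpha hG (e ▸ hr)
  have hrH : r ∉ sigma H := d.alpha_not_sigma hG hr
  have hrαH : r ∉ alpha H := fun h => hrH (alpha_subset_sigma hG d.hH h)
  have hrM := alpha_subset_sigma hG d.hM hr
  have hr1 : PRankLE r 1 H := (d.symm hG).rank_one hG hrH
  set N := normalizer (Q : Set G) with hN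
  obtain ⟨O, hOH, hHO, hOπ, hfac⟩ := frattini_core hG d.hH
    ((d.le_derived hG).trans (Subgroup.commutator_mono d.leH d.leH)) d.isP
    (fun h => d.idx (h.trans (Subgroup.relIndex_dvd_index_of_le
      ((d.le_derived hG).trans (Subgroup.commutator_mono d.leH d.leH)))))
  have hOr : ¬ r ∣ Nat.card O := fun h => (hOπ r hr' h).elim hrαH hrq
  have hfac' : H ≤ O ⊔ N := hfac.trans (sup_le_sup_left inf_le_right _)
  have hrN : r ∣ Nat.card N := by
    have h1 : r ∣ Nat.card N * Nat.card O :=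
      ((hR₀c ▸ Subgroup.card_dvd_of_le (hR₀.trans inf_le_left)).trans (Subgroup.card_dvd_of_le hfac')).trans
        (CfsgLib.Signalizer.card_sup_dvd (d.leH.trans hHO))
    exact (hr'.dvd_mul.mp h1).resolve_right hOr
  obtain ⟨S, -, hSN, hS, hSi⟩ := exists_sylow_ge (p := r) (bot_le : (⊥ : Subgroup G) ≤ N) IsPGroup.of_bot
  have hS1 : S ≠ ⊥ := fun e => hSi (by rwa [e, Subgroup.relIndex_bot_left])
  obtain ⟨R, hRS, hRc⟩ := exists_sub_card hS hS1
  have hSH : S ≤ H := hSN.trans d.leH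
  have hSc : IsCyclic S := rank_one_cyclic hG hr1 hS hSH
  have hSQ : S ≤ centralizer (Q : Set G) := centralizes_of_sigma hG d.hM (fun e => hrq e.symm)
    (d.not_alpha hG) d.isP (d.le hG) hS (hSN.trans d.leM) hrM hSN
  have hrt3 : r ∈ tau3 H := by
    refine (tau1_or_tau3 hG d.hH hrH hr1 hRc (hRS.trans hSH)).resolve_left fun h => ?_
    have := (d.symm hG).fpf hG h hRc (hRS.trans hSN)
    exact d.ne_bot hG (le_bot_iff.mp (this ▸ le_inf le_rfl (Subgroup.le_centralizer_iff.mp (hRS.trans hSQ))))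
  have hrN' : r ∣ Nat.card ↥(⁅N, N⁆ : Subgroup G) := by
    by_contra h
    exact not_dvd_derived hHO hOH d.leH hfac' hOr h hrt3.2.2.1
  have hne : ¬ N ⊓ normalizer (S : Set G) ≤ centralizer (S : Set G) := fun h =>
    not_dvd_derived_of_burnside hSN hS hSi h hrN'
  obtain ⟨t, ht', T, hTN, hT, hTmove⟩ := exists_move hne
  haveI := Fact.mk ht'
  have hTS : T ≤ normalizer (S : Set G) := hTN.trans inf_le_right
  have hTQ : T ≤ N := hTN.trans inf_le_left
  have htr : r ≠ t := fun e => by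
    subst e
    have e : S ⊔ T = S := eq_of_sylow hSi le_sup_left (sup_le hSN hTQ) (IsPGroup.to_sup_of_normal_left' hS hT hTS)
    haveI := cyclic_isCommutative hSc
    exact hTmove ((le_sup_right.trans e.le).trans (Subgroup.le_centralizer S))
  have hTH : T ≤ H := hTQ.trans d.leH
  have htH : t ∉ sigma H := fun h => hTmove (centralizes_of_sigma hG d.hH htr hrαH hS hSH hT hTH h hTS)
  obtain ⟨W, hWT, hW⟩ := exists_sub_card hT fun e => hTmove (e ▸ bot_le)
  have htH1 : t ∈ tau1 H := by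
    refine (tau1_or_tau3 hG d.hH htH ((d.symm hG).rank_one hG htH) hW (hWT.trans hTH)).resolve_right fun h => ?_
    exact hTmove (centralizes_of_derived hG d.hH htr hrαH hS hSH hT (tau3_le_derived hG d.hH h hT hTH) hTS)
  have hWN : W ≤ N := hWT.trans hTQ
  have hWmove : ¬ W ≤ centralizer (Q : Set G) := fun h => d.ne_bot hG (le_bot_iff.mp
    (((d.symm hG).fpf hG htH1 hW hWN) ▸ le_inf le_rfl (Subgroup.le_centralizer_iff.mp h)))
  have htM : t ∈ tau1 M := (d.moves_tau1 hG (isPGroup_of_card hW) hWN hWmove).2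
  have hTM : T ≤ M := hTQ.trans d.leM
  have hWR : ¬ W ≤ centralizer (R : Set G) := fun h => by
    obtain ⟨x, hx, hxW⟩ := exists_gen hW
    have hr1M : PRankLE t 1 M := htM.2.2.2.2
    have h1 := cyclic_sylow_prime_action hG d.hM htM.2.1 hr1M hT (rank_one_cyclic hG hr1M hT hTM) hTM
      (x := x) (hWT (hxW ▸ mem_zpowers x)) (fun e => by
        rw [e, orderOf_one] at hx
        exact ht'.ne_one hx.symm)
    have h2 : R ≤ sigmaCore M ⊓ centralizer ({x} : Set G) := by
      rw [centralizer_zpowers, hxW]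
      exact le_inf (le_sigmaCore hG d.hM (hRS.trans (hSN.trans d.leM)) (pi_of_card hRc hrM))
        (Subgroup.le_centralizer_iff.mp h)
    rw [h1] at h2
    exact hTmove (centralizes_cyclic hS hSc hTS (coprime_pGroups hr' ht' htr hS hT) hRS (ne_bot_of_card hRc)
      (Subgroup.le_centralizer_iff.mp (h2.trans inf_le_right)))
  obtain ⟨R₃, hR₃, hR₃c⟩ := d.exists_cross hG htM htH1 hr hW hWN
  -- `Hσ R` is normal in `H`
  have hWS : W ≤ normalizer (R : Set G) := hWT.trans (hTS.trans (normalizer_le_of_cyclic hSc hRS))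
  obtain ⟨E, hE, hRWE⟩ := exists_complement_ge hG d.hH (U := R ⊔ W) (sup_le (hRS.trans hSH) (hWT.trans hTH))
    (fun s hs hd => by
      rcases hs.dvd_mul.mp (hd.trans (CfsgLib.Signalizer.card_sup_dvd hWS)) with h | h
      · exact pi_of_card hW (π := {s | s ∉ sigma H}) htH s hs h
      · exact pi_of_card hRc (π := {s | s ∉ sigma H}) hrH s hs h)
  have hRn : E ≤ normalizer (R : Set G) :=
    tau3_normalized hG d.hH hE (le_sup_left.trans hRWE) (pi_of_card hRc hrt3)
  have hHs : H ≤ normalizer (sigmaCore H : Set G) := le_normalizer_piCoreOf_self _ _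
  obtain ⟨U, -, hUH, hU, hUi⟩ := exists_sylow_ge (p := r) (hRS.trans hSH) (isPGroup_of_card hRc)
  obtain ⟨S₁, hRS₁, hS₁H, hS₁, hS₁i⟩ := exists_sylow_ge (p := r) (hRS.trans hSH) (isPGroup_of_card hRc)
  obtain ⟨h, hh, hhR⟩ := CfsgLib.pi_le_conj_hall (solvable_of_ne_top hG d.hH.1) (H := S₁) (π := {r})
    ⟨hS₁H, pi_of_pgroup hS₁ rfl, fun p _ hp => by rw [Set.mem_singleton_iff] at hp; rw [hp]; exact hS₁i⟩
    (hR₃.trans inf_le_left) (pi_of_card hR₃c rfl)
  have hconj : MulAut.conj h • R₃ = R := eq_of_card_cyclic (rank_one_cyclic hG hr1 hS₁ hS₁H) hhR hRS₁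
    (by rw [CfsgLib.card_conj_smul, hR₃c, hRc])
  have hR₃Y : R₃ ≤ sigmaCore H ⊔ R := by
    intro y hy
    have hy1 : h * y * h⁻¹ ∈ R := hconj ▸ (by rw [CfsgLib.mem_conj_smul_iff]; simpa [mul_assoc] using hy)
    have hYn : H ≤ normalizer ((sigmaCore H ⊔ R : Subgroup G) : Set G) := by
      intro m hm
      obtain ⟨e, he, b, hb, rfl⟩ := hE.2.2.2 m hm
      refine Subgroup.mul_mem _ (mem_normalizer_of_conj_smul ?_)
        (Subgroup.le_normalizer (Subgroup.mem_sup_left hb))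
      rw [Subgroup.smul_sup, conj_smul_eq_of_mem_normalizer (hHs (hE.1 he)),
        conj_smul_eq_of_mem_normalizer (hRn he)]
    have := (Subgroup.mem_normalizer_iff.mp (hYn (inv_mem hh)) (h * y * h⁻¹)).mp (Subgroup.mem_sup_right hy1)
    simpa [mul_assoc] using this
  obtain ⟨y, hy, hyR₃⟩ := exists_gen hR₃c
  have hyR : y ∈ R₃ := hyR₃ ▸ mem_zpowers y
  obtain ⟨s, hs, a, ha, hsa⟩ := CfsgLib.mem_sup_of_le_normalizer
    ((hRS.trans hSH).trans hHs) (hR₃Y hyR)
  refine hWR fun w hw x hx => ?_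
  have hdis : ∀ z ∈ R, z ∈ sigmaCore H → z = 1 := fun z hzR hzs => by
    have : orderOf z ∣ 1 := by
      rw [← (coprime_sigmaCore hG d.hH hrH (isPGroup_of_card hRc) (le_refl (sigmaCore H))).gcd_eq_one]
      exact Nat.dvd_gcd (Subgroup.orderOf_dvd_natCard _ hzR) (Subgroup.orderOf_dvd_natCard _ hzs)
    exact orderOf_eq_one_iff.mp (Nat.dvd_one.mp this)
  have hwa : w * a * w⁻¹ ∈ R := (Subgroup.mem_normalizer_iff.mp (hWS hw) a).mp ha
  have hws : w * s * w⁻¹ ∈ sigmaCore H :=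
    (Subgroup.mem_normalizer_iff.mp (hHs (hTH (hWT hw))) s).mp hs
  have hwy : w * y * w⁻¹ = y := by
    rw [(hR₃ hyR).2 w hw, mul_inv_cancel_right]
  have h1 : w * a * w⁻¹ * a⁻¹ = 1 := by
    refine hdis _ (R.mul_mem hwa (R.inv_mem ha)) ?_
    have e : w * a * w⁻¹ * a⁻¹ = (w * s * w⁻¹)⁻¹ * (w * y * w⁻¹) * y⁻¹ * s := by rw [← hsa]; group
    rw [e, hwy, mul_inv_cancel_right]
    exact mul_mem (inv_mem hws) hs
  have hca : Commute w a := mul_inv_eq_iff_eq_mul.mp (mul_inv_eq_one.mp h1)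
  have hax : zpowers a = R := by
    refine Subgroup.eq_of_le_of_card_ge (Subgroup.zpowers_le.mpr ha) ?_
    rw [Nat.card_zpowers, hRc, orderOf_eq_prime ((elementary_of_card_prime hRc).2 a ha) fun e => ?_]
    have hys : y ∈ sigmaCore H := by rw [← hsa, e, mul_one]; exact hs
    have hd : r ∣ Nat.card (sigmaCore H) := hy ▸ Subgroup.orderOf_dvd_natCard _ hys
    exact hrH ((sigmaCore_hall hG d.hH).1.2.1 r hr' hd)
  obtain ⟨i, rfl⟩ := Subgroup.mem_zpowers_iff.mp (hax.ge hx)
  exact ((hca.zpow_right i).eq).symm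

/-- Maximal subgroups sharing a prime in `σ` are conjugate. -/
theorem sigma_disjointness (hM : IsCoatom M) (hH : IsCoatom H) (hqM : q ∈ sigma M) (hqH : q ∈ sigma H) :
    ∃ g : G, H = MulAut.conj g • M := by
  by_contra hn
  push Not at hn
  obtain ⟨P, hPM, hP, hPi, hPN⟩ := exists_sigma_sylow hqM
  obtain ⟨R, hRH, hR, hRi, hRN⟩ := exists_sigma_sylow hqH
  obtain ⟨g, hg⟩ := MulAction.exists_smul_eq G (hR.toSylow hRi) (hP.toSylow hPi)
  have hPR : P = MulAut.conj g • R := (congrArg (fun U : Sylow q G => (U : Subgroup G)) hg).symm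
  refine SharedSylow.elim hG (M := M) (H := MulAut.conj g • H) (Q := P)
    ⟨hM, conj_isCoatom hH g, fun c e => hn (g⁻¹ * c) ?_, hqM, by rwa [sigma_conj], hP, hPi, hPN, ?_⟩
  · rw [← CfsgLib.conj_smul_mul, ← e, CfsgLib.conj_smul_mul, inv_mul_cancel, map_one, one_smul]
  · intro x hx
    rw [hPR] at hx
    rw [CfsgLib.mem_conj_smul_iff]
    refine hRN (mem_normalizer_of_conj_smul ?_)
    have h2 := conj_smul_eq_of_mem_normalizer hx
    rw [CfsgLib.conj_smul_mul] at h2
    rw [← CfsgLib.conj_smul_mul, ← CfsgLib.conj_smul_mul]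
    rw [← CfsgLib.conj_smul_mul] at h2
    rw [h2, CfsgLib.conj_smul_mul, inv_mul_cancel, map_one, one_smul]

end CfsgLib.MinSimpleOdd
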