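import Cfsg.Agent.Lib.MinSimpleOdd.PrimeActionTau
import Cfsg.Agent.Lib.MinSimpleOdd.Tau

/-!
General tools for the sections on prime action and `σ`-disjointness (B–G §13).
-/

set_option autoImplicit false
set_option linter.unusedSectionVars false
set_option linter.style.haveILetI false
set_option maxHeartbeats 1000000

namespace CfsgLib.MinSimpleOdd

open Subgroup Cfsg
open scoped Pointwise commutatorElement IsMulCommutative

universe u
variable {G : Type u} [Group G] [Finite G]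

theorem eq_of_card_cyclic {Q X Y : Subgroup G} (hc : IsCyclic Q) (hX : X ≤ Q) (hY : Y ≤ Q)
    (h : Nat.card X = Nat.card Y) : X = Y := by
  haveI := hc
  rw [← Subgroup.map_subgroupOf_eq_of_le hX, ← Subgroup.map_subgroupOf_eq_of_le hY]
  congr 1
  exact CfsgLib.PowerGraph.subgroup_eq_of_card (by
    rw [Nat.card_congr (Subgroup.subgroupOfEquivOfLe hX).toEquiv,
      Nat.card_congr (Subgroup.subgroupOfEquivOfLe hY).toEquiv, h])

theorem cyclic_isCommutative {Q : Subgroup G} (hc : IsCyclic Q) : IsMulCommutative Q := by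
  haveI := hc
  infer_instance

/-- A coprime operator centralising a nontrivial part of a cyclic group centralises it. -/
theorem centralizes_cyclic {q : ℕ} [Fact q.Prime] {Q T : Subgroup G} (hQq : IsPGroup q Q) (hQc : IsCyclic Q)
    (hTQ : T ≤ normalizer (Q : Set G)) (hcop : (Nat.card Q).Coprime (Nat.card T))
    {X : Subgroup G} (hXQ : X ≤ Q) (hX : X ≠ ⊥) (hXT : T ≤ centralizer (X : Set G)) :
    T ≤ centralizer (Q : Set G) := by
  by_contra h
  exact hX (le_bot_iff.mp (cyclic_moved_fixed_bot hQq hQc hTQ hcop h ▸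
    le_inf hXQ (Subgroup.le_centralizer_iff.mp hXT)))

theorem exists_move {C T : Subgroup G} (h : ¬ C ≤ centralizer (T : Set G)) :
    ∃ t : ℕ, t.Prime ∧ ∃ V : Subgroup G, V ≤ C ∧ IsPGroup t V ∧ ¬ V ≤ centralizer (T : Set G) := by
  by_contra hall
  push_neg at hall
  refine h (le_centralizer_of_sylows fun t ht => ?_)
  haveI := Fact.mk ht
  obtain ⟨V, -, hVC, hVt, hVi⟩ := exists_sylow_ge (p := t) (bot_le : (⊥ : Subgroup G) ≤ C) IsPGroup.of_bot
  exact ⟨V, hVC, hVi, hall t ht V hVC hVt⟩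

/-- A prime-power subgroup normalised in `M` and of order prime to `|M'|` is centralised. -/
theorem centralizes_of_not_dvd {t : ℕ} [Fact t.Prime] {M T Y : Subgroup G} (htd : ¬ t ∣ Nat.card ↥⁅M, M⁆)
    (hT : IsPGroup t T) (hTM : T ≤ M) (hYM : Y ≤ M) (hYT : Y ≤ normalizer (T : Set G)) :
    Y ≤ centralizer (T : Set G) := by
  have h : ⁅T, Y⁆ = ⊥ := le_bot_iff.mp ((le_inf (commutator_le_of_normalizes hYT)
    (Subgroup.commutator_mono hTM hYM)).trans (inf_eq_bot_of_pgroup hT htd).le)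
  exact Subgroup.le_centralizer_iff.mp (Subgroup.commutator_eq_bot_iff_le_centralizer.mp h)

theorem central_sylow_derived {q : ℕ} [Fact q.Prime] {N Q Y : Subgroup G} (hQN : Q ≤ N) (hQq : IsPGroup q Q)
    [IsMulCommutative Q] (hQi : ¬ q ∣ Q.relIndex N) (hYQ : Y ≤ Q) (hYd : Y ≤ ⁅N, N⁆)
    (hc : N ≤ centralizer (Y : Set G)) : Y = ⊥ := by
  refine (Subgroup.eq_bot_iff_forall _).mpr fun y hy => ?_
  have hyQ : y ∈ Q := hYQ hy
  haveI : IsMulCommutative (Q.subgroupOf N) := ⟨⟨fun a b => by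
    apply Subtype.ext
    apply Subtype.ext
    exact congrArg (fun z : Q => (z : G)) (mul_comm' (⟨_, a.2⟩ : Q) ⟨_, b.2⟩)⟩⟩
  have hyd : (⟨y, hQN hyQ⟩ : N) ∈ commutator N := by
    obtain ⟨z, hz, e⟩ := (Subgroup.map_subtype_commutator N).ge (hYd hy)
    have e' : z = ⟨y, hQN hyQ⟩ := Subtype.ext e
    rwa [e'] at hz
  have h1 : (⟨y, hQN hyQ⟩ : N) = 1 := central_derived_trivial (H := Q.subgroupOf N)
    (fun a => Subtype.ext ((hc a.2) y hy).symm) hyd (by
      rw [Subgroup.orderOf_mk]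
      refine Nat.Coprime.coprime_dvd_left (Subgroup.orderOf_dvd_natCard _ hyQ) ?_
      obtain ⟨k, hk⟩ := hQq.exists_card_eq
      rw [hk]
      exact ((Fact.out : q.Prime).coprime_iff_not_dvd.mpr hQi).pow_left k)
  exact congrArg Subtype.val h1

/-- Burnside: a Sylow subgroup centralised by its normaliser does not meet the derived group. -/
theorem not_dvd_derived_of_burnside {r : ℕ} [Fact r.Prime] {N R : Subgroup G} (hRN : R ≤ N) (hR : IsPGroup r R)
    (hRi : ¬ r ∣ R.relIndex N) (h : N ⊓ normalizer (R : Set G) ≤ centralizer (R : Set G)) :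
    ¬ r ∣ Nat.card ↥⁅N, N⁆ := by
  obtain ⟨S, hS, -⟩ := sylow_of_relIndex hRN hR hRi
  have hS' : (S : Subgroup N) = R.subgroupOf N := by
    rw [← hS, Subgroup.subgroupOf, Subgroup.comap_map_eq_self_of_injective N.subtype_injective]
  have hP : normalizer (S : Set N) ≤ centralizer ((S : Subgroup N) : Set N) := by
    intro n hn x hx
    have hn' : (n : G) ∈ normalizer (R : Set G) := Subgroup.mem_normalizer_iff.mpr fun z => by
      constructor <;> intro hz
      · have hzN : z ∈ N := hRN hz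
        have h1 : (⟨z, hzN⟩ : N) ∈ (S : Subgroup N) := by rw [hS']; exact Subgroup.mem_subgroupOf.mpr hz
        have := (Subgroup.mem_normalizer_iff.mp hn ⟨z, hzN⟩).mp h1
        have h3 : n * ⟨z, hzN⟩ * n⁻¹ ∈ R.subgroupOf N := hS' ▸ this
        exact Subgroup.mem_subgroupOf.mp h3
      · have hzN : z ∈ N := by
          have := hRN hz
          have h2 := N.mul_mem (N.mul_mem (N.inv_mem n.2) this) n.2
          simpa [mul_assoc] using h2
        have h1 : n * ⟨z, hzN⟩ * n⁻¹ ∈ (S : Subgroup N) := by rw [hS']; exact Subgroup.mem_subgroupOf.mpr hz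
        have := (Subgroup.mem_normalizer_iff.mp hn ⟨z, hzN⟩).mpr h1
        have h3 : (⟨z, hzN⟩ : N) ∈ R.subgroupOf N := hS' ▸ this
        exact Subgroup.mem_subgroupOf.mp h3
    have hx : (x : G) ∈ R := by
      have h3 : x ∈ R.subgroupOf N := hS' ▸ hx
      exact Subgroup.mem_subgroupOf.mp h3
    exact Subtype.ext (h ⟨n.2, hn'⟩ x hx)
  haveI : IsMulCommutative ↥(S : Subgroup N) := ⟨⟨fun a b => Subtype.ext (hP (Subgroup.le_normalizer b.2) a a.2)⟩⟩
  intro hd
  have hle : commutator N ≤ (MonoidHom.transferSylow S hP).ker := Abelianization.commutator_subset_ker _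
  refine MonoidHom.not_dvd_card_ker_transferSylow S hP ((dvd_trans ?_ (Subgroup.card_dvd_of_le hle)))
  rwa [← Subgroup.map_subtype_commutator N, Subgroup.card_map_of_injective N.subtype_injective] at hd

/-- In a group of rank one at `r`, a normal subgroup of order `r` is the only one. -/
theorem eq_of_normal_rank_one {r : ℕ} [Fact r.Prime] {C X R : Subgroup G} (h1 : PRankLE r 1 C) (hX : Nat.card X = r)
    (hR : Nat.card R = r) (hXC : X ≤ C) (hRC : R ≤ C) (hRX : R ≤ normalizer (X : Set G)) : R = X := by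
  have hXr : IsPGroup r X := IsPGroup.of_card (n := 1) (by rw [hX, pow_one])
  have hRr : IsPGroup r R := IsPGroup.of_card (n := 1) (by rw [hR, pow_one])
  have hT : IsPGroup r (X ⊔ R : Subgroup G) := IsPGroup.to_sup_of_normal_left' hXr hRr hRX
  have hcomm : R ≤ centralizer (X : Set G) := by
    haveI : IsCyclic X := isCyclic_of_prime_card hX
    haveI : Group.IsNilpotent ↥(X ⊔ R) := hT.isNilpotent
    have hXn : (X.subgroupOf (X ⊔ R)).Normal := (Subgroup.normal_subgroupOf_iff_le_normalizer le_sup_left).mpr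
      (sup_le Subgroup.le_normalizer hRX)
    haveI := hXn
    have hX0 : X.subgroupOf (X ⊔ R) ≠ ⊥ := fun e => ne_bot_of_card hX (by
      rw [← Subgroup.map_subgroupOf_eq_of_le (le_sup_left : X ≤ X ⊔ R), e, Subgroup.map_bot])
    obtain ⟨⟨z, hzX, hzC⟩, hz1⟩ := Subgroup.ne_bot_iff_exists_ne_one.mp
      (CfsgLib.inf_center_ne_bot_of_nilpotent hX0)
    have hz1' : (z : G) ≠ 1 := fun e => hz1 (Subtype.ext (Subtype.ext e))
    have hzx : zpowers (z : G) = X := Subgroup.eq_of_le_of_card_ge (Subgroup.zpowers_le.mpr hzX)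
      (by rw [hX]; exact ((Nat.card_zpowers _).trans (orderOf_eq_prime ((elementary_of_card_prime hX).2 _ hzX) hz1')).ge)
    intro y hy x hx
    obtain ⟨i, rfl⟩ := Subgroup.mem_zpowers_iff.mp (hzx.ge hx)
    have hyz : Commute y (z : G) := congrArg Subtype.val
      (Subgroup.mem_center_iff.mp hzC ⟨y, Subgroup.mem_sup_right hy⟩)
    exact ((hyz.zpow_right i).eq).symm
  have hel := elementary_line (elementary_of_card_prime hX) hR (Subgroup.le_centralizer_iff.mp hcomm)
  have hle := card_le_of_pRankLE h1 (sup_le hXC hRC) hel.1 hel.2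
  rw [pow_one] at hle
  have e : X = X ⊔ R := Subgroup.eq_of_le_of_card_ge le_sup_left (by rwa [hX])
  exact Subgroup.eq_of_le_of_card_ge (le_sup_right.trans e.ge) (by rw [hX, hR])

/-- Two subgroups of prime order in a solvable group of rank one: some conjugates normalise one another. -/
theorem dichotomy {r s : ℕ} [Fact r.Prime] [Fact s.Prime] {C : Subgroup G} (hC : Group.IsSolvable C)
    (hr1 : PRankLE r 1 C) (hs1 : PRankLE s 1 C) {R U : Subgroup G} (hR : Nat.card R = r) (hRC : R ≤ C)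
    (hU : Nat.card U = s) (hUC : U ≤ C) :
    ∃ c ∈ C, MulAut.conj c • R ≤ normalizer (U : Set G) ∨ MulAut.conj c • U ≤ normalizer (R : Set G) := by
  obtain ⟨J, hJ⟩ := CfsgLib.exists_isPiHallOf ({r, s} : Set ℕ) hC
  obtain ⟨c, hc, hcR⟩ := CfsgLib.pi_le_conj_hall hC hJ hRC fun t ht hd => by
    rw [hR] at hd; exact Or.inl ((Nat.prime_dvd_prime_iff_eq ht Fact.out).mp hd)
  obtain ⟨d, hd', hdU⟩ := CfsgLib.pi_le_conj_hall hC hJ hUC fun t ht hd => by
    rw [hU] at hd; exact Or.inr ((Nat.prime_dvd_prime_iff_eq ht Fact.out).mp hd)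
  set R' := MulAut.conj c • R with hR'
  set U' := MulAut.conj d • U with hU'
  have hR'c : Nat.card R' = r := by rw [hR', CfsgLib.card_conj_smul, hR]
  have hU'c : Nat.card U' = s := by rw [hU', CfsgLib.card_conj_smul, hU]
  haveI := solvable_of_le hJ.1 hC
  haveI : Nontrivial J := (Subgroup.nontrivial_iff_ne_bot J).mpr fun e =>
    ne_bot_of_card hR'c (le_bot_iff.mp (e ▸ hcR))
  obtain ⟨X, hXn, -, hX1, hXmin⟩ := CfsgLib.exists_minimal_normal (N := (⊤ : Subgroup J)) top_ne_bot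
  obtain ⟨hXc, q, hq, hXe⟩ := CfsgLib.minimal_normal_elementary hX1 inferInstance hXmin
  haveI := Fact.mk hq
  set X' := X.map J.subtype with hX'
  have hXJ : X' ≤ J := Subgroup.map_subtype_le _
  have hJX : J ≤ normalizer (X' : Set G) := fun j hj => by
    have := Subgroup.le_normalizer_map (H := X) J.subtype (Subgroup.mem_map_of_mem J.subtype
      (show (⟨j, hj⟩ : J) ∈ normalizer (X : Set J) by haveI := hXn; rw [Subgroup.normalizer_eq_top]; exact Subgroup.mem_top _))
    exact this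
  have hX'1 : X' ≠ ⊥ := fun e => hX1 ((Subgroup.map_eq_bot_iff_of_injective _ J.subtype_injective).mp e)
  haveI := hXc
  have hX'e : IsElementaryAbelian q X' := by
    refine ⟨Subgroup.map_isMulCommutative _ _, ?_⟩
    rintro _ ⟨x, hx, rfl⟩
    rw [← map_pow, hXe x hx, map_one]
  have hX'q := isPGroup_of_exp hX'e.2
  have hqrs : q = r ∨ q = s := by
    obtain ⟨k, hk⟩ := hX'q.exists_card_eq
    have hk0 : k ≠ 0 := fun e => hX'1 (Subgroup.card_eq_one.mp (by rw [hk, e, pow_zero]))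
    exact hJ.2.1 q hq ((hk ▸ dvd_pow_self q hk0).trans (Subgroup.card_dvd_of_le hXJ))
  have hq1 : PRankLE q 1 C := by
    rcases hqrs with rfl | rfl
    · exact hr1
    · exact hs1
  have hX'c : Nat.card X' = q := by
    have h := card_le_of_pRankLE hq1 (hXJ.trans hJ.1) hX'e.1 hX'e.2
    rw [pow_one] at h
    refine le_antisymm h ?_
    obtain ⟨k, hk⟩ := hX'q.exists_card_eq
    rw [hk]
    exact Nat.le_self_pow (fun e => hX'1 (Subgroup.card_eq_one.mp (by rw [hk, e, pow_zero]))) q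
  rcases hqrs with e | e
  · subst e
    have h := eq_of_normal_rank_one hq1 hX'c hR'c (hXJ.trans hJ.1) (hcR.trans hJ.1) (hcR.trans hJX)
    refine ⟨c⁻¹ * d, mul_mem (inv_mem hc) hd', Or.inr ?_⟩
    have h2 : U' ≤ normalizer (R' : Set G) := by rw [h]; exact hdU.trans hJX
    intro y hy
    rw [← CfsgLib.conj_smul_mul, CfsgLib.mem_conj_smul_iff, inv_inv] at hy
    refine mem_normalizer_of_conj_smul ?_
    have h3 := conj_smul_eq_of_mem_normalizer (h2 hy)
    rw [hR', CfsgLib.conj_smul_mul, show c * y * c⁻¹ * c = c * y by group, ← CfsgLib.conj_smul_mul] at h3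
    exact smul_left_cancel _ h3
  · subst e
    have h := eq_of_normal_rank_one hq1 hX'c hU'c (hXJ.trans hJ.1) (hdU.trans hJ.1) (hdU.trans hJX)
    refine ⟨d⁻¹ * c, mul_mem (inv_mem hd') hc, Or.inl ?_⟩
    have h2 : R' ≤ normalizer (U' : Set G) := by rw [h]; exact hcR.trans hJX
    intro y hy
    rw [← CfsgLib.conj_smul_mul, CfsgLib.mem_conj_smul_iff, inv_inv] at hy
    refine mem_normalizer_of_conj_smul ?_
    have h3 := conj_smul_eq_of_mem_normalizer (h2 hy)
    rw [hU', CfsgLib.conj_smul_mul, show d * y * d⁻¹ * d = d * y by group, ← CfsgLib.conj_smul_mul] at h3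
    exact smul_left_cancel _ h3

section Main

variable (hG : IsMinSimpleOddOrder G) {M : Subgroup G} (hM : IsCoatom M)

include hG hM

/-- A `q'`-subgroup of `M'` centralises the `q`-groups it normalises, for `q ∉ β(M)`. -/
theorem centralizes_of_derived_beta {q : ℕ} [Fact q.Prime] (hqβ : q ∉ beta M) {V T : Subgroup G}
    (hV : IsPGroup q V) (hVM : V ≤ M) (hTd : T ≤ ⁅M, M⁆) (hcop : (Nat.card T).Coprime q)
    (hTV : T ≤ normalizer (V : Set G)) : T ≤ centralizer (V : Set G) := by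
  by_cases hqM : q ∣ Nat.card M
  swap
  · have : V = ⊥ := by
      obtain ⟨k, hk⟩ := hV.exists_card_eq
      rcases k with _ | k
      · exact Subgroup.card_eq_one.mp (by rw [hk, pow_zero])
      · exact absurd ((dvd_pow_self q k.succ_ne_zero).trans (hk ▸ Subgroup.card_dvd_of_le hVM)) hqM
    intro y _ x hx
    rw [this, Subgroup.coe_bot, Set.mem_singleton_iff] at hx
    rw [hx, one_mul, mul_one]
  obtain ⟨hc, -⟩ := complement_of_not_beta hG hM hqM hqβ
  have hMD : M ≤ normalizer ((⁅M, M⁆ : Subgroup G) : Set G) := fun g hg => mem_normalizer_of_conj_smul (by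
    have : MulAut.conj g • ⁅M, M⁆ = ⁅MulAut.conj g • M, MulAut.conj g • M⁆ := Subgroup.map_commutator _ _ _
    rw [this, smul_eq_self_of_mem hg])
  refine centralizes_of_normal_core (O := coreP q ⁅M, M⁆)
    (hMD.trans (normalizer_le_normalizer_piCoreOf _ _)) hVM ?_ hV hTV fun hd => ?_
  · intro y hy
    rw [← pPrimeCore_map]
    exact ⟨⟨y, hTd hy⟩, CfsgLib.mem_pPrimeCore_of_hasNormalPComplement hc (by
      rw [Subgroup.orderOf_mk]
      exact hcop.coprime_dvd_left (Subgroup.orderOf_dvd_natCard _ hy)), rfl⟩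
  · exact (Fact.out : q.Prime).ne_one (Nat.eq_one_of_dvd_coprimes (coprime_coreP q _) hd dvd_rfl)

theorem centralizes_of_sigma_beta {q t : ℕ} [Fact q.Prime] [Fact t.Prime] (hqt : q ≠ t) (hqβ : q ∉ beta M)
    {V T : Subgroup G} (hV : IsPGroup q V) (hVM : V ≤ M) (hT : IsPGroup t T) (hTM : T ≤ M) (ht : t ∈ sigma M)
    (hTV : T ≤ normalizer (V : Set G)) : T ≤ centralizer (V : Set G) :=
  centralizes_of_derived_beta hG hM hqβ hV hVM
    (sigma_le_derived hG hM hTM fun r hr hd => by rw [card_dvd_of_pgroup hT hr hd]; exact ht)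
    (coprime_pGroup Fact.out Fact.out hqt.symm hT) hTV

omit hM in
theorem rank_one_cyclic {t : ℕ} [Fact t.Prime] {T : Subgroup G} (h : PRankLE t 1 M) (hT : IsPGroup t T)
    (hTM : T ≤ M) : IsCyclic T :=
  cyclic_of_pRankLE_one (odd_subgroup hG.1 T) hT (pRankLE_mono hTM h)

theorem rank_two_of_not_sigma {t : ℕ} [Fact t.Prime] (ht : t ∉ sigma M) : PRankLE t 2 M := by
  by_contra h
  exact ht (alpha_subset_sigma hG hM ⟨Fact.out, h⟩)

theorem rank_one_of_not_sigma {t : ℕ} [Fact t.Prime] (ht : t ∉ sigma M) (hτ : t ∉ tau2 M) : PRankLE t 1 M := by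
  by_contra h
  exact hτ ⟨Fact.out, ht, rank_two_of_not_sigma hG hM ht, h⟩

theorem tau1_or_tau3 {t : ℕ} [Fact t.Prime] (ht : t ∉ sigma M) (h1 : PRankLE t 1 M) {W : Subgroup G}
    (hW : Nat.card W = t) (hWM : W ≤ M) : t ∈ tau1 M ∨ t ∈ tau3 M := by
  by_cases hd : t ∣ Nat.card ↥⁅M, M⁆
  · exact Or.inr ⟨Fact.out, ht, hd, h1⟩
  · exact Or.inl ⟨Fact.out, ht, hW ▸ Subgroup.card_dvd_of_le hWM, hd, h1⟩

/-- A `τ₃(M)`-subgroup of a complement lies in a cyclic normal subgroup inside `E'`. -/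
theorem exists_tau3_hall {E : Subgroup G} (hE : IsComplIn E (sigmaCore M) M) {T : Subgroup G} (hTE : T ≤ E)
    (hT : ∀ r : ℕ, r.Prime → r ∣ Nat.card T → r ∈ tau3 M) :
    ∃ E₃ : Subgroup G, T ≤ E₃ ∧ IsCyclic E₃ ∧ E₃ ≤ ⁅E, E⁆ ∧ E ≤ normalizer (E₃ : Set G) := by
  obtain ⟨E₃, hE₃, hTE₃⟩ := exists_hall_ge (π := tau3 M) (solvable_of_le hE.1 (solvable_of_ne_top hG hM.1)) hTE hT
  exact ⟨E₃, hTE₃, tau3_hall hG hM hE hE₃⟩

theorem tau3_normalized {E : Subgroup G} (hE : IsComplIn E (sigmaCore M) M) {T : Subgroup G} (hTE : T ≤ E)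
    (hT : ∀ r : ℕ, r.Prime → r ∣ Nat.card T → r ∈ tau3 M) : E ≤ normalizer (T : Set G) := by
  obtain ⟨E₃, hTE₃, hc, -, hn⟩ := exists_tau3_hall hG hM hE hTE hT
  exact hn.trans (normalizer_le_of_cyclic hc hTE₃)

theorem tau3_le_derived {t : ℕ} [Fact t.Prime] (ht : t ∈ tau3 M) {T : Subgroup G} (hT : IsPGroup t T)
    (hTM : T ≤ M) : T ≤ ⁅M, M⁆ := by
  have hTπ : ∀ r : ℕ, r.Prime → r ∣ Nat.card T → r ∈ tau3 M := fun r hr hd => by
    rw [card_dvd_of_pgroup hT hr hd]; exact ht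
  obtain ⟨E, hE, hTE⟩ := exists_complement_ge hG hM hTM fun r hr hd => (hTπ r hr hd).2.1
  obtain ⟨E₃, hTE₃, -, hd, -⟩ := exists_tau3_hall hG hM hE hTE hTπ
  exact (hTE₃.trans hd).trans (Subgroup.commutator_mono hE.1 hE.1)

/-- `E'` centralises the elementary subgroup of order `p²`, `p ∈ τ₂(M)`. -/
theorem derived_centralizes {E : Subgroup G} (hE : IsComplIn E (sigmaCore M) M) {p : ℕ} [Fact p.Prime]
    (hp : p ∈ tau2 M) {A : Subgroup G} (hAE : A ≤ E) (hA : IsElementaryAbelian p A) (hA2 : Nat.card A = p ^ 2) :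
    (⁅E, E⁆ : Subgroup G) ≤ centralizer (A : Set G) := by
  haveI := complement_derived_commutative hG hM hE
  have hEA : E ≤ normalizer (A : Set G) := (Cfsg.Agent.S1418.result hG M hM E hE p hp A ⟨hAE, hA, hA2⟩).1.1
  have hdE : (⁅E, E⁆ : Subgroup G) ≤ E := Subgroup.commutator_le_self E
  refine le_centralizer_of_sylows fun t ht => ?_
  haveI := Fact.mk ht
  obtain ⟨T, -, hTD, hTt, hTi⟩ := exists_sylow_ge (p := t) (bot_le : (⊥ : Subgroup G) ≤ ⁅E, E⁆) IsPGroup.of_bot
  refine ⟨T, hTD, hTi, fun u hu => ?_⟩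
  by_cases htp : t = p
  · refine tau2_element_centralizes hG hM hE hp hAE hA hA2 (hdE (hTD hu)) fun r hr hd => ?_
    rw [card_dvd_of_pgroup hTt hr (hd.trans (Subgroup.orderOf_dvd_natCard _ hu)), htp]
    exact hp
  intro a ha
  set w := u * a * u⁻¹ * a⁻¹ with hw
  have hwA : w ∈ A := A.mul_mem ((Subgroup.mem_normalizer_iff.mp (hEA (hdE (hTD hu))) a).mp ha) (inv_mem ha)
  have hwd : w ∈ ⁅E, E⁆ := Subgroup.commutator_mem_commutator (hdE (hTD hu)) (hAE ha)
  have hcomm : Commute u w := congrArg Subtype.val (mul_comm' (⟨u, hTD hu⟩ : ↥(⁅E, E⁆ : Subgroup G)) ⟨w, hwd⟩)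
  have h1 : w = 1 := eq_one_of_fixed_mod (d := a) (by rw [hw]; group) hcomm (by
    refine Nat.Coprime.coprime_dvd_left (orderOf_dvd_of_pow_eq_one (hA.2 w hwA)) ?_
    refine Nat.Coprime.coprime_dvd_right (Subgroup.orderOf_dvd_natCard _ hu) ?_
    exact (coprime_pGroup Fact.out Fact.out htp hTt).symm)
  rw [hw, mul_inv_eq_one, mul_inv_eq_iff_eq_mul] at h1
  exact h1.symm

theorem uniq_centralizer_of_sigma {q : ℕ} [Fact q.Prime] (hq : q ∈ sigma M) {X : Subgroup G} (hXM : X ≤ M)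
    (hX : Nat.card X = q) (h : q ∈ beta M ∨ X ≤ ⁅sigmaCore M, sigmaCore M⁆) :
    centralizer (X : Set G) ≤ M ∧ ∀ L : Subgroup G, IsCoatom L → centralizer (X : Set G) ≤ L → L = M := by
  obtain ⟨P⟩ : Nonempty (Sylow q ↥(sigmaCore M)) := inferInstance
  exact (sigma_order_p_uniq hG hM hq hXM hX P h).1

omit hM in
theorem normalizer_le_of_uniq {X : Subgroup G} (hX1 : X ≠ ⊥) (hXne : X ≠ ⊤)
    (h : ∀ L : Subgroup G, IsCoatom L → centralizer (X : Set G) ≤ L → L = M) :
    normalizer (X : Set G) ≤ M := by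
  obtain ⟨L, hL, hNL⟩ := exists_coatom_ge (normalizer_ne_top hG hX1 hXne)
  rwa [← h L hL ((Subgroup.centralizer_le_normalizer _).trans hNL)]

end Main

end CfsgLib.MinSimpleOdd
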