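import Cfsg.Agent.Lib.MinSimpleOdd.NonabelianUniq
import Cfsg.Agent.S1414
import Cfsg.Agent.S1453

/-!
Centralisers of elements of order `p ∈ σ(M)` (B–G 12.14).
-/

set_option autoImplicit false
set_option linter.unusedSectionVars false
set_option linter.style.haveILetI false
set_option maxHeartbeats 1000000

namespace CfsgLib.MinSimpleOdd

open Subgroup Cfsg
open scoped Pointwise commutatorElement IsMulCommutative

universe u
variable {G : Type u} [Group G] [Finite G] {p : ℕ} [Fact p.Prime]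

/-- In a group with a normal `p`-complement the derived group meets a Sylow subgroup in its derived group. -/
theorem mem_commutator_sylow {H : Type u} [Group H] [Finite H] (h : HasNormalPComplement p H) (P : Sylow p H)
    {x : H} (hxP : x ∈ (P : Subgroup H)) (hx : x ∈ commutator H) :
    x ∈ (⁅(P : Subgroup H), (P : Subgroup H)⁆ : Subgroup H) := by
  obtain ⟨P₀, K, hKn, hKP⟩ := h
  haveI := hKn
  set f := QuotientGroup.mk' K with hf
  have hKc : ¬ p ∣ Nat.card K := by rw [← hKP.index_eq_card]; exact P₀.not_dvd_index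
  have hP : (P : Subgroup H).map f = ⊤ := by
    rw [← Subgroup.index_eq_one]
    refine Nat.eq_one_iff_not_exists_prime_dvd.mpr fun r hr hd => ?_
    have h1 : r ∣ (P : Subgroup H).index :=
      hd.trans (Subgroup.index_map_dvd _ (QuotientGroup.mk'_surjective K))
    have h2 : r ∣ K.index := hd.trans (by rw [Subgroup.index_eq_card K]; exact Subgroup.index_dvd_card _)
    rw [hKP.symm.index_eq_card] at h2
    obtain ⟨k, hk⟩ := P₀.2.exists_card_eq
    rw [hk] at h2
    exact P.not_dvd_index ((Nat.prime_dvd_prime_iff_eq hr Fact.out).mp (hr.dvd_of_dvd_pow h2) ▸ h1)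
  have hmap : (commutator H).map f ≤ ((⁅(P : Subgroup H), (P : Subgroup H)⁆ : Subgroup H)).map f := by
    rw [commutator_def, Subgroup.map_commutator, Subgroup.map_commutator, hP]
    exact Subgroup.commutator_mono le_top le_top
  obtain ⟨c, hc, e⟩ := hmap (Subgroup.mem_map_of_mem f hx)
  have hcP : c ∈ (P : Subgroup H) := Subgroup.commutator_le_self _ hc
  have h1 : c⁻¹ * x ∈ K := by rw [← QuotientGroup.eq]; exact e
  have hcop : (Nat.card (P : Subgroup H)).Coprime (Nat.card K) := by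
    obtain ⟨k, hk⟩ := P.2.exists_card_eq
    rw [hk]
    exact ((Fact.out : p.Prime).coprime_iff_not_dvd.mpr hKc).pow_left k
  have h2 := Subgroup.disjoint_def.mp (Subgroup.disjoint_of_coprime_natCard hcop) (mul_mem (inv_mem hcP) hxP) h1
  rw [inv_mul_eq_one] at h2
  exact h2 ▸ hc

/-- The core of B–G 12.14. -/
theorem centralizer_sigma_uniq (hG : IsMinSimpleOddOrder G) {M : Subgroup G} (hM : IsCoatom M)
    (hp : p ∈ sigma M) {R : Subgroup G} (hRs : R ≤ sigmaCore M) (hR : IsPGroup p R) (hRi : ¬ p ∣ R.index)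
    {x : G} (hxR : x ∈ R) (hxo : orderOf x = p)
    (h : p ∈ beta M ∨ x ∈ (⁅sigmaCore M, sigmaCore M⁆ : Subgroup G)) :
    InUniqueMaximal (R ⊓ centralizer ({x} : Set G)) ∧ InUniqueMaximal R := by
  have hpp : p.Prime := Fact.out
  have hsM : sigmaCore M ≤ M := piCoreOf_le _ _
  have hRM : R ≤ M := hRs.trans hsM
  have hR1 : R ≠ ⊥ := fun e => by
    rw [e, Subgroup.mem_bot] at hxR
    rw [hxR, orderOf_one] at hxo
    exact hpp.one_lt.ne hxo
  have hp2 : p ≠ 2 := p_ne_two hG.1 hR hR1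
  have hpM : p ∣ Nat.card M := hp.2.1
  have hRne : R ≠ ⊤ := pgroup_ne_top hG hR
  obtain ⟨z, hzR, hzo, hzc⟩ := exists_central hR hR1
  set C := R ⊓ centralizer ({x} : Set G) with hC
  have hCne : C ≠ ⊤ := fun e => hRne (top_le_iff.mp (e ▸ inf_le_left))
  by_cases hxz : x ∈ centralizer (R : Set G)
  · -- `x` is central in `R`
    have hCR : C = R := le_antisymm inf_le_left (le_inf le_rfl fun a ha =>
      Subgroup.mem_centralizer_singleton_iff.mpr (hxz a ha))
    rw [hCR]
    suffices InUniqueMaximal R from ⟨this, this⟩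
    rcases h with hb | hx'
    · exact uniq_of_rank_three hG hR fun hr => hb.1.2 (pRankLE_of_sylow hR hRi hr M)
    by_cases hab : IsMulCommutative R
    swap
    · exact nonabelian_uniq hG hR hab
    by_cases hr : PRankLE p 2 R
    swap
    · exact uniq_of_rank_three hG hR hr
    exfalso
    have hpb : p ∉ beta M := fun hb => hb.1.2 (pRankLE_of_sylow hR hRi hr M)
    have hnc := ((Cfsg.Agent.S1414.result hG M hM).2.2.2.2 p hpp hpM hpb).2.1
    obtain ⟨S, hS, hS'⟩ := sylow_of_relIndex hRs hR fun hd =>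
      hRi (hd.trans (Dvd.intro _ (Subgroup.relIndex_mul_index hRs)))
    have hxs : (⟨x, hRs hxR⟩ : sigmaCore M) ∈ commutator ↥(sigmaCore M) := by
      obtain ⟨y, hy, e⟩ := (Subgroup.map_subtype_commutator (sigmaCore M)).ge hx'
      exact (Subtype.ext e : y = ⟨x, hRs hxR⟩) ▸ hy
    have h1 := mem_commutator_sylow hnc S (show (⟨x, hRs hxR⟩ : sigmaCore M) ∈ (S : Subgroup _) by
      rw [hS']; exact hxR) hxs
    have h2 : ⁅(S : Subgroup ↥(sigmaCore M)), (S : Subgroup ↥(sigmaCore M))⁆ = ⊥ := by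
      rw [Subgroup.commutator_eq_bot_iff_le_centralizer]
      intro a ha b hb
      rw [hS'] at ha hb
      haveI := hab
      exact Subtype.ext (congrArg (fun t : R => (t : G)) (mul_comm' (⟨b, hb⟩ : R) ⟨a, ha⟩))
    rw [h2, Subgroup.mem_bot] at h1
    rw [show x = 1 from congrArg Subtype.val h1, orderOf_one] at hxo
    exact hpp.one_lt.ne hxo
  -- the elementary subgroup through `x` and the centre
  have hRna : ¬ IsMulCommutative R := fun hab => hxz fun a ha => by
    haveI := hab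
    exact congrArg Subtype.val (mul_comm' (⟨a, ha⟩ : R) ⟨x, hxR⟩)
  have hRU := nonabelian_uniq hG hR hRna
  refine ⟨?_, hRU⟩
  set B := zpowers x ⊔ zpowers z with hB
  have hzx : x * z = z * x := (hzc x hxR)
  have hze : IsElementaryAbelian p (zpowers x) := ⟨inferInstance, fun a ha => by
    obtain ⟨i, rfl⟩ := Subgroup.mem_zpowers_iff.mp ha
    rw [← zpow_natCast, ← zpow_mul, mul_comm, zpow_mul, zpow_natCast, show x ^ p = 1 from hxo ▸ pow_orderOf_eq_one x,
      one_zpow]⟩
  have hBe : IsElementaryAbelian p B := elementary_sup_zpowers hze (hzo ▸ pow_orderOf_eq_one z) fun a ha => by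
    obtain ⟨i, rfl⟩ := Subgroup.mem_zpowers_iff.mp ha
    exact ((show Commute x z from hzx).zpow_left i).eq
  have hBR : B ≤ R := sup_le (Subgroup.zpowers_le.mpr hxR) (Subgroup.zpowers_le.mpr hzR)
  have hBC : B ≤ centralizer ({x} : Set G) := sup_le (Subgroup.zpowers_le.mpr
    (Subgroup.mem_centralizer_singleton_iff.mpr rfl)) (Subgroup.zpowers_le.mpr
    (Subgroup.mem_centralizer_singleton_iff.mpr hzx.symm))
  have hzxn : z ∉ zpowers x := fun hz => by
    obtain ⟨i, hi⟩ := Subgroup.mem_zpowers_iff.mp hz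
    have e : zpowers z = zpowers x := Subgroup.eq_of_le_of_card_ge (Subgroup.zpowers_le.mpr hz)
      (by rw [Nat.card_zpowers, Nat.card_zpowers, hxo, hzo])
    exact hxz ((Subgroup.zpowers_le.mpr hzc) (e.ge (Subgroup.mem_zpowers x)))
  have hBgt : p < Nat.card B := by
    rw [← hxo, ← Nat.card_zpowers]
    exact Set.Finite.card_lt_card (Set.toFinite _) (show zpowers x < B from
      lt_of_le_of_ne le_sup_left fun e => hzxn (e.ge (Subgroup.mem_sup_right (Subgroup.mem_zpowers z))))
  -- it suffices that `B` lies in a larger elementary subgroup of `R`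
  by_cases hbig : ∃ T : Subgroup G, T ≤ R ∧ IsElementaryAbelian p T ∧ B ≤ T ∧ p ^ 2 < Nat.card T
  · obtain ⟨T, hTR, hT, hBT, hTc⟩ := hbig
    refine uniq_mono (uniq_of_rank_three hG (hR.to_le hTR) fun hr => ?_) (le_inf hTR ?_) hCne
    · exact absurd (card_le_of_pRankLE hr le_rfl hT.1 hT.2) (not_le.mpr hTc)
    · intro a ha
      haveI := hT.1
      exact Subgroup.mem_centralizer_singleton_iff.mpr (congrArg Subtype.val
        (mul_comm' (⟨a, ha⟩ : T) ⟨x, hBT (Subgroup.mem_sup_left (Subgroup.mem_zpowers x))⟩))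
  push Not at hbig
  have hBc : Nat.card B = p ^ 2 := by
    obtain ⟨k, hk⟩ := (hR.to_le hBR).exists_card_eq
    have h2 := hbig B hBR hBe le_rfl
    rw [hk] at h2 hBgt ⊢
    congr 1
    have := (Nat.pow_le_pow_iff_right hpp.one_lt).mp h2
    have := (Nat.pow_lt_pow_iff_right hpp.one_lt).mp (by rwa [pow_one] : p ^ 1 < p ^ k)
    omega
  have hmax : ∀ T : Subgroup G, T ≤ R → IsElementaryAbelian p T → B ≤ T → T = B := fun T hTR hT hBT =>
    (Subgroup.eq_of_le_of_card_ge hBT (hBc ▸ hbig T hTR hT hBT)).symm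
  -- the hypothesis on `x`
  rcases h with hb | hx'
  · exfalso
    obtain ⟨S, hS⟩ : ∃ S : Sylow p G, (S : Subgroup G) = R := ⟨hR.toSylow hRi, rfl⟩
    obtain ⟨T, hTS, hT, hlt⟩ := hb.2.2.2 S B (hS ▸ hBR) hBe hBc
    exact hlt.ne (hmax T (hS ▸ hTS) hT hlt.le).symm
  have hpb : p ∉ beta M := fun hb => by
    obtain ⟨S, hS⟩ : ∃ S : Sylow p G, (S : Subgroup G) = R := ⟨hR.toSylow hRi, rfl⟩
    obtain ⟨T, hTS, hT, hlt⟩ := hb.2.2.2 S B (hS ▸ hBR) hBe hBc
    exact hlt.ne (hmax T (hS ▸ hTS) hT hlt.le).symm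
  -- `x` lies in `R'`
  have hxD : x ∈ (⁅R, R⁆ : Subgroup G) := by
    have hnc := ((Cfsg.Agent.S1414.result hG M hM).2.2.2.2 p hpp hpM hpb).2.1
    obtain ⟨S, hS, hS'⟩ := sylow_of_relIndex hRs hR fun hd =>
      hRi (hd.trans (Dvd.intro _ (Subgroup.relIndex_mul_index hRs)))
    obtain ⟨y, hy, e⟩ := (Subgroup.map_subtype_commutator (sigmaCore M)).ge hx'
    have hyS : y ∈ (S : Subgroup ↥(sigmaCore M)) := by
      rw [hS', Subgroup.mem_subgroupOf]
      rw [show (y : G) = x from e]
      exact hxR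
    have h1 := Subgroup.mem_map_of_mem (sigmaCore M).subtype (mem_commutator_sylow hnc S hyS hy)
    rwa [Subgroup.map_commutator, hS, show (sigmaCore M).subtype y = x from e] at h1
  by_cases hr : PRankLE p 2 R
  · -- rank two: `x` would be central
    exfalso
    obtain ⟨S, hS⟩ : ∃ S : Sylow p G, (S : Subgroup G) = R := ⟨hR.toSylow hRi, rfl⟩
    rcases rank_two_structure hG S (hS.symm ▸ hr) with hab | ⟨P₁, P₂, hsup, hcomm, -, hc3, -, hcy, -⟩
    · exact hRna (hS ▸ hab)
    rw [hS] at hsup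
    have hP₁ : P₁ ≤ R := le_sup_left.trans hsup.le
    have hP₂ : P₂ ≤ R := le_sup_right.trans hsup.le
    haveI := hcy
    have hP₂c : P₂ ≤ centralizer (R : Set G) := by
      rw [← hsup, Subgroup.le_centralizer_iff]
      exact sup_le (fun a ha b hb => (hcomm a ha b hb).symm) (Subgroup.le_centralizer _)
    set Z := R ⊓ centralizer (R : Set G) with hZ
    haveI : (Z.subgroupOf R).Normal := (Subgroup.normal_subgroupOf_iff_le_normalizer inf_le_left).mpr
      fun n hn => Subgroup.centralizer_le_normalizer _ fun a ha => (ha.2 n hn).symm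
    set f := QuotientGroup.mk' (Z.subgroupOf R) with hf
    have himg : (P₁.subgroupOf R).map f = ⊤ := by
      refine eq_top_iff.mpr fun q _ => ?_
      obtain ⟨⟨r, hrR⟩, rfl⟩ := QuotientGroup.mk'_surjective _ q
      have hmem : r ∈ P₁ ⊔ P₂ := hsup.symm ▸ hrR
      rw [← SetLike.mem_coe, Subgroup.coe_mul_of_left_le_normalizer_right P₁ P₂
        (((Subgroup.le_centralizer_iff.mp fun b hb a ha => hcomm a ha b hb)).trans
          (Subgroup.centralizer_le_normalizer _))] at hmem
      obtain ⟨a, ha, b, hb, rfl⟩ := Set.mem_mul.mp hmem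
      refine ⟨⟨a, hP₁ ha⟩, ha, ?_⟩
      rw [hf, QuotientGroup.mk'_eq_mk']
      exact ⟨⟨b, hP₂ hb⟩, ⟨hP₂ hb, hP₂c hb⟩, rfl⟩
    have hP₁p : IsPGroup p P₁ := IsPGroup.of_card hc3
    obtain ⟨w, hw, hwo, hwc⟩ := exists_central hP₁p fun e => by
      rw [e, Subgroup.card_bot] at hc3
      exact (Nat.one_lt_pow (by norm_num) hpp.one_lt).ne hc3
    have hwZ : w ∈ Z := ⟨hP₁ hw, by
      have : P₁ ⊔ P₂ ≤ centralizer ({w} : Set G) := sup_le
        (fun a ha => Subgroup.mem_centralizer_singleton_iff.mpr (hwc a ha))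
        (fun b hb => Subgroup.mem_centralizer_singleton_iff.mpr (hcomm w hw b hb).symm)
      rw [hsup] at this
      exact fun a ha => Subgroup.mem_centralizer_singleton_iff.mp (this ha)⟩
    have hcard : Nat.card (↥R ⧸ Z.subgroupOf R) ∣ p ^ 2 := by
      rw [← Nat.card_congr Subgroup.topEquiv.toEquiv, ← himg, ← Subgroup.relIndex_ker, hf, QuotientGroup.ker_mk',
        Subgroup.relIndex_subgroupOf hP₁]
      have h1 : (zpowers w).relIndex P₁ = p ^ 2 := by
        have h := Subgroup.card_mul_index ((zpowers w).subgroupOf P₁)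
        rw [Nat.card_congr (Subgroup.subgroupOfEquivOfLe (Subgroup.zpowers_le.mpr hw)).toEquiv, Nat.card_zpowers,
          hwo, hc3, pow_succ' p 2] at h
        exact mul_left_cancel₀ hpp.ne_zero h
      rw [← h1]
      exact Subgroup.relIndex_dvd_of_le_left P₁ (Subgroup.zpowers_le.mpr hwZ)
    have hab2 : ∀ a b : ↥R ⧸ Z.subgroupOf R, a * b = b * a := by
      obtain ⟨k, hk, hk'⟩ := (Nat.dvd_prime_pow hpp).mp hcard
      interval_cases k
      · haveI := (Nat.card_eq_one_iff_unique.mp (hk'.trans (pow_zero p))).1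
        exact fun a b => Subsingleton.elim _ _
      · haveI := isCyclic_of_prime_card (p := p) (hk'.trans (pow_one p))
        letI := IsCyclic.commGroup (α := ↥R ⧸ Z.subgroupOf R)
        exact mul_comm
      · letI := IsPGroup.commGroupOfCardEqPrimeSq hk'
        exact mul_comm
    have hD : (⁅R, R⁆ : Subgroup G) ≤ Z := by
      rw [Subgroup.commutator_le]
      intro a ha b hb
      have h1 : f ⁅(⟨a, ha⟩ : R), ⟨b, hb⟩⁆ = 1 := by
        rw [map_commutatorElement, commutatorElement_eq_one_iff_mul_comm]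
        exact hab2 _ _
      rw [hf, QuotientGroup.mk'_apply, QuotientGroup.eq_one_iff] at h1
      exact h1
    exact hxz (hD hxD).2
  -- rank at least three: no maximal elementary subgroup of order `p²` through `R'`
  exfalso
  have hr' : ¬ PRankLE p 2 R := hr
  have hE : IsElementaryAbelian p (B.subgroupOf R) :=
    ⟨⟨⟨fun a b => Subtype.ext (Subtype.ext (congrArg (fun t : B => (t : G))
      (hBe.1.is_comm.comm ⟨((a : R) : G), a.2⟩ ⟨((b : R) : G), b.2⟩)))⟩⟩, fun a ha => Subtype.ext (hBe.2 a ha)⟩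
  obtain ⟨hEW, -, -, hchar, hidx⟩ := Cfsg.Agent.S1453.result p hp2 hR hr' (B.subgroupOf R) hE
    (by rw [Nat.card_congr (Subgroup.subgroupOfEquivOfLe hBR).toEquiv, hBc]) (by
      intro T hT hle
      have h1 := hmax (T.map R.subtype) (Subgroup.map_subtype_le T) ⟨?_, ?_⟩ fun a ha => ⟨⟨a, hBR ha⟩, hle ha, rfl⟩
      · rw [← h1, Subgroup.subgroupOf, Subgroup.comap_map_eq_self_of_injective R.subtype_injective]
      · haveI := hT.1
        exact Subgroup.map_isMulCommutative _ _
      · rintro _ ⟨a, ha, rfl⟩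
        rw [← map_pow, hT.2 a ha, map_one])
  set W := Subgroup.centralizer ((Subgroup.closure
    {y : R | y ∈ Subgroup.upperCentralSeries R 2 ∧ y ^ p = 1} : Subgroup R) : Set R) with hW
  haveI : W.Normal := Subgroup.normal_of_characteristic W
  haveI := isCyclic_of_prime_card (α := ↥R ⧸ W) (p := p) (by rw [← Subgroup.index_eq_card]; exact hidx)
  letI := IsCyclic.commGroup (α := ↥R ⧸ W)
  have hcW : commutator ↥R ≤ W := by
    rw [_root_.commutator_def, Subgroup.commutator_le]
    intro a _ b _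
    rw [← QuotientGroup.eq_one_iff, ← QuotientGroup.mk'_apply, map_commutatorElement,
      commutatorElement_eq_one_iff_mul_comm]
    exact mul_comm _ _
  refine hEW ?_
  have hxW : (⟨x, hxR⟩ : R) ∈ W := by
    obtain ⟨y, hy, e⟩ := (Subgroup.map_subtype_commutator R).ge hxD
    exact hcW ((Subtype.ext e : y = ⟨x, hxR⟩) ▸ hy)
  have hzW : (⟨z, hzR⟩ : R) ∈ W := fun a _ => Subtype.ext (hzc a a.2)
  have hBW : B ≤ W.map R.subtype :=
    sup_le (Subgroup.zpowers_le.mpr ⟨⟨x, hxR⟩, hxW, rfl⟩) (Subgroup.zpowers_le.mpr ⟨⟨z, hzR⟩, hzW, rfl⟩)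
  intro a ha
  obtain ⟨b, hb, e⟩ := hBW ha
  exact (Subtype.ext e : b = a) ▸ hb

/-- B–G 12.14. -/
theorem sigma_order_p_uniq (hG : IsMinSimpleOddOrder G) {M : Subgroup G} (hM : IsCoatom M)
    (hp : p ∈ sigma M) {X : Subgroup G} (hXM : X ≤ M) (hX : Nat.card X = p) (P : Sylow p ↥(sigmaCore M))
    (h : p ∈ beta M ∨ X ≤ ⁅sigmaCore M, sigmaCore M⁆) :
    (centralizer (X : Set G) ≤ M ∧ ∀ L : Subgroup G, IsCoatom L → centralizer (X : Set G) ≤ L → L = M) ∧
      InUniqueMaximal ((P : Subgroup ↥(sigmaCore M)).map (sigmaCore M).subtype) ∧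
      (P : Subgroup ↥(sigmaCore M)).map (sigmaCore M).subtype ≤ M := by
  have hpp : p.Prime := Fact.out
  set R := (P : Subgroup ↥(sigmaCore M)).map (sigmaCore M).subtype with hR
  have hRs : R ≤ sigmaCore M := Subgroup.map_subtype_le _
  have hsM : sigmaCore M ≤ M := piCoreOf_le _ _
  have hRp : IsPGroup p R := P.2.map _
  have hRi : ¬ p ∣ R.index := by
    rw [← Subgroup.relIndex_mul_index hRs]
    exact fun hd => (hpp.dvd_mul.mp hd).elim (not_dvd_of_sylow _ P) ((sigmaCore_hall hG hM).2.2 p hpp hp)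
  have hRiM : ¬ p ∣ R.relIndex M := fun hd =>
    hRi (hd.trans (Dvd.intro _ (Subgroup.relIndex_mul_index (hRs.trans hsM))))
  obtain ⟨⟨x, hxX⟩, hxo⟩ := exists_prime_orderOf_dvd_card' (G := X) p (dvd_of_eq hX.symm)
  rw [Subgroup.orderOf_mk] at hxo
  have hX1 : zpowers x = X := Subgroup.eq_of_le_of_card_ge (Subgroup.zpowers_le.mpr hxX)
    (by rw [Nat.card_zpowers, hxo, hX])
  obtain ⟨m, hm, hle⟩ := CfsgLib.pi_le_conj_hall (π := ({p} : Set ℕ)) (U := X) (solvable_of_ne_top hG hM.1)
    ⟨hRs.trans hsM, fun t ht hd => card_dvd_of_pgroup hRp ht hd, fun t ht htp hd => hRiM (htp ▸ hd)⟩ hXM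
    fun t ht hd => (Nat.prime_dvd_prime_iff_eq ht hpp).mp (hX ▸ hd)
  set x' := MulAut.conj m x with hx'
  have hxR : x' ∈ R := hle (Subgroup.smul_mem_pointwise_smul x _ _ hxX)
  obtain ⟨hCU, hRU⟩ := centralizer_sigma_uniq hG hM hp hRs hRp hRi hxR (by rw [hx', MulEquiv.orderOf_eq, hxo]) (by
    refine h.imp id fun hd => ?_
    have hmd : m ∈ normalizer ((⁅sigmaCore M, sigmaCore M⁆ : Subgroup G) : Set G) :=
      mem_normalizer_of_conj_smul ((Subgroup.map_commutator _ _ _).trans (by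
        show ⁅MulAut.conj m • sigmaCore M, MulAut.conj m • sigmaCore M⁆ = _
        rw [conj_smul_eq_of_mem_normalizer (le_normalizer_sigmaCore hG hM le_rfl hm)]))
    exact (Subgroup.mem_normalizer_iff.mp hmd x).mp (hd hxX))
  have hCX : centralizer (X : Set G) = centralizer ({x} : Set G) := by
    rw [← hX1, Subgroup.zpowers_eq_closure, Subgroup.centralizer_closure]
  have hx1 : x ≠ 1 := fun e => by rw [e, orderOf_one] at hxo; exact hpp.one_lt.ne hxo
  have hconj : R ⊓ centralizer ({x'} : Set G) ≤ MulAut.conj m • centralizer ({x} : Set G) := by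
    intro a ha
    rw [CfsgLib.mem_conj_smul_iff]
    refine Subgroup.mem_centralizer_singleton_iff.mpr ((MulAut.conj m).injective ?_)
    have e : MulAut.conj m (m⁻¹ * a * m) = a := by simp [mul_assoc]
    rw [map_mul (MulAut.conj m) (m⁻¹ * a * m) x, map_mul (MulAut.conj m) x, e]
    exact Subgroup.mem_centralizer_singleton_iff.mp ha.2
  refine ⟨?_, hRU, hRs.trans hsM⟩
  rw [hCX]
  have key : ∀ L : Subgroup G, IsCoatom L → centralizer ({x} : Set G) ≤ L → L = M := fun L hL hle' => by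
    have h1 := uniq_eq hCU (conj_isCoatom hL m) (hconj.trans (conj_smul_mono hle' m)) hM
      (inf_le_left.trans (hRs.trans hsM))
    exact smul_left_cancel (MulAut.conj m) (h1.trans (smul_eq_self_of_mem hm).symm)
  obtain ⟨L, hL, hle'⟩ := exists_coatom_ge (centralizer_ne_top hG hx1)
  exact ⟨key L hL hle' ▸ hle', key⟩

end CfsgLib.MinSimpleOdd
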