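import Cfsg.Agent.Lib.MinSimpleOdd.TypeP2Over

/-!
B–G 14.13 (c): if the maximal subgroup over `C(x)` has `κ ≠ ∅`, then `M` is a Frobenius group with cyclic complement.
-/

set_option autoImplicit false
set_option linter.unusedSectionVars false
set_option linter.style.haveILetI false
set_option maxHeartbeats 1000000

namespace CfsgLib.MinSimpleOdd

open Subgroup Cfsg
open scoped Pointwise commutatorElement IsMulCommutative

universe u
variable {G : Type u} [Group G] [Finite G]

theorem SigmaOver.frobenius_cyclic (hG : IsMinSimpleOddOrder G) {M N : Subgroup G} (hM : IsCoatom M) {x : G}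
    (hx : x ∈ sigmaCore M) (hx1 : x ≠ 1) (hN : SigmaOver M x N) (hk : (kappa N).Nonempty) :
    kappa M = ∅ ∧ Group.IsNilpotent (sigmaCore M) ∧ ∃ E : Subgroup G, IsComplIn E (sigmaCore M) M ∧ E ≠ ⊥ ∧
      IsCyclic E ∧ ∀ e ∈ E, e ≠ 1 → sigmaCore M ⊓ centralizer ({e} : Set G) = ⊥ := by
  obtain ⟨q, hq, hqd⟩ := exists_prime_dvd_order hx1
  haveI := Fact.mk hq
  have hqM := order_sigma hG hM hx q hq hqd
  have hqN := hN.tau2 q hq hqd
  have hNN := hN.hN
  haveI := solvable_of_ne_top hG hNN.1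
  obtain ⟨K, hK⟩ := CfsgLib.exists_isPiHallOf (kappa N) (M := N) inferInstance
  have hK1 : K ≠ ⊥ := by
    obtain ⟨t, ht⟩ := hk
    rintro rfl
    have h2 := hK.2.2 t ht.1 ht
    rw [Subgroup.relIndex_bot_left] at h2
    exact h2 ht.2.1
  obtain ⟨U, hKU⟩ := exists_sigmaDecomposition hG hNN (kappaHall_cyclic hG hNN hK) hK
  obtain ⟨d, hs⟩ := decomp_split hG hNN hKU hK1
  obtain ⟨L, hp⟩ := d.exists_pair hG
  obtain ⟨B₀, hB₀E, hB₀, hB₀2⟩ := exists_elementary_in_complement hG hNN hs.hE hqN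
  have hqκ : q ∉ kappa N := fun h => kappa_not_tau2 hG hNN h hqN
  have hB₀U : B₀ ≤ U := le_normal_hall (solvable_of_le hs.hE.1 (solvable_of_ne_top hG hNN.1)) hs.hallU
    hs.normal hB₀E (pi_of_pgroup (isPGroup_of_exp hB₀.2) (π := {r | r ∉ kappa N}) hqκ)
  have hqU : q ∣ Nat.card U := ((dvd_pow_self q two_ne_zero).trans hB₀2.symm.dvd).trans (Subgroup.card_dvd_of_le hB₀U)
  have hU : U ≠ ⊥ := fun e => hq.not_dvd_one (by rwa [e, Subgroup.card_bot] at hqU)
  have s : P2Setting N K U L := ⟨hG, hKU, hp, hs, hU⟩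
  obtain ⟨S⟩ : Nonempty (Sylow q U) := inferInstance
  set R := (S : Subgroup U).map U.subtype with hR
  have hRU : R ≤ U := Subgroup.map_subtype_le _
  have hRi : ¬ q ∣ R.relIndex U := not_dvd_of_sylow _ S
  have hR1 : R ≠ ⊥ := fun e => hRi (by rwa [e, Subgroup.relIndex_bot_left])
  obtain ⟨H, hH, hNR⟩ := exists_coatom_ge (normalizer_ne_top hG hR1 (pgroup_ne_top hG (S.2.map _)))
  obtain ⟨hle, hne, hnN, hqH, -, hUs⟩ := s.overgroup_basic hRU (S.2.map _) hRi hqU hH hNR
  obtain ⟨g, hg⟩ := sigma_disjointness hG hH hM hqH hqM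
  have hτH := s.overgroup_tau2_eq_empty hRU (S.2.map _) hRi hqU hqN hH hNR
  have hκ : kappa M = ∅ := by
    by_contra h
    obtain ⟨a, e | e⟩ := s.two_classes hM (Set.nonempty_iff_ne_empty.mpr h)
    · exact hqN.2.1 (by rw [e, sigma_conj] at hqM; exact hqM)
    · obtain ⟨w, hw⟩ := exists_prime_orderOf_dvd_card' q hqU
      rw [e, sigma_conj] at hqM
      exact s.not_sigma_partner (W := zpowers (w : G)) (by rw [Nat.card_zpowers, Subgroup.orderOf_coe, hw])
        ((Subgroup.zpowers_le.mpr w.2).trans hKU.compl.1) hqκ hqM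
  have hτ : Cfsg.tau2 M = ∅ := by
    refine Set.eq_empty_iff_forall_notMem.mpr fun t ht => ?_
    haveI := Fact.mk ht.1
    have h2 := tau2_conj hG g⁻¹ ht
    rw [hg, CfsgLib.conj_smul_mul, inv_mul_cancel, map_one, one_smul] at h2
    exact Set.eq_empty_iff_forall_notMem.mp hτH t h2
  haveI := Fact.mk s.prime
  -- all lines outside `M_σ` act freely
  have good : ∀ (t : ℕ) (Z : Subgroup G), t.Prime → t ∉ sigma M → Nat.card Z = t → Z ≤ M →
      sigmaCore M ⊓ centralizer (Z : Set G) = ⊥ := by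
    intro t Z ht htσ hZ hZM
    haveI := Fact.mk ht
    have h1 := rank_one_of_not_sigma hG hM htσ (Set.eq_empty_iff_forall_notMem.mp hτ t)
    by_contra h
    exact Set.eq_empty_iff_forall_notMem.mp hκ t
      (kappa_of_bad hG hM (tau1_or_tau3 hG hM htσ h1 hZ hZM) hZ hZM h)
  set W := MulAut.conj g • K with hW
  have hKH : K ≤ H := le_sup_right.trans hle
  have hWM : W ≤ M := hg ▸ conj_smul_mono hKH g
  have hWc : Nat.card W = Nat.card K := CfsgLib.card_conj_smul g K
  have hpM : Nat.card K ∉ sigma M := by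
    rw [hg, sigma_conj]
    exact fun h => hne (s.eq_of_t_sigma hH hKH h)
  have hWgood := good _ W s.prime hpM hWc hWM
  have hnil : Group.IsNilpotent (sigmaCore M) :=
    CfsgLib.FrobAction.isNilpotent_of_fpf_operators _ W (ne_bot_of_card hWc) (le_normalizer_sigmaCore hG hM hWM)
      fun e he he1 u hu hcomm => by
        have hgen : zpowers e = W := Subgroup.eq_of_le_of_card_ge (Subgroup.zpowers_le.mpr he) (by
          rw [Nat.card_zpowers, hWc]
          rcases s.prime.eq_one_or_self_of_dvd _ (hWc ▸ Subgroup.orderOf_dvd_natCard _ he) with h | h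
          · exact absurd (orderOf_eq_one_iff.mp h) he1
          · exact h.ge)
        refine Subgroup.mem_bot.mp (hWgood ▸ (⟨hu, ?_⟩ : u ∈ sigmaCore M ⊓ centralizer (W : Set G)))
        rw [← hgen, ← centralizer_zpowers]
        exact Subgroup.mem_centralizer_singleton_iff.mpr hcomm.symm
  obtain ⟨E, hE, hWE⟩ := exists_complement_ge hG hM hWM (pi_of_card hWc (π := {r | r ∉ sigma M}) hpM)
  have hσ' := complement_sigma' hG hM hE
  refine ⟨hκ, hnil, E, hE, fun e => ne_bot_of_card hWc (le_bot_iff.mp (e ▸ hWE)), ?_, fun e he he1 => ?_⟩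
  · have hBM : (MulAut.conj g • B₀ : Subgroup G) ≤ sigmaCore M := by
      rw [hg, sigmaCore_conj hG hH]
      exact conj_smul_mono (hB₀U.trans hUs) g
    have hder : (⁅E, E⁆ : Subgroup G) = ⊥ := by
      by_contra h
      obtain ⟨t, ht, htd⟩ := Nat.exists_prime_and_dvd fun h' => h (Subgroup.card_eq_one.mp h')
      haveI := Fact.mk ht
      obtain ⟨y, hy⟩ := exists_prime_orderOf_dvd_card' t htd
      have hyE : zpowers (y : G) ≤ E := (Subgroup.zpowers_le.mpr y.2).trans (Subgroup.commutator_le_self E)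
      have hyc : Nat.card (zpowers (y : G)) = t := by rw [Nat.card_zpowers, Subgroup.orderOf_coe, hy]
      exact derived_fixed_ne_bot hG hM (conj_isCoatom hNN g) hE hnil (tau2_conj hG g hqN)
        (conj_smul_mono (hB₀E.trans hs.hE.1) g) (elementary_conj hB₀ g) (by rw [CfsgLib.card_conj_smul, hB₀2]) hBM
        (Subgroup.zpowers_le.mpr y.2) (good t _ ht (hσ' t ht (hyc ▸ Subgroup.card_dvd_of_le hyE)) hyc (hyE.trans hE.1))
    haveI hEc : IsMulCommutative E := ⟨⟨fun a b => Subtype.ext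
      ((Subgroup.commutator_eq_bot_iff_le_centralizer.mp hder a.2 b b.2).symm)⟩⟩
    haveI : Group.IsNilpotent E := CommGroup.isNilpotent
    haveI : IsZGroup E := ⟨fun t ht S' => by
      haveI := Fact.mk ht
      by_cases htE : t ∣ Nat.card E
      · have h1 := rank_one_of_not_sigma hG hM (hσ' t ht htE) (Set.eq_empty_iff_forall_notMem.mp hτ t)
        haveI := rank_one_cyclic hG h1 (S'.2.map E.subtype) ((Subgroup.map_subtype_le _).trans hE.1)
        exact isCyclic_of_surjective ((S' : Subgroup E).equivMapOfInjective E.subtype E.subtype_injective).symm.toMonoidHom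
          (MulEquiv.surjective _)
      · have hb : (S' : Subgroup E) = ⊥ := by
          obtain ⟨k, hk⟩ := S'.2.exists_card_eq
          refine Subgroup.card_eq_one.mp ?_
          cases k with
          | zero => rwa [pow_zero] at hk
          | succ k => exact absurd ((dvd_pow_self t k.succ_ne_zero).trans
              (hk.symm.dvd.trans (Subgroup.card_subgroup_dvd_card _))) htE
        rw [hb]
        infer_instance⟩
    infer_instance
  · obtain ⟨t, ht, htd⟩ := exists_prime_dvd_order he1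
    haveI := Fact.mk ht
    obtain ⟨Z, hZ, hZe, hCe⟩ := exists_line_of_element htd
    have hZE : Z ≤ E := hZe.trans (Subgroup.zpowers_le.mpr he)
    refine le_bot_iff.mp ((inf_le_inf_left _ hCe).trans ?_)
    exact (good t Z ht (hσ' t ht (hZ ▸ Subgroup.card_dvd_of_le hZE)) hZ (hZE.trans hE.1)).le

/-- A fixed-point-free complement of a normal subgroup is a Frobenius complement. -/
theorem isFrobeniusComplement_of_fpf {M E S : Subgroup G} (hE : IsComplIn E S M) (hES : E ≤ normalizer (S : Set G))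
    (hE1 : E ≠ ⊥) (hS1 : S ≠ ⊥) (hfpf : ∀ e ∈ E, e ≠ 1 → S ⊓ centralizer ({e} : Set G) = ⊥) :
    IsFrobeniusComplement (E.subgroupOf M) := by
  refine ⟨fun e => hE1 ?_, fun e => hS1 ?_, fun g hg => ?_⟩
  · refine (Subgroup.eq_bot_iff_forall _).mpr fun y hy => ?_
    have h : (⟨y, hE.1 hy⟩ : M) ∈ E.subgroupOf M := Subgroup.mem_subgroupOf.mpr hy
    rw [e, Subgroup.mem_bot] at h
    exact congrArg Subtype.val h
  · exact le_bot_iff.mp (hE.2.2.1 ▸ le_inf (hE.2.1.trans (Subgroup.subgroupOf_eq_top.mp e)) le_rfl)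
  · refine (Subgroup.eq_bot_iff_forall _).mpr fun y hy => ?_
    obtain ⟨hyE, hyg⟩ := hy
    have hyE : (y : G) ∈ E := hyE
    have hyg : (g : G)⁻¹ * (y : G) * (g : G) ∈ E := Subgroup.mem_subgroupOf.mp
      ((CfsgLib.mem_conj_smul_iff (H := E.subgroupOf M) (g := g) (x := y)).mp hyg)
    obtain ⟨a, ha, b, hb, hab⟩ := hE.2.2.2 (g : G) g.2
    rw [hab] at hyg
    set y' := a⁻¹ * (y : G) * a with hy'
    have hy'E : y' ∈ E := E.mul_mem (E.mul_mem (E.inv_mem ha) hyE) ha
    have h1 : b⁻¹ * y' * b ∈ E := by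
      rwa [show b⁻¹ * y' * b = (a * b)⁻¹ * (y : G) * (a * b) by rw [hy']; group]
    have h2 : y'⁻¹ * (b⁻¹ * y' * b) ∈ E ⊓ S := ⟨E.mul_mem (E.inv_mem hy'E) h1, by
      rw [show y'⁻¹ * (b⁻¹ * y' * b) = y'⁻¹ * b⁻¹ * y' * b by group]
      exact S.mul_mem ((Subgroup.mem_normalizer_iff''.mp (hES hy'E) _).mp (S.inv_mem hb)) hb⟩
    rw [hE.2.2.1, Subgroup.mem_bot, inv_mul_eq_one] at h2
    by_contra hy1
    have hy'1 : y' ≠ 1 := fun e => hy1 (Subtype.ext (by
      calc (y : G) = a * y' * a⁻¹ := by rw [hy']; group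
        _ = 1 := by rw [e]; group))
    have h3 : b ∈ S ⊓ centralizer ({y'} : Set G) := ⟨hb, Subgroup.mem_centralizer_singleton_iff.mpr (by
      calc b * y' = b * (b⁻¹ * y' * b) := by rw [← h2]
        _ = y' * b := by group)⟩
    rw [hfpf y' hy'E hy'1, Subgroup.mem_bot] at h3
    exact hg (Subgroup.mem_subgroupOf.mpr (by rw [hab, h3, mul_one]; exact ha))

end CfsgLib.MinSimpleOdd
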