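import Cfsg.Agent.Lib.MinSimpleOdd.TypeP2Sylow
import Cfsg.Agent.S1414
import Cfsg.Agent.S1418

/-!
The maximal subgroup over `C(x)` for `x ∈ M_σ` with `C(x) ≰ M` (B–G 14.13).
-/

set_option autoImplicit false
set_option linter.unusedSectionVars false
set_option linter.style.haveILetI false
set_option maxHeartbeats 1000000

namespace CfsgLib.MinSimpleOdd

open Subgroup Cfsg
open scoped Pointwise commutatorElement IsMulCommutative

universe u
variable {G : Type u} [Group G] [Finite G]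

/-- Two lines in a group of rank one are conjugate. -/
theorem exists_conj_line (hodd : Odd (Nat.card G)) {s : ℕ} [Fact s.Prime] {N : Subgroup G} (h1 : PRankLE s 1 N)
    {X Y : Subgroup G} (hX : Nat.card X = s) (hY : Nat.card Y = s) (hXN : X ≤ N) (hYN : Y ≤ N) :
    ∃ n ∈ N, MulAut.conj n • X = Y := by
  obtain ⟨P, hXP, hPN, hP, hPi⟩ := exists_sylow_ge (p := s) hXN (isPGroup_of_card hX)
  obtain ⟨S, hS, -⟩ := sylow_of_relIndex hPN hP hPi
  obtain ⟨T, hT⟩ := ((isPGroup_of_card hY).comap_subtype (K := N)).exists_le_sylow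
  obtain ⟨n, hn⟩ := MulAction.exists_smul_eq N T S
  have hPc : IsCyclic P := cyclic_of_pRankLE_one (odd_subgroup hodd P) hP
    (pRankLE_of_injective P.subtype P.subtype_injective (fun x => hPN x.2) h1)
  refine ⟨(n : G)⁻¹, N.inv_mem n.2, ?_⟩
  have hYP : MulAut.conj (n : G) • Y ≤ P := by
    rintro _ ⟨y, hy, rfl⟩
    have h2 : (⟨y, hYN hy⟩ : N) ∈ T := hT hy
    have h3 : MulAut.conj n ⟨y, hYN hy⟩ ∈ S := hn ▸ Subgroup.smul_mem_pointwise_smul _ (MulAut.conj n) _ h2
    rw [← hS]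
    exact ⟨_, h3, rfl⟩
  rw [← eq_of_card_cyclic hPc hYP hXP (by rw [CfsgLib.card_conj_smul, hY, hX]), CfsgLib.conj_smul_mul,
    inv_mul_cancel, map_one, one_smul]

theorem centralizer_conj_smul (g : G) (X : Subgroup G) :
    centralizer ((MulAut.conj g • X : Subgroup G) : Set G) = MulAut.conj g • centralizer (X : Set G) := by
  ext y
  rw [CfsgLib.mem_conj_smul_iff, Subgroup.mem_centralizer_iff, Subgroup.mem_centralizer_iff]
  constructor
  · intro h z hz
    have h1 := h (g * z * g⁻¹) (Subgroup.smul_mem_pointwise_smul z (MulAut.conj g) X hz)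
    calc z * (g⁻¹ * y * g) = g⁻¹ * (g * z * g⁻¹ * y) * g := by group
      _ = g⁻¹ * (y * (g * z * g⁻¹)) * g := by rw [h1]
      _ = g⁻¹ * y * g * z := by group
  · rintro h _ ⟨z, hz, rfl⟩
    show g * z * g⁻¹ * y = y * (g * z * g⁻¹)
    calc g * z * g⁻¹ * y = g * (z * (g⁻¹ * y * g)) * g⁻¹ := by group
      _ = g * (g⁻¹ * y * g * z) * g⁻¹ := by rw [h z hz]
      _ = y * (g * z * g⁻¹) := by group

theorem normalizer_conj_mem {g n : G} {X : Subgroup G} (h : n ∈ normalizer (X : Set G)) :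
    g * n * g⁻¹ ∈ normalizer ((MulAut.conj g • X : Subgroup G) : Set G) := by
  refine mem_normalizer_of_conj_smul ?_
  rw [CfsgLib.conj_smul_mul, show g * n * g⁻¹ * g = g * n by group, ← CfsgLib.conj_smul_mul,
    conj_smul_eq_of_mem_normalizer h]

/-- Above a prime outside `β(M)` the larger primes act trivially. -/
theorem centralizes_of_lt (hG : IsMinSimpleOddOrder G) {M : Subgroup G} (hM : IsCoatom M) {q p : ℕ} [Fact q.Prime]
    [Fact p.Prime] (hqβ : q ∉ beta M) (hqp : q < p) {V T : Subgroup G} (hV : IsPGroup q V) (hVM : V ≤ M)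
    (hT : IsPGroup p T) (hTM : T ≤ M) (hTV : T ≤ normalizer (V : Set G)) : T ≤ centralizer (V : Set G) := by
  by_cases hqM : q ∣ Nat.card M
  · obtain ⟨-, -, -, -, h⟩ := Cfsg.Agent.S1414.result hG M hM
    have hidx := (h q Fact.out hqM hqβ).2.2
    have hTO : T ≤ coreP q M := by
      rw [← pPrimeCore_map]
      intro t ht
      refine ⟨⟨t, hTM ht⟩, ?_, rfl⟩
      rw [SetLike.mem_coe, ← QuotientGroup.eq_one_iff]
      by_contra hne
      obtain ⟨k, hk⟩ := hT ⟨t, ht⟩
      have h1 : ((⟨t, hTM ht⟩ : M) : M ⧸ pPrimeCore q ↥M) ^ p ^ k = 1 := by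
        rw [← QuotientGroup.mk_pow, show (⟨t, hTM ht⟩ : M) ^ p ^ k = 1 from Subtype.ext (congrArg (fun z : T => (z : G)) hk)]
        rfl
      obtain ⟨i, -, hi⟩ := (Nat.dvd_prime_pow Fact.out).mp (orderOf_dvd_of_pow_eq_one h1)
      have hi0 : i ≠ 0 := fun e => hne (orderOf_eq_one_iff.mp (by rw [hi, e, pow_zero]))
      have hd : p ∣ (pPrimeCore q ↥M).index :=
        ((dvd_pow_self p hi0).trans (dvd_of_eq hi.symm)).trans (_root_.orderOf_dvd_natCard _)
      exact absurd (hidx p Fact.out hd) (not_le.mpr hqp)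
    exact centralizes_of_normal_core (le_normalizer_piCoreOf_self _ _) hVM hTO hV hTV
      ((Nat.Prime.coprime_iff_not_dvd Fact.out).mp (coprime_coreP q M).symm)
  · have hV1 : V = ⊥ := by
      by_contra hne
      obtain ⟨X, hXV, hX⟩ := exists_sub_card hV hne
      exact hqM (hX ▸ Subgroup.card_dvd_of_le (hXV.trans hVM))
    subst hV1
    intro t _ v hv
    rw [Subgroup.coe_bot, Set.mem_singleton_iff] at hv
    rw [hv, one_mul, mul_one]

/-- `C_{M_σ}(A) = 1` for elementary `A` of order `p²`, `p ∈ τ₂(M)`. -/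
theorem tau2_fixed_bot (hG : IsMinSimpleOddOrder G) {M : Subgroup G} (hM : IsCoatom M) {p : ℕ} [Fact p.Prime]
    (hp : p ∈ tau2 M) {A : Subgroup G} (hAM : A ≤ M) (hA : IsElementaryAbelian p A) (hA2 : Nat.card A = p ^ 2) :
    sigmaCore M ⊓ centralizer (A : Set G) = ⊥ := by
  obtain ⟨A₀, hexc⟩ := exists_exc hG hM hp hAM hA hA2
  obtain ⟨P, hAP, hPM, hP, hPi⟩ := exists_sylow_ge (p := p) hAM (isPGroup_of_exp hA.2)
  exact (hexc.structure' hG hM hAP hPM hP hPi).2.1

/-- The `τ₂` primes lie below the other primes of `σ` outside `β`. -/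
theorem tau2_lt (hG : IsMinSimpleOddOrder G) {M : Subgroup G} (hM : IsCoatom M) {p q : ℕ} [Fact p.Prime]
    [Fact q.Prime] (hp : p ∈ tau2 M) (hq : q ∈ sigma M) (hqβ : q ∉ beta M) : p < q := by
  by_contra hle
  have hqp : q < p := lt_of_le_of_ne (not_lt.mp hle) fun e => hp.2.1 (e ▸ hq)
  obtain ⟨E, hE, -⟩ := exists_complement_ge hG hM (bot_le : (⊥ : Subgroup G) ≤ M) fun r hr hd =>
    absurd (Subgroup.card_bot (G := G) ▸ hd) hr.not_dvd_one
  obtain ⟨A, hAE, hA, hA2⟩ := exists_elementary_in_complement hG hM hE hp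
  have hAM := hAE.trans hE.1
  obtain ⟨Q, -, hQσ, hQq, -, hAQ, hQ1⟩ := exists_invariant_sylow hG hM hq hp.2.1 hAM (isPGroup_of_exp hA.2)
    (bot_le : (⊥ : Subgroup G) ≤ sigmaCore M) IsPGroup.of_bot
    (fun a _ => Subgroup.normalizer_eq_top (⊥ : Subgroup G) ▸ Subgroup.mem_top a)
  have hAc := centralizes_of_lt hG hM hqβ hqp hQq (hQσ.trans (piCoreOf_le _ _)) (isPGroup_of_exp hA.2) hAM hAQ
  refine hQ1 (le_bot_iff.mp ((le_inf hQσ ?_).trans (tau2_fixed_bot hG hM hp hAM hA hA2).le))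
  exact fun x hx a ha => (hAc ha x hx).symm

theorem not_beta_of_tau2 (hG : IsMinSimpleOddOrder G) {M L : Subgroup G} (hL : IsCoatom L) {p : ℕ} [Fact p.Prime]
    (hp : p ∈ tau2 L) : p ∉ beta M := fun h => not_ideal hG hL hp.2.2.1 hp.2.2.2 h.2

/-- A subgroup of `σ(N)`-prime order lies in a conjugate of `N`. -/
theorem exists_conj_ge {N : Subgroup G} {p : ℕ} [Fact p.Prime] (hp : p ∈ sigma N) {W : Subgroup G}
    (hW : IsPGroup p W) : ∃ g : G, W ≤ MulAut.conj g • N := by
  obtain ⟨P, hPN, hPp, hPi, -⟩ := exists_sigma_sylow hp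
  obtain ⟨g, hg⟩ := exists_conj_le_sylow hPp hPi hW
  exact ⟨g, hg.trans (conj_smul_mono hPN g)⟩

/-- No conjugate of `N` contains a noncyclic group of order `s²`, `s ∈ τ₂(M)`. -/
theorem not_le_conj (hG : IsMinSimpleOddOrder G) {M N : Subgroup G} (hM : IsCoatom M) (hN : IsCoatom N)
    {s q : ℕ} [Fact s.Prime] [Fact q.Prime] (hsM : s ∈ tau2 M) (hsN : s ∉ sigma N) (hqM : q ∈ sigma M)
    (hqN : q ∈ tau2 N) {A : Subgroup G} (hAM : A ≤ M) (hA : IsElementaryAbelian s A) (hA2 : Nat.card A = s ^ 2)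
    (g : G) : ¬ A ≤ MulAut.conj g • N := by
  intro hAN
  set N' := MulAut.conj g • N with hN'def
  have hN' := conj_isCoatom hN g
  have hs' : s ∈ tau2 N' := by
    have h : s ∉ sigma N' := by rwa [hN'def, sigma_conj]
    exact ⟨Fact.out, h, rank_two_of_not_sigma hG hN' h, fun h1 => rank_two_not_le h1 hA hA2 hAN⟩
  have hq' : q ∈ tau2 N' := tau2_conj hG g hqN
  obtain ⟨E', hE', hAE'⟩ := exists_complement_ge hG hN' hAN (pi_of_pgroup (isPGroup_of_exp hA.2) (π := {r | r ∉ sigma N'}) hs'.2.1)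
  obtain ⟨B, hBE', hB, hB2⟩ := exists_elementary_in_complement hG hN' hE' hq'
  have hBA := tau23_centralizes hG hN' hE' hs' hAE' hA hA2 (isPGroup_of_exp hB.2) hBE' (Or.inl hq')
  have hBM : B ≤ M := hBA.trans (centralizer_two_le hG hM hAM hA hA2)
  have hbot : B = ⊥ := le_bot_iff.mp ((le_inf (pgroup_le_sigmaCore hG hM hqM (isPGroup_of_exp hB.2) hBM) hBA).trans
    (tau2_fixed_bot hG hM hsM hAM hA hA2).le)
  rw [hbot, Subgroup.card_bot] at hB2
  exact (Nat.one_lt_pow two_ne_zero (Fact.out : q.Prime).one_lt).ne hB2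

variable {M N : Subgroup G} {x : G}

/-- A `κ`-prime of `M` is not shared with `σ` of the maximal subgroup over `C(x)`. -/
theorem SigmaOver.kappa_eq_empty (hG : IsMinSimpleOddOrder G) (hM : IsCoatom M) (hx : x ∈ sigmaCore M)
    (hx1 : x ≠ 1) (hN : SigmaOver M x N) {p : ℕ} [Fact p.Prime] (hpN : p ∈ sigma N) (hpM : p ∣ Nat.card M) :
    kappa M = ∅ := by
  by_contra hne
  obtain ⟨q, hq, hqd⟩ := exists_prime_dvd_order hx1
  haveI := Fact.mk hq
  have hqM := order_sigma hG hM hx q hq hqd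
  have hqN := hN.tau2 q hq hqd
  haveI := solvable_of_ne_top hG hM.1
  obtain ⟨K, hK⟩ := CfsgLib.exists_isPiHallOf (kappa M) (M := M) inferInstance
  have hK1 : K ≠ ⊥ := by
    obtain ⟨t, ht⟩ := Set.nonempty_iff_ne_empty.mpr hne
    rintro rfl
    have h2 := hK.2.2 t ht.1 ht
    rw [Subgroup.relIndex_bot_left] at h2
    exact h2 ht.2.1
  obtain ⟨U, hKU⟩ := exists_sigmaDecomposition hG hM (kappaHall_cyclic hG hM hK) hK
  obtain ⟨d, hs⟩ := decomp_split hG hM hKU hK1
  by_cases hU : U = ⊥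
  swap
  · exact hN.not_le hG hM (d.core_centralizer_uniq hG hs hU hx hx1).1
  have hpσ : p ∉ sigma M := fun h => by
    obtain ⟨g, hg⟩ := sigma_disjointness hG hM hN.hN h hpN
    exact hqN.2.1 (by rw [hg, sigma_conj]; exact hqM)
  have hpK : p ∣ Nat.card K := by
    have h2 := card_complIn hs.hE
    rw [hU, bot_sup_eq] at h2
    rw [h2] at hpM
    exact ((Fact.out : p.Prime).dvd_mul.mp hpM).resolve_right fun h => hpσ ((sigmaCore_hall hG hM).1.2.1 p Fact.out h)
  obtain ⟨w, hw⟩ := exists_prime_orderOf_dvd_card' p hpK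
  have hZ : Nat.card (zpowers (w : G)) = p := by rw [Nat.card_zpowers, Subgroup.orderOf_coe, hw]
  have hZK : zpowers (w : G) ≤ K := Subgroup.zpowers_le.mpr w.2
  obtain ⟨L, hp⟩ := d.exists_pair hG
  have hL : IsCoatom L := hp.right.hM
  obtain ⟨L', hL', hNL'⟩ := exists_coatom_ge (normalizer_ne_top hG (ne_bot_of_card hZ)
    (pgroup_ne_top hG (isPGroup_of_card hZ)))
  obtain rfl := hp.partner hG hZ hZK hL' hNL'
  obtain ⟨-, hpL, -⟩ := d.meet p _ _ Fact.out hZK hZ hL' hNL'
  obtain ⟨g, hg⟩ := sigma_disjointness hG hN.hN hL' hpN hpL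
  have hqL : q ∈ Cfsg.tau2 L' := hg ▸ tau2_conj hG g hqN
  obtain ⟨EL, hEL, -⟩ := exists_complement_ge hG hL' (bot_le : (⊥ : Subgroup G) ≤ L') fun r hr hd =>
    absurd (Subgroup.card_bot (G := G) ▸ hd) hr.not_dvd_one
  obtain ⟨B, hBEL, ⟨hBc, hBe⟩, hB2⟩ := exists_elementary_in_complement hG hL' hEL hqL
  have hBL := hBEL.trans hEL.1
  obtain ⟨e, -, he⟩ := conj_into_hall hG hL'.1 (hp.hall_sigma hG) hBL (pi_of_pgroup (isPGroup_of_exp hBe) hqM)
  have hc : IsCyclic ↥(MulAut.conj e • B : Subgroup G) := by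
    haveI := hp.cycC
    exact isCyclic_of_injective (Subgroup.inclusion he) (Subgroup.inclusion_injective he)
  exact not_cyclic_of_elementary (p := q) (elementary_conj ⟨hBc, hBe⟩ e).2 (by
    rw [CfsgLib.card_conj_smul, hB2]
    exact lt_self_pow₀ (Fact.out : q.Prime).one_lt one_lt_two) hc

/-- B–G 14.13 (a). -/
theorem SigmaOver.tau2_eq_empty (hG : IsMinSimpleOddOrder G) (hM : IsCoatom M) (hx : x ∈ sigmaCore M)
    (hx1 : x ≠ 1) (hN : SigmaOver M x N) {p : ℕ} [Fact p.Prime] (hpN : p ∈ sigma N) (hpM : p ∣ Nat.card M) :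
    Cfsg.tau2 M = ∅ := by
  have hκ := hN.kappa_eq_empty hG hM hx hx1 hpN hpM
  obtain ⟨q, hq, hqd⟩ := exists_prime_dvd_order hx1
  haveI := Fact.mk hq
  have hqM := order_sigma hG hM hx q hq hqd
  have hqN := hN.tau2 q hq hqd
  refine Set.eq_empty_iff_forall_notMem.mpr fun s hs => ?_
  haveI := Fact.mk hs.1
  have hsN : s ∉ sigma N := fun h => absurd
    ((tau2_lt hG hM hs hqM (not_beta_of_tau2 hG hN.hN hqN)).trans (tau2_lt hG hN.hN hqN h (not_beta_of_tau2 hG hM hs)))
    (lt_irrefl s)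
  have hsq : s < q := tau2_lt hG hM hs hqM (not_beta_of_tau2 hG hN.hN hqN)
  have hpσ : p ∉ sigma M := fun h => by
    obtain ⟨g, hg⟩ := sigma_disjointness hG hM hN.hN h hpN
    exact hqN.2.1 (by rw [hg, sigma_conj]; exact hqM)
  have hps : p ≠ s := fun e => hsN (e ▸ hpN)
  have hpτ : p ∉ Cfsg.tau2 M := fun h => absurd
    ((tau2_lt hG hM h hqM (not_beta_of_tau2 hG hN.hN hqN)).trans (tau2_lt hG hN.hN hqN hpN (not_beta_of_tau2 hG hM h)))
    (lt_irrefl p)
  obtain ⟨w, hw⟩ := exists_prime_orderOf_dvd_card' p hpM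
  set W := zpowers (w : G) with hWdef
  have hWc : Nat.card W = p := by rw [Nat.card_zpowers, Subgroup.orderOf_coe, hw]
  have hWM : W ≤ M := Subgroup.zpowers_le.mpr w.2
  obtain ⟨E, hE, hWE⟩ := exists_complement_ge hG hM hWM (pi_of_card hWc (π := {r | r ∉ sigma M}) hpσ)
  obtain ⟨A, hAE, hA, hA2⟩ := exists_elementary_in_complement hG hM hE hs
  have hAM := hAE.trans hE.1
  have hAbot := tau2_fixed_bot hG hM hs hAM hA hA2
  obtain ⟨⟨hEN, hlines⟩, -, hthird⟩ := Cfsg.Agent.S1418.result hG M hM E hE s hs A ⟨hAE, hA, hA2⟩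
  have hWA : W ≤ normalizer (A : Set G) := hWE.trans hEN
  have hX := not_le_conj hG hM hN.hN hs hsN hqM hqN hAM hA hA2
  have hp12 := tau1_or_tau3 hG hM hpσ (rank_one_of_not_sigma hG hM hpσ hpτ) hWc hWM
  have good : ∀ Z : Subgroup G, Nat.card Z = p → Z ≤ M → sigmaCore M ⊓ centralizer (Z : Set G) = ⊥ := by
    intro Z hZ hZM
    by_contra h
    exact (Set.eq_empty_iff_forall_notMem.mp hκ p) (kappa_of_bad hG hM hp12 hZ hZM h)
  obtain ⟨L'', hL'', hNW⟩ := exists_coatom_ge (normalizer_ne_top hG (ne_bot_of_card hWc)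
    (pgroup_ne_top hG (isPGroup_of_card hWc)))
  -- `p ∈ τ₂(L'')` makes a cycle `p < s < q < p`
  have cycle : p < s → p ∉ sigma L'' → False := by
    intro hlt hpL
    obtain ⟨g, hg⟩ := exists_conj_ge hpN (isPGroup_of_card hWc)
    obtain ⟨hpτ2, -⟩ := overgroup_data hG (conj_isCoatom hN.hN g) hL''
      (fun e => hpL (by rw [e, sigma_conj]; exact hpN)) (q := p) (by rw [sigma_conj]; exact hpN) hWc hg hNW
    have := tau2_lt hG hN.hN hqN hpN (not_beta_of_tau2 hG hL'' hpτ2)
    omega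
  by_cases hWc' : W ≤ centralizer (A : Set G)
  · have hAW : A ≤ L'' := (Subgroup.le_centralizer_iff.mp hWc').trans
      ((Subgroup.centralizer_le_normalizer _).trans hNW)
    by_cases hpL : p ∈ sigma L''
    · obtain ⟨g, hg⟩ := sigma_disjointness hG hN.hN hL'' hpN hpL
      exact hX g (hg ▸ hAW)
    obtain ⟨g, hg⟩ := exists_conj_ge hpN (isPGroup_of_card hWc)
    obtain ⟨hpτ2, -, E'', hE'', hE''N⟩ := overgroup_data hG (conj_isCoatom hN.hN g) hL''
      (fun e => hpL (by rw [e, sigma_conj]; exact hpN)) (q := p) (by rw [sigma_conj]; exact hpN) hWc hg hNW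
    have hsL : s ∈ sigma L'' := by
      by_contra hsL
      obtain ⟨e, -, he⟩ := conj_into_hall hG hL''.1 (complement_hall hG hL'' hE'') hAW
        (pi_of_pgroup (isPGroup_of_exp hA.2) (π := {r | r ∉ sigma L''}) hsL)
      have := inv_smul_smul_conj (he.trans hE''N)
      rw [CfsgLib.conj_smul_mul] at this
      exact hX _ this
    exact cycle (tau2_lt hG hL'' hpτ2 hsL (not_beta_of_tau2 hG hM hs)) hpL
  · -- `W` moves `A`
    have hplt : p < s := by
      by_contra h
      have hsp : s < p := lt_of_le_of_ne (not_lt.mp h) hps.symm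
      obtain ⟨L', hL', hNA⟩ := exists_coatom_ge (normalizer_ne_top hG (D := A) (fun e => by
        rw [e, Subgroup.card_bot] at hA2
        exact (Nat.one_lt_pow two_ne_zero (Fact.out : s.Prime).one_lt).ne hA2)
        (pgroup_ne_top hG (isPGroup_of_exp hA.2)))
      exact hWc' (centralizes_of_lt hG hL' (not_beta_of_tau2 hG hM hs) hsp (isPGroup_of_exp hA.2)
        (Subgroup.le_normalizer.trans hNA) (isPGroup_of_card hWc) (hWA.trans hNA) hWA)
    by_cases hpL : p ∈ sigma L''
    swap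
    · exact cycle hplt hpL
    obtain ⟨g, hg⟩ := sigma_disjointness hG hN.hN hL'' hpN hpL
    haveI := hA.1
    have hcop : (Nat.card W).Coprime (Nat.card A) := by
      rw [hWc, hA2]
      exact Nat.Coprime.pow_right 2 ((Nat.coprime_primes Fact.out Fact.out).mpr hps)
    have hsolW : Group.IsSolvable W := solvable_of_le hWM (solvable_of_ne_top hG hM.1)
    set R := A ⊓ centralizer (W : Set G) with hRdef
    set V := ⁅A, W⁆ with hVdef
    have hVA : V ≤ A := commutator_le_of_normalizes hWA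
    have hWV : W ≤ normalizer (V : Set G) := CfsgLib.right_le_normalizer_commutator W A
    have hsup : V ⊔ R = A := CfsgLib.coprime_commutator_sup hWA hcop (Or.inl hsolW)
    have hVfix : V ⊓ centralizer (W : Set G) = ⊥ := by
      refine le_bot_iff.mp ((fixed_le_derived hWV ?_ (CfsgLib.coprime_commutator_commutator hWA hcop (Or.inl hsolW))).trans ?_)
      · exact (hcop.symm.coprime_dvd_left (Subgroup.card_dvd_of_le hVA))
      · rw [Subgroup.commutator_le]
        intro a ha b hb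
        rw [Subgroup.mem_bot, commutatorElement_eq_one_iff_mul_comm]
        exact congrArg Subtype.val (mul_comm' (⟨a, hVA ha⟩ : A) ⟨b, hVA hb⟩)
    have hxW : orderOf (w : G) = p := by rw [Subgroup.orderOf_coe, hw]
    have hwW : (w : G) ∈ W := Subgroup.mem_zpowers _
    have hcW : centralizer ({(w : G)} : Set G) = centralizer (W : Set G) := centralizer_zpowers _
    -- a fixed-point-free group of `M` centralises the core
    have key : ∀ D : Subgroup G, D ≤ A → W ≤ normalizer (D : Set G) → D ⊓ centralizer (W : Set G) = ⊥ →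
        D ≤ centralizer (sigmaCore M : Set G) := fun D hDA hWD hD =>
      centralizes_of_fpf hxW (hWD hwW) (le_normalizer_sigmaCore hG hM hWM hwW)
        (hDA.trans (le_normalizer_sigmaCore hG hM hAM))
        ((coprime_sigmaCore hG hM hs.2.1 ((isPGroup_of_exp hA.2).to_le hDA) le_rfl))
        (by rw [hcW]; exact hD) (by rw [hcW]; exact good W hWc hWM)
    have notall : ¬ A ≤ centralizer (sigmaCore M : Set G) := fun h =>
      sigmaCore_ne_bot hG hM (le_bot_iff.mp ((le_inf le_rfl fun y hy a ha => (h ha y hy).symm).trans hAbot.le))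
    have hR1 : R ≠ ⊥ := fun e => notall (key A le_rfl hWA e)
    have hRA : R ≠ A := fun e => hWc' (fun w' hw' a ha => ((e.ge.trans inf_le_right) ha w' hw').symm)
    have hV1 : V ≠ ⊥ := fun e => hRA (by rw [← hsup, e, bot_sup_eq])
    have hVR : V ⊓ R = ⊥ := le_bot_iff.mp (hVfix ▸ inf_le_inf_left V inf_le_right)
    have hcard : ∀ D : Subgroup G, D ≤ A → D ≠ ⊥ → D ≠ A → Nat.card D = s := by
      intro D hDA hD1 hD2
      obtain ⟨i, hi, hi'⟩ := (Nat.dvd_prime_pow Fact.out).mp (hA2 ▸ Subgroup.card_dvd_of_le hDA)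
      interval_cases i
      · exact absurd (Subgroup.card_eq_one.mp (by simpa using hi')) hD1
      · simpa using hi'
      · exact absurd (Subgroup.eq_of_le_of_card_ge hDA (hi'.symm ▸ hA2.le)) hD2
    have hRc : Nat.card R = s := hcard R inf_le_left hR1 hRA
    have hVc : Nat.card V = s := hcard V hVA hV1 fun e => hR1 (le_bot_iff.mp
      ((le_inf (inf_le_left.trans e.ge) le_rfl).trans hVR.le))
    have hVσ := key V hVA hWV hVfix
    have hVx : V ≤ centralizer ({x} : Set G) := fun v hv =>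
      Subgroup.mem_centralizer_singleton_iff.mpr (hVσ hv x hx).symm
    have hVN : V ≤ N := hVx.trans hN.le
    have hr1 : PRankLE s 1 N := by
      by_contra h
      have hsτN : s ∈ Cfsg.tau2 N := ⟨Fact.out, hsN, rank_two_of_not_sigma hG hN.hN hsN, h⟩
      obtain ⟨A', hA'E, hA', hA'2⟩ := exists_elementary_in_complement hG hN.hN hN.compl hsτN
      obtain ⟨e, -, he⟩ := conj_into_hall hG hM.1 (complement_hall hG hM hE) (hA'E.trans inf_le_left)
        (pi_of_pgroup (isPGroup_of_exp hA'.2) (π := {r | r ∉ sigma M}) hs.2.1)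
      have hsub : MulAut.conj e • A' ≤ A := by
        intro a ha
        by_cases ha1 : a = 1
        · exact ha1 ▸ A.one_mem
        have hao : orderOf a = s := (Nat.Prime.eq_one_or_self_of_dvd Fact.out (orderOf a)
          (orderOf_dvd_of_pow_eq_one ((elementary_conj hA' e).2 a ha))).resolve_left fun h' =>
            ha1 (orderOf_eq_one_iff.mp h')
        exact hlines _ (Subgroup.zpowers_le.mpr (he ha)) (by rw [Nat.card_zpowers, hao]) (Subgroup.mem_zpowers a)
      have heq : MulAut.conj e • A' = A := Subgroup.eq_of_le_of_card_ge hsub (by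
        rw [CfsgLib.card_conj_smul, hA2, hA'2])
      exact hX e (heq ▸ conj_smul_mono (hA'E.trans inf_le_right) e)
    -- move `V` to `R`
    have hRN : MulAut.conj g⁻¹ • R ≤ N := by
      have := conj_smul_mono (((inf_le_right : R ≤ centralizer (W : Set G)).trans
        ((Subgroup.centralizer_le_normalizer _).trans hNW)).trans hg.le) g⁻¹
      rwa [CfsgLib.conj_smul_mul, inv_mul_cancel, map_one, one_smul] at this
    obtain ⟨n, -, hn⟩ := exists_conj_line hG.1 hr1 hVc (show Nat.card (MulAut.conj g⁻¹ • R : Subgroup G) = s by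
      rw [CfsgLib.card_conj_smul, hRc]) hVN hRN
    have hh : MulAut.conj (g * n) • V = R := by
      rw [← CfsgLib.conj_smul_mul, hn, CfsgLib.conj_smul_mul, mul_inv_cancel, map_one, one_smul]
    set h := g * n with hhdef
    have hVbad : sigmaCore M ⊓ centralizer (V : Set G) ≠ ⊥ := fun e => sigmaCore_ne_bot hG hM
      (le_bot_iff.mp ((le_inf le_rfl fun y hy v hv => (hVσ hv y hy).symm).trans e.le))
    have hCV := (hthird V hVA hVc hVbad).1
    have hCR : centralizer (R : Set G) ≤ MulAut.conj h • M := by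
      rw [← hh, centralizer_conj_smul]
      exact conj_smul_mono hCV h
    have hA' : MulAut.conj h⁻¹ • A ≤ M := by
      have hAR : A ≤ centralizer (R : Set G) := fun a ha r hr =>
        congrArg Subtype.val (mul_comm' (⟨r, (inf_le_left : R ≤ A) hr⟩ : A) ⟨a, ha⟩)
      have := conj_smul_mono (hAR.trans hCR) h⁻¹
      rwa [CfsgLib.conj_smul_mul, inv_mul_cancel, map_one, one_smul] at this
    have hW' : MulAut.conj h⁻¹ • W ≤ M := by
      have hWR : W ≤ centralizer (R : Set G) := fun w' hw' r hr =>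
        ((inf_le_right : R ≤ centralizer (W : Set G)) hr w' hw').symm
      have := conj_smul_mono (hWR.trans hCR) h⁻¹
      rwa [CfsgLib.conj_smul_mul, inv_mul_cancel, map_one, one_smul] at this
    have hw' : orderOf (h⁻¹ * (w : G) * h⁻¹⁻¹) = p := by rw [orderOf_conj, hxW]
    have hcW' : centralizer ({h⁻¹ * (w : G) * h⁻¹⁻¹} : Set G) =
        centralizer ((MulAut.conj h⁻¹ • W : Subgroup G) : Set G) := by
      rw [← conj_centralizer_singleton, hcW, centralizer_conj_smul]
    have hV'σ : MulAut.conj h⁻¹ • V ≤ centralizer (sigmaCore M : Set G) :=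
      centralizes_of_fpf hw'
        (show h⁻¹ * (w : G) * h⁻¹⁻¹ ∈ normalizer ((MulAut.conj h⁻¹ • V : Subgroup G) : Set G) from
          normalizer_conj_mem (hWV hwW))
        (le_normalizer_sigmaCore hG hM hW' (Subgroup.smul_mem_pointwise_smul _ (MulAut.conj h⁻¹) _ hwW))
        ((conj_smul_mono hVA h⁻¹).trans (le_normalizer_sigmaCore hG hM hA'))
        (coprime_sigmaCore hG hM hs.2.1 (isPGroup_of_card (by rw [CfsgLib.card_conj_smul, hVc])) le_rfl)
        (by rw [hcW', centralizer_conj_smul, ← Subgroup.smul_inf, hVfix, Subgroup.smul_bot])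
        (by rw [hcW']; exact good _ (by rw [CfsgLib.card_conj_smul, hWc]) hW')
    have hR'σ : MulAut.conj h⁻¹ • R ≤ centralizer (sigmaCore M : Set G) := by
      rw [← hh, CfsgLib.conj_smul_mul, inv_mul_cancel, map_one, one_smul]
      exact hVσ
    have hall : MulAut.conj h⁻¹ • A ≤ centralizer (sigmaCore M : Set G) := by
      rw [← hsup, Subgroup.smul_sup]
      exact sup_le hV'σ hR'σ
    exact sigmaCore_ne_bot hG hM (le_bot_iff.mp ((le_inf le_rfl fun y hy a ha => (hall ha y hy).symm).trans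
      (tau2_fixed_bot hG hM hs hA' (elementary_conj hA _) (by rw [CfsgLib.card_conj_smul, hA2])).le))

/-- B–G 14.13 (b). -/
theorem SigmaOver.conj_in_M (hG : IsMinSimpleOddOrder G) (hM : IsCoatom M) (hN : SigmaOver M x N) {y : G}
    {N' : Subgroup G} (hy : y ∈ sigmaCore M) (hy1 : y ≠ 1) (hN' : SigmaOver M y N') {g : G}
    (hg : MulAut.conj g • N' = N) : ∃ m ∈ M, MulAut.conj m • N' = N := by
  have hhall := complement_hall hG hN.hN hN.compl
  have hgle : MulAut.conj g • (M ⊓ N') ≤ N := hg ▸ conj_smul_mono inf_le_right g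
  have hgpi : ∀ r : ℕ, r.Prime → r ∣ Nat.card (MulAut.conj g • (M ⊓ N') : Subgroup G) → r ∈ {r | r ∉ sigma N} := by
    intro r hr hd
    rw [CfsgLib.card_conj_smul] at hd
    show r ∉ sigma N
    rw [← hg, sigma_conj]
    exact complement_sigma' hG hN'.hN hN'.compl r hr hd
  obtain ⟨n, hn, hle⟩ := conj_into_hall hG hN.hN.1 hhall hgle hgpi
  have hym : y ∈ M := piCoreOf_le _ _ hy
  have hyN : y ∈ N' := hN'.le (Subgroup.mem_centralizer_singleton_iff.mpr rfl)
  set h := n * g with hhdef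
  rw [CfsgLib.conj_smul_mul] at hle
  have hy' : y ∈ MulAut.conj h⁻¹ • M := by
    rw [CfsgLib.mem_conj_smul_iff, inv_inv]
    exact (hle (Subgroup.smul_mem_pointwise_smul y (MulAut.conj h) _ ⟨hym, hyN⟩)).1
  obtain ⟨c, -, hcM, -, hc⟩ := conj_of_mem hG hM hy hy1 hy'
  have hcN : c ∈ N' := piCoreOf_le _ _ (hc N' hN')
  refine ⟨h * c, ?_, ?_⟩
  · have e : MulAut.conj (h * c) • M = M := by
      rw [← CfsgLib.conj_smul_mul, ← hcM, CfsgLib.conj_smul_mul, mul_inv_cancel, map_one, one_smul]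
    rw [← normalizer_coatom hG hM]
    exact mem_normalizer_of_conj_smul e
  · rw [← CfsgLib.conj_smul_mul, smul_eq_self_of_mem hcN, hhdef, ← CfsgLib.conj_smul_mul, hg, smul_eq_self_of_mem hn]

end CfsgLib.MinSimpleOdd
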