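import Cfsg.Agent.Lib.MinSimpleOdd.PrimeRegularTau3

/-!
A maximal subgroup with a `τ₃`-line centralising part of `M_σ`: the complement acts in prime manner.
-/

set_option autoImplicit false
set_option linter.unusedSectionVars false
set_option linter.style.haveILetI false
set_option maxHeartbeats 1000000

namespace CfsgLib.MinSimpleOdd

open Subgroup Cfsg
open scoped Pointwise commutatorElement IsMulCommutative

universe u
variable {G : Type u} [Group G] [Finite G]

theorem exists_prime_subgroup {C : Subgroup G} (h : C ≠ ⊥) :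
    ∃ q : ℕ, q.Prime ∧ ∃ X : Subgroup G, X ≤ C ∧ Nat.card X = q := by
  obtain ⟨q, hq, hqd⟩ := Nat.exists_prime_and_dvd (fun e => h (Subgroup.card_eq_one.mp e))
  haveI := Fact.mk hq
  obtain ⟨x, hx⟩ := exists_prime_orderOf_dvd_card' q hqd
  exact ⟨q, hq, zpowers (x : G), Subgroup.zpowers_le.mpr x.2, by rw [Nat.card_zpowers, Subgroup.orderOf_coe, hx]⟩

/-- A `τ₁ ∪ τ₃`-line with fixed points on `M_σ` lies in `σ` of the overgroup of its normaliser. -/
theorem bad_sigma (hG : IsMinSimpleOddOrder G) {M L : Subgroup G} (hM : IsCoatom M) (hL : IsCoatom L)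
    {t : ℕ} [Fact t.Prime] (ht : t ∈ tau1 M ∨ t ∈ tau3 M) {W : Subgroup G} (hW : Nat.card W = t) (hWM : W ≤ M)
    (hbad : sigmaCore M ⊓ centralizer (W : Set G) ≠ ⊥) (hNL : normalizer (W : Set G) ≤ L) : t ∈ sigma L :=
  ht.elim (fun h => tau1_bad_sigma hG hM hL h hW hWM hbad hNL) fun h => tau3_bad_sigma hG hM hL h hW hWM hbad hNL

theorem bad_normalizer_le (hG : IsMinSimpleOddOrder G) {M H : Subgroup G} (hM : IsCoatom M) (hH : IsCoatom H)
    {t : ℕ} [Fact t.Prime] (ht : t ∈ tau1 M ∨ t ∈ tau3 M) {W : Subgroup G} (hW : Nat.card W = t) (hWM : W ≤ M)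
    (hbad : sigmaCore M ⊓ centralizer (W : Set G) ≠ ⊥) (hWH : W ≤ H) (htH : t ∈ sigma H) :
    normalizer (W : Set G) ≤ H := by
  obtain ⟨L, hL, hNL⟩ := exists_coatom_ge (normalizer_ne_top hG (ne_bot_of_card hW)
    (pgroup_ne_top hG (isPGroup_of_card hW)))
  exact eq_of_sigma hG hH hL htH (bad_sigma hG hM hL ht hW hWM hbad hNL) hWH hW
    ((Subgroup.centralizer_le_normalizer _).trans hNL) ▸ hNL

theorem meet_data (hG : IsMinSimpleOddOrder G) {M H : Subgroup G} (hM : IsCoatom M) (hH : IsCoatom H)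
    (hn : ∀ g : G, H ≠ MulAut.conj g • M) (hmeet : sigmaCore H ⊓ M ≠ ⊥) {s : ℕ} [Fact s.Prime] {U : Subgroup G}
    (hU : Nat.card U = s) (hUle : U ≤ sigmaCore M ⊓ H) :
    (s ∈ tau1 H ∨ s ∈ tau3 H) ∧ normalizer (U : Set G) ≤ M := by
  have hUM : U ≤ M := hUle.trans (inf_le_left.trans (piCoreOf_le _ _))
  have hUH : U ≤ H := hUle.trans inf_le_right
  have hsM : s ∈ sigma M := (sigmaCore_hall hG hM).1.2.1 s Fact.out
    (hU ▸ Subgroup.card_dvd_of_le (hUle.trans inf_le_left))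
  have hsH : s ∉ sigma H := fun h => by
    obtain ⟨g, hg⟩ := sigma_disjointness hG hM hH hsM h
    exact hn g hg
  have hfix : sigmaCore H ⊓ M ≤ sigmaCore H ⊓ centralizer (U : Set G) := le_inf inf_le_left
    (Subgroup.le_centralizer_iff.mp (hUle.trans (meet_commute hG hM hH hn)))
  have hbad : sigmaCore H ⊓ centralizer (U : Set G) ≠ ⊥ := fun e => hmeet (le_bot_iff.mp (hfix.trans e.le))
  have hs2 : s ∉ tau2 H := by
    intro h2
    obtain ⟨E, hE, hUE⟩ := exists_complement_ge hG hH hUH (pi_of_card hU (π := {x | x ∉ sigma H}) hsH)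
    obtain ⟨u, hu, huU⟩ := exists_gen hU
    obtain ⟨⟨y, hy⟩, hy1⟩ := Subgroup.ne_bot_iff_exists_ne_one.mp hbad
    have huhat : u ∈ sigmaHat H := ⟨hUH (huU ▸ mem_zpowers u), y, hy.1, fun e => hy1 (Subtype.ext e),
      hy.2 u (huU ▸ mem_zpowers u)⟩
    obtain ⟨hC, huniq⟩ := tau2_element_uniq hG hH hE (hUH (huU ▸ mem_zpowers u)) (fun e => by
      rw [e, orderOf_one] at hu
      exact (Fact.out : s.Prime).ne_one hu.symm) (fun r hr hd => by
      rw [hu] at hd
      rwa [(Nat.prime_dvd_prime_iff_eq hr Fact.out).mp hd]) huhat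
    rw [centralizer_zpowers, huU] at huniq
    have hne : H ≠ M := fun e => hn 1 (by rw [map_one, one_smul, e])
    obtain ⟨-, hbot, -⟩ := overgroup_data hG hM hH hne hsM hU hUM
      (normalizer_le_of_uniq hG (ne_bot_of_card hU) (pgroup_ne_top hG (isPGroup_of_card hU)) huniq)
    exact hmeet hbot
  have h13 := tau1_or_tau3 hG hH hsH (rank_one_of_not_sigma hG hH hsH hs2) hU hUH
  exact ⟨h13, bad_normalizer_le hG hH hM h13 hU hUH hbad hUM hsM⟩

/-- The data attached to a `τ₃(M)`-line with fixed points on `M_σ`. -/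
structure Tau3Bad (p : ℕ) (M H E P : Subgroup G) : Prop where
  hM : IsCoatom M
  hH : IsCoatom H
  pM : p ∈ tau3 M
  pH : p ∈ sigma H
  hE : IsComplIn E (sigmaCore M) M
  cP : Nat.card P = p
  PE : P ≤ E
  NP : normalizer (P : Set G) ≤ H
  bad : sigmaCore M ⊓ centralizer (P : Set G) ≠ ⊥

theorem exists_tau3Bad (hG : IsMinSimpleOddOrder G) {M E P : Subgroup G} (hM : IsCoatom M) {p : ℕ} [Fact p.Prime]
    (hp : p ∈ tau3 M) (hE : IsComplIn E (sigmaCore M) M) (hP : Nat.card P = p) (hPE : P ≤ E)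
    (hbad : sigmaCore M ⊓ centralizer (P : Set G) ≠ ⊥) : ∃ H, Tau3Bad p M H E P := by
  obtain ⟨H, hH, hNH⟩ := exists_coatom_ge (normalizer_ne_top hG (ne_bot_of_card hP)
    (pgroup_ne_top hG (isPGroup_of_card hP)))
  exact ⟨H, hM, hH, hp, tau3_bad_sigma hG hM hH hp hP (hPE.trans hE.1) hbad hNH, hE, hP, hPE, hNH, hbad⟩

variable (hG : IsMinSimpleOddOrder G) {p : ℕ} [Fact p.Prime] {M H E P : Subgroup G}

include hG

theorem Tau3Bad.nconj (d : Tau3Bad p M H E P) : ∀ g : G, H ≠ MulAut.conj g • M := fun g e =>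
  d.pM.2.1 (by have := d.pH; rwa [e, sigma_conj] at this)

theorem Tau3Bad.E_le_N (d : Tau3Bad p M H E P) : E ≤ normalizer (P : Set G) :=
  tau3_normalized hG d.hM d.hE d.PE (pi_of_card d.cP d.pM)

theorem Tau3Bad.E_le (d : Tau3Bad p M H E P) : E ≤ H := (d.E_le_N hG).trans d.NP

theorem Tau3Bad.P_core (d : Tau3Bad p M H E P) : P ≤ sigmaCore H ⊓ M :=
  le_inf (pgroup_le_sigmaCore hG d.hH d.pH (isPGroup_of_card d.cP) (d.PE.trans (d.E_le hG))) (d.PE.trans d.hE.1)

theorem Tau3Bad.meetM (d : Tau3Bad p M H E P) : sigmaCore H ⊓ M ≠ ⊥ := fun e =>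
  ne_bot_of_card d.cP (le_bot_iff.mp ((d.P_core hG).trans e.le))

theorem Tau3Bad.meet_eq (d : Tau3Bad p M H E P) :
    sigmaCore M ⊓ H = sigmaCore M ⊓ centralizer (P : Set G) :=
  le_antisymm (le_inf inf_le_left ((meet_commute hG d.hM d.hH (d.nconj hG)).trans
    (Subgroup.centralizer_le (SetLike.coe_subset_coe.mpr (d.P_core hG)))))
    (inf_le_inf_left _ ((Subgroup.centralizer_le_normalizer _).trans d.NP))

theorem Tau3Bad.not_tau2 (d : Tau3Bad p M H E P) {s : ℕ} [Fact s.Prime] : s ∉ tau2 M := fun h => by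
  obtain ⟨B, hBE, hB, hB2⟩ := exists_elementary_in_complement hG d.hM d.hE h
  refine d.bad (d.meet_eq hG ▸ sigma_meet_bot hG d.hM h (hBE.trans d.hE.1) hB hB2 d.hH
    (fun e => d.nconj hG 1 (by rw [map_one, one_smul, e])) (hBE.trans (d.E_le hG)))

theorem Tau3Bad.not_centralized (d : Tau3Bad p M H E P) : ¬ P ≤ centralizer (sigmaCore M : Set G) := fun h => by
  have hMH : M ≤ H := by
    intro m hm
    obtain ⟨a, ha, b, hb, rfl⟩ := d.hE.2.2.2 m hm
    exact mul_mem (d.E_le hG ha)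
      (d.NP (Subgroup.centralizer_le_normalizer _ (Subgroup.le_centralizer_iff.mp h hb)))
  rcases d.hM.le_iff.mp hMH with e | e
  · exact d.hH.1 e
  · exact d.nconj hG 1 (by rw [map_one, one_smul, e])

/-- The consequence of the coprime action formula. -/
theorem Tau3Bad.fixed_not_le (d : Tau3Bad p M H E P) {t : ℕ} [Fact t.Prime] {W : Subgroup G}
    (hW : Nat.card W = t) (hWE : W ≤ E) (hmove : ¬ W ≤ centralizer (P : Set G)) :
    ¬ sigmaCore M ⊓ centralizer (W : Set G) ≤ centralizer (P : Set G) := by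
  intro h
  have htp : p ≠ t := by
    intro e
    subst e
    obtain ⟨E₃, hWE₃, hc, -, -⟩ := exists_tau3_hall hG d.hM d.hE (T := W) hWE (pi_of_card hW d.pM)
    obtain ⟨E₄, hPE₄, -, hd, -⟩ := exists_tau3_hall hG d.hM d.hE d.PE (pi_of_card d.cP d.pM)
    obtain ⟨E₅, hWE₅, -, hd', -⟩ := exists_tau3_hall hG d.hM d.hE hWE (pi_of_card hW d.pM)
    haveI := complement_derived_commutative hG d.hM d.hE
    exact hmove (((hWE₅.trans hd').trans (Subgroup.le_centralizer (⁅E, E⁆ : Subgroup G))).trans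
      (Subgroup.centralizer_le (SetLike.coe_subset_coe.mpr (hPE₄.trans hd))))
  have hWN : W ≤ normalizer (P : Set G) := hWE.trans (d.E_le_N hG)
  have hfpf : P ⊓ centralizer (W : Set G) = ⊥ := cyclic_moved_fixed_bot (isPGroup_of_card d.cP)
    (isCyclic_of_prime_card d.cP) hWN (coprime_pGroups Fact.out Fact.out htp (isPGroup_of_card d.cP)
      (isPGroup_of_card hW)) hmove
  exact d.not_centralized hG (centralizes_of_fixed (isPGroup_of_card d.cP).isNilpotent hW hWN hfpf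
    ((sup_le d.PE hWE).trans (d.hE.1.trans (le_normalizer_sigmaCore hG d.hM le_rfl)))
    (Nat.coprime_of_dvd fun s hs h1 h2 => complement_sigma' hG d.hM d.hE s hs
      (h1.trans (Subgroup.card_dvd_of_le (sup_le d.PE hWE))) ((sigmaCore_hall hG d.hM).1.2.1 s hs h2))
    (solvable_of_le (piCoreOf_le _ _) (solvable_of_ne_top hG d.hM.1)) h)

theorem Tau3Bad.invariant (d : Tau3Bad p M H E P) :
    E ≤ normalizer ((sigmaCore M ⊓ centralizer (P : Set G) : Subgroup G) : Set G) := fun e he =>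
  mem_normalizer_of_conj_smul (by
    rw [Subgroup.smul_inf, conj_smul_eq_of_mem_normalizer (le_normalizer_sigmaCore hG d.hM le_rfl (d.hE.1 he)),
      conj_smul_eq_of_mem_normalizer (normalizer_le_normalizer_centralizer P (d.E_le_N hG he))])

/-- Invariant Sylow subgroups of the fixed points, for the primes dividing its order. -/
theorem Tau3Bad.exists_sylow (d : Tau3Bad p M H E P) {W : Subgroup G} (hWE : W ≤ E) {q : ℕ} [Fact q.Prime]
    (hq : q ∣ Nat.card ↥(sigmaCore M ⊓ centralizer (P : Set G))) :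
    (q ∈ tau1 H ∨ q ∈ tau3 H) ∧ ∃ Q X : Subgroup G, Q ≤ sigmaCore M ⊓ centralizer (P : Set G) ∧
      ¬ q ∣ Q.relIndex (sigmaCore M ⊓ centralizer (P : Set G)) ∧ IsPGroup q Q ∧ W ≤ normalizer (Q : Set G) ∧
      X ≤ Q ∧ Nat.card X = q ∧ normalizer (X : Set G) ≤ M ∧ Q ≤ H := by
  obtain ⟨Q, hQ, hWQ⟩ := CfsgLib.exists_invariant_hall ({q} : Set ℕ) (hWE.trans (d.invariant hG))
    (Nat.coprime_of_dvd fun s hs h1 h2 => complement_sigma' hG d.hM d.hE s hs (h1.trans (Subgroup.card_dvd_of_le hWE))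
      ((sigmaCore_hall hG d.hM).1.2.1 s hs (h2.trans (Subgroup.card_dvd_of_le inf_le_left))))
    (solvable_of_le (inf_le_left.trans (piCoreOf_le _ _)) (solvable_of_ne_top hG d.hM.1))
  have hQq : IsPGroup q Q := IsPGroup.of_card (n := (Nat.card Q).primeFactorsList.length)
    (Nat.eq_prime_pow_of_unique_prime_dvd Nat.card_pos.ne' fun {s} hs hd => hQ.2.1 s hs hd)
  obtain ⟨X, hXQ, hX⟩ := exists_sub_card hQq fun e => hQ.2.2 q Fact.out rfl (by
    rwa [e, Subgroup.relIndex_bot_left])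
  have hQH : Q ≤ sigmaCore M ⊓ H := hQ.1.trans (d.meet_eq hG).ge
  obtain ⟨h13, hN⟩ := meet_data hG d.hM d.hH (d.nconj hG) (d.meetM hG) hX (hXQ.trans hQH)
  exact ⟨h13, Q, X, hQ.1, hQ.2.2 q Fact.out rfl, hQq, hWQ, hXQ, hX, hN, hQH.trans inf_le_right⟩

theorem complement_pair {L : Subgroup G} (hL : IsCoatom L) {Q W : Subgroup G} (hQL : Q ≤ L) (hWL : W ≤ L)
    (hWQ : W ≤ normalizer (Q : Set G)) (hQ : ∀ r : ℕ, r.Prime → r ∣ Nat.card Q → r ∉ sigma L)
    (hW : ∀ r : ℕ, r.Prime → r ∣ Nat.card W → r ∉ sigma L) :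
    ∃ F : Subgroup G, IsComplIn F (sigmaCore L) L ∧ Q ≤ F ∧ W ≤ F := by
  obtain ⟨F, hF, hle⟩ := exists_complement_ge hG hL (sup_le hQL hWL) fun r hr hd => by
    rcases hr.dvd_mul.mp (hd.trans (CfsgLib.Signalizer.card_sup_dvd hWQ)) with h | h
    · exact hW r hr h
    · exact hQ r hr h
  exact ⟨F, hF, le_sup_left.trans hle, le_sup_right.trans hle⟩

/-- Some `τ₁(M)`-line of the complement has fixed points on `M_σ`. -/
theorem Tau3Bad.exists_bad_tau1 (d : Tau3Bad p M H E P) :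
    ∃ t : ℕ, t.Prime ∧ t ∈ tau1 M ∧ ∃ W : Subgroup G, W ≤ E ∧ Nat.card W = t ∧
      sigmaCore M ⊓ centralizer (W : Set G) ≠ ⊥ := by
  obtain ⟨t, ht', -, T, hTE, hT, hTmove⟩ := exists_mover_of_derived hG d.hM d.hE d.pM d.cP d.PE
  haveI := Fact.mk ht'
  have hTM : T ≤ M := hTE.trans d.hE.1
  obtain ⟨W, hWT, hW⟩ := exists_sub_card hT fun e => hTmove (e ▸ bot_le)
  have hWE : W ≤ E := hWT.trans hTE
  have htM : t ∉ sigma M := complement_sigma' hG d.hM d.hE t ht' (hW ▸ Subgroup.card_dvd_of_le hWE)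
  have ht1 : t ∈ tau1 M := by
    refine (tau1_or_tau3 hG d.hM htM (rank_one_of_not_sigma hG d.hM htM (d.not_tau2 hG)) hW
      (hWT.trans hTM)).resolve_right fun h => ?_
    obtain ⟨E₃, hTE₃, -, hd, -⟩ := exists_tau3_hall hG d.hM d.hE hTE (pi_of_pgroup hT h)
    obtain ⟨E₄, hPE₄, -, hd', -⟩ := exists_tau3_hall hG d.hM d.hE d.PE (pi_of_card d.cP d.pM)
    haveI := complement_derived_commutative hG d.hM d.hE
    exact hTmove (((hTE₃.trans hd).trans (Subgroup.le_centralizer (⁅E, E⁆ : Subgroup G))).trans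
      (Subgroup.centralizer_le (SetLike.coe_subset_coe.mpr (hPE₄.trans hd'))))
  refine ⟨t, ht', ht1, W, hWE, hW, fun hgood => ?_⟩
  have hWP : W ≤ centralizer (P : Set G) := by
    by_contra h
    exact d.fixed_not_le hG hW hWE h (hgood.le.trans bot_le)
  have hWH : W ≤ H := hWE.trans (d.E_le hG)
  have htH : t ∉ sigma H := fun h => d.bad (le_bot_iff.mp (hgood ▸ le_inf inf_le_left ((d.meet_eq hG).ge.trans
    ((meet_commute hG d.hM d.hH (d.nconj hG)).trans (Subgroup.centralizer_le (SetLike.coe_subset_coe.mpr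
      (le_inf (pgroup_le_sigmaCore hG d.hH h (isPGroup_of_card hW) hWH) (hWT.trans hTM))))))))
  obtain ⟨q, hq, hqd⟩ := Nat.exists_prime_and_dvd (fun h => d.bad (Subgroup.card_eq_one.mp h))
  haveI := Fact.mk hq
  obtain ⟨hq13, Q, X, hQC, -, hQ, hWQ, hXQ, hX, -, hQH⟩ := d.exists_sylow hG hWE hqd
  have hnoc : ¬ W ≤ centralizer (Q : Set G) := fun h => ne_bot_of_card hX (le_bot_iff.mp (hgood ▸
    le_inf (hXQ.trans (hQC.trans inf_le_left)) (hXQ.trans (Subgroup.le_centralizer_iff.mp h))))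
  by_cases h2 : t ∈ tau2 H
  · rcases hq13 with h | h
    · exact hnoc (centralizes_of_not_dvd h.2.2.2.1 hQ hQH hWH hWQ)
    · obtain ⟨F, hF, hQF, hWF⟩ := complement_pair hG d.hH hQH hWH hWQ
        (pi_of_pgroup hQ (π := {x | x ∉ sigma H}) h.2.1) (pi_of_card hW (π := {x | x ∉ sigma H}) htH)
      obtain ⟨B, hBF, hB, hB2, hWB⟩ := exists_line_two hG d.hH hF h2 hW hWF
      exact hnoc (Subgroup.le_centralizer_iff.mp ((tau23_centralizes hG d.hH hF h2 hBF hB hB2 hQ hQF (Or.inr h)).trans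
        (Subgroup.centralizer_le (SetLike.coe_subset_coe.mpr hWB))))
  · obtain ⟨x, hx, hxW⟩ := exists_gen hW
    have hr1 := rank_one_of_not_sigma hG d.hH htH h2
    have hTH : T ≤ H := hTE.trans (d.E_le hG)
    have h := cyclic_sylow_prime_action hG d.hH htH hr1 hT (rank_one_cyclic hG hr1 hT hTH) hTH (x := x)
      (hWT (hxW ▸ mem_zpowers x)) (fun e => by rw [e, orderOf_one] at hx; exact ht'.ne_one hx.symm)
    rw [centralizer_zpowers, hxW] at h
    exact hTmove (Subgroup.le_centralizer_iff.mp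
      ((le_inf ((d.P_core hG).trans inf_le_left) (Subgroup.le_centralizer_iff.mp hWP)).trans (h.le.trans inf_le_right)))

/-- All `τ₁(M)`-lines of the complement have fixed points on `M_σ`. -/
theorem Tau3Bad.tau1_bad (d : Tau3Bad p M H E P) {t : ℕ} [Fact t.Prime] (ht : t ∈ tau1 M) {W : Subgroup G}
    (hW : Nat.card W = t) (hWE : W ≤ E) : sigmaCore M ⊓ centralizer (W : Set G) ≠ ⊥ := by
  obtain ⟨s, hs', hs, U, hUE, hU, hUbad⟩ := d.exists_bad_tau1 hG
  haveI := Fact.mk hs'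
  have hEs := solvable_of_le d.hE.1 (solvable_of_ne_top hG d.hM.1)
  obtain ⟨E₁, hE₁, hWE₁⟩ := exists_hall_ge (π := tau1 M) hEs hWE (pi_of_card hW ht)
  obtain ⟨e, he, heU⟩ := CfsgLib.pi_le_conj_hall hEs hE₁ hUE (pi_of_card hU hs)
  haveI := cyclic_isCommutative (tau1_hall_cyclic hG d.hM d.hE hE₁)
  set U' := MulAut.conj e • U with hU'
  have hU'c : Nat.card U' = s := by rw [hU', CfsgLib.card_conj_smul, hU]
  have hsub := tau1_centralizer_le hG d.hM hs ht.2.1 hU'c (heU.trans (hE₁.1.trans d.hE.1)) hW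
    (hWE.trans d.hE.1) ((hWE₁.trans (Subgroup.le_centralizer E₁)).trans
      (Subgroup.centralizer_le (SetLike.coe_subset_coe.mpr heU)))
  intro h
  refine hUbad ((Subgroup.eq_bot_iff_forall _).mpr fun z hz => ?_)
  have hz' : e * z * e⁻¹ ∈ sigmaCore M ⊓ centralizer (U' : Set G) := by
    refine ⟨(Subgroup.mem_normalizer_iff.mp (le_normalizer_sigmaCore hG d.hM le_rfl (d.hE.1 he)) z).mp hz.1,
      fun u hu => ?_⟩
    rw [SetLike.mem_coe, hU', CfsgLib.mem_conj_smul_iff] at hu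
    calc u * (e * z * e⁻¹) = e * (e⁻¹ * u * e * z) * e⁻¹ := by group
      _ = e * (z * (e⁻¹ * u * e)) * e⁻¹ := by rw [hz.2 _ hu]
      _ = e * z * e⁻¹ * u := by group
  have h1 : e * z * e⁻¹ = 1 := Subgroup.mem_bot.mp (h ▸ (⟨hz'.1, hsub hz'⟩ :
    e * z * e⁻¹ ∈ sigmaCore M ⊓ centralizer (W : Set G)))
  exact conj_eq_one_iff.mp h1

/-- A `τ₁(M)`-line normalising a `τ₃`-line with fixed points centralises it. -/
theorem Tau3Bad.tau1_centralizes (d : Tau3Bad p M H E P) {t : ℕ} [Fact t.Prime] (ht : t ∈ tau1 M)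
    {W : Subgroup G} (hW : Nat.card W = t) (hWE : W ≤ E) : W ≤ centralizer (P : Set G) := by
  by_contra hmove
  have hWH : W ≤ H := hWE.trans (d.E_le hG)
  have hWM : W ≤ M := hWE.trans d.hE.1
  have hbadW := d.tau1_bad hG ht hW hWE
  have htH : t ∉ sigma H := fun h => d.fixed_not_le hG hW hWE hmove
    (((le_inf inf_le_left ((inf_le_right.trans (Subgroup.centralizer_le_normalizer _)).trans
      (bad_normalizer_le hG d.hM d.hH (Or.inl ht) hW hWM hbadW hWH h))).trans (d.meet_eq hG).le).trans inf_le_right)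
  obtain ⟨q, hq, hqd⟩ := Nat.exists_prime_and_dvd (fun h => d.bad (Subgroup.card_eq_one.mp h))
  haveI := Fact.mk hq
  obtain ⟨hq13, Q, X, hQC, -, hQ, hWQ, hXQ, hX, hNX, hQH⟩ := d.exists_sylow hG hWE hqd
  have hXH : X ≤ H := hXQ.trans hQH
  have hPX : P ≤ sigmaCore H ⊓ centralizer (X : Set G) := le_inf ((d.P_core hG).trans inf_le_left)
    (Subgroup.le_centralizer_iff.mp (hXQ.trans (hQC.trans inf_le_right)))
  rcases hq13 with hq1 | hq3
  · have hWX : W ≤ centralizer (X : Set G) := (centralizes_of_not_dvd hq1.2.2.2.1 hQ hQH hWH hWQ).trans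
      (Subgroup.centralizer_le (SetLike.coe_subset_coe.mpr hXQ))
    exact hmove (Subgroup.le_centralizer_iff.mp
      (hPX.trans (tau1_centralizer_le hG d.hH hq1 htH hX hXH hW hWH hWX)))
  obtain ⟨F, hF, hQF, hWF⟩ := complement_pair hG d.hH hQH hWH hWQ
    (pi_of_pgroup hQ (π := {x | x ∉ sigma H}) hq3.2.1) (pi_of_card hW (π := {x | x ∉ sigma H}) htH)
  have hXF : X ≤ F := hXQ.trans hQF
  have hFM : F ≤ M := (tau3_normalized hG d.hH hF hXF (pi_of_card hX hq3)).trans hNX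
  have ht2 : t ∉ tau2 H := fun h => by
    obtain ⟨B, hBF, hB, hB2⟩ := exists_elementary_in_complement hG d.hH hF h
    exact rank_two_not_le ht.2.2.2.2 hB hB2 (hBF.trans hFM)
  rcases tau1_or_tau3 hG d.hH htH (rank_one_of_not_sigma hG d.hH htH ht2) hW hWH with ht1 | ht3
  swap
  · obtain ⟨s, hs, -, T, hTF, hT, hTmove⟩ := exists_mover_of_derived hG d.hH hF ht3 hW hWF
    haveI := Fact.mk hs
    exact hTmove (centralizes_of_not_dvd ht.2.2.2.1 (isPGroup_of_card hW) hWM (hTF.trans hFM)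
      (hTF.trans (tau3_normalized hG d.hH hF hWF (pi_of_card hW ht3))))
  -- `W` has fixed points on `H_σ` as well
  obtain ⟨H₂, d₂⟩ := exists_tau3Bad hG d.hH hq3 hF hX hXF (fun e =>
    ne_bot_of_card d.cP (le_bot_iff.mp (e ▸ hPX)))
  have hbadH := d₂.tau1_bad hG ht1 hW hWF
  obtain ⟨L, hL, hNW⟩ := exists_coatom_ge (normalizer_ne_top hG (ne_bot_of_card hW)
    (pgroup_ne_top hG (isPGroup_of_card hW)))
  have htL : t ∈ sigma L := bad_sigma hG d.hM hL (Or.inl ht) hW hWM hbadW hNW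
  have hCW : centralizer (W : Set G) ≤ L := (Subgroup.centralizer_le_normalizer _).trans hNW
  have hWL : W ≤ L := Subgroup.le_normalizer.trans hNW
  have hLM : ∀ g : G, L ≠ MulAut.conj g • M := fun g e => ht.2.1 (by rwa [e, sigma_conj] at htL)
  have hLH : ∀ g : G, L ≠ MulAut.conj g • H := fun g e => htH (by rwa [e, sigma_conj] at htL)
  have hWc := pgroup_le_sigmaCore hG hL htL (isPGroup_of_card hW) hWL
  obtain ⟨r, hr', R, hR, hRc⟩ := exists_prime_subgroup hbadH
  obtain ⟨s, hs', U, hU, hUc⟩ := exists_prime_subgroup hbadW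
  haveI := Fact.mk hr'
  haveI := Fact.mk hs'
  obtain ⟨hrL, hNR⟩ := meet_data hG d.hH hL hLH
    (fun e => ne_bot_of_card hW (le_bot_iff.mp (e ▸ le_inf hWc hWH))) hRc
    (le_inf (hR.trans inf_le_left) ((hR.trans inf_le_right).trans hCW))
  obtain ⟨hsL, hNU⟩ := meet_data hG d.hM hL hLM
    (fun e => ne_bot_of_card hW (le_bot_iff.mp (e ▸ le_inf hWc hWM))) hUc
    (le_inf (hU.trans inf_le_left) ((hU.trans inf_le_right).trans hCW))
  have hrk : ∀ {x : ℕ}, x ∈ tau1 L ∨ x ∈ tau3 L → PRankLE x 1 L := fun h => h.elim (fun h => h.2.2.2.2) fun h => h.2.2.2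
  obtain ⟨c, hc, hcase⟩ := dichotomy (solvable_of_le hCW (solvable_of_ne_top hG hL.1))
    (pRankLE_mono hCW (hrk hrL)) (pRankLE_mono hCW (hrk hsL)) hRc (hR.trans inf_le_right) hUc (hU.trans inf_le_right)
  have hcC : MulAut.conj c • centralizer (W : Set G) = centralizer (W : Set G) := smul_eq_self_of_mem hc
  have hrH : r ∈ sigma H := (sigmaCore_hall hG d.hH).1.2.1 r hr' (hRc ▸ Subgroup.card_dvd_of_le (hR.trans inf_le_left))
  have hsH : s ∉ sigma H := fun h => by
    obtain ⟨g, hg⟩ := sigma_disjointness hG d.hM d.hH ((sigmaCore_hall hG d.hM).1.2.1 s hs'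
      (hUc ▸ Subgroup.card_dvd_of_le (hU.trans inf_le_left))) h
    exact d.nconj hG g hg
  obtain ⟨R', hR'M, hR'W, hR'c⟩ : ∃ R' : Subgroup G, R' ≤ M ∧ R' ≤ centralizer (W : Set G) ∧ Nat.card R' = r := by
    rcases hcase with h | h
    · exact ⟨MulAut.conj c • R, h.trans hNU, (conj_smul_mono (hR.trans inf_le_right) c).trans hcC.le,
        by rw [CfsgLib.card_conj_smul, hRc]⟩
    · refine ⟨MulAut.conj c⁻¹ • R, ?_, (conj_smul_mono (hR.trans inf_le_right) c⁻¹).trans
        (smul_eq_self_of_mem (inv_mem hc)).le, by rw [CfsgLib.card_conj_smul, hRc]⟩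
      have h2 := hR.trans (tau1_centralizer_le hG d.hH ht1 hsH hW hWH (R := MulAut.conj c • U)
        (by rw [CfsgLib.card_conj_smul, hUc]) (h.trans hNR) ((conj_smul_mono (hU.trans inf_le_right) c).trans hcC.le))
      intro y hy
      rw [CfsgLib.mem_conj_smul_iff, inv_inv] at hy
      refine hNU (Subgroup.centralizer_le_normalizer _ fun v hv => ?_)
      have h3 := h2 hy (c * v * c⁻¹) (by rw [SetLike.mem_coe, CfsgLib.mem_conj_smul_iff]; simpa [mul_assoc] using hv)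
      have e1 : c * v * c⁻¹ * (c * y * c⁻¹) = c * (v * y) * c⁻¹ := by group
      have e2 : c * y * c⁻¹ * (c * v * c⁻¹) = c * (y * v) * c⁻¹ := by group
      rw [e1, e2] at h3
      exact mul_left_cancel (mul_right_cancel h3)
  have hrM : r ∉ sigma M := fun h => by
    obtain ⟨g, hg⟩ := sigma_disjointness hG d.hM d.hH h hrH
    exact d.nconj hG g hg
  -- move `R'` into the complement
  obtain ⟨E', hE', hR'E', hWE'⟩ := complement_pair hG d.hM hR'M hWM
    ((Subgroup.le_centralizer_iff.mp hR'W).trans (Subgroup.centralizer_le_normalizer _))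
    (pi_of_card hR'c (π := {x | x ∉ sigma M}) hrM) (pi_of_card hW (π := {x | x ∉ sigma M}) ht.2.1)
  obtain ⟨m, hm, hmle⟩ := CfsgLib.pi_le_conj_hall (solvable_of_ne_top hG d.hM.1) (complement_hall hG d.hM d.hE)
    hE'.1 (complement_sigma' hG d.hM hE')
  have hEs := solvable_of_le d.hE.1 (solvable_of_ne_top hG d.hM.1)
  obtain ⟨E₁, hE₁, hWE₁⟩ := exists_hall_ge (π := tau1 M) hEs hWE (pi_of_card hW ht)
  obtain ⟨e, he, heW⟩ := CfsgLib.pi_le_conj_hall hEs hE₁ ((conj_smul_mono hWE' m).trans hmle)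
    (by rw [CfsgLib.card_conj_smul]; exact pi_of_card hW ht)
  rw [CfsgLib.conj_smul_mul] at heW
  have hn : MulAut.conj (e * m) • W = W := eq_of_card_cyclic (tau1_hall_cyclic hG d.hM d.hE hE₁) heW hWE₁
    (by rw [CfsgLib.card_conj_smul])
  have hemM : e * m ∈ M := mul_mem (d.hE.1 he) hm
  have hcent : e * m ∈ centralizer (W : Set G) := centralizes_of_not_dvd ht.2.2.2.1 (isPGroup_of_card hW) hWM
    (inf_le_left : M ⊓ normalizer (W : Set G) ≤ M) inf_le_right ⟨hemM, mem_normalizer_of_conj_smul hn⟩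
  set R'' := MulAut.conj (e * m) • R' with hR''
  have hR''E : R'' ≤ E := by
    rw [hR'', ← CfsgLib.conj_smul_mul]
    exact (conj_smul_mono ((conj_smul_mono hR'E' m).trans hmle) e).trans (smul_eq_self_of_mem he).le
  have hR''c : Nat.card R'' = r := by rw [hR'', CfsgLib.card_conj_smul, hR'c]
  have hR''W : R'' ≤ centralizer (W : Set G) :=
    (conj_smul_mono hR'W _).trans (smul_eq_self_of_mem hcent).le
  obtain ⟨-, hNR''⟩ := meet_data hG d.hH d.hM (not_conj_symm hG (d.nconj hG))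
    (fun e => d.bad (d.meet_eq hG ▸ e)) hR''c
    (le_inf (pgroup_le_sigmaCore hG d.hH hrH (isPGroup_of_card hR''c) (hR''E.trans (d.E_le hG))) (hR''E.trans d.hE.1))
  exact d.fixed_not_le hG hW hWE hmove (((le_inf inf_le_left
    (((tau1_centralizer_le hG d.hM ht hrM hW hWM hR''c (hR''E.trans d.hE.1) hR''W).trans
      (Subgroup.centralizer_le_normalizer _)).trans hNR'')).trans (d.meet_eq hG).le).trans inf_le_right)

theorem Tau3Bad.fixed_le (d : Tau3Bad p M H E P) {t : ℕ} [Fact t.Prime] {W : Subgroup G} (hW : Nat.card W = t)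
    (hWE : W ≤ E) : sigmaCore M ⊓ centralizer (P : Set G) ≤ centralizer (W : Set G) := by
  have hWH : W ≤ H := hWE.trans (d.E_le hG)
  have hWM : W ≤ M := hWE.trans d.hE.1
  by_cases htH : t ∈ sigma H
  · exact (d.meet_eq hG).ge.trans ((meet_commute hG d.hM d.hH (d.nconj hG)).trans (Subgroup.centralizer_le
      (SetLike.coe_subset_coe.mpr (le_inf (pgroup_le_sigmaCore hG d.hH htH (isPGroup_of_card hW) hWH) hWM))))
  refine le_centralizer_of_sylows fun q hq => ?_
  haveI := Fact.mk hq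
  by_cases hqd : q ∣ Nat.card ↥(sigmaCore M ⊓ centralizer (P : Set G))
  swap
  · exact ⟨⊥, bot_le, by rwa [Subgroup.relIndex_bot_left], bot_le⟩
  obtain ⟨hq13, Q, X, hQC, hQi, hQ, hWQ, hXQ, hX, -, hQH⟩ := d.exists_sylow hG hWE hqd
  refine ⟨Q, hQC, hQi, Subgroup.le_centralizer_iff.mp ?_⟩
  rcases hq13 with hq1 | hq3
  · exact centralizes_of_not_dvd hq1.2.2.2.1 hQ hQH hWH hWQ
  obtain ⟨F, hF, hQF, hWF⟩ := complement_pair hG d.hH hQH hWH hWQ
    (pi_of_pgroup hQ (π := {x | x ∉ sigma H}) hq3.2.1) (pi_of_card hW (π := {x | x ∉ sigma H}) htH)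
  by_cases h2 : t ∈ tau2 H
  · obtain ⟨B, hBF, hB, hB2, hWB⟩ := exists_line_two hG d.hH hF h2 hW hWF
    exact Subgroup.le_centralizer_iff.mp ((tau23_centralizes hG d.hH hF h2 hBF hB hB2 hQ hQF (Or.inr hq3)).trans
      (Subgroup.centralizer_le (SetLike.coe_subset_coe.mpr hWB)))
  rcases tau1_or_tau3 hG d.hH htH (rank_one_of_not_sigma hG d.hH htH h2) hW hWH with ht1 | ht3
  swap
  · obtain ⟨E₃, hWE₃, -, hd, -⟩ := exists_tau3_hall hG d.hH hF hWF (pi_of_card hW ht3)
    obtain ⟨E₄, hQE₄, -, hd', -⟩ := exists_tau3_hall hG d.hH hF hQF (pi_of_pgroup hQ hq3)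
    haveI := complement_derived_commutative hG d.hH hF
    exact ((hWE₃.trans hd).trans (Subgroup.le_centralizer (⁅F, F⁆ : Subgroup G))).trans
      (Subgroup.centralizer_le (SetLike.coe_subset_coe.mpr (hQE₄.trans hd')))
  obtain ⟨H₂, d₂⟩ := exists_tau3Bad hG d.hH hq3 hF hX (hXQ.trans hQF) fun e => ne_bot_of_card d.cP
    (le_bot_iff.mp (e ▸ le_inf ((d.P_core hG).trans inf_le_left)
      (Subgroup.le_centralizer_iff.mp (hXQ.trans (hQC.trans inf_le_right)))))
  have hWX := d₂.tau1_centralizes hG ht1 hW hWF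
  refine centralizes_cyclic hQ (rank_one_cyclic hG hq3.2.2.2 hQ hQH) hWQ ?_ hXQ (ne_bot_of_card hX) hWX
  exact Nat.coprime_of_dvd fun r hr h1 h2 => ht1.2.2.2.1 (by
    have e1 := card_dvd_of_pgroup hQ hr h1
    have e2 := card_dvd_of_pgroup (isPGroup_of_card hW) hr h2
    exact (e2.symm.trans e1) ▸ hq3.2.2.1)

/-- Every line of the complement has the same fixed points on `M_σ`. -/
theorem Tau3Bad.fixed_eq (d : Tau3Bad p M H E P) {t : ℕ} [Fact t.Prime] {W : Subgroup G} (hW : Nat.card W = t)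
    (hWE : W ≤ E) : sigmaCore M ⊓ centralizer (W : Set G) = sigmaCore M ⊓ centralizer (P : Set G) := by
  refine le_antisymm (le_inf inf_le_left ?_) (le_inf inf_le_left (d.fixed_le hG hW hWE))
  have ht : t ∉ sigma M := complement_sigma' hG d.hM d.hE t Fact.out (hW ▸ Subgroup.card_dvd_of_le hWE)
  rcases tau1_or_tau3 hG d.hM ht (rank_one_of_not_sigma hG d.hM ht (d.not_tau2 hG)) hW (hWE.trans d.hE.1) with h | h
  · exact tau1_centralizer_le hG d.hM h d.pM.2.1 hW (hWE.trans d.hE.1) d.cP (d.PE.trans d.hE.1)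
      (Subgroup.le_centralizer_iff.mp (d.tau1_centralizes hG h hW hWE))
  · obtain ⟨H', d'⟩ := exists_tau3Bad hG d.hM h d.hE hW hWE fun e =>
      d.bad (le_bot_iff.mp (e ▸ le_inf inf_le_left (d.fixed_le hG hW hWE)))
    exact d'.fixed_le hG d.cP d.PE

theorem Tau3Bad.prime_manner (d : Tau3Bad p M H E P) :
    sigmaCore M ⊓ centralizer (E : Set G) = sigmaCore M ⊓ centralizer (P : Set G) ∧
      ∀ e ∈ E, e ≠ 1 → sigmaCore M ⊓ centralizer ({e} : Set G) = sigmaCore M ⊓ centralizer (P : Set G) := by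
  have hle : sigmaCore M ⊓ centralizer (P : Set G) ≤ centralizer (E : Set G) := by
    rw [Subgroup.le_centralizer_iff]
    refine le_centralizer_of_sylows fun t ht => ?_
    haveI := Fact.mk ht
    obtain ⟨T, -, hTE, hT, hTi⟩ := exists_sylow_ge (p := t) (bot_le : (⊥ : Subgroup G) ≤ E) IsPGroup.of_bot
    refine ⟨T, hTE, hTi, ?_⟩
    by_cases hT1 : T = ⊥
    · exact hT1 ▸ bot_le
    obtain ⟨W, hWT, hW⟩ := exists_sub_card hT hT1
    have htM : t ∉ sigma M := complement_sigma' hG d.hM d.hE t ht (hW ▸ Subgroup.card_dvd_of_le (hWT.trans hTE))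
    obtain ⟨x, hx, hxW⟩ := exists_gen hW
    have hr1 := rank_one_of_not_sigma hG d.hM htM (d.not_tau2 hG)
    have hTM : T ≤ M := hTE.trans d.hE.1
    have h := cyclic_sylow_prime_action hG d.hM htM hr1 hT (rank_one_cyclic hG hr1 hT hTM) hTM (x := x)
      (hWT (hxW ▸ mem_zpowers x)) (fun e => by rw [e, orderOf_one] at hx; exact ht.ne_one hx.symm)
    rw [centralizer_zpowers, hxW, d.fixed_eq hG hW (hWT.trans hTE)] at h
    exact Subgroup.le_centralizer_iff.mp (h.le.trans inf_le_right)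
  refine ⟨le_antisymm (inf_le_inf_left _ (Subgroup.centralizer_le (SetLike.coe_subset_coe.mpr d.PE)))
    (le_inf inf_le_left hle), fun e he he1 => ?_⟩
  refine le_antisymm ?_ (le_inf inf_le_left (hle.trans (Subgroup.centralizer_le (Set.singleton_subset_iff.mpr he))))
  obtain ⟨t, ht, htd⟩ := Nat.exists_prime_and_dvd (fun h => he1 (orderOf_eq_one_iff.mp h))
  haveI := Fact.mk ht
  have hW : Nat.card (zpowers (e ^ (orderOf e / t))) = t := by
    rw [Nat.card_zpowers, orderOf_pow_orderOf_div (orderOf_pos e).ne' htd]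
  refine le_trans (inf_le_inf_left _ ?_) (d.fixed_eq hG hW (Subgroup.zpowers_le.mpr (pow_mem he _))).le
  rw [centralizer_zpowers e]
  exact Subgroup.centralizer_le (SetLike.coe_subset_coe.mpr (Subgroup.zpowers_le.mpr (pow_mem (mem_zpowers e) _)))

end CfsgLib.MinSimpleOdd
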