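import Cfsg.Agent.Lib.MinSimpleOdd.NonTI
import Cfsg.Agent.S1448
import Cfsg.Agent.S1453

/-!
The alternatives in the definition of type V (B–G 15.7 for `κ(M) ≠ ∅`).
-/

set_option autoImplicit false
set_option linter.unusedSectionVars false
set_option linter.style.haveILetI false
set_option maxHeartbeats 1000000

namespace CfsgLib.MinSimpleOdd

open Subgroup Cfsg
open scoped Pointwise commutatorElement IsMulCommutative

universe u
variable {G : Type u} [Group G] [Finite G]

/-- An element acting on a section of order `p` with all its nontrivial powers moving it has order dividing `p-1`. -/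
theorem dvd_pred_of_index {p : ℕ} [Fact p.Prime] {P C : Subgroup G} (hP : IsPGroup p P) (hCP : C ≤ P)
    (hidx : C.relIndex P = p) (hnC : P ≤ normalizer (C : Set G)) {k : G} (hkP : k ∈ normalizer (P : Set G))
    (hkC : k ∈ normalizer (C : Set G)) (hcop : (orderOf k).Coprime p)
    (hfix : ∀ j : ℕ, ¬ orderOf k ∣ j → P ⊓ centralizer ({k ^ j} : Set G) ≤ C) : orderOf k ∣ p - 1 := by
  by_contra hnd
  set X := P ⊔ zpowers k with hX
  have hPX : P ≤ X := le_sup_left
  have hkX : k ∈ X := Subgroup.mem_sup_right (mem_zpowers k)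
  haveI : (C.subgroupOf X).Normal := (Subgroup.normal_subgroupOf_iff_le_normalizer (hCP.trans hPX)).mpr
    (sup_le hnC (Subgroup.zpowers_le.mpr hkC))
  set f := QuotientGroup.mk' (C.subgroupOf X) with hf
  set Pb := (P.subgroupOf X).map f with hPb
  have hPbc : Nat.card Pb = p := by
    have h := Subgroup.relIndex_ker (K := P.subgroupOf X) f
    rw [hf, QuotientGroup.ker_mk', Subgroup.relIndex_subgroupOf hPX, hidx] at h
    exact h.symm
  have hkb : f ⟨k, hkX⟩ ∈ normalizer (Pb : Set (↥X ⧸ C.subgroupOf X)) := by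
    refine Subgroup.le_normalizer_map f ⟨⟨k, hkX⟩, ?_, rfl⟩
    refine Subgroup.mem_normalizer_iff.mpr fun y => ?_
    simp only [Subgroup.mem_subgroupOf, Subgroup.coe_mul, InvMemClass.coe_inv]
    exact Subgroup.mem_normalizer_iff.mp hkP y
  have ha := pow_pred_centralizes hPbc hkb
  rw [← map_pow] at ha
  set a : ↥X := ⟨k, hkX⟩ ^ (p - 1) with hadef
  have haG : (a : G) = k ^ (p - 1) := by rw [hadef, SubmonoidClass.coe_pow]
  have hle : (⁅P, zpowers (a : G)⁆ : Subgroup G) ≤ C := by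
    rw [Subgroup.commutator_le]
    intro y hy g hg
    obtain ⟨i, rfl⟩ := Subgroup.mem_zpowers_iff.mp hg
    have h1 : Commute (f ⟨y, hPX hy⟩) (f (a ^ i)) := by
      rw [map_zpow]
      exact (show Commute (f ⟨y, hPX hy⟩) (f a) from
        ha _ ⟨⟨y, hPX hy⟩, Subgroup.mem_subgroupOf.mpr hy, rfl⟩).zpow_right i
    have h2 : f ⁅(⟨y, hPX hy⟩ : ↥X), a ^ i⁆ = 1 := by
      rw [map_commutatorElement]
      exact commutatorElement_eq_one_iff_commute.mpr h1
    rw [hf, QuotientGroup.mk'_apply, QuotientGroup.eq_one_iff, Subgroup.mem_subgroupOf] at h2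
    simpa [commutatorElement_def] using h2
  have hakP : zpowers (a : G) ≤ normalizer (P : Set G) :=
    Subgroup.zpowers_le.mpr (haG ▸ Subgroup.pow_mem _ hkP _)
  have hcopA : (Nat.card (zpowers (a : G))).Coprime (Nat.card P) := by
    obtain ⟨n, hn⟩ := hP.exists_card_eq
    rw [hn, Nat.card_zpowers, haG]
    exact (Nat.Coprime.coprime_dvd_left (orderOf_pow_dvd _) hcop).pow_right n
  haveI := hP.isNilpotent
  have hsup := CfsgLib.coprime_commutator_sup hakP hcopA (Or.inr inferInstance)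
  have hPC : P ≤ C := hsup ▸ sup_le hle (by
    rw [← centralizer_zpowers, haG]
    exact hfix (p - 1) hnd)
  rw [Subgroup.relIndex_eq_one.mpr hPC] at hidx
  exact (Fact.out : p.Prime).ne_one hidx.symm

/-- An element of odd order acting on a plane without stable lines, with no scalar powers, has order dividing `p+1`. -/
theorem dvd_succ_of_plane {Γ : Type u} [Group Γ] [Finite Γ] {p : ℕ} [Fact p.Prime] {V : Subgroup Γ}
    [IsMulCommutative V] (hV2 : Nat.card V = p ^ 2) (hVp : ∀ v ∈ V, v ^ p = 1) {k : Γ}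
    (hk : k ∈ normalizer (V : Set Γ)) (hodd : Odd (orderOf k))
    (hno : ∀ L : Subgroup Γ, L ≤ V → Nat.card L = p → k ∉ normalizer (L : Set Γ))
    (hfaith : ∀ j : ℕ, k ^ j ∈ centralizer (V : Set Γ) → k ^ j = 1)
    (hsc : ∀ j b : ℕ, (∀ v ∈ V, k ^ j * v * (k ^ j)⁻¹ = v ^ b) → k ^ (2 * j) ∈ centralizer (V : Set Γ)) :
    orderOf k ∣ p + 1 := by
  have hpp : p.Prime := Fact.out
  have hzk : zpowers k ≤ normalizer (V : Set Γ) := Subgroup.zpowers_le.mpr hk
  have hmem : ∀ (g : zpowers k) (v : V) (n : ℕ), (g : Γ) * (v : Γ) ^ n * (g : Γ)⁻¹ ∈ V := fun g v n =>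
    (Subgroup.mem_normalizer_iff.mp (hzk g.2) _).mp (pow_mem v.2 n)
  have hord : ∀ v : V, v ≠ 1 → orderOf (v : Γ) = p := fun v hv =>
    orderOf_eq_prime (hVp _ v.2) fun e => hv (Subtype.ext e)
  let act : zpowers k × (ZMod p)ˣ → {v : V // v ≠ 1} → {v : V // v ≠ 1} := fun gi v =>
    ⟨⟨(gi.1 : Γ) * (v.1 : Γ) ^ (gi.2 : ZMod p).val * (gi.1 : Γ)⁻¹, hmem _ _ _⟩, fun e => by
      have h := congrArg Subtype.val e
      simp only [Subgroup.coe_one, conj_eq_one_iff] at h
      rw [← orderOf_dvd_iff_pow_eq_one, hord v.1 v.2, ← ZMod.natCast_eq_zero_iff, ZMod.natCast_zmod_val] at h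
      exact gi.2.ne_zero h⟩
  have hd : Nat.card (zpowers k × (ZMod p)ˣ) ∣ Nat.card {v : V // v ≠ 1} := by
    letI : MulAction (zpowers k × (ZMod p)ˣ) {v : V // v ≠ 1} :=
      { smul := act
        one_smul := fun v => by
          apply Subtype.ext; apply Subtype.ext
          show (1 : Γ) * (v.1 : Γ) ^ (((1 : (ZMod p)ˣ) : ZMod p)).val * (1 : Γ)⁻¹ = (v.1 : Γ)
          rw [Units.val_one, ZMod.val_one, pow_one, one_mul, inv_one, mul_one]
        mul_smul := fun g g' v => by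
          apply Subtype.ext; apply Subtype.ext
          show ((g.1 : Γ) * g'.1) * (v.1 : Γ) ^ (((g.2 * g'.2 : (ZMod p)ˣ)) : ZMod p).val * ((g.1 : Γ) * g'.1)⁻¹ =
            (g.1 : Γ) * ((g'.1 : Γ) * (v.1 : Γ) ^ (g'.2 : ZMod p).val * (g'.1 : Γ)⁻¹) ^ (g.2 : ZMod p).val * (g.1 : Γ)⁻¹
          rw [conj_pow, ← pow_mul, Units.val_mul, ZMod.val_mul, mul_comm (g'.2 : ZMod p).val,
            ← pow_eq_pow_mod _ (hVp _ v.1.2)]
          group }
    have hst : ∀ v : {v : V // v ≠ 1}, MulAction.stabilizer (zpowers k × (ZMod p)ˣ) v = ⊥ := fun v => by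
      rw [Subgroup.eq_bot_iff_forall]
      rintro ⟨g, i⟩ hgi
      have hgv : (g : Γ) * (v.1 : Γ) ^ (i : ZMod p).val * (g : Γ)⁻¹ = (v.1 : Γ) :=
        congrArg (fun w : {v : V // v ≠ 1} => ((w.1 : V) : Γ)) hgi
      obtain ⟨j, hj⟩ := (mem_powers_iff_mem_zpowers.mpr g.2 : (g : Γ) ∈ Submonoid.powers k)
      replace hj : k ^ j = (g : Γ) := hj
      set w := k * (v.1 : Γ) * k⁻¹ with hw
      have hwV : w ∈ V := (Subgroup.mem_normalizer_iff.mp hk _).mp v.1.2
      set a := (i : ZMod p).val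
      have hgw : (g : Γ) * w ^ a * (g : Γ)⁻¹ = w := by
        rw [hw, conj_pow, ← hj]
        have hc : k ^ j * k = k * k ^ j := (Commute.pow_self k j).eq
        calc k ^ j * (k * (v.1 : Γ) ^ a * k⁻¹) * (k ^ j)⁻¹
            = (k ^ j * k) * (v.1 : Γ) ^ a * (k ^ j * k)⁻¹ := by group
          _ = (k * k ^ j) * (v.1 : Γ) ^ a * (k * k ^ j)⁻¹ := by rw [hc]
          _ = k * ((g : Γ) * (v.1 : Γ) ^ a * (g : Γ)⁻¹) * k⁻¹ := by rw [← hj]; group
          _ = _ := by rw [hgv]
      have hLc : Nat.card (zpowers (v.1 : Γ)) = p := by rw [Nat.card_zpowers, hord v.1 v.2]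
      have hwv : w ∉ zpowers (v.1 : Γ) := fun h => hno _ (Subgroup.zpowers_le.mpr v.1.2) hLc
        (mem_normalizer_of_conj_smul (Subgroup.eq_of_le_of_card_ge (by
          rintro _ ⟨y, hy, rfl⟩
          obtain ⟨n, rfl⟩ := Subgroup.mem_zpowers_iff.mp hy
          show k * (v.1 : Γ) ^ n * k⁻¹ ∈ zpowers (v.1 : Γ)
          rw [← conj_zpow]
          exact Subgroup.zpow_mem _ h n) (by rw [CfsgLib.card_conj_smul])))
      have hgen : zpowers (v.1 : Γ) ⊔ zpowers w = V := by
        have hle : zpowers (v.1 : Γ) ⊔ zpowers w ≤ V :=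
          sup_le (Subgroup.zpowers_le.mpr v.1.2) (Subgroup.zpowers_le.mpr hwV)
        refine Subgroup.eq_of_le_of_card_ge hle ?_
        obtain ⟨m, hm⟩ := ((isPGroup_of_exp hVp).to_le hle).exists_card_eq
        have hlt : zpowers (v.1 : Γ) < zpowers (v.1 : Γ) ⊔ zpowers w := lt_of_le_of_ne le_sup_left fun e =>
          hwv (e.ge (Subgroup.mem_sup_right (mem_zpowers w)))
        have h0 : Nat.card (zpowers (v.1 : Γ)) < Nat.card ↥(zpowers (v.1 : Γ) ⊔ zpowers w) :=
          Set.Finite.card_lt_card (Set.toFinite _) hlt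
        rw [hLc, hm] at h0
        rw [hV2, hm]
        exact Nat.pow_le_pow_right hpp.pos ((Nat.pow_lt_pow_iff_right hpp.one_lt).mp (by rwa [pow_one]))
      let T : Subgroup Γ :=
        { carrier := {y | y ∈ V ∧ (g : Γ) * y ^ a * (g : Γ)⁻¹ = y}
          mul_mem' := fun {y z} hy hz => ⟨mul_mem hy.1 hz.1, by
            rw [(show Commute y z from congrArg Subtype.val (mul_comm' (⟨y, hy.1⟩ : V) ⟨z, hz.1⟩)).mul_pow]
            conv_rhs => rw [← hy.2, ← hz.2]
            group⟩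
          one_mem' := ⟨one_mem V, by simp⟩
          inv_mem' := fun {y} hy => ⟨inv_mem hy.1, by
            rw [inv_pow]
            conv_rhs => rw [← hy.2]
            group⟩ }
      have hT : V ≤ T := hgen ▸ sup_le (Subgroup.zpowers_le.mpr (show _ ∈ T from ⟨v.1.2, hgv⟩))
        (Subgroup.zpowers_le.mpr (show _ ∈ T from ⟨hwV, hgw⟩))
      set b := ((i⁻¹ : (ZMod p)ˣ) : ZMod p).val
      have hab : ∀ y ∈ V, y ^ (b * a) = y := fun y hy => by
        rcases eq_or_ne y 1 with e | e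
        · rw [e, one_pow]
        · have ho : orderOf y = p := orderOf_eq_prime (hVp y hy) e
          conv_rhs => rw [← pow_one y]
          rw [pow_eq_pow_iff_modEq, ho, ← ZMod.natCast_eq_natCast_iff]
          push_cast
          rw [ZMod.natCast_zmod_val, ZMod.natCast_zmod_val, Units.inv_mul]
      have hsj : k ^ (2 * j) ∈ centralizer (V : Set Γ) := hsc j b fun y hy => by
        have h1 := (hT (pow_mem hy b)).2
        rw [← pow_mul, hab y hy] at h1
        rw [hj]; exact h1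
      have hk2 := hfaith _ hsj
      have hkj : k ^ j = 1 := by
        rw [← orderOf_dvd_iff_pow_eq_one] at hk2 ⊢
        exact (Nat.Coprime.dvd_mul_left (Nat.coprime_two_right.mpr hodd)).mp hk2
      have hg1 : g = 1 := Subtype.ext (by rw [← hj, hkj]; rfl)
      have hi1 : i = 1 := by
        rw [hg1, Subgroup.coe_one, one_mul, inv_one, mul_one] at hgv
        conv_rhs at hgv => rw [← pow_one (v.1 : Γ)]
        rw [pow_eq_pow_iff_modEq, hord v.1 v.2, ← ZMod.natCast_eq_natCast_iff, ZMod.natCast_zmod_val,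
          Nat.cast_one] at hgv
        exact Units.ext hgv
      rw [hg1, hi1]; rfl
    rw [Nat.card_congr (MulAction.selfEquivOrbitsQuotientProd hst)]
    simp only [Nat.card_prod]
    exact dvd_mul_left _ _
  have hVc : Nat.card {v : V // v ≠ 1} = (p + 1) * (p - 1) := by
    classical
    haveI := Fintype.ofFinite V
    rw [Nat.card_eq_fintype_card, Fintype.card_subtype_compl, Fintype.card_subtype_eq,
      ← Nat.card_eq_fintype_card, hV2]
    have := Nat.sq_sub_sq p 1
    simpa using this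
  rw [hVc, Nat.card_prod, Nat.card_zpowers, Nat.card_eq_fintype_card (α := (ZMod p)ˣ), ZMod.card_units] at hd
  exact Nat.dvd_of_mul_dvd_mul_right (Nat.sub_pos_of_lt hpp.one_lt) hd

theorem commutator_pow_pow {y y' z : G} (h : y * y' = z * (y' * y)) (hzy : Commute z y) (hzy' : Commute z y')
    (a b : ℕ) : y ^ a * y' ^ b = z ^ (a * b) * (y' ^ b * y ^ a) := by
  have h1 : y * y' * y⁻¹ = z * y' := by rw [h]; group
  have h2 : y * y' ^ b * y⁻¹ = z ^ b * y' ^ b := by
    rw [← conj_pow, h1, hzy'.mul_pow]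
  induction a with
  | zero => simp
  | succ a ih =>
    calc y ^ (a + 1) * y' ^ b = y * (y ^ a * y' ^ b) := by rw [pow_succ', mul_assoc]
      _ = y * (z ^ (a * b) * (y' ^ b * y ^ a)) := by rw [ih]
      _ = z ^ (a * b) * (y * y' ^ b * y⁻¹) * y ^ (a + 1) := by
        rw [← mul_assoc y, (hzy.symm.pow_right (a * b)).eq, pow_succ' y]; group
      _ = z ^ ((a + 1) * b) * (y' ^ b * y ^ (a + 1)) := by
        rw [h2, add_one_mul, pow_add]; group

variable {M N : Subgroup G} {p : ℕ} {x : G} {K U : Subgroup G}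

/-- B–G 15.7 for `K ≠ 1`, `U = 1`. -/
theorem NonTIData.typeV_cases (d : NonTIData M p x N) (hG : IsMinSimpleOddOrder G)
    (h : IsSigmaDecomposition M K U) (hK1 : K ≠ ⊥) (hU : U = ⊥) :
    p ∣ Nat.card (fittingHallOf M) ∧ IsCyclic (pPrimeCore p (fittingHallOf M)) ∧
      (Nat.card K ∣ p - 1 ∨ (Nat.card (pCore p (fittingHallOf M)) = p ^ 3 ∧ Nat.card K ∣ p + 1)) := by
  haveI := Fact.mk d.hp
  have hM := d.hM
  have hH := fittingHallOf_eq hG hM d.nil
  obtain ⟨kd, hs⟩ := decomp_split hG hM h hK1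
  have hE : IsComplIn K (sigmaCore M) M := by
    have := hs.hE
    rwa [hU, bot_sup_eq] at this
  obtain ⟨hfix, hcomm, -⟩ := Cfsg.Agent.S1426.result hG M hM K hE
  set S := sigmaCore M with hS
  have hfixle : fixedCore M K ≤ ⁅S, S⁆ := hfix
  have hna : ¬ IsMulCommutative S := fun hc => kd.fixed_ne (le_bot_iff.mp (hfixle.trans
    (Subgroup.commutator_eq_bot_iff_le_centralizer.mpr (Subgroup.le_centralizer S)).le))
  obtain ⟨P, hPs, hP, hPi, hPn, hmax⟩ := exists_core_sylow hG hM d.nil p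
  obtain ⟨hxP, hPna, hxc⟩ := d.sylow_facts hG hna hPs hP hPi hmax
  obtain ⟨Z, hZP, hZc, hZcent, hZn, hxZ, hZuniq⟩ := d.central_line hG hna hPs hP hPi hPn hmax
  have hKM : K ≤ M := h.hall.1
  have hSM : S ≤ M := piCoreOf_le _ _
  refine ⟨?_, d.cyclic_pPrimeCore hG hna, ?_⟩
  · rw [hH]
    exact hZc ▸ Subgroup.card_dvd_of_le (hZP.trans hPs)
  set O := piCoreOf {q | q ≠ p} S with hO
  have hOS : O ≤ S := piCoreOf_le _ _
  have hSO : S ≤ normalizer (O : Set G) := le_normalizer_piCoreOf_self _ _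
  have hKO : K ≤ normalizer (O : Set G) :=
    (hKM.trans (le_normalizer_sigmaCore hG hM le_rfl)).trans (normalizer_le_normalizer_piCoreOf _ _)
  have hPO : P ⊓ O = ⊥ := disjoint_iff.mp (Subgroup.disjoint_of_coprime_natCard
    (Nat.coprime_of_dvd fun r hr h1 h2 => pi_piCoreOf _ _ r hr h2 (card_dvd_of_pgroup hP hr h1)))
  have hgen : S ≤ P ⊔ O := le_of_sylows fun r hr => by
    haveI := Fact.mk hr
    by_cases hrp : r = p
    · subst hrp; exact ⟨P, hPs, hPi, le_sup_left⟩
    obtain ⟨R, hRS, hR, hRi, hRn, -⟩ := exists_core_sylow hG hM d.nil r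
    refine ⟨R, hRS, hRi, le_sup_of_le_right (le_piCoreOf hRS (hSM.trans hRn) fun a ha hd => ?_)⟩
    show a ≠ p
    rw [card_dvd_of_pgroup hR ha hd]
    exact hrp
  have hproj : ∀ W : Subgroup G, W ≤ P → ∀ y ∈ P, y ∈ O ⊔ W → y ∈ W := fun W hW y hy hyW => by
    obtain ⟨o, ho, w, hw, rfl⟩ := CfsgLib.mem_sup_of_le_normalizer ((hW.trans hPs).trans hSO) hyW
    have : o ∈ P ⊓ O := Subgroup.mem_inf.mpr ⟨by simpa using mul_mem hy (inv_mem (hW hw)), ho⟩
    rw [hPO, Subgroup.mem_bot] at this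
    rwa [this, one_mul]
  have hfixP : P ⊓ fixedCore M K ≤ ⁅P, P⁆ := fun y hy =>
    hproj _ (Subgroup.commutator_le_self P) y (Subgroup.mem_inf.mp hy).1
      (derived_le_of_sup hSO hOS hPs (by rwa [sup_comm] at hgen) (hfixle (Subgroup.mem_inf.mp hy).2))
  have hKP : K ≤ normalizer (P : Set G) := hKM.trans hPn
  have hPK : ⁅P, K⁆ = P := by
    refine le_antisymm (CfsgLib.commutator_le_of_le_normalizer hKP) fun y hy => ?_
    refine hproj _ (CfsgLib.commutator_le_of_le_normalizer hKP) y hy ?_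
    have hall : (⁅S, K⁆ : Subgroup G) ≤ O ⊔ ⁅P, K⁆ := by
      rw [Subgroup.commutator_le]
      intro s hsS k hk
      obtain ⟨o, ho, a, ha, rfl⟩ := CfsgLib.mem_sup_of_le_normalizer (hPs.trans hSO)
        (by rw [sup_comm]; exact hgen hsS)
      have e : ⁅o * a, k⁆ = o * ⁅a, k⁆ * (k * o⁻¹ * k⁻¹) := by simp only [commutatorElement_def]; group
      rw [e]
      exact mul_mem (mul_mem (Subgroup.mem_sup_left ho) (Subgroup.mem_sup_right
        (Subgroup.commutator_mem_commutator ha hk)))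
        (Subgroup.mem_sup_left ((Subgroup.mem_normalizer_iff.mp (hKO hk) _).mp (inv_mem ho)))
    exact hall (hcomm.ge (hPs hy))
  obtain ⟨k, hkK⟩ := exists_zpowers_eq (kappaHall_cyclic hG hM h.hall)
  have hkm : k ∈ K := hkK ▸ mem_zpowers k
  have hcardK : Nat.card K = orderOf k := by rw [← hkK, Nat.card_zpowers]
  have hkp : (orderOf k).Coprime p := ((Nat.Prime.coprime_iff_not_dvd d.hp).mpr fun hd =>
    (h.hall.2.1 p d.hp (hcardK ▸ hd)).2.2.1 ((sigmaCore_hall hG hM).1.2.1 p d.hp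
      (hZc ▸ Subgroup.card_dvd_of_le (hZP.trans hPs)))).symm
  have hfixj : ∀ j : ℕ, ¬ orderOf k ∣ j → P ⊓ centralizer ({k ^ j} : Set G) ≤ P ⊓ fixedCore M K :=
    fun j hj => le_inf inf_le_left (le_trans (inf_le_inf_right _ hPs)
      (kd.prime _ (K.pow_mem hkm j) fun e => hj (orderOf_dvd_of_pow_eq_one e)).le)
  rw [hcardK]
  by_cases hr : PRankLE p 2 P
  swap
  · left
    have hp2 : p ≠ 2 := p_ne_two hG.1 hP fun e => hPna (e ▸ inferInstance)
    obtain ⟨A, hAe, hA2, hAmax⟩ : ∃ A : Subgroup P, IsElementaryAbelian p A ∧ Nat.card A = p ^ 2 ∧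
        ∀ B : Subgroup P, IsElementaryAbelian p B → A ≤ B → B = A := by
      obtain ⟨z, hz, hzZ⟩ := exists_gen hZc
      have hzx : Commute x z := (hZcent hxP z (hzZ ▸ mem_zpowers z)).symm
      have hXe : IsElementaryAbelian p (zpowers x) := elementary_of_card_prime (by rw [Nat.card_zpowers, d.ord])
      have hW := elementary_sup_zpowers (y := z) hXe (hz ▸ pow_orderOf_eq_one z) fun w hw => by
        obtain ⟨i, rfl⟩ := Subgroup.mem_zpowers_iff.mp hw
        exact (hzx.zpow_left i).eq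
      set W := zpowers x ⊔ zpowers z
      have hWP : W ≤ P := sup_le (Subgroup.zpowers_le.mpr hxP) (hzZ ▸ hZP)
      have hWN : W ≤ N := (sup_le (Subgroup.zpowers_le.mpr (Subgroup.mem_centralizer_singleton_iff.mpr rfl))
        (Subgroup.zpowers_le.mpr (Subgroup.mem_centralizer_singleton_iff.mpr hzx.symm.eq))).trans d.sov.le
      have hxz : x ∉ zpowers z := by rw [hzZ]; exact hxZ
      have hW2 : Nat.card W = p ^ 2 := by
        obtain ⟨n, hn⟩ := (isPGroup_of_exp hW.2).exists_card_eq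
        have hlt : zpowers z < W := lt_of_le_of_ne le_sup_right fun e =>
          hxz (e.ge (Subgroup.mem_sup_left (mem_zpowers x)))
        have h0 : Nat.card (zpowers z) < Nat.card W := Set.Finite.card_lt_card (Set.toFinite _) hlt
        rw [Nat.card_zpowers, hz, hn] at h0
        have hle := pRankLE_mono (r := p) hWN d.p_tau2.2.2.1 ⊤
          ⟨⟨fun a b => Subtype.ext (hW.1.is_comm.comm (a : W) b)⟩⟩ (fun a _ => Subtype.ext (hW.2 a a.2))
        rw [Subgroup.card_top, hn] at hle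
        have h1 : 1 < n := (Nat.pow_lt_pow_iff_right d.hp.one_lt).mp (by rwa [pow_one])
        have h2 : n ≤ 2 := (Nat.pow_le_pow_iff_right d.hp.one_lt).mp hle
        rw [hn, show n = 2 by omega]
      refine ⟨W.subgroupOf P, ⟨⟨⟨fun a b => Subtype.ext (Subtype.ext ?_)⟩⟩, fun a ha => Subtype.ext (hW.2 _ ha)⟩,
        by rw [Nat.card_congr (Subgroup.subgroupOfEquivOfLe hWP).toEquiv, hW2], fun B hB hWB => ?_⟩
      · show ((a : P) : G) * ((b : P) : G) = ((b : P) : G) * ((a : P) : G)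
        exact congrArg Subtype.val (hW.1.is_comm.comm ⟨((a : P) : G), Subgroup.mem_subgroupOf.mp a.2⟩
          ⟨((b : P) : G), Subgroup.mem_subgroupOf.mp b.2⟩)
      · have hle : W ≤ B.map P.subtype := fun y hy => ⟨⟨y, hWP hy⟩, hWB (Subgroup.mem_subgroupOf.mpr hy), rfl⟩
        have hBe : IsElementaryAbelian p (B.map P.subtype) := by
          refine ⟨⟨⟨?_⟩⟩, ?_⟩
          · rintro ⟨_, a, ha, rfl⟩ ⟨_, b, hb, rfl⟩
            exact Subtype.ext (congrArg (fun t : B => ((t : P) : G)) (hB.1.is_comm.comm ⟨a, ha⟩ ⟨b, hb⟩))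
          · rintro _ ⟨a, ha, rfl⟩
            rw [← map_pow, hB.2 a ha, map_one]
        have he := (Cfsg.Agent.S1408.result hG N d.sov.hN p d.p_tau2.2.1 d.p_tau2.2.2.1 d.p_tau2.2.2.2).2
          W hWN hW hW2 _ hBe hle
        rw [← he, Subgroup.subgroupOf, Subgroup.comap_map_eq_self_of_injective P.subtype_injective]
    obtain ⟨-, -, -, hchar, hidx⟩ := Cfsg.Agent.S1453.result p hp2 hP hr A hAe hA2 hAmax
    set C0 := Subgroup.centralizer ((Subgroup.closure {x : P | x ∈ Subgroup.upperCentralSeries P 2 ∧ x ^ p = 1} :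
      Subgroup P) : Set P) with hC0
    haveI := hchar
    have hrel : (C0.map P.subtype).relIndex P = p := by
      rw [Subgroup.relIndex, Subgroup.subgroupOf, Subgroup.comap_map_eq_self_of_injective P.subtype_injective, hidx]
    obtain ⟨hn1, hn2⟩ := CfsgLib.le_normalizer_map_characteristic hKP C0
    refine dvd_pred_of_index hP (Subgroup.map_subtype_le _) hrel hn2 (hKP hkm) (hn1 hkm) hkp fun j hj => ?_
    refine ((hfixj j hj).trans hfixP).trans ?_
    haveI : (C0.subgroupOf ⊤).Normal := inferInstance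
    haveI hC0n : C0.Normal := inferInstance
    have hq : commutator P ≤ C0 := by
      refine Subgroup.Normal.quotient_commutative_iff_commutator_le.mp ?_
      haveI : IsCyclic (P ⧸ C0) := isCyclic_of_prime_card (p := p) (by rw [← Subgroup.index_eq_card, hidx])
      exact IsCyclic.commutative
    refine le_trans (le_of_eq ?_) (Subgroup.map_mono hq)
    rw [_root_.commutator_def, Subgroup.map_commutator, ← MonoidHom.range_eq_map, Subgroup.range_subtype]
  by_cases hfaith : ∀ j : ℕ, ¬ orderOf k ∣ j → Z ⊓ centralizer ({k ^ j} : Set G) = ⊥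
  · left
    by_contra hnd
    have hz := pow_pred_centralizes hZc ((hKM.trans hZn) hkm)
    refine ne_bot_of_card hZc (le_bot_iff.mp (hfaith (p - 1) hnd ▸ le_inf le_rfl ?_))
    rw [centralizer_zpowers, Subgroup.le_centralizer_iff]
    exact Subgroup.zpowers_le.mpr hz
  push Not at hfaith
  obtain ⟨j₀, hj₀, hne⟩ := hfaith
  have hZfix : Z ≤ fixedCore M K := by
    have hle : Z ⊓ centralizer ({k ^ j₀} : Set G) ≤ fixedCore M K :=
      ((inf_le_inf_right _ hZP).trans (hfixj j₀ hj₀)).trans inf_le_right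
    have he : Z ⊓ centralizer ({k ^ j₀} : Set G) = Z := by
      refine Subgroup.eq_of_le_of_card_ge inf_le_left ?_
      obtain ⟨W, hW, hWc⟩ := exists_sub_card ((isPGroup_of_card hZc).to_le inf_le_left) hne
      rw [hZc, ← hWc]
      exact Nat.le_of_dvd Nat.card_pos (Subgroup.card_dvd_of_le hW)
    exact he.ge.trans hle
  have hp2 : p ≠ 2 := p_ne_two hG.1 hP fun e => hPna (e ▸ inferInstance)
  obtain ⟨-, hab | ⟨R₁, R₂, hR, hR12, hR1na, hR1c, hR1e, hR2c, hΩ⟩⟩ := Cfsg.Agent.S1448.result p hp2 P K hP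
    (fun e => hPna (e ▸ inferInstance)) hr hKP (by rw [hcardK]; exact hkp)
    (Odd.of_dvd_nat hG.1 (Subgroup.card_subgroup_dvd_card K)) hPK
  · exact absurd hab hPna
  have hR1P : R₁ ≤ P := hR ▸ le_sup_left
  have hR2P : R₂ ≤ P := hR ▸ le_sup_right
  haveI := cyclic_isCommutative hR2c
  have hR2cent : R₂ ≤ centralizer (P : Set G) := by
    rw [Subgroup.le_centralizer_iff, ← hR]
    exact sup_le (fun a ha b hb => (hR12 a ha b hb).symm) (Subgroup.le_centralizer R₂)
  set Zc : Subgroup G := P ⊓ centralizer (P : Set G) with hZcdef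
  haveI hZcc : IsMulCommutative Zc := ⟨⟨fun a b =>
    Subtype.ext ((Subgroup.mem_inf.mp b.2).2 a (Subgroup.mem_inf.mp a.2).1)⟩⟩
  have hKZ : K ≤ centralizer (Zc : Set G) := by
    refine Cfsg.Agent.S0056.result K Zc (fun g hg => mem_normalizer_of_conj_smul (by
        rw [hZcdef, Subgroup.smul_inf, conj_smul_eq_of_mem_normalizer (hKP hg),
          conj_smul_eq_of_mem_normalizer (normalizer_le_normalizer_centralizer P (hKP hg))])) ?_ fun v hv hvp a ha => ?_
    · obtain ⟨n, hn⟩ := hP.exists_card_eq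
      rw [hcardK]
      exact Nat.Coprime.coprime_dvd_right (Subgroup.card_dvd_of_le inf_le_left) (hn ▸ hkp.pow_right n)
    · obtain ⟨hvP, hvc⟩ := Subgroup.mem_inf.mp hv
      have hvo : orderOf v = p := by
        refine card_dvd_of_pgroup hP hvp ?_
        exact Subgroup.orderOf_dvd_natCard _ hvP
      have hvZ : zpowers v = Z := hZuniq _ (Subgroup.zpowers_le.mpr hvP) (by rw [Nat.card_zpowers, hvo])
        (Subgroup.le_centralizer_iff.mp (Subgroup.zpowers_le.mpr hvc))
      exact ((Subgroup.mem_inf.mp (hZfix (hvZ ▸ mem_zpowers v))).2 a ha)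
  have hR2d : R₂ ≤ ⁅P, P⁆ := fun y hy => hfixP (Subgroup.mem_inf.mpr ⟨hR2P hy, Subgroup.mem_inf.mpr
    ⟨hPs (hR2P hy), Subgroup.le_centralizer_iff.mp hKZ (Subgroup.mem_inf.mpr ⟨hR2P hy, hR2cent hy⟩)⟩⟩)
  have hPR : P = R₁ := by
    refine le_antisymm ?_ hR1P
    have hnR : P ≤ normalizer (R₁ : Set G) := hR ▸ sup_le Subgroup.le_normalizer
      ((hR2cent.trans (Subgroup.centralizer_le (SetLike.coe_subset_coe.mpr hR1P))).trans
        (Subgroup.centralizer_le_normalizer _))
    have hd := derived_le_of_sup hnR hR1P hR2P hR.ge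
    rw [(Subgroup.commutator_eq_bot_iff_le_centralizer (H₁ := R₂) (H₂ := R₂)).mpr (Subgroup.le_centralizer R₂),
      sup_bot_eq] at hd
    rw [← hR]
    exact sup_le le_rfl (hR2d.trans hd)
  subst hPR
  have hcore : Nat.card (pCore p (fittingHallOf M)) = p ^ 3 := by
    rw [← hR1c]
    have hle : (P.subgroupOf (fittingHallOf M)) = pCore p (fittingHallOf M) := by
      haveI : (P.subgroupOf (fittingHallOf M)).Normal := (Subgroup.normal_subgroupOf_iff_le_normalizer
        (hH ▸ hPs)).mpr ((fittingHallOf_le M).trans hPn)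
      refine le_antisymm (CfsgLib.le_pCore hP.comap_subtype) fun y hy => ?_
      refine Subgroup.mem_subgroupOf.mpr (hmax ((pCore p (fittingHallOf M)).map (fittingHallOf M).subtype)
        ((Subgroup.map_subtype_le _).trans hH.le) ((CfsgLib.isPGroup_pCore p).map _) ⟨y, hy, rfl⟩)
    rw [← hle, Nat.card_congr (Subgroup.subgroupOfEquivOfLe (hH ▸ hPs)).toEquiv]
  by_cases hno : ∀ L : Subgroup G, Z ≤ L → L ≤ P → Nat.card L = p ^ 2 → k ∉ normalizer (L : Set G)
  swap
  · left
    push Not at hno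
    obtain ⟨L, hZL, hLP, hLc, hkL⟩ := hno
    have hLi : L.relIndex P = p := by
      refine Nat.eq_of_mul_eq_mul_left (Nat.card_pos (α := L)) ?_
      rw [← Subgroup.relIndex_bot_left L, Subgroup.relIndex_mul_relIndex _ _ _ bot_le hLP,
        Subgroup.relIndex_bot_left, Subgroup.relIndex_bot_left, hR1c, hLc]
      ring
    have hLn : (L.subgroupOf P).Normal := Subgroup.normal_of_index_eq_minFac_card (by
      rw [← Subgroup.relIndex, hLi, hR1c, Nat.pow_minFac (by norm_num), d.hp.minFac_eq])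
    refine dvd_pred_of_index hP hLP hLi ((Subgroup.normal_subgroupOf_iff_le_normalizer hLP).mp hLn) (hKP hkm) hkL
      hkp fun j hj => ((hfixj j hj).trans hfixP).trans ?_
    haveI := hLn
    have hq : commutator P ≤ L.subgroupOf P := by
      refine Subgroup.Normal.quotient_commutative_iff_commutator_le.mp ?_
      haveI : IsCyclic (P ⧸ L.subgroupOf P) :=
        isCyclic_of_prime_card (p := p) (by rw [← Subgroup.index_eq_card, ← Subgroup.relIndex, hLi])
      exact IsCyclic.commutative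
    intro y hy
    have h2 : y ∈ (commutator P).map P.subtype := by
      rwa [_root_.commutator_def, Subgroup.map_commutator, ← MonoidHom.range_eq_map, Subgroup.range_subtype]
    obtain ⟨w, hw, rfl⟩ := h2
    exact Subgroup.mem_subgroupOf.mp (hq hw)
  right
  refine ⟨hcore, ?_⟩
  set X := P ⊔ zpowers k with hX
  have hPX : P ≤ X := le_sup_left
  have hkX : k ∈ X := Subgroup.mem_sup_right (mem_zpowers k)
  have hZX : Z ≤ X := hZP.trans hPX
  haveI : (Z.subgroupOf X).Normal := (Subgroup.normal_subgroupOf_iff_le_normalizer hZX).mpr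
    ((sup_le (hPs.trans hSM) (Subgroup.zpowers_le.mpr (hKM hkm))).trans hZn)
  set f := QuotientGroup.mk' (Z.subgroupOf X) with hf
  set V := (P.subgroupOf X).map f with hV
  have hZi : Z.relIndex P = p ^ 2 := by
    refine Nat.eq_of_mul_eq_mul_left (Nat.card_pos (α := Z)) ?_
    rw [← Subgroup.relIndex_bot_left Z, Subgroup.relIndex_mul_relIndex _ _ _ bot_le hZP,
      Subgroup.relIndex_bot_left, Subgroup.relIndex_bot_left, hR1c, hZc]
    ring
  have hV2 : Nat.card V = p ^ 2 := by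
    have h := Subgroup.relIndex_ker (K := P.subgroupOf X) f
    rw [hf, QuotientGroup.ker_mk', Subgroup.relIndex_subgroupOf hPX, hZi] at h
    exact h.symm
  haveI hVc : IsMulCommutative V := ⟨⟨fun a b => (IsPGroup.commutative_of_card_eq_prime_sq hV2) a b⟩⟩
  have hfker : ∀ y : X, f y = 1 ↔ (y : G) ∈ Z := fun y => by
    rw [hf, QuotientGroup.mk'_apply, QuotientGroup.eq_one_iff, Subgroup.mem_subgroupOf]
  have hVp : ∀ v ∈ V, v ^ p = 1 := by
    rintro _ ⟨y, hy, rfl⟩
    have : y ^ p = 1 := Subtype.ext (by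
      rw [SubmonoidClass.coe_pow, Subgroup.coe_one]
      exact congrArg Subtype.val (hR1e ▸ Monoid.pow_exponent_eq_one (⟨(y : G), Subgroup.mem_subgroupOf.mp hy⟩ : P)))
    rw [← map_pow, this, map_one]
  set kb := f ⟨k, hkX⟩ with hkb
  have hkbo : orderOf kb = orderOf k := by
    refine Nat.dvd_antisymm (by rw [← Subgroup.orderOf_mk (ha := hkX)]; exact orderOf_map_dvd f _) ?_
    refine orderOf_dvd_of_pow_eq_one ?_
    have h1 : (k ^ orderOf kb) ∈ Z := by
      have := (hfker (⟨k, hkX⟩ ^ orderOf kb)).mp (by rw [map_pow, ← hkb, pow_orderOf_eq_one])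
      simpa using this
    have h2 : orderOf (k ^ orderOf kb) ∣ p := hZc ▸ Subgroup.orderOf_dvd_natCard _ h1
    exact orderOf_eq_one_iff.mp (Nat.eq_one_of_dvd_coprimes hkp (orderOf_pow_dvd _) h2)
  have hkbN : kb ∈ normalizer (V : Set (↥X ⧸ Z.subgroupOf X)) := by
    refine Subgroup.le_normalizer_map f ⟨⟨k, hkX⟩, ?_, rfl⟩
    refine Subgroup.mem_normalizer_iff.mpr fun y => ?_
    simp only [Subgroup.mem_subgroupOf, Subgroup.coe_mul, InvMemClass.coe_inv]
    exact Subgroup.mem_normalizer_iff.mp (hKP hkm) y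
  have hstab : ∀ j : ℕ, kb ^ j ∈ centralizer (V : Set (↥X ⧸ Z.subgroupOf X)) → kb ^ j = 1 := fun j hj => by
    rw [← orderOf_dvd_iff_pow_eq_one, hkbo]
    by_contra hnd
    set a := k ^ j with ha
    have hle : (⁅P, zpowers a⁆ : Subgroup G) ≤ Z := by
      rw [Subgroup.commutator_le]
      intro y hy g hg
      obtain ⟨i, rfl⟩ := Subgroup.mem_zpowers_iff.mp hg
      have h1 : Commute (f ⟨y, hPX hy⟩) (f ((⟨k, hkX⟩ ^ j) ^ i)) := by
        rw [map_zpow, map_pow]
        exact (show Commute (f ⟨y, hPX hy⟩) (kb ^ j) from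
          hj _ ⟨⟨y, hPX hy⟩, Subgroup.mem_subgroupOf.mpr hy, rfl⟩).zpow_right i
      have h2 : f ⁅(⟨y, hPX hy⟩ : ↥X), (⟨k, hkX⟩ ^ j) ^ i⁆ = 1 := by
        rw [map_commutatorElement]
        exact commutatorElement_eq_one_iff_commute.mpr h1
      rw [hfker] at h2
      simpa [commutatorElement_def, ha] using h2
    haveI := hP.isNilpotent
    have hcopA : (Nat.card (zpowers a)).Coprime (Nat.card P) := by
      obtain ⟨n, hn⟩ := hP.exists_card_eq
      rw [hn, Nat.card_zpowers]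
      exact (Nat.Coprime.coprime_dvd_left (orderOf_pow_dvd _) hkp).pow_right n
    have hsup := CfsgLib.coprime_commutator_sup (Subgroup.zpowers_le.mpr (hKP (K.pow_mem hkm j))) hcopA
      (Or.inr inferInstance)
    refine hPna ?_
    have hPf : P ≤ fixedCore M K := hsup ▸ sup_le (hle.trans hZfix) (by
      rw [← centralizer_zpowers]
      exact (hfixj j hnd).trans inf_le_right)
    haveI := cyclic_isCommutative (kd.cyclic_fixed hG)
    refine ⟨⟨fun a b => Subtype.ext ?_⟩⟩
    show (a : G) * b = b * a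
    exact congrArg Subtype.val (mul_comm' (⟨a.1, hPf a.2⟩ : fixedCore M K) ⟨b.1, hPf b.2⟩)
  rw [← hkbo]
  refine dvd_succ_of_plane hV2 hVp hkbN (hkbo.symm ▸ Odd.of_dvd_nat hG.1 (orderOf_dvd_natCard k)) ?_ hstab ?_
  · intro L hLV hLc hkL
    set L' := (L.comap f).map X.subtype with hL'
    have hLP : L' ≤ P := by
      rintro _ ⟨y, hy, rfl⟩
      obtain ⟨w, hw, hwe⟩ := hLV hy
      have h3 : ((w⁻¹ * y : X) : G) ∈ Z := (hfker _).mp (by rw [map_mul, map_inv, hwe, inv_mul_cancel])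
      have := mul_mem (Subgroup.mem_subgroupOf.mp hw) (hZP h3)
      simpa using this
    refine hno L' (fun z hz => ⟨⟨z, hZX hz⟩, show f ⟨z, hZX hz⟩ ∈ L by rw [(hfker _).mpr hz]; exact one_mem L, rfl⟩)
      hLP ?_ ?_
    · rw [hL', Subgroup.card_map_of_injective X.subtype_injective]
      have h1 := Subgroup.relIndex_ker (K := L.comap f) f
      rw [hf, QuotientGroup.ker_mk', Subgroup.map_comap_eq_self_of_surjective (QuotientGroup.mk'_surjective _),
        hLc] at h1
      have hZle : Z.subgroupOf X ≤ L.comap f := fun y hy => by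
        show f y ∈ L
        rw [(hfker y).mpr (Subgroup.mem_subgroupOf.mp hy)]
        exact one_mem L
      rw [← Subgroup.relIndex_bot_left (L.comap f), ← Subgroup.relIndex_mul_relIndex _ _ _ bot_le hZle,
        Subgroup.relIndex_bot_left, h1, Nat.card_congr (Subgroup.subgroupOfEquivOfLe hZX).toEquiv, hZc]
      ring
    · refine Subgroup.le_normalizer_map X.subtype ⟨⟨k, hkX⟩, ?_, rfl⟩
      refine Subgroup.mem_normalizer_iff.mpr fun y => ?_
      simp only [Subgroup.mem_comap, map_mul, map_inv]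
      exact Subgroup.mem_normalizer_iff.mp hkL (f y)
  · intro j b hb
    obtain ⟨y, y', hy, hy', hne'⟩ : ∃ y y' : G, y ∈ P ∧ y' ∈ P ∧ y * y' ≠ y' * y := by
      by_contra hc
      push Not at hc
      exact hPna ⟨⟨fun a b => Subtype.ext (hc a b a.2 b.2)⟩⟩
    set g := k ^ j with hg
    have hlift : ∀ w ∈ P, ∃ z ∈ Z, g * w * g⁻¹ = w ^ b * z := fun w hw => by
      refine ⟨(w ^ b)⁻¹ * (g * w * g⁻¹), ?_, by group⟩
      have h1 := hb _ ⟨⟨w, hPX hw⟩, Subgroup.mem_subgroupOf.mpr hw, rfl⟩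
      have h2 : f ((⟨w, hPX hw⟩ ^ b)⁻¹ * (⟨k, hkX⟩ ^ j * ⟨w, hPX hw⟩ * (⟨k, hkX⟩ ^ j)⁻¹)) = 1 := by
        simp only [map_mul, map_inv, map_pow]
        rw [← hkb, h1, inv_mul_cancel]
      rw [hfker] at h2
      simpa [hg] using h2
    have hcen : ∀ z ∈ Z, ∀ w ∈ P, Commute z w := fun z hz w hw => hZcent hw z hz
    set c := y * y' * y⁻¹ * y'⁻¹ with hc
    have hcZ : c ∈ Z := by
      have h1 : f (⟨y, hPX hy⟩ * ⟨y', hPX hy'⟩ * (⟨y, hPX hy⟩ : X)⁻¹ * (⟨y', hPX hy'⟩ : X)⁻¹) = 1 := by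
        simp only [map_mul, map_inv]
        have := congrArg Subtype.val (mul_comm' (⟨f ⟨y, hPX hy⟩, ⟨_, Subgroup.mem_subgroupOf.mpr hy, rfl⟩⟩ : V)
          ⟨f ⟨y', hPX hy'⟩, ⟨_, Subgroup.mem_subgroupOf.mpr hy', rfl⟩⟩)
        simp only [Subgroup.coe_mul] at this
        rw [this]; group
      rw [hfker] at h1
      simpa using h1
    have hyy : y * y' = c * (y' * y) := by rw [hc]; group
    have hgc : g * c * g⁻¹ = c := by
      have hkc : Commute g c := (show Commute k c from (Subgroup.mem_inf.mp (hZfix hcZ)).2 k hkm).pow_left j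
      rw [hkc.eq, mul_inv_cancel_right]
    obtain ⟨z, hz, hgy⟩ := hlift y hy
    obtain ⟨z', hz', hgy'⟩ := hlift y' hy'
    have hpow := commutator_pow_pow hyy (hcen c hcZ y hy) (hcen c hcZ y' hy') b b
    have hP' : ∀ n : ℕ, y ^ n ∈ P ∧ y' ^ n ∈ P := fun n => ⟨pow_mem hy n, pow_mem hy' n⟩
    have e1 : c = c ^ (b * b) := by
      have c1 : Commute z (y' ^ b * z') := hcen z hz _ (mul_mem (hP' b).2 (hZP hz'))
      have c3 : Commute z' (y ^ b) := hcen z' hz' _ (hP' b).1
      calc c = g * c * g⁻¹ := hgc.symm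
        _ = (g * y * g⁻¹) * (g * y' * g⁻¹) * (g * y * g⁻¹)⁻¹ * (g * y' * g⁻¹)⁻¹ := by rw [hc]; group
        _ = y ^ b * (z * (y' ^ b * z')) * (y ^ b * z)⁻¹ * (y' ^ b * z')⁻¹ := by rw [hgy, hgy']; group
        _ = y ^ b * ((y' ^ b * z') * z) * (y ^ b * z)⁻¹ * (y' ^ b * z')⁻¹ := by rw [c1.eq]
        _ = (y ^ b * y' ^ b) * z' * (y ^ b)⁻¹ * z'⁻¹ * (y' ^ b)⁻¹ := by group
        _ = c ^ (b * b) * y' ^ b * (y ^ b * z') * (y ^ b)⁻¹ * z'⁻¹ * (y' ^ b)⁻¹ := by rw [hpow]; group
        _ = c ^ (b * b) * y' ^ b * (z' * y ^ b) * (y ^ b)⁻¹ * z'⁻¹ * (y' ^ b)⁻¹ := by rw [c3.eq]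
        _ = c ^ (b * b) := by group
    have hb2 : ∀ v ∈ V, v ^ (b * b) = v := fun v hv => by
      have hc1 : c ≠ 1 := fun e => hne' (by rw [hyy, e, one_mul])
      have hco : orderOf c = p := orderOf_eq_prime (by
        rw [← orderOf_dvd_iff_pow_eq_one]
        exact hZc ▸ Subgroup.orderOf_dvd_natCard _ hcZ) hc1
      have hmod : b * b ≡ 1 [MOD p] := by
        rw [← hco, ← pow_eq_pow_iff_modEq, pow_one, ← e1]
      conv_rhs => rw [← pow_one v]
      rw [pow_eq_pow_iff_modEq]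
      exact hmod.of_dvd (orderOf_dvd_of_pow_eq_one (hVp v hv))
    intro v hv
    have h1 := hb v hv
    have h2 : kb ^ (2 * j) * v * (kb ^ (2 * j))⁻¹ = v := by
      rw [two_mul, pow_add, show kb ^ j * kb ^ j * v * (kb ^ j * kb ^ j)⁻¹ =
        kb ^ j * (kb ^ j * v * (kb ^ j)⁻¹) * (kb ^ j)⁻¹ by group, h1, ← conj_pow, h1, ← pow_mul, hb2 v hv]
    exact (mul_inv_eq_iff_eq_mul.mp h2).symm

/-- The alternatives of type V. -/
theorem typeV_alternatives (hG : IsMinSimpleOddOrder G) (hM : IsCoatom M) (h : IsSigmaDecomposition M K U)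
    (hK1 : K ≠ ⊥) (hU : U = ⊥) (hH : fittingHallOf M = sigmaCore M) :
    IsTISubset (fittingHallOf M : Set G) ∨
      (∃ p : ℕ, p.Prime ∧ p ∣ Nat.card (fittingHallOf M) ∧ Nat.card K ∣ p - 1 ∧
        IsCyclic (pPrimeCore p (fittingHallOf M))) ∨
      (∃ p : ℕ, p.Prime ∧ p ∣ Nat.card (fittingHallOf M) ∧ Nat.card (pCore p (fittingHallOf M)) = p ^ 3 ∧
        Nat.card K ∣ p + 1 ∧ IsCyclic (pPrimeCore p (fittingHallOf M))) := by
  by_cases hti : IsTISubset (sigmaCore M : Set G)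
  · exact Or.inl (by rw [hH]; exact hti)
  have hn : Group.IsNilpotent (sigmaCore M) := hH ▸ fittingHallOf_nilpotent M
  obtain ⟨p, x, N, d⟩ := exists_nonTI_data hG hM hn hti
  obtain ⟨hpd, hcyc, h1 | ⟨h1, h2⟩⟩ := d.typeV_cases hG h hK1 hU
  · exact Or.inr (Or.inl ⟨p, d.hp, hpd, h1, hcyc⟩)
  · exact Or.inr (Or.inr ⟨p, d.hp, hpd, h1, h2, hcyc⟩)

end CfsgLib.MinSimpleOdd
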