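import Cfsg.Agent.Lib.MinSimpleOdd.TypeP2
import Cfsg.Agent.S1369
import Cfsg.Agent.S0056
import Cfsg.Agent.S0058

/-!
The normaliser of a Sylow subgroup of `U` when `κ(M) ≠ ∅` and `U ≠ 1` (B–G 14.12).
-/

set_option autoImplicit false
set_option linter.unusedSectionVars false
set_option linter.style.haveILetI false
set_option maxHeartbeats 1000000

namespace CfsgLib.MinSimpleOdd

open Subgroup Cfsg
open scoped Pointwise commutatorElement IsMulCommutative

universe u
variable {G : Type u} [Group G] [Finite G]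

/-- The hypotheses of B–G 14.12. -/
structure P2Setting (M K U L : Subgroup G) : Prop where
  hG : IsMinSimpleOddOrder G
  decomp : IsSigmaDecomposition M K U
  pair : KappaPair M K L
  split : KappaSplit M K (U ⊔ K) U
  U_ne : U ≠ ⊥

namespace P2Setting

variable {M K U L : Subgroup G} (s : P2Setting M K U L)

include s

theorem prime : (Nat.card K).Prime := (s.split.two s.U_ne).2.2

theorem K_core : K ≤ sigmaCore L := s.pair.symm_eq.ge.trans inf_le_left

theorem t_sigma : Nat.card K ∈ sigma L :=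
  (sigmaCore_hall s.hG s.pair.right.hM).1.2.1 _ s.prime (Subgroup.card_dvd_of_le s.K_core)

theorem centralizer_uniq : centralizer (K : Set G) ≤ L ∧
    ∀ H : Subgroup G, IsCoatom H → centralizer (K : Set G) ≤ H → H = L := by
  haveI := Fact.mk s.prime
  exact (s.pair.right.fixed_line_uniq s.hG rfl s.pair.symm_eq.ge).1

theorem normalizer_K_le : normalizer (K : Set G) ≤ L := by
  haveI := Fact.mk s.prime
  exact normalizer_le_of_uniq s.hG s.pair.left.ne (pgroup_ne_top s.hG (isPGroup_of_card rfl)) s.centralizer_uniq.2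

theorem eq_partner {g : G} (h : K ≤ MulAut.conj g • L) : MulAut.conj g • L = L := by
  by_cases hg : g ∈ L
  · exact smul_eq_self_of_mem hg
  · exfalso
    have h1 := s.pair.right.fixed_inf_conj s.hG hg
    rw [s.pair.symm_eq] at h1
    exact s.pair.left.ne (le_bot_iff.mp ((le_inf le_rfl h).trans h1.le))

/-- A maximal subgroup containing `K` has `|K|` in its `σ` only if it is the partner. -/
theorem eq_of_t_sigma {H : Subgroup G} (hH : IsCoatom H) (hKH : K ≤ H) (h : Nat.card K ∈ sigma H) : H = L := by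
  haveI := Fact.mk s.prime
  obtain ⟨g, rfl⟩ := sigma_disjointness s.hG s.pair.right.hM hH s.t_sigma h
  exact s.eq_partner hKH

theorem two_classes {H : Subgroup G} (hH : IsCoatom H) (hκ : (kappa H).Nonempty) :
    ∃ g : G, H = MulAut.conj g • M ∨ H = MulAut.conj g • L :=
  (Cfsg.Agent.S1369.result s.hG M s.pair.left.hM K U s.decomp s.pair.left.ne L s.pair.right.hM
    s.pair.symm_eq.symm s.pair.right.hall).2 H hH hκ

/-- No prime of `|U|` lies in `σ(M*)`. -/
theorem not_sigma_partner {r : ℕ} [Fact r.Prime] {W : Subgroup G} (hW : Nat.card W = r) (hWM : W ≤ M)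
    (hrκ : r ∉ kappa M) : r ∉ sigma L := by
  intro hr
  have hall := (s.pair.symm s.hG).hall_sigma s.hG
  rw [s.pair.symm_eq] at hall
  obtain ⟨m, -, hmW⟩ := conj_into_hall s.hG s.pair.left.hM.1 hall hWM (pi_of_card hW hr)
  refine hrκ (s.pair.left.hall.2.1 r Fact.out ?_)
  rw [← hW, ← CfsgLib.card_conj_smul m W]
  exact Subgroup.card_dvd_of_le hmW

theorem fpf_core {H : Subgroup G} (hH : IsCoatom H) (hKH : K ≤ H) (hne : H ≠ L)
    (hnM : ∀ g : G, H ≠ MulAut.conj g • M) : sigmaCore H ⊓ centralizer (K : Set G) = ⊥ := by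
  haveI := Fact.mk s.prime
  by_contra hb
  obtain ⟨⟨y, hy, hyK⟩, hy1⟩ := Subgroup.ne_bot_iff_exists_ne_one.mp hb
  obtain ⟨k, hk, hkK⟩ := exists_gen (W := K) (t := Nat.card K) rfl
  have hk1 : k ≠ 1 := fun e => by rw [e, orderOf_one] at hk; exact s.prime.ne_one hk.symm
  have hkK' : k ∈ K := by
    have h := mem_zpowers k
    rwa [hkK] at h
  rcases sigma_element_dichotomy s.hG hH hy (fun e => hy1 (Subtype.ext e))
    ⟨hKH hkK', Subgroup.mem_centralizer_singleton_iff.mpr (hyK k hkK')⟩ hk1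
    (fun p hp hd hσ => by
      rw [hk] at hd
      exact hne (s.eq_of_t_sigma hH hKH ((Nat.prime_dvd_prime_iff_eq hp s.prime).mp hd ▸ hσ))) with
    ⟨hκ, -⟩ | ⟨-, -, hC, -⟩
  · obtain ⟨g, hg | hg⟩ := s.two_classes hH ⟨_, hκ _ s.prime (hk ▸ dvd_rfl)⟩
    · exact hnM g hg
    · exact hne (hg.trans (s.eq_partner (hg ▸ hKH)))
  · rw [centralizer_zpowers, hkK] at hC
    exact hne (s.centralizer_uniq.2 H hH hC)

/-- A subgroup on which `K` acts without fixed points centralises `H_σ`. -/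
theorem centralizes_core {H : Subgroup G} (hH : IsCoatom H) (hKH : K ≤ H) (hne : H ≠ L)
    (hnM : ∀ g : G, H ≠ MulAut.conj g • M) {R : Subgroup G} (hRH : R ≤ H) (hKR : K ≤ normalizer (R : Set G))
    (hRσ : ∀ r : ℕ, r.Prime → r ∣ Nat.card R → r ∉ sigma H) (hfix : R ⊓ centralizer (K : Set G) = ⊥) :
    R ≤ centralizer (sigmaCore H : Set G) := by
  haveI := Fact.mk s.prime
  obtain ⟨k, hk, hkK⟩ := exists_gen (W := K) (t := Nat.card K) rfl
  have hkK' : k ∈ K := by
    have h := mem_zpowers k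
    rwa [hkK] at h
  refine centralizes_of_fpf (p := Nat.card K) hk (hKR hkK') (le_normalizer_sigmaCore s.hG hH hKH hkK')
    (le_normalizer_sigmaCore s.hG hH hRH) (Nat.coprime_of_dvd fun r hr h1 h2 =>
      hRσ r hr h1 ((sigmaCore_hall s.hG hH).1.2.1 r hr h2)) ?_ ?_
  · rw [centralizer_zpowers, hkK]; exact hfix
  · rw [centralizer_zpowers, hkK]; exact s.fpf_core hH hKH hne hnM

/-- The primes of lines of `M` outside `σ(M) ∪ κ(M)` are not in `τ₂(H)`. -/
theorem not_tau2_line {H F : Subgroup G} (hH : IsCoatom H) (hne : H ≠ L) (hnM : ∀ g : G, H ≠ MulAut.conj g • M)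
    (hF : IsComplIn F (sigmaCore H) H) (hKF : K ≤ F) {r : ℕ} [Fact r.Prime] {W : Subgroup G}
    (hW : Nat.card W = r) (hWM : W ≤ M) (hWF : W ≤ F) (hrM : r ∉ sigma M) (hrκ : r ∉ kappa M) : r ∉ tau2 H := by
  intro hr2
  haveI := Fact.mk s.prime
  have hG := s.hG
  obtain ⟨A, hAF, hA, hA2, hWA⟩ := exists_line_two hG hH hF hr2 hW hWF
  have hFA : F ≤ normalizer (A : Set G) :=
    (Cfsg.Agent.S1418.result hG H hH F hF r hr2 A ⟨hAF, hA, hA2⟩).1.1
  by_cases hfix : A ⊓ centralizer (K : Set G) = ⊥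
  · have hAH := hAF.trans hF.1
    have hc := s.centralizes_core hH (hKF.trans hF.1) hne hnM hAH (hKF.trans hFA)
      (fun q hq hd => by rw [card_dvd_of_pgroup (isPGroup_of_exp hA.2) hq hd]; exact hr2.2.1) hfix
    obtain ⟨A₀, hexc⟩ := exists_exc hG hH hr2 hAH hA hA2
    obtain ⟨T, hAT, hTH, hT, hTi⟩ := exists_sylow_ge (p := r) hAH (isPGroup_of_exp hA.2)
    have hb := (hexc.structure' hG hH hAT hTH hT hTi).2.1
    exact sigmaCore_ne_bot hG hH (le_bot_iff.mp ((le_inf le_rfl (Subgroup.le_centralizer_iff.mp hc)).trans hb.le))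
  obtain ⟨⟨u, huA, huK⟩, hu1'⟩ := Subgroup.ne_bot_iff_exists_ne_one.mp hfix
  have hu1 : u ≠ 1 := fun e => hu1' (Subtype.ext e)
  have huo : orderOf u = r := orderOf_eq_prime (hA.2 u huA) hu1
  obtain ⟨k, hk, hkK⟩ := exists_gen (W := K) (t := Nat.card K) rfl
  have hk1 : k ≠ 1 := fun e => by rw [e, orderOf_one] at hk; exact s.prime.ne_one hk.symm
  have hkK' : k ∈ K := by
    have h := mem_zpowers k
    rwa [hkK] at h
  have huL : u ∈ L := s.centralizer_uniq.1 huK
  rcases sigma_element_dichotomy hG s.pair.right.hM (s.K_core hkK') hk1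
    ⟨huL, Subgroup.mem_centralizer_singleton_iff.mpr (huK k hkK').symm⟩ hu1
    (fun p hp hd => by
      rw [huo] at hd
      rw [(Nat.prime_dvd_prime_iff_eq hp (Fact.out : r.Prime)).mp hd]
      exact s.not_sigma_partner hW hWM hrκ) with ⟨hκ, -⟩ | ⟨-, -, hC, -⟩
  · have hκr := hκ r Fact.out (huo ▸ dvd_rfl)
    obtain ⟨m, -, hm⟩ := conj_into_hall hG s.pair.right.hM.1 s.pair.right.hall (W := zpowers u)
      (Subgroup.zpowers_le.mpr huL) (fun p hp hd => by
        rw [Nat.card_zpowers, huo] at hd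
        rw [(Nat.prime_dvd_prime_iff_eq hp (Fact.out : r.Prime)).mp hd]
        exact hκr)
    refine hrM ((sigmaCore_hall hG s.pair.left.hM).1.2.1 r Fact.out ?_)
    rw [← huo, ← Nat.card_zpowers, ← CfsgLib.card_conj_smul m]
    exact (Subgroup.card_dvd_of_le hm).trans (Subgroup.card_dvd_of_le inf_le_left)
  · haveI := hA.1
    have hAC : A ≤ centralizer ({u} : Set G) :=
      (Subgroup.le_centralizer A).trans (Subgroup.centralizer_le (Set.singleton_subset_iff.mpr huA))
    have hd := hW ▸ Subgroup.card_dvd_of_le ((le_inf hWM ((hWA.trans hAC).trans hC)).trans (s.pair.meet hG).le)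
    rw [card_complIn (s.pair.left.compl hG)] at hd
    rcases (Fact.out : r.Prime).dvd_mul.mp hd with h | h
    · exact hrκ (s.pair.left.hall.2.1 r Fact.out h)
    · exact hrM ((sigmaCore_hall hG s.pair.left.hM).1.2.1 r Fact.out (h.trans (Subgroup.card_dvd_of_le inf_le_left)))

/-- B–G 14.12: first properties of `H ⊇ N(R)`. -/
theorem overgroup_basic {r : ℕ} [Fact r.Prime] {R H : Subgroup G} (hRU : R ≤ U) (hR : IsPGroup r R)
    (hRi : ¬ r ∣ R.relIndex U) (hrU : r ∣ Nat.card U) (hH : IsCoatom H) (hNR : normalizer (R : Set G) ≤ H) :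
    U ⊔ K ≤ H ∧ H ≠ L ∧ (∀ g : G, H ≠ MulAut.conj g • M) ∧ r ∈ sigma H ∧ kappa H = ∅ ∧ U ≤ sigmaCore H := by
  have hG := s.hG
  have hM := s.pair.left.hM
  haveI := Fact.mk s.prime
  haveI := s.split.comm
  obtain ⟨hrκ, hrM⟩ := decomp_U_primes hG hM s.decomp r Fact.out hrU
  have hUE : U ≤ U ⊔ K := le_sup_left
  have hUM : U ≤ M := s.decomp.compl.1
  have hRM : R ≤ M := hRU.trans hUM
  have hR1 : R ≠ ⊥ := fun e => hRi (by rwa [e, Subgroup.relIndex_bot_left])
  have hRiM : ¬ r ∣ R.relIndex M := by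
    rw [← Subgroup.relIndex_mul_relIndex R U M hRU hUM, ← Subgroup.relIndex_mul_relIndex U (U ⊔ K) M hUE s.split.hE.1]
    intro hd
    rcases (Fact.out : r.Prime).dvd_mul.mp hd with h | h
    · exact hRi h
    · rcases (Fact.out : r.Prime).dvd_mul.mp h with h | h
      · exact s.split.hallU.2.2 r Fact.out hrκ h
      · exact (complement_hall hG hM s.split.hE).2.2 r Fact.out hrM h
  have hUN : U ≤ normalizer (R : Set G) :=
    ((Subgroup.le_centralizer U).trans (Subgroup.centralizer_le (SetLike.coe_subset_coe.mpr hRU))).trans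
      (Subgroup.centralizer_le_normalizer _)
  have hKN : K ≤ normalizer (R : Set G) := by
    intro k hk
    refine mem_normalizer_of_conj_smul (Subgroup.eq_of_le_of_card_ge ?_ (CfsgLib.card_conj_smul k R).ge)
    have hkU : MulAut.conj k • R ≤ U :=
      (conj_smul_mono hRU k).trans (conj_smul_eq_of_mem_normalizer (s.decomp.normal hk)).le
    obtain ⟨u, hu, hle⟩ := CfsgLib.pi_le_conj_hall (π := ({r} : Set ℕ))
      (solvable_of_le hUM (solvable_of_ne_top hG hM.1))
      ⟨hRU, fun q hq hd => card_dvd_of_pgroup hR hq hd, fun q _ hq hd => hRi (by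
        rw [Set.mem_singleton_iff] at hq; rwa [hq] at hd)⟩ (U := MulAut.conj k • R) hkU
      (fun q hq hd => by rw [CfsgLib.card_conj_smul] at hd; exact card_dvd_of_pgroup hR hq hd)
    have huC : u ∈ centralizer ((MulAut.conj k • R : Subgroup G) : Set G) :=
      (Subgroup.le_centralizer U).trans (Subgroup.centralizer_le (SetLike.coe_subset_coe.mpr hkU)) hu
    rwa [conj_smul_eq_of_mem_normalizer (Subgroup.centralizer_le_normalizer _ huC)] at hle
  have hKH : K ≤ H := hKN.trans hNR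
  have hUH : U ≤ H := hUN.trans hNR
  obtain ⟨w, hw⟩ := exists_prime_orderOf_dvd_card' r hrU
  have hne : H ≠ L := by
    intro e
    have hd : r ∣ Nat.card K * Nat.card ↥(fixedCore M K) := by
      rw [← card_complIn (s.pair.left.compl hG)]
      exact hrU.trans (Subgroup.card_dvd_of_le ((le_inf hUM (e ▸ hUH)).trans (s.pair.meet hG).le))
    rcases (Fact.out : r.Prime).dvd_mul.mp hd with h | h
    · exact hrκ (s.pair.left.hall.2.1 r Fact.out h)
    · exact hrM ((sigmaCore_hall hG hM).1.2.1 r Fact.out (h.trans (Subgroup.card_dvd_of_le inf_le_left)))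
  obtain ⟨T₀, hT₀, -⟩ := sylow_of_relIndex hRM hR hRiM
  have hnM : ∀ g : G, H ≠ MulAut.conj g • M := by
    intro g e
    have hg' : MulAut.conj g⁻¹ • R ≤ M := by
      refine (conj_smul_mono ((Subgroup.le_normalizer.trans hNR).trans e.le) g⁻¹).trans (le_of_eq ?_)
      rw [CfsgLib.conj_smul_mul, inv_mul_cancel, map_one, one_smul]
    obtain ⟨m, hm, hle⟩ := CfsgLib.pi_le_conj_hall (π := ({r} : Set ℕ)) (solvable_of_ne_top hG hM.1)
      ⟨hRM, fun q hq hd => card_dvd_of_pgroup hR hq hd, fun q _ hq hd => hRiM (by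
        rw [Set.mem_singleton_iff] at hq; rwa [hq] at hd)⟩ (U := MulAut.conj g⁻¹ • R) hg'
      (fun q hq hd => by rw [CfsgLib.card_conj_smul] at hd; exact card_dvd_of_pgroup hR hq hd)
    rw [CfsgLib.conj_smul_mul] at hle
    have hn : m * g⁻¹ ∈ normalizer (R : Set G) :=
      mem_normalizer_of_conj_smul (Subgroup.eq_of_le_of_card_ge hle (CfsgLib.card_conj_smul _ R).ge)
    have hmem : m * g⁻¹ ∈ MulAut.conj g • M := e ▸ hNR hn
    rw [CfsgLib.mem_conj_smul_iff, show g⁻¹ * (m * g⁻¹) * g = g⁻¹ * m by group] at hmem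
    have hgM : g ∈ M := by
      have h2 := M.inv_mem (M.mul_mem hmem (M.inv_mem hm))
      rwa [mul_inv_cancel_right, inv_inv] at h2
    rw [smul_eq_self_of_mem hgM] at e
    refine hrM ⟨Fact.out, hrU.trans (Subgroup.card_dvd_of_le hUM), T₀, ?_⟩
    rw [hT₀]
    exact e ▸ hNR
  have htH : Nat.card K ∉ sigma H := fun h => hne (s.eq_of_t_sigma hH hKH h)
  have hKσ : ∀ q : ℕ, q.Prime → q ∣ Nat.card K → q ∉ sigma H := fun q hq hd =>
    (Nat.prime_dvd_prime_iff_eq hq s.prime).mp hd ▸ htH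
  have hκ : kappa H = ∅ := by
    refine Set.eq_empty_iff_forall_notMem.mpr fun q hq => ?_
    obtain ⟨g, hg | hg⟩ := s.two_classes hH ⟨q, hq⟩
    · exact hnM g hg
    · exact hne (hg.trans (s.eq_partner (hg ▸ hKH)))
  -- a complement containing an `r'`-subgroup and `K`
  have hcompl : ∀ {Y : Subgroup G}, Y ≤ H → K ≤ normalizer (Y : Set G) →
      (∀ q : ℕ, q.Prime → q ∣ Nat.card Y → q ∉ sigma H) →
      ∃ F : Subgroup G, IsComplIn F (sigmaCore H) H ∧ Y ≤ F ∧ K ≤ F := by
    intro Y hY hKY hYσ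
    obtain ⟨F, hF, hle⟩ := exists_complement_ge hG hH (sup_le hY hKH) fun q hq hd => by
      rcases hq.dvd_mul.mp (hd.trans (CfsgLib.Signalizer.card_sup_dvd hKY)) with h | h
      · exact hKσ q hq h
      · exact hYσ q hq h
    exact ⟨F, hF, le_sup_left.trans hle, le_sup_right.trans hle⟩
  have hrH : r ∈ sigma H := by
    by_contra hrH
    obtain ⟨T, hRT, hTH, hT, hTi⟩ := exists_sylow_ge (p := r) (Subgroup.le_normalizer.trans hNR) hR
    by_cases hTc : IsCyclic T
    · obtain ⟨T₁, hT₁, -⟩ := sylow_of_relIndex hTH hT hTi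
      refine hrH ⟨Fact.out, ?_, T₁, ?_⟩
      · obtain ⟨a, ha⟩ := hR.exists_card_eq
        refine dvd_trans ?_ (Subgroup.card_dvd_of_le (hRT.trans hTH))
        rw [ha]
        exact dvd_pow_self r fun e' => hR1 (Subgroup.card_eq_one.mp (by rw [ha, e', pow_zero]))
      · rw [hT₁]
        exact (normalizer_le_of_cyclic hTc hRT).trans hNR
    have hr2 : r ∈ tau2 H := ⟨Fact.out, hrH, rank_two_of_not_sigma hG hH hrH,
      fun h1 => hTc (rank_one_cyclic hG h1 hT hTH)⟩
    obtain ⟨F, hF, hRF, hKF⟩ := hcompl (Subgroup.le_normalizer.trans hNR) hKN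
      fun q hq hd => by rw [card_dvd_of_pgroup hR hq hd]; exact hrH
    obtain ⟨W, hWR, hW⟩ := exists_sub_card hR hR1
    exact s.not_tau2_line hH hne hnM hF hKF hW (hWR.trans hRM) (hWR.trans hRF) hrM hrκ hr2
  refine ⟨sup_le hUH hKH, hne, hnM, hrH, hκ, le_sigmaCore hG hH hUH fun q hq hd => ?_⟩
  haveI := Fact.mk hq
  by_contra hqH
  obtain ⟨hqκ, hqM⟩ := decomp_U_primes hG hM s.decomp q hq hd
  obtain ⟨v, hv⟩ := exists_prime_orderOf_dvd_card' q hd
  have hW : Nat.card (zpowers (v : G)) = q := by rw [Nat.card_zpowers, Subgroup.orderOf_coe, hv]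
  have hWU : zpowers (v : G) ≤ U := Subgroup.zpowers_le.mpr v.2
  obtain ⟨Q, hWQ, hQU, hQ, hQi⟩ := exists_sylow_ge (p := q) hWU (isPGroup_of_card hW)
  have hKQ : K ≤ normalizer (Q : Set G) := by
    intro k hk
    refine mem_normalizer_of_conj_smul (Subgroup.eq_of_le_of_card_ge ?_ (CfsgLib.card_conj_smul k Q).ge)
    have hkU : MulAut.conj k • Q ≤ U :=
      (conj_smul_mono hQU k).trans (conj_smul_eq_of_mem_normalizer (s.decomp.normal hk)).le
    obtain ⟨u, hu, hle⟩ := CfsgLib.pi_le_conj_hall (π := ({q} : Set ℕ))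
      (solvable_of_le hUM (solvable_of_ne_top hG hM.1))
      ⟨hQU, fun a ha hd => card_dvd_of_pgroup hQ ha hd, fun a _ ha hd => hQi (by
        rw [Set.mem_singleton_iff] at ha; rwa [ha] at hd)⟩ (U := MulAut.conj k • Q) hkU
      (fun a ha hd => by rw [CfsgLib.card_conj_smul] at hd; exact card_dvd_of_pgroup hQ ha hd)
    have huC : u ∈ centralizer ((MulAut.conj k • Q : Subgroup G) : Set G) :=
      (Subgroup.le_centralizer U).trans (Subgroup.centralizer_le (SetLike.coe_subset_coe.mpr hkU)) hu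
    rwa [conj_smul_eq_of_mem_normalizer (Subgroup.centralizer_le_normalizer _ huC)] at hle
  obtain ⟨F, hF, hQF, hKF⟩ := hcompl (hQU.trans hUH) hKQ
    fun a ha hd' => by rw [card_dvd_of_pgroup hQ ha hd']; exact hqH
  have h2 := s.not_tau2_line hH hne hnM hF hKF hW (hWU.trans hUM) (hWQ.trans hQF) hqM hqκ
  have hWH : zpowers (v : G) ≤ H := hWU.trans hUH
  have hk' := kappa_of_bad hG hH (tau1_or_tau3 hG hH hqH (rank_one_of_not_sigma hG hH hqH h2) hW hWH) hW hWH
    fun e => hR1 (le_bot_iff.mp ((le_inf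
      (pgroup_le_sigmaCore hG hH hrH hR (hRU.trans hUH))
      ((hRU.trans (Subgroup.le_centralizer U)).trans
        (Subgroup.centralizer_le (SetLike.coe_subset_coe.mpr hWU)))).trans e.le))
  rw [hκ] at hk'
  exact hk'

/-- For `s ∈ τ₂(H)` the normaliser of `A` lies in the partner and `K` centralises `A`. -/
theorem tau2_partner {H F : Subgroup G} (hH : IsCoatom H) (hne : H ≠ L) (hnM : ∀ g : G, H ≠ MulAut.conj g • M)
    (hF : IsComplIn F (sigmaCore H) H) (hKF : K ≤ F) {q : ℕ} [Fact q.Prime] (hq : q ∈ tau2 H) {A : Subgroup G}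
    (hAF : A ≤ F) (hA : IsElementaryAbelian q A) (hA2 : Nat.card A = q ^ 2) :
    normalizer (A : Set G) ≤ L ∧ K ≤ centralizer (A : Set G) := by
  have hG := s.hG
  haveI := Fact.mk s.prime
  have hAH := hAF.trans hF.1
  have hFA : F ≤ normalizer (A : Set G) :=
    (Cfsg.Agent.S1418.result hG H hH F hF q hq A ⟨hAF, hA, hA2⟩).1.1
  obtain ⟨N, hN, hNA⟩ := exists_coatom_ge (normalizer_ne_top hG
    (fun e => by
      rw [e, Subgroup.card_bot] at hA2
      exact (Nat.one_lt_pow two_ne_zero (Fact.out : q.Prime).one_lt).ne hA2)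
    (pgroup_ne_top hG (isPGroup_of_exp hA.2)))
  have hqN := tau2_sigma_over hG hH hq hAH hA hA2 hN hNA
  have hNH : N ≠ H := fun e => hq.2.1 (e ▸ hqN)
  have hAN : A ≤ N := Subgroup.le_normalizer.trans hNA
  have hKN : K ≤ N := (hKF.trans hFA).trans hNA
  have hAs : A ≤ sigmaCore N := pgroup_le_sigmaCore hG hN hqN (isPGroup_of_exp hA.2) hAN
  obtain ⟨A₀, hexc⟩ := exists_exc hG hH hq hAH hA hA2
  have hnM' : ∀ g : G, N ≠ MulAut.conj g • M := by
    intro g e
    haveI := hA.1
    have hgen := Cfsg.Agent.S0058.result A (sigmaCore H)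
      (not_cyclic_of_elementary hA.2 (hA2 ▸ lt_self_pow₀ (Fact.out : q.Prime).one_lt (by norm_num)))
      (le_normalizer_sigmaCore hG hH hAH)
      (Nat.coprime_of_dvd fun r hr h1 h2 => hq.2.1 (card_dvd_of_pgroup (isPGroup_of_exp hA.2) hr h1 ▸
        (sigmaCore_hall hG hH).1.2.1 r hr h2))
    refine sigmaCore_ne_bot hG hH (le_bot_iff.mp (hgen.ge.trans (iSup₂_le fun a ha => ?_)))
    have haN : a ∈ MulAut.conj g • sigmaCore M := by
      have h := hAs ha.1
      rwa [e, sigmaCore_conj hG s.pair.left.hM] at h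
    rw [CfsgLib.mem_conj_smul_iff] at haN
    have ha1 : g⁻¹ * a * g ≠ 1 := fun h1 => ha.2 (by
      calc a = g * (g⁻¹ * a * g) * g⁻¹ := by group
        _ = 1 := by rw [h1]; group)
    have hC : centralizer ({a} : Set G) ≤ N := by
      have h := conj_smul_mono (s.pair.left.core_centralizer_uniq hG s.split s.U_ne haN ha1).1 g
      rw [conj_centralizer_singleton, show g * (g⁻¹ * a * g) * g⁻¹ = a by group] at h
      exact h.trans e.ge
    exact (inf_le_inf_left _ hC).trans (sigma_meet_bot hG hH hq hAH hA hA2 hN hNH hAN).le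
  have hNL : N = L := by
    by_contra hne'
    have hfix : A ⊓ centralizer (K : Set G) = ⊥ :=
      le_bot_iff.mp ((inf_le_inf_right _ hAs).trans (s.fpf_core hN hKN hne' hnM').le)
    have hc := s.centralizes_core hH (hKF.trans hF.1) hne hnM hAH (hKF.trans hFA)
      (fun r hr hd => by rw [card_dvd_of_pgroup (isPGroup_of_exp hA.2) hr hd]; exact hq.2.1) hfix
    obtain ⟨T, hAT, hTH, hT, hTi⟩ := exists_sylow_ge (p := q) hAH (isPGroup_of_exp hA.2)
    have hb := (hexc.structure' hG hH hAT hTH hT hTi).2.1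
    exact sigmaCore_ne_bot hG hH (le_bot_iff.mp ((le_inf le_rfl (Subgroup.le_centralizer_iff.mp hc)).trans hb.le))
  refine ⟨hNL ▸ hNA, ?_⟩
  by_cases hqt : q = Nat.card K
  · intro k hk
    refine tau2_element_centralizes hG hH hF hq hAF hA hA2 (hKF hk) fun r hr hd => ?_
    rw [(Nat.prime_dvd_prime_iff_eq hr s.prime).mp (hd.trans (Subgroup.orderOf_dvd_natCard _ hk)), ← hqt]
    exact hq
  · have hqβ : q ∉ beta N := fun h => not_ideal hG hH hq.2.2.1 hq.2.2.2 h.2
    exact centralizes_of_sigma_beta hG hN hqt hqβ (isPGroup_of_exp hA.2) hAN (isPGroup_of_card rfl) hKN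
      (hNL.symm ▸ s.t_sigma) (hKF.trans hFA)

/-- B–G 14.12. -/
theorem overgroup {r : ℕ} [Fact r.Prime] {R H : Subgroup G} (hRU : R ≤ U) (hR : IsPGroup r R)
    (hRi : ¬ r ∣ R.relIndex U) (hrU : r ∣ Nat.card U) (hH : IsCoatom H) (hNR : normalizer (R : Set G) ≤ H) :
    kappa H = ∅ ∧ U ≤ sigmaCore H ∧ M ⊓ H = U ⊔ K ∧ ¬ H ⊓ normalizer (U : Set G) ≤ M ∧
      K ≤ fittingOf (H ⊓ L) ∧ IsComplIn (H ⊓ L) (sigmaCore H) H := by
  have hG := s.hG
  have hM := s.pair.left.hM
  haveI := Fact.mk s.prime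
  haveI := s.split.comm
  obtain ⟨hle, hne, hnM, -, hκ, hUs⟩ := s.overgroup_basic hRU hR hRi hrU hH hNR
  have hUH : U ≤ H := le_sup_left.trans hle
  have hKH : K ≤ H := le_sup_right.trans hle
  have hUM : U ≤ M := s.decomp.compl.1
  have hsM : sigmaCore M ≤ M := piCoreOf_le _ _
  have htH : Nat.card K ∉ sigma H := fun h => hne (s.eq_of_t_sigma hH hKH h)
  have hnotML : ∀ g : G, H ≠ MulAut.conj g • L := fun g e =>
    htH (by rw [e, sigma_conj]; exact s.t_sigma)
  have hmeet : sigmaCore M ⊓ H = ⊥ := by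
    refine le_bot_iff.mp (le_trans ?_ (s.split.two s.U_ne).2.1.le)
    refine le_inf inf_le_left fun x hx u hu => ?_
    have h1 : u * x * u⁻¹ * x⁻¹ ∈ sigmaCore M ⊓ sigmaCore H := by
      refine ⟨(sigmaCore M).mul_mem ((Subgroup.mem_normalizer_iff.mp (le_normalizer_sigmaCore hG hM le_rfl (hUM hu)) x).mp hx.1)
        ((sigmaCore M).inv_mem hx.1), ?_⟩
      rw [show u * x * u⁻¹ * x⁻¹ = u * (x * u⁻¹ * x⁻¹) by group]
      exact (sigmaCore H).mul_mem (hUs hu)
        ((Subgroup.mem_normalizer_iff.mp (le_normalizer_sigmaCore hG hH le_rfl hx.2) _).mp ((sigmaCore H).inv_mem (hUs hu)))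
    rw [sigmaCore_inf_bot hG hM hH hnM, Subgroup.mem_bot, mul_inv_eq_one, mul_inv_eq_iff_eq_mul] at h1
    exact h1
  have hMH : M ⊓ H = U ⊔ K := meet_eq_complement hG hM s.split.hE hle hmeet
  have hfpf := s.fpf_core hH hKH hne hnM
  have hnil : Group.IsNilpotent (sigmaCore H) :=
    CfsgLib.FrobAction.isNilpotent_of_fpf_operators _ K s.pair.left.ne (le_normalizer_sigmaCore hG hH hKH)
      fun e he he1 u hu hcomm => by
        have hgen : zpowers e = K := Subgroup.eq_of_le_of_card_ge (Subgroup.zpowers_le.mpr he) (by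
          rw [Nat.card_zpowers]
          rcases s.prime.eq_one_or_self_of_dvd _ (Subgroup.orderOf_dvd_natCard _ he) with h | h
          · exact absurd (orderOf_eq_one_iff.mp h) he1
          · exact h.ge)
        refine Subgroup.mem_bot.mp (hfpf ▸ (⟨hu, ?_⟩ : u ∈ sigmaCore H ⊓ centralizer (K : Set G)))
        rw [← hgen, ← centralizer_zpowers]
        exact Subgroup.mem_centralizer_singleton_iff.mpr hcomm.symm
  refine ⟨hκ, hUs, hMH, fun hN => ?_, ?_⟩
  · -- `N_H(U) ≰ M`
    have hUeq : sigmaCore H ⊓ (U ⊔ K) ≤ U := by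
      intro x hx
      obtain ⟨w, hw, k, hk, rfl⟩ := s.split.compl.2.2.2 x hx.2
      have hk' : k ∈ sigmaCore H := by
        have := (sigmaCore H).mul_mem ((sigmaCore H).inv_mem (hUs hw)) hx.1
        rwa [inv_mul_cancel_left] at this
      have hk1 : k = 1 := by
        by_contra hk1
        refine htH ?_
        rcases s.prime.eq_one_or_self_of_dvd _ (Subgroup.orderOf_dvd_natCard _ hk) with h | h
        · exact absurd (orderOf_eq_one_iff.mp h) hk1
        · exact order_sigma hG hH hk' _ s.prime (h.symm.dvd)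
      rw [hk1, mul_one]
      exact hw
    by_cases hUeq' : U = sigmaCore H
    · have hHM : H ≤ M := fun h hh => hN ⟨hh, hUeq' ▸ le_normalizer_sigmaCore hG hH le_rfl hh⟩
      refine hnM 1 ?_
      rw [map_one, one_smul]
      exact (hH.le_iff.mp hHM).resolve_left hM.1 |>.symm
    haveI := hnil
    have hlt : U.subgroupOf (sigmaCore H) < ⊤ := by
      refine lt_top_iff_ne_top.mpr fun e => hUeq' (le_antisymm hUs ?_)
      exact Subgroup.subgroupOf_eq_top.mp e
    obtain ⟨x, hxN, hxU⟩ := SetLike.exists_of_lt (Group.normalizerCondition_of_isNilpotent _ hlt)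
    refine hxU ?_
    have hxN' : (x : G) ∈ normalizer (U : Set G) := Subgroup.mem_normalizer_iff.mpr fun n => by
      constructor
      · intro hn
        exact (Subgroup.mem_normalizer_iff.mp hxN ⟨n, hUs hn⟩).mp hn
      · intro hn
        have hns : n ∈ sigmaCore H := by
          have := (sigmaCore H).mul_mem ((sigmaCore H).mul_mem ((sigmaCore H).inv_mem x.2) (hUs hn)) x.2
          rwa [show (x : G)⁻¹ * ((x : G) * n * (x : G)⁻¹) * x = n by group] at this
        exact (Subgroup.mem_normalizer_iff.mp hxN ⟨n, hns⟩).mpr hn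
    have hxH : (x : G) ∈ H := piCoreOf_le _ _ x.2
    exact hUeq ⟨x.2, hMH.le ⟨hN ⟨hxH, hxN'⟩, hxH⟩⟩
  -- the complement `H ∩ M*`
  obtain ⟨F, hF, hKF⟩ := exists_complement_ge hG hH hKH fun q hq hd =>
    (Nat.prime_dvd_prime_iff_eq hq s.prime).mp hd ▸ htH
  have hmeetL : sigmaCore H ⊓ L = ⊥ := by
    refine le_bot_iff.mp (le_trans ?_ hfpf.le)
    refine le_inf inf_le_left fun x hx k hk => ?_
    have h1 : k * x * k⁻¹ * x⁻¹ ∈ sigmaCore H ⊓ sigmaCore L := by
      refine ⟨(sigmaCore H).mul_mem ((Subgroup.mem_normalizer_iff.mp (le_normalizer_sigmaCore hG hH le_rfl (hKH hk)) x).mp hx.1)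
        ((sigmaCore H).inv_mem hx.1), ?_⟩
      rw [show k * x * k⁻¹ * x⁻¹ = k * (x * k⁻¹ * x⁻¹) by group]
      exact (sigmaCore L).mul_mem (s.K_core hk)
        ((Subgroup.mem_normalizer_iff.mp (le_normalizer_sigmaCore hG s.pair.right.hM le_rfl hx.2) _).mp
          ((sigmaCore L).inv_mem (s.K_core hk)))
    rw [inf_comm, sigmaCore_inf_bot hG s.pair.right.hM hH hnotML, Subgroup.mem_bot, mul_inv_eq_one,
      mul_inv_eq_iff_eq_mul] at h1
    exact h1
  -- `K` lies in a normal abelian subgroup of `F`, and `F ≤ M*`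
  obtain ⟨B, hKB, hBF, hFB, hBc, hFL⟩ : ∃ B : Subgroup G, K ≤ B ∧ B ≤ F ∧ F ≤ normalizer (B : Set G) ∧
      IsMulCommutative B ∧ F ≤ L := by
    have hKc : IsMulCommutative K := cyclic_isCommutative (isCyclic_of_prime_card rfl)
    have hKH' : K ≤ H := hKH
    by_cases ht2 : Nat.card K ∈ tau2 H
    · obtain ⟨A, hAF, hA, hA2, hKA⟩ := exists_line_two hG hH hF ht2 rfl hKF
      have hFA : F ≤ normalizer (A : Set G) :=
        (Cfsg.Agent.S1418.result hG H hH F hF _ ht2 A ⟨hAF, hA, hA2⟩).1.1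
      exact ⟨A, hKA, hAF, hFA, hA.1, hFA.trans (s.tau2_partner hH hne hnM hF hKF ht2 hAF hA hA2).1⟩
    have h1 := rank_one_of_not_sigma hG hH htH ht2
    rcases tau1_or_tau3 hG hH htH h1 rfl hKH with h | h
    swap
    · have hFK := tau3_normalized hG hH hF hKF (pi_of_card rfl h)
      exact ⟨K, le_rfl, hKF, hFK, hKc, hFK.trans s.normalizer_K_le⟩
    -- `K` centralises `F'`
    haveI hFc := complement_derived_commutative hG hH hF
    have hdF : (⁅F, F⁆ : Subgroup G) ≤ F := Subgroup.commutator_le_self F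
    have hKd : K ≤ normalizer ((⁅F, F⁆ : Subgroup G) : Set G) :=
      hKF.trans (le_normalizer_commutator Subgroup.le_normalizer)
    have htd : ¬ Nat.card K ∣ Nat.card ↥(⁅F, F⁆ : Subgroup G) := fun hd =>
      h.2.2.2.1 (hd.trans (Subgroup.card_dvd_of_le (Subgroup.commutator_mono hF.1 hF.1)))
    have hcd : K ≤ centralizer ((⁅F, F⁆ : Subgroup G) : Set G) := by
      refine Cfsg.Agent.S0056.result K ⁅F, F⁆ hKd (s.prime.coprime_iff_not_dvd.mpr htd) fun v hv hvp k hk => ?_
      haveI := Fact.mk hvp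
      have hV : Nat.card (zpowers v) = orderOf v := Nat.card_zpowers v
      have hVF : zpowers v ≤ F := Subgroup.zpowers_le.mpr (hdF hv)
      have hvσ : orderOf v ∉ sigma H :=
        complement_sigma' hG hH hF _ hvp (hV ▸ Subgroup.card_dvd_of_le hVF)
      by_cases hv2 : orderOf v ∈ tau2 H
      · obtain ⟨A, hAF, hA, hA2, hVA⟩ := exists_line_two hG hH hF hv2 hV hVF
        exact ((s.tau2_partner hH hne hnM hF hKF hv2 hAF hA hA2).2 hk v (hVA (mem_zpowers v))).symm
      rcases tau1_or_tau3 hG hH hvσ (rank_one_of_not_sigma hG hH hvσ hv2) hV (hVF.trans hF.1) with h3 | h3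
      · exact absurd ((Subgroup.orderOf_dvd_natCard _ hv).trans
          (Subgroup.card_dvd_of_le (Subgroup.commutator_mono hF.1 hF.1))) h3.2.2.2.1
      by_contra hnc
      have hfix : zpowers v ⊓ centralizer (K : Set G) = ⊥ := by
        refine (Subgroup.eq_bot_iff_forall _).mpr fun x hx => ?_
        by_contra hx1
        have hgen : zpowers x = zpowers v := Subgroup.eq_of_le_of_card_ge (Subgroup.zpowers_le.mpr hx.1) (by
          rw [Nat.card_zpowers, Nat.card_zpowers]
          rcases hvp.eq_one_or_self_of_dvd (orderOf x) (by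
            have := Subgroup.orderOf_dvd_natCard _ hx.1
            rwa [Nat.card_zpowers] at this) with h | h
          · exact absurd (orderOf_eq_one_iff.mp h) hx1
          · exact h.ge)
        obtain ⟨i, hi⟩ := Subgroup.mem_zpowers_iff.mp (hgen.ge (mem_zpowers v))
        exact hnc (hi ▸ ((show Commute k x from hx.2 k hk).zpow_right i).eq)
      have hc := s.centralizes_core hH hKH hne hnM (hVF.trans hF.1)
        (hKF.trans (tau3_normalized hG hH hF hVF (pi_of_card hV h3)))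
        (fun q hq hd => by rw [hV] at hd; rwa [(Nat.prime_dvd_prime_iff_eq hq hvp).mp hd]) hfix
      have hk' := kappa_of_bad hG hH (Or.inr h3) hV (hVF.trans hF.1) fun e =>
        sigmaCore_ne_bot hG hH (le_bot_iff.mp ((le_inf le_rfl (Subgroup.le_centralizer_iff.mp hc)).trans e.le))
      rw [hκ] at hk'
      exact hk'
    have hFK : F ≤ centralizer (K : Set G) := by
      intro f hf k hk
      have hc : ⁅k, f⁆ ∈ (⁅F, F⁆ : Subgroup G) := Subgroup.commutator_mem_commutator (hKF hk) hf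
      have hcomm : Commute k ⁅k, f⁆ := (hcd hk _ hc).symm
      have hkt : k ^ Nat.card K = 1 := (elementary_of_card_prime rfl).2 k hk
      have h1 : ⁅k, f⁆ ^ Nat.card K = 1 := by
        have e : f * k * f⁻¹ = ⁅k, f⁆⁻¹ * k := by rw [commutatorElement_def]; group
        have h2 : (f * k * f⁻¹) ^ Nat.card K = 1 := by rw [conj_pow, hkt]; group
        rw [e, (hcomm.symm.inv_left).mul_pow, hkt, mul_one, inv_pow, inv_eq_one] at h2
        exact h2
      have h2 : ⁅k, f⁆ = 1 := by
        rw [← orderOf_eq_one_iff]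
        exact Nat.eq_one_of_dvd_coprimes (s.prime.coprime_iff_not_dvd.mpr htd)
          (orderOf_dvd_of_pow_eq_one h1) (Subgroup.orderOf_dvd_natCard _ hc)
      rwa [commutatorElement_def, mul_inv_eq_one, mul_inv_eq_iff_eq_mul] at h2
    exact ⟨K, le_rfl, hKF, hFK.trans (Subgroup.centralizer_le_normalizer _), hKc,
      hFK.trans s.centralizer_uniq.1⟩
  have hHL : H ⊓ L = F := meet_eq_complement hG hH hF hFL hmeetL
  rw [hHL]
  haveI := hBc
  exact ⟨hKB.trans (le_fittingOf_of_normal hBF hFB (by infer_instance)), hF⟩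

end P2Setting

end CfsgLib.MinSimpleOdd
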