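import Cfsg.Agent.Lib.MinSimpleOdd.TypeP
import Cfsg.Agent.S1363

/-!
Facts on maximal subgroups of Type I and the cores `M_s`.
-/

set_option autoImplicit false
set_option linter.unusedSectionVars false
set_option linter.style.haveILetI false
set_option maxHeartbeats 1000000

namespace CfsgLib.MinSimpleOdd

open Subgroup Cfsg
open scoped Pointwise commutatorElement IsMulCommutative

universe u
variable {G : Type u} [Group G] [Finite G] {M : Subgroup G}

theorem complIn_conj {A B X : Subgroup G} (g : G) (h : IsComplIn A B X) :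
    IsComplIn (MulAut.conj g • A) (MulAut.conj g • B) (MulAut.conj g • X) := by
  refine ⟨conj_smul_mono h.1 g, conj_smul_mono h.2.1 g, by rw [← Subgroup.smul_inf, h.2.2.1, Subgroup.smul_bot],
    fun m hm => ?_⟩
  obtain ⟨w, hw, rfl⟩ := hm
  obtain ⟨a, ha, b, hb, rfl⟩ := h.2.2.2 w hw
  exact ⟨_, ⟨a, ha, rfl⟩, _, ⟨b, hb, rfl⟩, map_mul _ a b⟩

variable (hG : IsMinSimpleOddOrder G)
include hG

/-- Type I forces `κ(M) = ∅`. -/
theorem typeF_kappa_eq_empty (hM : IsCoatom M) (hF : IsOfTypeF M) : kappa M = ∅ := by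
  by_contra hne
  obtain ⟨q, hq⟩ := Set.nonempty_iff_ne_empty.mpr hne
  haveI := Fact.mk hq.1
  obtain ⟨-, -, -, -, V, -, hV, -, V₀, -, hexp, hfree⟩ := hF
  obtain ⟨K, hK⟩ := CfsgLib.exists_isPiHallOf (kappa M) (M := M) (solvable_of_ne_top hG hM.1)
  obtain ⟨U, hKU⟩ := exists_sigmaDecomposition hG hM (kappaHall_cyclic hG hM hK) hK
  have hK1 : K ≠ ⊥ := by
    rintro rfl
    have h2 := hK.2.2 q hq.1 hq
    rw [Subgroup.relIndex_bot_left] at h2
    exact h2 hq.2.1
  obtain ⟨d, -⟩ := decomp_split hG hM hKU hK1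
  obtain ⟨-, -, hfix, -⟩ := Cfsg.Agent.S1364.result hG M hM K U hKU hK1
  have hqV : q ∣ Nat.card V := by
    have h1 : q ∣ Nat.card (fittingHall ↥M) * Nat.card V := by
      rw [hV.card_mul]; exact hq.2.1
    refine (hq.1.dvd_mul.mp h1).resolve_left fun h => hq.2.2.1 ?_
    refine (sigmaCore_hall hG hM).1.2.1 q hq.1 (h.trans ?_)
    rw [← Subgroup.card_map_of_injective M.subtype_injective (K := fittingHall ↥M)]
    exact Subgroup.card_dvd_of_le (fittingHallOf_le_sigmaCore hG hM)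
  obtain ⟨v, hv⟩ := exists_prime_orderOf_dvd_card' q hqV
  have hq0 : q ∣ Nat.card V₀ := (hv ▸ Monoid.order_dvd_exponent v : q ∣ Monoid.exponent V).trans
    (hexp ▸ Group.exponent_dvd_nat_card)
  obtain ⟨u, hu⟩ := exists_prime_orderOf_dvd_card' q hq0
  have hW : Nat.card (zpowers ((u : M) : G)) = q := by
    rw [Nat.card_zpowers, Subgroup.orderOf_coe, Subgroup.orderOf_coe, hu]
  obtain ⟨m, hm, hle⟩ := conj_into_hall hG hM.1 hK (Subgroup.zpowers_le.mpr (u : M).2) (pi_of_card hW hq)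
  have hmu : m * ((u : M) : G) * m⁻¹ ∈ K := hle ⟨_, mem_zpowers _, rfl⟩
  have hu1 : (u : M) ≠ 1 := fun e => hq.1.ne_one (by
    rw [← hu, ← Subgroup.orderOf_coe, e, orderOf_one])
  obtain ⟨⟨y, hy⟩, hy1⟩ := Subgroup.ne_bot_iff_exists_ne_one.mp d.fixed_ne
  have hyH : m⁻¹ * y * m ∈ fittingHallOf M := by
    have := (Subgroup.mem_normalizer_iff.mp (le_normalizer_fittingHallOf M (M.inv_mem hm)) y).mp (hfix hy)
    simpa using this
  obtain ⟨w, hw, hwe⟩ := hyH
  have hc : m * ((u : M) : G) * m⁻¹ * y = y * (m * ((u : M) : G) * m⁻¹) := (Subgroup.mem_inf.mp hy).2 _ hmu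
  have hw1 := hfree (u : M) u.2 hu1 w hw (Subtype.ext (by
    show ((u : M) : G) * (w : G) = (w : G) * ((u : M) : G)
    rw [show (w : G) = m⁻¹ * y * m from hwe]
    calc ((u : M) : G) * (m⁻¹ * y * m) = m⁻¹ * (m * ((u : M) : G) * m⁻¹ * y) * m := by group
      _ = m⁻¹ * (y * (m * ((u : M) : G) * m⁻¹)) * m := by rw [hc]
      _ = m⁻¹ * y * m * ((u : M) : G) := by group))
  refine hy1 (Subtype.ext ?_)
  have h3 : m⁻¹ * y * m = 1 := by rw [← hwe, hw1]; rfl
  show y = 1
  calc y = m * (m⁻¹ * y * m) * m⁻¹ := by group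
    _ = 1 := by rw [h3]; group

/-- A complement of `M_F` in a maximal subgroup of Type I gives a standard factorisation with `K = 1`. -/
theorem typeI_decomp (hM : IsCoatom M) (hI : IsOfTypeI M) {U : Subgroup G}
    (hU : IsComplIn (fittingHallOf M) U M) :
    fittingHallOf M = sigmaCore M ∧ IsSigmaDecomposition M ⊥ U := by
  have hκ := typeF_kappa_eq_empty hG hM hI.1
  have hH := fittingHallOf_eq hG hM (nilpotent_of_kappa_empty hG hM hκ)
  refine ⟨hH, inferInstance, ⟨bot_le, fun r hr hd => absurd (Subgroup.card_bot (G := G) ▸ hd) hr.not_dvd_one,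
    fun r _ hr' => absurd (hκ ▸ hr') (Set.notMem_empty r)⟩, ?_, bot_le⟩
  rw [bot_sup_eq, ← hH]
  refine ⟨hU.2.1, hU.1, by rw [inf_comm]; exact hU.2.2.1, fun m hm => ?_⟩
  obtain ⟨a, ha, b, hb, rfl⟩ := hU.2.2.2 m hm
  refine ⟨b, hb, b⁻¹ * a * b, ?_, by group⟩
  have := (Subgroup.mem_normalizer_iff.mp (le_normalizer_fittingHallOf M (M.inv_mem (hU.2.1 hb))) a).mp ha
  simpa using this

/-- A complement of `M_σ` in `M'` belongs to a standard factorisation. -/
theorem exists_decomp_of_complement (hM : IsCoatom M) {K U U' : Subgroup G} (h : IsSigmaDecomposition M K U)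
    (hK1 : K ≠ ⊥) (hU' : IsComplIn (sigmaCore M) U' ⁅M, M⁆) : ∃ K' : Subgroup G, IsSigmaDecomposition M K' U' := by
  obtain ⟨d, hs⟩ := decomp_split hG hM h hK1
  obtain ⟨hSU, -, -⟩ := kappa_split_data hG hM h hK1
  have hcard : Nat.card U' = Nat.card U :=
    Nat.eq_of_mul_eq_mul_left (Nat.card_pos (α := sigmaCore M)) (by rw [← card_complIn hU', ← card_complIn hSU])
  have hUσ : ∀ r : ℕ, r.Prime → r ∣ Nat.card U → r ∉ sigma M := fun r hr hd =>
    complement_sigma' hG hM hs.hE r hr (hd.trans (Subgroup.card_dvd_of_le hs.UE))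
  have hMM : (⁅M, M⁆ : Subgroup G) ≠ ⊤ := fun e =>
    hM.1 (top_le_iff.mp (e.ge.trans (Subgroup.commutator_le_self M)))
  have hhall : IsPiHallOf {r | r ∉ sigma M} U ⁅M, M⁆ := ⟨hSU.2.1, hUσ, fun r hr hrσ hd => hrσ ?_⟩
  swap
  · have he : U.relIndex (⁅M, M⁆ : Subgroup G) = Nat.card (sigmaCore M) := by
      refine Nat.eq_of_mul_eq_mul_left (Nat.card_pos (α := U)) ?_
      rw [← Subgroup.relIndex_bot_left U, Subgroup.relIndex_mul_relIndex _ _ _ bot_le hSU.2.1,
        Subgroup.relIndex_bot_left, Subgroup.relIndex_bot_left, card_complIn hSU, mul_comm]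
    exact (sigmaCore_hall hG hM).1.2.1 r hr (he ▸ hd)
  obtain ⟨e, he, hle⟩ := conj_into_hall hG hMM hhall hU'.2.1 fun r hr hd => hUσ r hr (hcard ▸ hd)
  have heq : MulAut.conj e⁻¹ • U = U' := by
    rw [← Subgroup.eq_of_le_of_card_ge hle (by rw [CfsgLib.card_conj_smul, hcard]), CfsgLib.conj_smul_mul,
      inv_mul_cancel, map_one, one_smul]
  have heM : e⁻¹ ∈ M := M.inv_mem (Subgroup.commutator_le_self M he)
  have hMfix : MulAut.conj e⁻¹ • M = M := conj_smul_eq_of_mem_normalizer (Subgroup.le_normalizer heM)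
  have hKle : MulAut.conj e⁻¹ • K ≤ M := (conj_smul_mono h.hall.1 _).trans hMfix.le
  refine ⟨MulAut.conj e⁻¹ • K, ?_, ⟨hKle, fun r hr hd => h.hall.2.1 r hr (by rwa [CfsgLib.card_conj_smul] at hd),
    fun r hr hrk hd => h.hall.2.2 r hr hrk ?_⟩, ?_, ?_⟩
  · haveI := h.cyclic
    exact isCyclic_of_injective (Subgroup.equivSMul (MulAut.conj e⁻¹) K).symm.toMonoidHom (MulEquiv.injective _)
  · rwa [← hMfix, Subgroup.relIndex_pointwise_smul] at hd
  · have := complIn_conj e⁻¹ h.compl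
    rwa [heq, Subgroup.smul_sup, hMfix,
      conj_smul_eq_of_mem_normalizer (le_normalizer_sigmaCore hG hM le_rfl heM)] at this
  · rw [← heq]
    rintro _ ⟨k, hk, rfl⟩
    exact normalizer_conj_mem (h.normal hk)

/-- The type cores are `M_F`, or `M_σ` for types III and IV. -/
theorem typeCore_cases (hM : IsCoatom M) : typeCore M = fittingHallOf M ∨ typeCore M = sigmaCore M := by
  classical
  by_cases h : IsOfTypeIII M ∨ IsOfTypeIV M
  swap
  · exact Or.inl (if_neg h)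
  right
  rw [typeCore, if_pos h]
  obtain ⟨W₁, U', W₂, hP, hN⟩ : ∃ W₁ U' W₂ : Subgroup G,
      IsTypePWith M W₁ U' W₂ ∧ normalizer (U' : Set G) ≤ M := by
    rcases h with ⟨a, b, c, hP, -, -, -, -, h2⟩ | ⟨a, b, c, hP, -, -, -, -, h2⟩
    · exact ⟨a, b, c, hP, h2⟩
    · exact ⟨a, b, c, hP, h2⟩
  obtain ⟨K, hK⟩ := CfsgLib.exists_isPiHallOf (kappa M) (M := M) (solvable_of_ne_top hG hM.1)
  obtain ⟨U, hKU⟩ := exists_sigmaDecomposition hG hM (kappaHall_cyclic hG hM hK) hK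
  obtain ⟨hK1, -, -⟩ := typeP_facts hG hM hP hKU
  have hU : U = ⊥ := by
    by_contra hU
    exact typeP_normalizer_not_le hG hM hP hKU hU (Cfsg.Agent.S1363.result hG M hM K U hKU hK1).2 hN
  rw [kappa_derived_eq hG hM hKU hK1, hU, bot_sup_eq]

/-- A Hall subgroup `X` of `M_σ` is a Hall subgroup of `G` with Sylow normalizers in `M`. -/
theorem core_hall_facts (hM : IsCoatom M) {X : Subgroup G} (hX : X ≤ sigmaCore M)
    (hcop : (Nat.card X).Coprime (X.relIndex (sigmaCore M))) :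
    (Nat.card X).Coprime X.index ∧
      ∀ (p : ℕ), p.Prime → ∀ P : Sylow p ↥X, (P : Subgroup ↥X) ≠ ⊥ →
        normalizer (((P : Subgroup ↥X).map X.subtype : Subgroup G) : Set G) ≤ M := by
  have hcopG : (Nat.card X).Coprime X.index := by
    rw [← Subgroup.relIndex_mul_index hX]
    refine Nat.Coprime.mul_right hcop (Nat.coprime_of_dvd fun r hr h1 h2 => ?_)
    exact (sigmaCore_hall hG hM).2.2 r hr
      ((sigmaCore_hall hG hM).1.2.1 r hr (h1.trans (Subgroup.card_dvd_of_le hX))) h2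
  refine ⟨hcopG, fun p hp P hP => ?_⟩
  haveI := Fact.mk hp
  have hle : (P : Subgroup ↥X).map X.subtype ≤ X := Subgroup.map_subtype_le _
  obtain ⟨Y, hY, hYc⟩ := exists_sub_card P.2 hP
  have hpX : p ∣ Nat.card X := hYc ▸ Subgroup.card_subgroup_dvd_card Y
  refine normalizer_sigma_sylow_le hG hM ((sigmaCore_hall hG hM).1.2.1 p hp
    (hpX.trans (Subgroup.card_dvd_of_le hX))) (hle.trans (hX.trans (piCoreOf_le _ _))) (P.2.map _) fun h => ?_
  rw [← Subgroup.relIndex_mul_index hle] at h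
  rcases hp.dvd_mul.mp h with h | h
  · exact not_dvd_of_sylow _ P h
  · exact hp.ne_one (Nat.eq_one_of_dvd_coprimes hcopG hpX h)

end CfsgLib.MinSimpleOdd
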