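import Cfsg.Agent.Lib.MinSimpleOdd.FittingStructure
import Cfsg.Agent.Lib.MinSimpleOdd.FreeExponent
import Cfsg.Agent.S1364

/-!
Maximal subgroups with `κ(M) ≠ ∅` as subgroups of type P (B–G §16).
-/

set_option autoImplicit false
set_option linter.unusedSectionVars false
set_option linter.style.haveILetI false
set_option maxHeartbeats 1000000

namespace CfsgLib.MinSimpleOdd

open Subgroup Cfsg
open scoped Pointwise commutatorElement IsMulCommutative

universe u
variable {G : Type u} [Group G] [Finite G] {M K U : Subgroup G}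

theorem fittingHall_characteristic {S : Type u} [Group S] [Finite S] : (fittingHall S).Characteristic :=
  Subgroup.characteristic_iff_map_le.mpr fun f => by
    rw [Subgroup.map_le_iff_le_comap]
    refine sSup_le fun N hN => ?_
    rw [← Subgroup.map_le_iff_le_comap]
    haveI := hN.2.1
    refine le_sSup ⟨Subgroup.Normal.map hN.1 f.toMonoidHom f.surjective, ?_, ?_⟩
    · exact Group.nilpotent_of_mulEquiv (N.equivMapOfInjective f.toMonoidHom f.injective)
    · rw [Subgroup.card_map_of_injective f.injective, Subgroup.index_map_of_bijective f.bijective]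
      exact hN.2.2

theorem le_fittingHallOf_of_normal {X : Subgroup G} (hXM : X ≤ M) (hn : M ≤ normalizer (X : Set G))
    (hX : Group.IsNilpotent X) (hcop : (Nat.card X).Coprime (X.relIndex M)) : X ≤ fittingHallOf M := by
  have h : X.subgroupOf M ≤ fittingHall ↥M := le_sSup ⟨(Subgroup.normal_subgroupOf_iff_le_normalizer hXM).mpr hn,
    Group.nilpotent_of_mulEquiv (Subgroup.subgroupOfEquivOfLe hXM).symm,
    by rwa [Nat.card_congr (Subgroup.subgroupOfEquivOfLe hXM).toEquiv]⟩
  intro y hy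
  exact ⟨⟨y, hXM hy⟩, h (Subgroup.mem_subgroupOf.mpr hy), rfl⟩

theorem pRankLE_one_of_cyclic {p : ℕ} [Fact p.Prime] {A : Subgroup G} (hc : IsCyclic A) : PRankLE p 1 A :=
  fun B _ hexp => by
    haveI := hc
    rw [pow_one]
    exact card_le_of_cyclic (G := A) (Fact.out : p.Prime) hexp inferInstance

variable (hG : IsMinSimpleOddOrder G)
include hG

/-- The pair `K`, `K*` is self-normalizing cyclic. -/
theorem KappaPair.selfNormalizing {L : Subgroup G} (p : KappaPair M K L) :
    IsSelfNormalizingCyclic K (fixedCore M K) := by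
  refine ⟨p.left.ne, p.left.fixed_ne, p.left.inf_bot hG, fun a ha b hb => hb.2 a ha, p.cyclic hG,
    fun X hX hne => le_antisymm ?_ ?_⟩
  · intro g hg
    obtain ⟨z, hz⟩ := hne
    exact p.hat_conj hG (hX hz) (hX ((hg z).mp hz)).1
  · intro g hg
    haveI := cyclic_isCommutative (p.cyclic hG)
    have key : ∀ y ∈ K ⊔ fixedCore M K, g * y * g⁻¹ = y := fun y hy => by
      rw [show g * y = y * g from congrArg Subtype.val (mul_comm' (⟨g, hg⟩ : ↥(K ⊔ fixedCore M K)) ⟨y, hy⟩),
        mul_inv_cancel_right]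
    refine fun n => ⟨fun hn => by rwa [key n (hX hn).1], fun hn => ?_⟩
    have h1 := key _ (hX hn).1
    have h2 : g * n * g⁻¹ = n := mul_left_cancel (mul_right_cancel h1)
    rwa [h2] at hn

/-- A nilpotent Hall subgroup of `M_σ` has its normalizer in `M`. -/
theorem normalizer_le_of_core_hall (hM : IsCoatom M) {D : Subgroup G} (hD : D ≤ sigmaCore M) (hD1 : D ≠ ⊥)
    (hDn : Group.IsNilpotent D) (hcop : (Nat.card D).Coprime (D.relIndex (sigmaCore M))) :
    normalizer (D : Set G) ≤ M := by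
  obtain ⟨p, hp, hpd⟩ := Nat.exists_prime_and_dvd fun h => hD1 (Subgroup.card_eq_one.mp h)
  haveI := Fact.mk hp
  obtain ⟨P⟩ : Nonempty (Sylow p ↥D) := inferInstance
  haveI : (P : Subgroup ↥D).Normal :=
    (Group.isNilpotent_of_finite_tfae.out 0 3 rfl rfl).mp hDn p inferInstance P
  haveI : (P : Subgroup ↥D).Characteristic := Sylow.characteristic_of_normal P inferInstance
  refine (CfsgLib.le_normalizer_map_characteristic le_rfl (P : Subgroup ↥D)).1.trans ?_
  have hsM : sigmaCore M ≤ M := piCoreOf_le _ _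
  have hle : (P : Subgroup ↥D).map D.subtype ≤ D := Subgroup.map_subtype_le _
  have hpσ := (sigmaCore_hall hG hM).1.2.1 p hp (hpd.trans (Subgroup.card_dvd_of_le hD))
  refine normalizer_sigma_sylow_le hG hM hpσ (hle.trans (hD.trans hsM)) (P.2.map _) fun h => ?_
  rw [← Subgroup.relIndex_mul_index hle, ← Subgroup.relIndex_mul_index hD] at h
  rcases hp.dvd_mul.mp h with h | h
  · exact not_dvd_of_sylow _ P h
  rcases hp.dvd_mul.mp h with h | h
  · exact hp.ne_one (Nat.eq_one_of_dvd_coprimes hcop hpd h)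
  · exact (sigmaCore_hall hG hM).2.2 p hp hpσ h

/-- `M = M' K`, `M' = M_σ U` with `|K|` prime to `|M'|`. -/
theorem kappa_split_data (hM : IsCoatom M) (h : IsSigmaDecomposition M K U) (hK1 : K ≠ ⊥) :
    IsComplIn (sigmaCore M) U ⁅M, M⁆ ∧ IsComplIn ⁅M, M⁆ K M ∧
      (Nat.card K).Coprime (Nat.card (⁅M, M⁆ : Subgroup G)) := by
  obtain ⟨d, hs⟩ := decomp_split hG hM h hK1
  have hder := kappa_derived_eq hG hM h hK1
  have hsM : sigmaCore M ≤ M := piCoreOf_le _ _
  have hUn : U ≤ normalizer (sigmaCore M : Set G) := h.compl.1.trans (le_normalizer_sigmaCore hG hM le_rfl)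
  have hUS : U ⊓ sigmaCore M = ⊥ :=
    le_bot_iff.mp ((inf_le_inf_left _ le_sup_right).trans h.compl.2.2.1.le)
  have hc := complIn_sup hUn hUS
  rw [← hder] at hc
  have hcop : (Nat.card K).Coprime (Nat.card (⁅M, M⁆ : Subgroup G)) := Nat.coprime_of_dvd fun r hr h1 h2 => by
    rw [card_complIn hc] at h2
    rcases hr.dvd_mul.mp h2 with h2 | h2
    · exact hs.hallU.2.1 r hr h2 (h.hall.2.1 r hr h1)
    · exact (h.hall.2.1 r hr h1).2.2.1 ((sigmaCore_hall hG hM).1.2.1 r hr h2)
  refine ⟨⟨hc.2.1, hc.1, inf_comm (a := U) (b := sigmaCore M) ▸ hUS, fun m hm => ?_⟩,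
    ⟨Subgroup.commutator_le_self M, h.hall.1,
      disjoint_iff.mp (Subgroup.disjoint_of_coprime_natCard hcop.symm), fun m hm => ?_⟩, hcop⟩
  · obtain ⟨w, hw, s, hs', rfl⟩ := hc.2.2.2 m hm
    exact ⟨w * s * w⁻¹, (Subgroup.mem_normalizer_iff.mp (hUn hw) s).mp hs', w, hw, by group⟩
  · obtain ⟨w, hw, b, hb, rfl⟩ := h.compl.2.2.2 m hm
    obtain ⟨k, hk, s, hsσ, rfl⟩ := (complIn_sup (h.hall.1.trans (le_normalizer_sigmaCore hG hM le_rfl))
      (decomp_inf hG hM h.hall)).2.2.2 b hb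
    refine ⟨w * (k * s * k⁻¹), ?_, k, hk, by group⟩
    rw [hder]
    exact Subgroup.mul_mem _ (Subgroup.mem_sup_left hw) (Subgroup.mem_sup_right
      ((Subgroup.mem_normalizer_iff.mp (le_normalizer_sigmaCore hG hM le_rfl (h.hall.1 hk)) s).mp hsσ))

/-- The type P data read off from a standard factorisation, given a complement of `M_F` in `M'`. -/
theorem typeP_of_complement (hM : IsCoatom M) (h : IsSigmaDecomposition M K U) (hK1 : K ≠ ⊥) {U' : Subgroup G}
    (hc : IsComplIn (fittingHallOf M) U' ⁅M, M⁆) (hn : Group.IsNilpotent U')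
    (hKn : K ≤ normalizer (U' : Set G)) : IsTypePWith M K U' (fixedCore M K) := by
  obtain ⟨d, hs⟩ := decomp_split hG hM h hK1
  obtain ⟨L, p⟩ := d.exists_pair hG
  obtain ⟨hSU, hMK, hcop⟩ := kappa_split_data hG hM h hK1
  obtain ⟨-, -, hfix, hnc⟩ := Cfsg.Agent.S1364.result hG M hM K U h hK1
  obtain ⟨hMdd, hF⟩ := fitting_eq hG hM
  have hk : (kappa M).Nonempty := by
    obtain ⟨r, hr, hrd⟩ := Nat.exists_prime_and_dvd fun e => hK1 (Subgroup.card_eq_one.mp e)
    exact ⟨r, h.hall.2.1 r hr hrd⟩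
  exact
    { W₁_ne := hK1
      W₁_cyclic := h.cyclic
      W₁_hall := Nat.coprime_of_dvd fun r hr h1 h2 => h.hall.2.2 r hr (h.hall.2.1 r hr h1) h2
      W₁_compl := hMK
      U_nilpotent := hn
      U_normal := hKn
      U_compl := hc
      H_not_cyclic := hnc
      derived_two_le := by rw [sup_comm, ← hF]; exact hMdd
      fitting_eq := by rw [sup_comm]; exact hF.symm
      fitting_le := fitting_le_derived hG hM hk
      W₂_le := le_inf hfix (kappa_fixed_le_derived hG hM h hK1)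
      W₂_centralizer := fun k hk hk1 => le_antisymm (fun x hx => by
          have hx' : x ∈ K ⊔ fixedCore M K := (d.centralizer_eq hG hk hk1).le
            ⟨Subgroup.commutator_le_self M hx.1, hx.2⟩
          obtain ⟨k', hk', c, hc', rfl⟩ := (d.compl hG).2.2.2 x hx'
          have h3 := (⁅M, M⁆ : Subgroup G).mul_mem (Subgroup.mem_inf.mp hx).1
            ((⁅M, M⁆ : Subgroup G).inv_mem (hSU.1 hc'.1))
          rw [mul_inv_cancel_right] at h3
          have : k' ∈ (⁅M, M⁆ : Subgroup G) ⊓ K := Subgroup.mem_inf.mpr ⟨h3, hk'⟩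
          rw [hMK.2.2.1, Subgroup.mem_bot] at this
          rw [this, one_mul]
          exact hc') fun c hc' => ⟨hSU.1 hc'.1, Subgroup.mem_centralizer_singleton_iff.mpr (hc'.2 k hk).symm⟩
      selfNormalizing := p.selfNormalizing hG }

/-- B–G §16: a maximal subgroup with `κ(M) ≠ ∅` is of type P. -/
theorem exists_typeP (hM : IsCoatom M) (h : IsSigmaDecomposition M K U) (hK1 : K ≠ ⊥) :
    ∃ U' : Subgroup G, IsTypePWith M K U' (fixedCore M K) ∧
      (U ≠ ⊥ → U' = U ∧ fittingHallOf M = sigmaCore M) ∧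
      (U = ⊥ → (U' = ⊥ ↔ fittingHallOf M = sigmaCore M)) := by
  obtain ⟨d, hs⟩ := decomp_split hG hM h hK1
  obtain ⟨hSU, hMK, hcop⟩ := kappa_split_data hG hM h hK1
  haveI := hs.comm
  by_cases hU : U = ⊥
  swap
  · have hH := fittingHallOf_eq hG hM (hs.two hU).1
    exact ⟨U, typeP_of_complement hG hM h hK1 (hH ▸ hSU) CommGroup.isNilpotent h.normal,
      fun _ => ⟨rfl, hH⟩, fun e => absurd e hU⟩
  subst hU
  have hMS : (⁅M, M⁆ : Subgroup G) = sigmaCore M := by rw [kappa_derived_eq hG hM h hK1, bot_sup_eq]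
  by_cases hH : fittingHallOf M = sigmaCore M
  · exact ⟨⊥, typeP_of_complement hG hM h hK1 (hH ▸ hSU) CommGroup.isNilpotent h.normal,
      fun e => absurd rfl e, fun _ => iff_of_true rfl hH⟩
  have hnn : ¬ Group.IsNilpotent (sigmaCore M) := fun e => hH (fittingHallOf_eq hG hM e)
  obtain ⟨-, q, Q, nd⟩ := exists_nonNilData hG hM h hnn
  obtain ⟨D, hD, hKD, hDn, -⟩ := nd.exists_compl hG
  set H := fittingHallOf M with hHdef
  set π : Set ℕ := {r | r.Prime ∧ ¬ r ∣ Nat.card H}
  set U' := piCoreOf π D with hU'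
  have hU'D : U' ≤ D := piCoreOf_le _ _
  have hU'S : U' ≤ sigmaCore M := hU'D.trans hD.2.1
  have hHS : H ≤ sigmaCore M := fittingHallOf_le_sigmaCore hG hM
  have hinf : H ⊓ U' = ⊥ := disjoint_iff.mp (Subgroup.disjoint_of_coprime_natCard
    (Nat.coprime_of_dvd fun r hr h1 h2 => (pi_piCoreOf π D r hr h2).2 h1))
  have hgen : sigmaCore M ≤ H ⊔ U' := le_of_sylows fun r hr => by
    haveI := Fact.mk hr
    by_cases hrH : r ∣ Nat.card H
    · obtain ⟨R, -, hRH, hR, hRi⟩ := exists_sylow_ge (p := r) (bot_le : (⊥ : Subgroup G) ≤ H) IsPGroup.of_bot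
      refine ⟨R, hRH.trans hHS, fun hd => ?_, le_sup_of_le_left hRH⟩
      rw [← Subgroup.relIndex_mul_relIndex R H (sigmaCore M) hRH hHS] at hd
      rcases hr.dvd_mul.mp hd with hd | hd
      · exact hRi hd
      · exact hr.ne_one (Nat.eq_one_of_dvd_coprimes (fittingHallOf_hall hG hM).2 hrH hd)
    · obtain ⟨R, -, hRD, hR, hRi⟩ := exists_sylow_ge (p := r) (bot_le : (⊥ : Subgroup G) ≤ D) IsPGroup.of_bot
      refine ⟨R, hRD.trans hD.2.1, fun hd => ?_, le_sup_of_le_right ?_⟩
      · rw [← Subgroup.relIndex_mul_relIndex R D (sigmaCore M) hRD hD.2.1] at hd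
        rcases hr.dvd_mul.mp hd with hd | hd
        · exact hRi hd
        · have he : D.relIndex (sigmaCore M) = Nat.card Q := by
            refine Nat.eq_of_mul_eq_mul_left (Nat.card_pos (α := D)) ?_
            rw [← Subgroup.relIndex_bot_left D, Subgroup.relIndex_mul_relIndex _ _ _ bot_le hD.2.1,
              Subgroup.relIndex_bot_left, Subgroup.relIndex_bot_left, card_complIn hD, mul_comm]
          rw [he] at hd
          exact hrH (hd.trans (Subgroup.card_dvd_of_le nd.le_fitting))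
      · refine (le_piCoreOf_of_nilpotent hDn hRD hR).trans (le_piCoreOf (piCoreOf_le _ _)
          (le_normalizer_piCoreOf_self _ _) fun a ha hd => ⟨ha, ?_⟩)
        have : a = r := pi_piCoreOf {r} D a ha hd
        rwa [this]
  have hU'n : U' ≤ normalizer (H : Set G) :=
    (hU'S.trans (piCoreOf_le _ _)).trans (le_normalizer_fittingHallOf M)
  have hc : IsComplIn H U' ⁅M, M⁆ := by
    rw [hMS]
    refine ⟨hHS, hU'S, hinf, fun m hm => ?_⟩
    obtain ⟨w, hw, a, ha, rfl⟩ := CfsgLib.mem_sup_of_le_normalizer hU'n (hgen hm)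
    exact ⟨w, hw, a, ha, rfl⟩
  haveI := hDn
  refine ⟨U', typeP_of_complement hG hM h hK1 hc
      (Group.nilpotent_of_mulEquiv (Subgroup.subgroupOfEquivOfLe hU'D))
      (hKD.trans (normalizer_le_normalizer_piCoreOf _ _)), fun e => absurd rfl e,
    fun _ => iff_of_false (fun e => hH (le_antisymm hHS ?_)) hH⟩
  rw [e, sup_bot_eq] at hgen
  exact hgen

/-- Type P data determine `|K|` and the vanishing of `U`. -/
theorem typeP_facts (hM : IsCoatom M) {W₁ U' W₂ : Subgroup G} (hP : IsTypePWith M W₁ U' W₂)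
    (h : IsSigmaDecomposition M K U) :
    K ≠ ⊥ ∧ Nat.card W₁ = Nat.card K ∧ (U' = ⊥ ↔ U = ⊥ ∧ fittingHallOf M = sigmaCore M) := by
  have hsM : sigmaCore M ≤ M := piCoreOf_le _ _
  have hder : sigmaCore M ≤ ⁅M, M⁆ := core_le_derived hG hM subset_rfl
  have hidx : W₁.relIndex M = Nat.card (⁅M, M⁆ : Subgroup G) := by
    refine Nat.eq_of_mul_eq_mul_left (Nat.card_pos (α := W₁)) ?_
    rw [← Subgroup.relIndex_bot_left W₁, Subgroup.relIndex_mul_relIndex _ _ _ bot_le hP.W₁_compl.2.1,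
      Subgroup.relIndex_bot_left, Subgroup.relIndex_bot_left, card_complIn hP.W₁_compl, mul_comm]
  obtain ⟨r, hr, W, hWle, hW⟩ := exists_prime_subgroup hP.W₁_ne
  haveI := Fact.mk hr
  obtain ⟨w, hw, hwW⟩ := exists_gen hW
  have hwm : w ∈ W₁ := hWle (hwW ▸ mem_zpowers w)
  have hw1 : w ≠ 1 := fun e => hr.ne_one (by rw [← hw, e, orderOf_one])
  have hrW : r ∣ Nat.card W₁ := hW ▸ Subgroup.card_dvd_of_le hWle
  have hrσ : r ∉ sigma M := fun hσ => by
    have hd : r ∣ Nat.card M := hrW.trans (Subgroup.card_dvd_of_le hP.W₁_compl.2.1)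
    rw [← Subgroup.relIndex_bot_left M, ← Subgroup.relIndex_mul_relIndex _ _ _ bot_le hsM,
      Subgroup.relIndex_bot_left] at hd
    rcases hr.dvd_mul.mp hd with hd | hd
    · have hW1 := hP.W₁_hall
      rw [hidx] at hW1
      exact hr.ne_one (Nat.eq_one_of_dvd_coprimes hW1 hrW (hd.trans (Subgroup.card_dvd_of_le hder)))
    · exact (sigmaCore_hall hG hM).1.2.2 r hr hσ hd
  obtain ⟨⟨y, hy⟩, hy1⟩ := Subgroup.ne_bot_iff_exists_ne_one.mp hP.selfNormalizing.2.1
  have hy1' : y ≠ 1 := fun e => hy1 (Subtype.ext e)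
  have hys : y ∈ sigmaCore M := fittingHallOf_le_sigmaCore hG hM (hP.W₂_le hy).1
  have hwy : w ∈ M ⊓ centralizer ({y} : Set G) := ⟨hP.W₁_compl.2.1 hwm,
    Subgroup.mem_centralizer_singleton_iff.mpr (hP.selfNormalizing.2.2.2.1 w hwm y hy)⟩
  have hpi : ∀ p : ℕ, p.Prime → p ∣ orderOf w → p = r := fun p hp hd =>
    (Nat.prime_dvd_prime_iff_eq hp hr).mp (hw ▸ hd)
  have hκ : r ∈ kappa M := by
    rcases sigma_element_dichotomy hG hM hys hy1' hwy hw1 fun p hp hd => hpi p hp hd ▸ hrσ with ⟨h1, -⟩ | ⟨h1, -⟩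
    · exact h1 r hr hw.symm.dvd
    · obtain ⟨R, -, hRW, hR, hRi⟩ := exists_sylow_ge (p := r) (bot_le : (⊥ : Subgroup G) ≤ W₁) IsPGroup.of_bot
      refine absurd (pRankLE_of_sylow_rel (hRW.trans hP.W₁_compl.2.1) hR (fun hd => ?_)
        (pRankLE_one_of_cyclic ?_)) (h1 r hr hw.symm.dvd).2.2.2
      · rw [← Subgroup.relIndex_mul_relIndex R W₁ M hRW hP.W₁_compl.2.1] at hd
        rcases hr.dvd_mul.mp hd with hd | hd
        · exact hRi hd
        · exact hr.ne_one (Nat.eq_one_of_dvd_coprimes hP.W₁_hall hrW hd)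
      · haveI := hP.W₁_cyclic
        exact isCyclic_of_injective (Subgroup.inclusion hRW) (Subgroup.inclusion_injective _)
  have hK1 : K ≠ ⊥ := by
    rintro rfl
    have h2 := h.hall.2.2 r hr hκ
    rw [Subgroup.relIndex_bot_left] at h2
    exact h2 hκ.2.1
  obtain ⟨hSU, hMK, -⟩ := kappa_split_data hG hM h hK1
  refine ⟨hK1, Nat.eq_of_mul_eq_mul_left (Nat.card_pos (α := (⁅M, M⁆ : Subgroup G))) ?_, ?_, ?_⟩
  · rw [← card_complIn hP.W₁_compl, ← card_complIn hMK]
  · rintro rfl
    have hle : (⁅M, M⁆ : Subgroup G) ≤ fittingHallOf M := fun m hm => by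
      obtain ⟨a, ha, b, hb, rfl⟩ := hP.U_compl.2.2.2 m hm
      rw [Subgroup.mem_bot] at hb
      rw [hb, mul_one]
      exact ha
    have hHS := fittingHallOf_le_sigmaCore hG hM
    exact ⟨le_bot_iff.mp (hSU.2.2.1 ▸ le_inf ((hSU.2.1.trans hle).trans hHS) le_rfl),
      le_antisymm hHS (hder.trans hle)⟩
  · rintro ⟨rfl, hH⟩
    have hle : U' ≤ sigmaCore M := fun x hx => by
      have := kappa_derived_eq hG hM h hK1 ▸ hP.U_compl.2.1 hx
      simpa using this
    exact le_bot_iff.mp (hP.U_compl.2.2.1 ▸ le_inf (hle.trans hH.ge) le_rfl)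

/-- For `U = 1` a nontrivial complement of `M_F` in `M'` has its normalizer in `M`. -/
theorem typeP_normalizer_le (hM : IsCoatom M) {W₁ U' W₂ : Subgroup G} (hP : IsTypePWith M W₁ U' W₂)
    (h : IsSigmaDecomposition M K U) (hU : U = ⊥) (hU' : U' ≠ ⊥) : normalizer (U' : Set G) ≤ M := by
  obtain ⟨hK1, -, -⟩ := typeP_facts hG hM hP h
  have hMS : (⁅M, M⁆ : Subgroup G) = sigmaCore M := by rw [kappa_derived_eq hG hM h hK1, hU, bot_sup_eq]
  have hc := hP.U_compl
  rw [hMS] at hc
  refine normalizer_le_of_core_hall hG hM hc.2.1 hU' hP.U_nilpotent ?_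
  have he : U'.relIndex (sigmaCore M) = Nat.card (fittingHallOf M) := by
    refine Nat.eq_of_mul_eq_mul_left (Nat.card_pos (α := U')) ?_
    rw [← Subgroup.relIndex_bot_left U', Subgroup.relIndex_mul_relIndex _ _ _ bot_le hc.2.1,
      Subgroup.relIndex_bot_left, Subgroup.relIndex_bot_left, card_complIn hc, mul_comm]
  have hi : (fittingHallOf M).relIndex (sigmaCore M) = Nat.card U' := by
    refine Nat.eq_of_mul_eq_mul_left (Nat.card_pos (α := fittingHallOf M)) ?_
    rw [← Subgroup.relIndex_bot_left (fittingHallOf M), Subgroup.relIndex_mul_relIndex _ _ _ bot_le hc.1,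
      Subgroup.relIndex_bot_left, Subgroup.relIndex_bot_left, card_complIn hc]
  rw [he, ← hi]
  exact (fittingHallOf_hall hG hM).2.symm

/-- For `U ≠ 1` a complement of `M_F` in `M'` is conjugate to `U`, so its normalizer is not in `M`. -/
theorem typeP_normalizer_not_le (hM : IsCoatom M) {W₁ U' W₂ : Subgroup G} (hP : IsTypePWith M W₁ U' W₂)
    (h : IsSigmaDecomposition M K U) (hU : U ≠ ⊥) (hUN : ¬ normalizer (U : Set G) ≤ M) :
    ¬ normalizer (U' : Set G) ≤ M := by
  obtain ⟨hK1, -, -⟩ := typeP_facts hG hM hP h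
  obtain ⟨d, hs⟩ := decomp_split hG hM h hK1
  obtain ⟨hSU, -, -⟩ := kappa_split_data hG hM h hK1
  have hc := hP.U_compl
  rw [fittingHallOf_eq hG hM (hs.two hU).1] at hc
  have hUσ : ∀ r : ℕ, r.Prime → r ∣ Nat.card U → r ∉ sigma M := fun r hr hd =>
    complement_sigma' hG hM hs.hE r hr (hd.trans (Subgroup.card_dvd_of_le hs.UE))
  have hcard : Nat.card U' = Nat.card U :=
    Nat.eq_of_mul_eq_mul_left (Nat.card_pos (α := sigmaCore M)) (by rw [← card_complIn hc, ← card_complIn hSU])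
  have hMM : (⁅M, M⁆ : Subgroup G) ≠ ⊤ := fun e =>
    hM.1 (top_le_iff.mp (e.ge.trans (Subgroup.commutator_le_self M)))
  have hhall : IsPiHallOf {r | r ∉ sigma M} U ⁅M, M⁆ := ⟨hSU.2.1, hUσ, fun r hr hrσ hd => hrσ ?_⟩
  swap
  · have he : U.relIndex (⁅M, M⁆ : Subgroup G) = Nat.card (sigmaCore M) := by
      refine Nat.eq_of_mul_eq_mul_left (Nat.card_pos (α := U)) ?_
      rw [← Subgroup.relIndex_bot_left U, Subgroup.relIndex_mul_relIndex _ _ _ bot_le hSU.2.1,
        Subgroup.relIndex_bot_left, Subgroup.relIndex_bot_left, card_complIn hSU, mul_comm]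
    exact (sigmaCore_hall hG hM).1.2.1 r hr (he ▸ hd)
  obtain ⟨e, he, hle⟩ := conj_into_hall hG hMM hhall hc.2.1 fun r hr hd => hUσ r hr (hcard ▸ hd)
  have heq : MulAut.conj e • U' = U :=
    Subgroup.eq_of_le_of_card_ge hle (by rw [CfsgLib.card_conj_smul, hcard])
  intro hN
  have heM : e ∈ M := Subgroup.commutator_le_self M he
  refine hUN fun g hg => ?_
  have h1 : e⁻¹ * g * e ∈ normalizer (U' : Set G) := by
    have := normalizer_conj_mem (g := e⁻¹) hg
    rwa [← heq, CfsgLib.conj_smul_mul, inv_mul_cancel, map_one, one_smul, inv_inv] at this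
  have := M.mul_mem (M.mul_mem heM (hN h1)) (M.inv_mem heM)
  rwa [show e * (e⁻¹ * g * e) * e⁻¹ = g by group] at this

/-- `M'` is of Frobenius type with kernel `M_σ` when `K ≠ 1 ≠ U`. -/
theorem derived_typeF (hM : IsCoatom M) (h : IsSigmaDecomposition M K U) (hK1 : K ≠ ⊥) (hU : U ≠ ⊥) :
    IsOfTypeF ↥(⁅M, M⁆ : Subgroup G) ∧ fittingHallOf (⁅M, M⁆ : Subgroup G) = fittingHallOf M := by
  obtain ⟨d, hs⟩ := decomp_split hG hM h hK1
  obtain ⟨hSU, hMK, hcop⟩ := kappa_split_data hG hM h hK1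
  have hH := fittingHallOf_eq hG hM (hs.two hU).1
  set D : Subgroup G := ⁅M, M⁆ with hDdef
  set S := sigmaCore M with hS
  have hSn : D ≤ normalizer (S : Set G) :=
    (Subgroup.commutator_le_self M).trans (le_normalizer_sigmaCore hG hM le_rfl)
  have hScop : (Nat.card S).Coprime (S.relIndex D) :=
    ((hH ▸ (fittingHallOf_hall hG hM).1 : (Nat.card S).Coprime (S.relIndex M))).coprime_dvd_right
      (Dvd.intro _ (Subgroup.relIndex_mul_relIndex S D M hSU.1 hMK.1))
  have hFH : fittingHallOf D = S := by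
    refine le_antisymm ?_ (le_fittingHallOf_of_normal hSU.1 hSn (hs.two hU).1 hScop)
    rw [← hH]
    set X := fittingHallOf D with hX
    have hXD : X ≤ D := fittingHallOf_le D
    haveI := fittingHall_characteristic (S := ↥D)
    have hMD : M ≤ normalizer (D : Set G) := fun m hm => mem_normalizer_of_conj_smul (by
      have : MulAut.conj m • D = ⁅MulAut.conj m • M, MulAut.conj m • M⁆ := Subgroup.map_commutator _ _ _
      rw [this, conj_smul_eq_of_mem_normalizer (Subgroup.le_normalizer hm)])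
    refine le_fittingHallOf_of_normal (hXD.trans hMK.1)
      (CfsgLib.le_normalizer_map_characteristic hMD _).1 (fittingHallOf_nilpotent D) ?_
    rw [← Subgroup.relIndex_mul_relIndex X D M hXD hMK.1]
    refine Nat.Coprime.mul_right ?_ ?_
    · rw [hX, fittingHallOf, Subgroup.card_map_of_injective D.subtype_injective]
      have : ((fittingHall ↥D).map D.subtype).relIndex D = (fittingHall ↥D).index := by
        rw [Subgroup.relIndex, Subgroup.subgroupOf, Subgroup.comap_map_eq_self_of_injective D.subtype_injective]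
      rw [this]
      exact CfsgLib.FittingHall.fittingHall_coprime
    · have he : D.relIndex M = Nat.card K := by
        refine Nat.eq_of_mul_eq_mul_left (Nat.card_pos (α := D)) ?_
        rw [← Subgroup.relIndex_bot_left D, Subgroup.relIndex_mul_relIndex _ _ _ bot_le hMK.1,
          Subgroup.relIndex_bot_left, Subgroup.relIndex_bot_left, card_complIn hMK]
      rw [he]
      exact hcop.symm.coprime_dvd_left (Subgroup.card_dvd_of_le hXD)
  have hfh : fittingHall ↥D = S.subgroupOf D := by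
    rw [← hFH, fittingHallOf, Subgroup.subgroupOf, Subgroup.comap_map_eq_self_of_injective D.subtype_injective]
  have hU' : U.subgroupOf D ≠ ⊥ := fun e => hU (by
    rwa [Subgroup.subgroupOf_eq_bot, disjoint_iff, inf_eq_left.mpr hSU.2.1] at e)
  obtain ⟨U₀, hU₀, hexp, hfree⟩ := free_exponent hG hM h
  refine ⟨⟨solvable_of_le (Subgroup.commutator_le_self M) (solvable_of_ne_top hG hM.1),
    Odd.of_dvd_nat hG.1 (Subgroup.card_subgroup_dvd_card D), ?_, ?_, U.subgroupOf D, hU', ?_, ?_, ?_⟩,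
    hFH.trans hH.symm⟩
  · rw [hfh]
    intro e
    rw [Subgroup.subgroupOf_eq_bot, disjoint_iff, inf_eq_left.mpr hSU.1] at e
    exact sigmaCore_ne_bot hG hM e
  · rw [hfh]
    intro e
    rw [Subgroup.subgroupOf_eq_top] at e
    exact hU (le_bot_iff.mp (hSU.2.2.1 ▸ le_inf (hSU.2.1.trans e) le_rfl))
  · rw [hfh]
    exact isComplement'_subgroupOf hScop hSU
  · haveI := hs.comm
    refine ⟨U.subgroupOf D, le_rfl, Subgroup.le_normalizer, ?_, fun x _ _ => inf_le_left⟩
    refine ⟨⟨fun a b => Subtype.ext (Subtype.ext ?_)⟩⟩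
    show ((a : ↥D) : G) * ((b : ↥D) : G) = ((b : ↥D) : G) * ((a : ↥D) : G)
    exact congrArg Subtype.val (mul_comm' (⟨((a : ↥D) : G), Subgroup.mem_subgroupOf.mp a.2⟩ : U)
      ⟨((b : ↥D) : G), Subgroup.mem_subgroupOf.mp b.2⟩)
  · refine ⟨U₀.subgroupOf D, fun y hy => hU₀ hy, ?_, fun u hu hu1 x hx hcomm => ?_⟩
    · rw [Monoid.exponent_eq_of_mulEquiv (Subgroup.subgroupOfEquivOfLe (hU₀.trans hSU.2.1)), hexp,
        Monoid.exponent_eq_of_mulEquiv (Subgroup.subgroupOfEquivOfLe hSU.2.1)]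
    · rw [hfh, Subgroup.mem_subgroupOf] at hx
      by_contra hx1
      exact hu1 (Subtype.ext (hfree (u : G) (Subgroup.mem_subgroupOf.mp hu)
        ⟨Subgroup.commutator_le_self M u.2, (x : G), hx, fun e => hx1 (Subtype.ext e),
          congrArg Subtype.val hcomm⟩))

end CfsgLib.MinSimpleOdd
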