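import Cfsg.Agent.Lib.MinSimpleOdd.FreeExponent
import Cfsg.Agent.Lib.MinSimpleOdd.FittingRankThree
import Cfsg.Agent.Lib.Solvable.ProductNilpotent

/-!
Maximal subgroups with `κ(M) ≠ ∅` and `U ≠ 1` (B–G 14.7, 15.7).
-/

set_option autoImplicit false
set_option linter.unusedSectionVars false
set_option linter.style.haveILetI false
set_option maxHeartbeats 1000000

namespace CfsgLib.MinSimpleOdd

open Subgroup Cfsg
open scoped Pointwise commutatorElement IsMulCommutative

universe u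
variable {G : Type u} [Group G] [Finite G]

variable (hG : IsMinSimpleOddOrder G) {M K E U : Subgroup G}

include hG

/-- For `U ≠ 1`, `M_σ` centralises a uniquely maximal elementary subgroup. -/
theorem KappaData.exists_central_uniq (d : KappaData M K) (hs : KappaSplit M K E U) (hU : U ≠ ⊥) :
    ∃ V : Subgroup G, V ≤ M ∧ sigmaCore M ≤ centralizer (V : Set G) ∧ InUniqueMaximal V := by
  have hM := d.hM
  have hsM : sigmaCore M ≤ M := piCoreOf_le _ _
  obtain ⟨hn, hCU, hKp⟩ := hs.two hU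
  haveI := hn
  obtain ⟨q, hq, X, hXC, hX⟩ := exists_prime_subgroup d.fixed_ne
  haveI := Fact.mk hq
  have hqσ : q ∈ sigma M := (sigmaCore_hall hG hM).1.2.1 q hq
    (hX ▸ Subgroup.card_dvd_of_le (hXC.trans inf_le_left))
  obtain ⟨P⟩ : Nonempty (Sylow q ↥(sigmaCore M)) := inferInstance
  set R := (P : Subgroup ↥(sigmaCore M)).map (sigmaCore M).subtype with hR
  have hRs : R ≤ sigmaCore M := Subgroup.map_subtype_le _
  have hRp : IsPGroup q R := P.2.map _
  have hRi : ¬ q ∣ R.relIndex (sigmaCore M) := not_dvd_of_sylow _ P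
  have hR1 : R ≠ ⊥ := fun e => hRi (by
    rw [e, Subgroup.relIndex_bot_left]
    exact hX ▸ Subgroup.card_dvd_of_le (hXC.trans inf_le_left))
  haveI : (P : Subgroup ↥(sigmaCore M)).Characteristic := Sylow.characteristic_of_normal P inferInstance
  have hMR : M ≤ normalizer (R : Set G) :=
    (le_normalizer_map_characteristic (le_normalizer_sigmaCore hG hM le_rfl) (P : Subgroup ↥(sigmaCore M))).1
  set V := omegaCenter q R with hV
  have hVR : V ≤ R := fun x hx => hx.1
  have hVp : IsPGroup q V := hRp.to_le hVR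
  haveI : IsMulCommutative V := omegaCenter_comm q R
  obtain ⟨z, hz, hzo, hzc⟩ := exists_central hRp hR1
  have hV1 : V ≠ ⊥ := fun e => hq.ne_one (by
    have hzV : z ∈ V := ⟨hz, hzc, hzo ▸ pow_orderOf_eq_one z⟩
    rw [e, Subgroup.mem_bot] at hzV
    rw [← hzo, hzV, orderOf_one])
  have hMV : M ≤ normalizer (V : Set G) := hMR.trans (le_normalizer_omegaCenter q R)
  have hVs : V ≤ sigmaCore M := hVR.trans hRs
  -- `V` is central in `M_σ`
  have hcent : sigmaCore M ≤ centralizer (V : Set G) := by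
    refine le_centralizer_of_sylows fun r hr => ?_
    haveI := Fact.mk hr
    by_cases hrq : r = q
    · subst hrq
      exact ⟨R, hRs, hRi, Subgroup.le_centralizer_iff.mp fun v hv => hv.2.1⟩
    obtain ⟨S⟩ : Nonempty (Sylow r ↥(sigmaCore M)) := inferInstance
    haveI : (S : Subgroup ↥(sigmaCore M)).Characteristic := Sylow.characteristic_of_normal S inferInstance
    refine ⟨_, Subgroup.map_subtype_le _, not_dvd_of_sylow _ S, centralizes_of_normalize ?_ ?_ ?_⟩
    · exact ((Subgroup.map_subtype_le _).trans hsM).trans hMV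
    · exact (hVs.trans hsM).trans
        (le_normalizer_map_characteristic (le_normalizer_sigmaCore hG hM le_rfl) (S : Subgroup ↥(sigmaCore M))).1
    · exact coprime_pGroups hr hq hrq (S.2.map _) hVp
  refine ⟨V, hVs.trans hsM, hcent, uniq_of_rank_three hG hVp fun hrk => ?_⟩
  -- `V` has rank at least three
  have hUK : U ⊔ K ≤ E := sup_le hs.UE hs.KE
  have hfix : V ⊓ centralizer (K : Set G) = V ⊓ fixedCore M K :=
    le_antisymm (le_inf inf_le_left (le_inf (inf_le_left.trans hVs) inf_le_right))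
      (inf_le_inf_left _ inf_le_right)
  obtain ⟨-, hcard, -⟩ := Cfsg.Agent.S1446.result U K V hU d.ne hs.compl.2.2.1
    (hs.KE.trans hs.normal) hs.fpf (solvable_of_le (hUK.trans hs.hE.1) (solvable_of_ne_top hG hM.1))
    (odd_subgroup hG.1 _) hV1 hVp.isNilpotent ((hs.UE.trans hs.hE.1).trans hMV) (d.hall.1.trans hMV)
    (Nat.coprime_of_dvd fun r hr h1 h2 => complement_sigma' hG hM hs.hE r hr
      (h1.trans (Subgroup.card_dvd_of_le hUK))
      ((sigmaCore_hall hG hM).1.2.1 r hr (h2.trans (Subgroup.card_dvd_of_le hVs))))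
    (le_bot_iff.mp ((inf_le_inf_right _ hVs).trans hCU.le))
    fun x hx hx1 => le_antisymm
      (hfix.symm ▸ le_inf inf_le_left (((inf_le_inf_right _ hVs).trans (d.prime x hx hx1).le)))
      (inf_le_inf_left _ (Subgroup.centralizer_le (Set.singleton_subset_iff.mpr hx)))
  have hC1 : Nat.card ↥(V ⊓ centralizer (K : Set G)) ≠ 1 := fun e => hV1 (Subgroup.card_eq_one.mp (by
    rw [hcard, e, one_pow]))
  have hCq : q ≤ Nat.card ↥(V ⊓ centralizer (K : Set G)) := by
    obtain ⟨r, hr, hrd⟩ := Nat.exists_prime_and_dvd hC1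
    exact (card_dvd_of_pgroup (hVp.to_le inf_le_left) hr hrd) ▸ Nat.le_of_dvd Nat.card_pos hrd
  have hK3 : 3 ≤ Nat.card K := by
    obtain ⟨j, hj⟩ := odd_subgroup hG.1 K
    have := hKp.two_le
    omega
  have h3 : q ^ 3 ≤ Nat.card V := by
    rw [hcard]
    exact (Nat.pow_le_pow_left hCq 3).trans (Nat.pow_le_pow_right Nat.card_pos hK3)
  have := h3.trans (card_le_of_pRankLE hrk le_rfl inferInstance fun b hb => hb.2.2)
  exact absurd this (not_le.mpr (Nat.pow_lt_pow_right hq.one_lt (by norm_num)))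

/-- For `U ≠ 1`, the centralisers of the elements of `M_σ` have `M` as their only maximal overgroup. -/
theorem KappaData.core_centralizer_uniq (d : KappaData M K) (hs : KappaSplit M K E U) (hU : U ≠ ⊥) {x : G}
    (hx : x ∈ sigmaCore M) (hx1 : x ≠ 1) :
    centralizer ({x} : Set G) ≤ M ∧ ∀ L : Subgroup G, IsCoatom L → centralizer ({x} : Set G) ≤ L → L = M := by
  obtain ⟨V, hVM, hcent, hu⟩ := d.exists_central_uniq hG hs hU
  have hVC : V ≤ centralizer ({x} : Set G) :=
    (Subgroup.le_centralizer_iff.mp hcent).trans (Subgroup.centralizer_le (Set.singleton_subset_iff.mpr hx))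
  have huL : ∀ L : Subgroup G, IsCoatom L → centralizer ({x} : Set G) ≤ L → L = M :=
    fun L hL hCL => uniq_eq hu hL (hVC.trans hCL) d.hM hVM
  have hne : centralizer (zpowers x : Set G) ≠ ⊤ := fun e =>
    normalizer_ne_top hG (Subgroup.zpowers_ne_bot.mpr hx1)
      (fun e' => d.hM.1 (top_le_iff.mp (e' ▸ Subgroup.zpowers_le.mpr (piCoreOf_le _ _ hx))))
      (top_le_iff.mp (e.ge.trans (Subgroup.centralizer_le_normalizer _)))
  obtain ⟨L, hL, hCL⟩ := exists_coatom_ge hne
  rw [← centralizer_zpowers] at hCL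
  exact ⟨huL L hL hCL ▸ hCL, huL⟩

theorem KappaData.core_ne_fixed (d : KappaData M K) : ¬ sigmaCore M ≤ fixedCore M K := by
  intro hle
  obtain ⟨q, hq, X, hXC, hX⟩ := exists_prime_subgroup d.fixed_ne
  haveI := Fact.mk hq
  obtain ⟨P⟩ : Nonempty (Sylow q ↥(sigmaCore M)) := inferInstance
  exact ((d.fixed_line_uniq hG hX hXC).2 P).2.2 ((Subgroup.map_subtype_le _).trans hle)

theorem KappaData.sigma_le_fitting (d : KappaData M K) (hs : KappaSplit M K E U) (hU : U ≠ ⊥) :
    sigmaCore M ≤ fittingOf M :=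
  le_fittingOf_of_normal (piCoreOf_le _ _) (le_normalizer_sigmaCore hG d.hM le_rfl) (hs.two hU).1

/-- The parts of a non-identity element of `F(M)` pin down `M`. -/
theorem KappaData.fitting_part_uniq (d : KappaData M K) (hs : KappaSplit M K E U) (hU : U ≠ ⊥) {x : G}
    (hx : x ∈ fittingOf M) {i j : ℕ} (hij : x ^ i * x ^ j = x)
    (hi : ∀ p : ℕ, p.Prime → p ∣ orderOf (x ^ i) → p ∈ sigma M)
    (hj : ∀ p : ℕ, p.Prime → p ∣ orderOf (x ^ j) → p ∉ sigma M) :
    (x ^ i ≠ 1 → centralizer ({x ^ i} : Set G) ≤ M ∧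
      ∀ L : Subgroup G, IsCoatom L → centralizer ({x ^ i} : Set G) ≤ L → L = M) ∧
    (x ^ j ≠ 1 → centralizer ({x ^ j} : Set G) ≤ M ∧
      ∀ L : Subgroup G, IsCoatom L → centralizer ({x ^ j} : Set G) ≤ L → L = M) := by
  have hM := d.hM
  have hxM : x ∈ M := fittingOf_le M hx
  refine ⟨fun h1 => d.core_centralizer_uniq hG hs hU
    (mem_sigmaCore_of_order hG hM (M.pow_mem hxM i) hi) h1, fun h1 => ?_⟩
  have hcomm : ∀ y ∈ sigmaCore M, Commute y (x ^ j) := fun y hy =>
    CfsgLib.ProductNilpotent.commute_of_coprime (fittingOf_nilpotent M) (d.sigma_le_fitting hG hs hU hy)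
      ((fittingOf M).pow_mem hx j)
      (Nat.coprime_of_dvd fun r hr ha hb => hj r hr hb (order_sigma hG hM hy r hr ha))
  obtain ⟨⟨y, hy⟩, hy1⟩ := Subgroup.ne_bot_iff_exists_ne_one.mp (sigmaCore_ne_bot hG hM)
  rcases sigma_element_dichotomy hG hM hy (fun e => hy1 (Subtype.ext e))
    ⟨M.pow_mem hxM j, Subgroup.mem_centralizer_singleton_iff.mpr (hcomm y hy).eq.symm⟩ h1 hj with
    ⟨hκ, -⟩ | ⟨-, -, hC, hu⟩
  · exfalso
    obtain ⟨p, hp, hpd⟩ := exists_prime_dvd_order h1
    haveI := Fact.mk hp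
    obtain ⟨W, hW, hWx, -⟩ := exists_line_of_element hpd
    have hWM : W ≤ M := hWx.trans (Subgroup.zpowers_le.mpr (M.pow_mem hxM j))
    obtain ⟨m, hm, hmW⟩ := conj_into_hall hG hM.1 d.hall hWM (pi_of_card hW (hκ p hp hpd))
    refine d.core_ne_fixed hG ?_
    rw [← fixed_of_line hG hM d.prime hmW (by rw [CfsgLib.card_conj_smul, hW])]
    refine le_inf le_rfl fun s hs' w hw => ?_
    rw [SetLike.mem_coe, CfsgLib.mem_conj_smul_iff] at hw
    have hs'' : m⁻¹ * s * m ∈ sigmaCore M := by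
      have := (Subgroup.mem_normalizer_iff.mp (le_normalizer_sigmaCore hG hM le_rfl (M.inv_mem hm)) s).mp hs'
      rwa [inv_inv] at this
    obtain ⟨k, hk⟩ := Subgroup.mem_zpowers_iff.mp (hWx hw)
    have h2 : Commute (m⁻¹ * s * m) (m⁻¹ * w * m) := hk ▸ (hcomm _ hs'').zpow_right k
    calc w * s = m * (m⁻¹ * w * m * (m⁻¹ * s * m)) * m⁻¹ := by group
      _ = m * (m⁻¹ * s * m * (m⁻¹ * w * m)) * m⁻¹ := by rw [h2.eq]
      _ = s * w := by group
  · exact ⟨hC, hu⟩

/-- B–G 15.7: `F(M)` is a TI-subgroup. -/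
theorem KappaData.fitting_ti (d : KappaData M K) (hs : KappaSplit M K E U) (hU : U ≠ ⊥) :
    IsTISubset (fittingOf M : Set G) := by
  intro g hg x hx hgx
  by_contra hx1
  refine hg (le_normalizer_fittingOf M ?_)
  have hM := d.hM
  obtain ⟨i, j, hi, hj, hij⟩ := CfsgLib.ClassPiCount.exists_parts (sigma M) x
  obtain ⟨h1, h2⟩ := d.fitting_part_uniq hG hs hU hx hij hi hj
  obtain ⟨h1', h2'⟩ := d.fitting_part_uniq hG hs hU hgx (i := i) (j := j)
    (by rw [conj_pow, conj_pow, show g * x ^ i * g⁻¹ * (g * x ^ j * g⁻¹) = g * (x ^ i * x ^ j) * g⁻¹ by group, hij])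
    (fun p hp hd => by rw [conj_pow, orderOf_conj] at hd; exact hi p hp hd)
    (fun p hp hd => by rw [conj_pow, orderOf_conj] at hd; exact hj p hp hd)
  have key : ∀ k : ℕ, (∀ L : Subgroup G, IsCoatom L → centralizer ({x ^ k} : Set G) ≤ L → L = M) →
      centralizer ({(g * x * g⁻¹) ^ k} : Set G) ≤ M → g ∈ M := by
    intro k hu hC
    rw [conj_pow, ← conj_centralizer_singleton] at hC
    have e := hu _ (conj_isCoatom hM g⁻¹) (inv_smul_smul_conj hC)
    exact inv_mem_iff.mp (normalizer_coatom hG hM ▸ mem_normalizer_of_conj_smul e : g⁻¹ ∈ M)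
  by_cases hxi : x ^ i = 1
  · have hxj : x ^ j ≠ 1 := fun e => hx1 (by rw [← hij, hxi, e, one_mul])
    exact key j (h2 hxj).2 (h2' fun e => hxj (by rwa [conj_pow, conj_eq_one_iff] at e)).1
  · exact key i (h1 hxi).2 (h1' fun e => hxi (by rwa [conj_pow, conj_eq_one_iff] at e)).1

end CfsgLib.MinSimpleOdd
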