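import Cfsg.Agent.Lib.MinSimpleOdd.SigmaOverPair
import Cfsg.Agent.S1419
import Cfsg.Agent.S0058

/-!
The maximal subgroup over the normaliser of a Sylow subgroup of `U` has a cyclic fixed-point-free complement
(B–G 14.13 (c)).
-/

set_option autoImplicit false
set_option linter.unusedSectionVars false
set_option linter.style.haveILetI false
set_option maxHeartbeats 1000000

namespace CfsgLib.MinSimpleOdd

open Subgroup Cfsg
open scoped Pointwise commutatorElement IsMulCommutative

universe u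
variable {G : Type u} [Group G] [Finite G]

/-- A group with a fixed-point-free automorphism of prime order centralises a solvable group in which that
automorphism only fixes points it centralises. -/
theorem centralizes_of_fixed_in_centralizer {A D : Subgroup G} {z : G} {r : ℕ} [Fact r.Prime]
    (hz : orderOf z = r) (hzA : z ∈ normalizer (A : Set G)) (hzD : z ∈ normalizer (D : Set G))
    (hAD : A ≤ normalizer (D : Set G)) (hD : Group.IsSolvable D)
    (hcA : (Nat.card A).Coprime (Nat.card D)) (hcz : ¬ r ∣ Nat.card D)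
    (hA : A ⊓ centralizer ({z} : Set G) = ⊥) (hfix : D ⊓ centralizer ({z} : Set G) ≤ centralizer (A : Set G)) :
    A ≤ centralizer (D : Set G) := by
  set D₁ := ⁅D, A⁆ with hD₁
  have hDD : D₁ ≤ D := commutator_le_of_normalizes hAD
  rcases eq_or_ne D₁ ⊥ with h | hne
  · exact Subgroup.le_centralizer_iff.mp (Subgroup.commutator_eq_bot_iff_le_centralizer.mp h)
  exfalso
  have hD₁s : Group.IsSolvable D₁ := solvable_of_le hDD hD
  have hc₁ : (Nat.card A).Coprime (Nat.card D₁) := hcA.coprime_dvd_right (Subgroup.card_dvd_of_le hDD)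
  have hAD₁ : A ≤ normalizer (D₁ : Set G) := CfsgLib.right_le_normalizer_commutator A D
  have heq : ⁅D₁, A⁆ = D₁ := CfsgLib.coprime_commutator_commutator hAD hcA (Or.inr hD)
  have hzD₁ : z ∈ normalizer (D₁ : Set G) := mem_normalizer_of_conj_smul (by
    have : MulAut.conj z • ⁅D, A⁆ = ⁅MulAut.conj z • D, MulAut.conj z • A⁆ := Subgroup.map_commutator _ _ _
    rw [hD₁, this, conj_smul_eq_of_mem_normalizer hzD, conj_smul_eq_of_mem_normalizer hzA])
  set T := ⁅D₁, D₁⁆ with hT
  have hTD : T ≤ D₁ := Subgroup.commutator_le_self D₁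
  have hnT : ∀ g ∈ normalizer (D₁ : Set G), g ∈ normalizer (T : Set G) := fun g hg =>
    mem_normalizer_of_conj_smul (by
      have : MulAut.conj g • ⁅D₁, D₁⁆ = ⁅MulAut.conj g • D₁, MulAut.conj g • D₁⁆ := Subgroup.map_commutator _ _ _
      rw [hT, this, conj_smul_eq_of_mem_normalizer hg])
  have hfix₁ : D₁ ⊓ centralizer ({z} : Set G) ≤ T :=
    (le_inf inf_le_left ((inf_le_inf_right _ hDD).trans hfix)).trans (fixed_le_derived hAD₁ hc₁.symm heq)
  set N := normalizer (T : Set G) with hN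
  have hAN : A ≤ N := fun a ha => hnT a (hAD₁ ha)
  have hDN : D₁ ≤ N := fun d hd => hnT d (Subgroup.le_normalizer hd)
  have hzN : z ∈ N := hnT z hzD₁
  set f := QuotientGroup.mk' (T.subgroupOf N) with hf
  have hTN : T ≤ N := Subgroup.le_normalizer
  set A' := (A.subgroupOf N).map f with hA'
  set D' := (D₁.subgroupOf N).map f with hD'
  have cA : Nat.card A' ∣ Nat.card A :=
    (Subgroup.card_map_dvd _ _).trans (Nat.card_congr (Subgroup.subgroupOfEquivOfLe hAN).toEquiv).dvd
  have cD : Nat.card D' ∣ Nat.card D₁ :=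
    (Subgroup.card_map_dvd _ _).trans (Nat.card_congr (Subgroup.subgroupOfEquivOfLe hDN).toEquiv).dvd
  have hker : ∀ g : N, f g = 1 ↔ (g : G) ∈ T := fun g => by
    rw [hf, QuotientGroup.mk'_apply, QuotientGroup.eq_one_iff, Subgroup.mem_subgroupOf]
  have hzT : z ∉ T := fun h => hcz ((hz ▸ Subgroup.orderOf_dvd_natCard _ h).trans
    (Subgroup.card_dvd_of_le (hTD.trans hDD)))
  set w : N := ⟨z, hzN⟩ with hw
  have hzo : orderOf (f w) = r := by
    refine ((Fact.out : r.Prime).eq_one_or_self_of_dvd _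
      ((orderOf_map_dvd f w).trans (dvd_of_eq ?_))).resolve_left fun h =>
        hzT ((hker w).mp (orderOf_eq_one_iff.mp h))
    rw [← hz, ← Subgroup.orderOf_coe]
  have hA0 : A' ⊓ centralizer ({f w} : Set _) = ⊥ := by
    refine le_bot_iff.mp ?_
    rintro _ ⟨⟨a, ha, rfl⟩, hc⟩
    have ha' : (a : G) ∈ A := Subgroup.mem_subgroupOf.mp ha
    have h1 : f (w * a * w⁻¹ * a⁻¹) = 1 := by
      rw [map_mul, map_mul, map_mul, map_inv, map_inv, ← Subgroup.mem_centralizer_singleton_iff.mp hc]
      group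
    have h2 : z * (a : G) * z⁻¹ * (a : G)⁻¹ ∈ A ⊓ D₁ :=
      ⟨A.mul_mem ((Subgroup.mem_normalizer_iff.mp hzA _).mp ha') (A.inv_mem ha'), hTD ((hker _).mp h1)⟩
    rw [disjoint_iff.mp (Subgroup.disjoint_of_coprime_natCard hc₁), Subgroup.mem_bot, mul_inv_eq_one,
      mul_inv_eq_iff_eq_mul] at h2
    have h3 : (a : G) ∈ A ⊓ centralizer ({z} : Set G) := ⟨ha', Subgroup.mem_centralizer_singleton_iff.mpr h2.symm⟩
    rw [hA, Subgroup.mem_bot] at h3
    rw [Subgroup.mem_bot, show a = 1 from Subtype.ext h3, map_one]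
  have hD0 : D' ⊓ centralizer ({f w} : Set _) = ⊥ := by
    refine le_bot_iff.mp ?_
    rintro _ ⟨⟨d, hd, rfl⟩, hc⟩
    have hd' : (d : G) ∈ D₁ := Subgroup.mem_subgroupOf.mp hd
    have hcopz : (Nat.card (zpowers z)).Coprime (Nat.card D₁) := by
      rw [Nat.card_zpowers, hz]
      exact ((Fact.out : r.Prime).coprime_iff_not_dvd.mpr fun h => hcz (h.trans (Subgroup.card_dvd_of_le hDD)))
    obtain ⟨c, hcm, hkc⟩ := CfsgLib.coprime_fixed_quotient (A := zpowers z) (Subgroup.zpowers_le.mpr hzD₁) hcopz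
      (Or.inr hD₁s) hTD (fun x hx => hnT x (Subgroup.le_normalizer hx)) (Subgroup.zpowers_le.mpr hzN) hd'
      (fun a ha => by
        obtain ⟨i, rfl⟩ := Subgroup.mem_zpowers_iff.mp ha
        have hci : Commute (f d) (f w) := Subgroup.mem_centralizer_singleton_iff.mp hc
        refine (hker ((w ^ i) * d * (w ^ i)⁻¹ * d⁻¹)).mp ?_
        rw [map_mul, map_mul, map_mul, map_inv, map_inv, map_zpow, ((hci.zpow_right i).eq).symm]
        group)
    have hcT : c ∈ T := hfix₁ ⟨hcm.1, by
      have := hcm.2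
      rwa [← centralizer_zpowers] at this⟩
    rw [Subgroup.mem_bot, hker]
    have := T.mul_mem hcT (T.inv_mem hkc)
    rwa [show c * ((d : G)⁻¹ * c)⁻¹ = (d : G) by group] at this
  have hc := centralizes_of_fpf (R := A') (V := D') hzo
    (map_subgroupOf_normalizer f (y := w) hzA) (map_subgroupOf_normalizer f (y := w) hzD₁)
    (fun y hy => by
      obtain ⟨a, ha, rfl⟩ := hy
      exact map_subgroupOf_normalizer f (hAD₁ (Subgroup.mem_subgroupOf.mp ha)))
    ((hc₁.coprime_dvd_left cA).coprime_dvd_right cD) hA0 hD0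
  have hle : ⁅D₁, A⁆ ≤ T := Subgroup.commutator_le.mpr fun d hd a ha => by
    have hcomm := hc ⟨⟨a, hAN ha⟩, ha, rfl⟩ (f ⟨d, hDN hd⟩) ⟨⟨d, hDN hd⟩, hd, rfl⟩
    refine (hker ⁅(⟨d, hDN hd⟩ : N), (⟨a, hAN ha⟩ : N)⁆).mp ?_
    rw [map_commutatorElement, commutatorElement_eq_one_iff_mul_comm]
    exact hcomm
  rw [heq] at hle
  haveI := hD₁s
  have hlt : ⁅D₁, D₁⁆ < D₁ := by
    refine lt_of_le_of_ne hTD fun e => ?_
    haveI : Nontrivial D₁ := (Subgroup.nontrivial_iff_ne_bot D₁).mpr hne
    refine (Group.IsSolvable.commutator_lt_top_of_nontrivial (G := D₁)).ne ?_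
    apply Subgroup.map_injective D₁.subtype_injective
    rw [Subgroup.map_subtype_commutator, ← MonoidHom.range_eq_map, Subgroup.range_subtype]
    exact e
  exact hlt.not_ge hle

/-- The derived group of a complement centralises a narrow normal Sylow subgroup of `M_σ`, so moves no element of it. -/
theorem derived_fixed_ne_bot (hG : IsMinSimpleOddOrder G) {M E N : Subgroup G} (hM : IsCoatom M) (hN : IsCoatom N)
    (hE : IsComplIn E (sigmaCore M) M) (hn : Group.IsNilpotent (sigmaCore M)) {q : ℕ} [Fact q.Prime]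
    (hqN : q ∈ tau2 N) {B : Subgroup G} (hBN : B ≤ N) (hB : IsElementaryAbelian q B) (hB2 : Nat.card B = q ^ 2)
    (hBs : B ≤ sigmaCore M) {Y : Subgroup G} (hY : Y ≤ ⁅E, E⁆) :
    sigmaCore M ⊓ centralizer (Y : Set G) ≠ ⊥ := by
  haveI := hn
  have hq2 : q ≠ 2 := p_ne_two hG.1 (isPGroup_of_exp hB.2) (fun e => by
    rw [e, Subgroup.card_bot] at hB2
    exact (Nat.one_lt_pow two_ne_zero (Fact.out : q.Prime).one_lt).ne hB2)
  obtain ⟨P, hP⟩ := ((isPGroup_of_exp hB.2).comap_subtype (K := sigmaCore M)).exists_le_sylow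
  haveI : (P : Subgroup ↥(sigmaCore M)).Characteristic := Sylow.characteristic_of_normal P inferInstance
  set Q := (P : Subgroup ↥(sigmaCore M)).map (sigmaCore M).subtype with hQ
  have hQp : IsPGroup q Q := P.2.map _
  have hBQ : B ≤ Q := fun b hb => ⟨⟨b, hBs hb⟩, hP hb, rfl⟩
  have hQ1 : Q ≠ ⊥ := fun e => by
    rw [show B = ⊥ from le_bot_iff.mp (hBQ.trans e.le), Subgroup.card_bot] at hB2
    exact (Nat.one_lt_pow two_ne_zero (Fact.out : q.Prime).one_lt).ne hB2
  have hMQ : M ≤ normalizer (Q : Set G) :=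
    (le_normalizer_map_characteristic (le_normalizer_sigmaCore hG hM le_rfl) (P : Subgroup ↥(sigmaCore M))).1
  have hnar : IsNarrow q Q := by
    by_cases hr : PRankLE q 2 Q
    · exact Or.inl fun X hX he => by
        rw [← Subgroup.card_map_of_injective (K := X) Q.subtype_injective]
        exact card_le_of_pRankLE hr (Subgroup.map_subtype_le X) (Subgroup.map_isMulCommutative _ _) (by
          rintro _ ⟨b, hb, rfl⟩
          rw [← map_pow, he b hb, map_one])
    refine narrow_of_maximal hq2 hQp hr (E := B.subgroupOf Q)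
      ⟨⟨⟨fun a b => Subtype.ext (Subtype.ext (congrArg (fun t : B => (t : G))
          (hB.1.is_comm.comm ⟨((a : Q) : G), a.2⟩ ⟨((b : Q) : G), b.2⟩)))⟩⟩,
        fun a ha => Subtype.ext (hB.2 a ha)⟩
      (by rw [Nat.card_congr (Subgroup.subgroupOfEquivOfLe hBQ).toEquiv, hB2]) ?_
    intro C hC hle
    have h1 := maximal_elementary hG hN hqN.2.2.1 hBN hB hB2 (B := C.map Q.subtype)
      ⟨⟨⟨?_⟩⟩, ?_⟩ fun a ha => ⟨⟨a, hBQ ha⟩, hle ha, rfl⟩
    · rw [← h1, Subgroup.subgroupOf, Subgroup.comap_map_eq_self_of_injective (Subgroup.subtype_injective _)]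
    · rintro ⟨_, a, ha, rfl⟩ ⟨_, b, hb, rfl⟩
      exact Subtype.ext (congrArg (fun t : C => ((t : Q) : G)) (hC.1.is_comm.comm ⟨a, ha⟩ ⟨b, hb⟩))
    · rintro _ ⟨a, ha, rfl⟩
      rw [← map_pow, hC.2 a ha, map_one]
  have hqM : q ∈ sigma M := (sigmaCore_hall hG hM).1.2.1 q Fact.out
    (((dvd_pow_self q two_ne_zero).trans hB2.symm.dvd).trans (Subgroup.card_dvd_of_le hBs))
  have hEQ : (⁅E, E⁆ : Subgroup G) ≤ centralizer (Q : Set G) := by
    refine le_centralizer_of_sylows fun r hr => ?_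
    haveI := Fact.mk hr
    obtain ⟨S⟩ : Nonempty (Sylow r ↥(⁅E, E⁆ : Subgroup G)) := inferInstance
    refine ⟨_, Subgroup.map_subtype_le _, not_dvd_of_sylow _ S, ?_⟩
    by_cases hrq : r = q
    · subst hrq
      have h1 : (S : Subgroup ↥(⁅E, E⁆ : Subgroup G)).map (⁅E, E⁆ : Subgroup G).subtype ≤ E ⊓ sigmaCore M :=
        le_inf ((Subgroup.map_subtype_le _).trans (Subgroup.commutator_le_self E))
          (pgroup_le_sigmaCore hG hM hqM (S.2.map _)
            (((Subgroup.map_subtype_le _).trans (Subgroup.commutator_le_self E)).trans hE.1))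
      rw [hE.2.2.1] at h1
      exact h1.trans bot_le
    · exact narrow_centralized hG (S.2.map _) (Ne.symm hrq) hq2 hQp hQ1 hnar
        ((Subgroup.map_subtype_le _).trans (Subgroup.commutator_mono (hE.1.trans hMQ) (hE.1.trans hMQ)))
  intro e
  refine hQ1 (le_bot_iff.mp ((le_inf (Subgroup.map_subtype_le _) ?_).trans e.le))
  exact (Subgroup.le_centralizer_iff.mp hEQ).trans (centralizer_anti hY)

namespace P2Setting

variable {M K U L : Subgroup G} (s : P2Setting M K U L)
include s

/-- B–G 14.13 (c): `τ₂` of the overgroup is empty. -/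
theorem overgroup_tau2_eq_empty {r : ℕ} [Fact r.Prime] {R H : Subgroup G} (hRU : R ≤ U) (hR : IsPGroup r R)
    (hRi : ¬ r ∣ R.relIndex U) (hrU : r ∣ Nat.card U) (hrτ : r ∈ Cfsg.tau2 M) (hH : IsCoatom H)
    (hNR : normalizer (R : Set G) ≤ H) :
    Cfsg.tau2 H = ∅ := by
  have hG := s.hG
  have hM := s.pair.left.hM
  have hL := s.pair.right.hM
  haveI := Fact.mk s.prime
  obtain ⟨-, hne, hnM, -, -, -⟩ := s.overgroup_basic hRU hR hRi hrU hH hNR
  obtain ⟨hκ, hUs, hMH, -, hKF, hHL⟩ := s.overgroup hRU hR hRi hrU hH hNR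
  have hUM : U ≤ M := s.decomp.compl.1
  have hKH : K ≤ H := (le_sup_right.trans hMH.ge).trans inf_le_right
  have hfpf := s.fpf_core hH hKH hne hnM
  have hKE : K ≤ H ⊓ L := hKF.trans (Subgroup.map_subtype_le _)
  refine Set.eq_empty_iff_forall_notMem.mpr fun t ht => ?_
  haveI := Fact.mk ht.1
  obtain ⟨A, hAE, hA, hA2⟩ := exists_elementary_in_complement hG hH hHL ht
  have hAH := hAE.trans hHL.1
  obtain ⟨hNA, hKA⟩ := s.tau2_partner hH hne hnM hHL hKE ht hAE hA hA2
  have htL : t ∈ sigma L := tau2_sigma_over hG hH ht hAH hA hA2 hL hNA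
  haveI := hA.1
  -- a line of `U` with fixed points in `M_σ`
  obtain ⟨B₀, hB₀E, hB₀, hB₀2⟩ := exists_elementary_in_complement hG hM s.split.hE hrτ
  have hrκ : r ∉ kappa M := fun h => kappa_not_tau2 hG hM h hrτ
  have hrKne : r ≠ Nat.card K := fun e => hrκ (s.pair.left.hall.2.1 r Fact.out (e ▸ dvd_rfl))
  have hB₀U : B₀ ≤ U := le_normal_hall (solvable_of_le s.split.hE.1 (solvable_of_ne_top hG hM.1)) s.split.hallU
    s.split.normal hB₀E (pi_of_pgroup (isPGroup_of_exp hB₀.2) (π := {r | r ∉ kappa M}) hrκ)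
  haveI := hB₀.1
  have hgen₀ := Cfsg.Agent.S0058.result B₀ (sigmaCore M)
    (not_cyclic_of_elementary hB₀.2 (hB₀2 ▸ lt_self_pow₀ (Fact.out : r.Prime).one_lt (by norm_num)))
    (le_normalizer_sigmaCore hG hM (hB₀U.trans hUM))
    (coprime_sigmaCore hG hM hrτ.2.1 (isPGroup_of_exp hB₀.2) le_rfl)
  obtain ⟨X, hXB, hXc, hXbad⟩ : ∃ X : Subgroup G, X ≤ B₀ ∧ Nat.card X = r ∧
      sigmaCore M ⊓ centralizer (X : Set G) ≠ ⊥ := by
    by_contra hall
    push Not at hall
    refine sigmaCore_ne_bot hG hM (le_bot_iff.mp (hgen₀.ge.trans (iSup₂_le fun a ha => ?_)))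
    have hao : orderOf a = r := ((Fact.out : r.Prime).eq_one_or_self_of_dvd (orderOf a)
      (orderOf_dvd_of_pow_eq_one (hB₀.2 a ha.1))).resolve_left fun h => ha.2 (orderOf_eq_one_iff.mp h)
    rw [centralizer_zpowers, hall (zpowers a) (Subgroup.zpowers_le.mpr ha.1) (by rw [Nat.card_zpowers, hao])]
  have hCX : centralizer (X : Set G) ≤ M :=
    ((Cfsg.Agent.S1418.result hG M hM (U ⊔ K) s.split.hE r hrτ B₀ ⟨hB₀E, hB₀, hB₀2⟩).2.2 X hXB hXc hXbad).1
  have hXH : X ≤ sigmaCore H := (hXB.trans hB₀U).trans hUs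
  -- the Sylow `t`-subgroups are abelian
  obtain ⟨S₀⟩ : Nonempty (Sylow t G) := inferInstance
  have hab : ∀ S : Sylow t G, IsMulCommutative (S : Subgroup G) := by
    by_contra h
    push Not at h
    obtain ⟨S₁, hS₁⟩ := h
    have hall : ∀ S : Sylow t G, ¬ IsMulCommutative (S : Subgroup G) := by
      intro S hS
      haveI := hS
      refine hS₁ ⟨⟨fun a b => (S₁.equiv S).injective ?_⟩⟩
      rw [map_mul, map_mul, mul_comm']
    obtain ⟨-, ⟨hc, -⟩, -⟩ := Cfsg.Agent.S1419.result hG H hH (H ⊓ L) hHL t ht hall A ⟨hAE, hA, hA2⟩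
    set A₀ := A ⊓ centralizer (sigmaCore H : Set G) with hA₀
    have h1 : A₀ ≤ U ⊔ K := by
      rw [← hMH]
      refine le_inf ?_ (inf_le_left.trans hAH)
      exact (Subgroup.le_centralizer_iff.mp ((hXH).trans (Subgroup.le_centralizer_iff.mp inf_le_right))).trans hCX
    obtain ⟨a, ha, haz⟩ := exists_gen hc
    have haA : a ∈ A₀ := haz ▸ Subgroup.mem_zpowers a
    obtain ⟨v, hv, k, hk, hvk⟩ := s.split.compl.2.2.2 a (h1 haA)
    have hkt : t = Nat.card K := by
      by_contra hne'
      have hd : t ∣ Nat.card U * Nat.card K := by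
        rw [← card_complIn s.split.compl, ← ha, ← Nat.card_zpowers]
        exact Subgroup.card_dvd_of_le (haz ▸ h1)
      rcases (Fact.out : t.Prime).dvd_mul.mp hd with h | h
      · exact ht.2.1 ((sigmaCore_hall hG hH).1.2.1 t Fact.out (h.trans (Subgroup.card_dvd_of_le hUs)))
      · exact hne' ((Nat.prime_dvd_prime_iff_eq Fact.out s.prime).mp h)
    obtain ⟨e, he, hle⟩ := conj_into_hall hG (H := K) (π := ({t} : Set ℕ)) (E := U ⊔ K) (fun e =>
        hM.1 (top_le_iff.mp (e ▸ s.split.hE.1)))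
      ⟨le_sup_right, fun b hb hd => by
        rw [Set.mem_singleton_iff, hkt]; exact (Nat.prime_dvd_prime_iff_eq hb s.prime).mp hd,
      fun b hb hbt hd => by
        rw [Set.mem_singleton_iff] at hbt
        subst hbt
        have h2 : (Nat.card K) * K.relIndex (U ⊔ K) = Nat.card ↥(U ⊔ K) := by
          rw [← Subgroup.relIndex_bot_left K, Subgroup.relIndex_mul_relIndex _ _ _ bot_le le_sup_right,
            Subgroup.relIndex_bot_left]
        rw [card_complIn s.split.compl, mul_comm (Nat.card U)] at h2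
        rw [Nat.eq_of_mul_eq_mul_left Nat.card_pos h2] at hd
        exact ht.2.1 ((sigmaCore_hall hG hH).1.2.1 b hb (hd.trans (Subgroup.card_dvd_of_le hUs)))⟩
      (W := A₀) h1 (pi_of_card hc (Set.mem_singleton t))
    have heq : MulAut.conj e • A₀ = K := Subgroup.eq_of_le_of_card_ge hle (by
      rw [CfsgLib.card_conj_smul, hc, hkt])
    have heH : e ∈ H := (hMH.ge he).2
    refine sigmaCore_ne_bot hG hH (le_bot_iff.mp (le_trans ?_ hfpf.le))
    rw [← heq, centralizer_conj_smul, ← conj_smul_eq_of_mem_normalizer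
      (le_normalizer_sigmaCore hG hH le_rfl heH), ← Subgroup.smul_inf]
    refine conj_smul_mono (le_inf le_rfl ?_) e
    exact Subgroup.le_centralizer_iff.mp inf_le_right
  obtain ⟨S, hAS, hSE, -, -, -⟩ := abelian_tau2_sylow hG hH hHL ht hab hAE hA hA2
  -- `U_L = 1`, as a line of `A` is centralised by `H_σ`-elements outside `L`
  obtain ⟨UL, hUL⟩ := exists_sigmaDecomposition hG hL s.pair.cycC s.pair.right.hall
  obtain ⟨dL, hsL⟩ := decomp_split hG hL hUL s.pair.right.ne
  have hUL1 : UL = ⊥ := by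
    by_contra hU
    have hgen := Cfsg.Agent.S0058.result A (sigmaCore H)
      (not_cyclic_of_elementary hA.2 (hA2 ▸ lt_self_pow₀ (Fact.out : t.Prime).one_lt (by norm_num)))
      (le_normalizer_sigmaCore hG hH hAH) (coprime_sigmaCore hG hH ht.2.1 (isPGroup_of_exp hA.2) le_rfl)
    refine sigmaCore_ne_bot hG hH (le_bot_iff.mp (hgen.ge.trans (iSup₂_le fun a ha => ?_)))
    by_contra hbad
    rw [le_bot_iff] at hbad
    have hao : orderOf a = t := ((Fact.out : t.Prime).eq_one_or_self_of_dvd (orderOf a)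
      (orderOf_dvd_of_pow_eq_one (hA.2 a ha.1))).resolve_left fun h => ha.2 (orderOf_eq_one_iff.mp h)
    rw [centralizer_zpowers] at hbad
    have huniq := ((Cfsg.Agent.S1418.result hG H hH (H ⊓ L) hHL t ht A ⟨hAE, hA, hA2⟩).2.2 (zpowers a)
      (Subgroup.zpowers_le.mpr ha.1) (by rw [Nat.card_zpowers, hao]) hbad).2
    rw [← centralizer_zpowers] at huniq
    have haL : a ∈ sigmaCore L := pgroup_le_sigmaCore hG hL htL (isPGroup_of_exp hA.2) (hAE.trans inf_le_right) ha.1
    exact hne (huniq L hL (dL.core_centralizer_uniq hG hsL hU haL ha.2).1).symm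
  set C := fixedCore M K with hC
  have hEL : IsComplIn C (sigmaCore L) L := by
    have h := (decomp_data hG hL hUL).1
    rwa [hUL1, bot_sup_eq] at h
  have hKfix : sigmaCore L ⊓ centralizer (C : Set G) = K := s.pair.symm_eq
  set D := (⁅sigmaCore L, sigmaCore L⁆ : Subgroup G) with hD
  have hKD : K ≤ D := hKfix.ge.trans (sigma_fixed_le_derived hG hL hEL)
  have hsL' : sigmaCore L ≤ L := piCoreOf_le _ _
  have hSL : (S : Subgroup G) ≤ L := hSE.trans inf_le_right
  have hSs : (S : Subgroup G) ≤ sigmaCore L := pgroup_le_sigmaCore hG hL htL S.2 hSL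
  have hSi : ¬ t ∣ (S : Subgroup G).relIndex (sigmaCore L) := fun h =>
    S.not_dvd_index (h.trans (Subgroup.relIndex_dvd_index_of_le hSs))
  have htβ : t ∉ beta L := not_beta_of_tau2 hG hH ht
  haveI := hab S
  have htD : ¬ t ∣ Nat.card D := by
    refine not_dvd_derived_of_burnside hSs S.2 hSi (le_centralizer_of_sylows fun v hv => ?_)
    haveI := Fact.mk hv
    obtain ⟨V⟩ : Nonempty (Sylow v ↥(sigmaCore L ⊓ normalizer ((S : Subgroup G) : Set G))) := inferInstance
    refine ⟨_, Subgroup.map_subtype_le _, not_dvd_of_sylow _ V, ?_⟩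
    set V' := (V : Subgroup ↥(sigmaCore L ⊓ normalizer ((S : Subgroup G) : Set G))).map
      (sigmaCore L ⊓ normalizer ((S : Subgroup G) : Set G)).subtype
    have hV'p : IsPGroup v V' := V.2.map _
    have hV's : V' ≤ sigmaCore L := (Subgroup.map_subtype_le _).trans inf_le_left
    have hV'N : V' ≤ normalizer ((S : Subgroup G) : Set G) := (Subgroup.map_subtype_le _).trans inf_le_right
    by_cases hvt : t = v
    · subst hvt
      have hle : V' ⊔ (S : Subgroup G) = S := S.3 (hV'p.to_sup_of_normal_right' S.2 hV'N) le_sup_right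
      exact (le_sup_left.trans hle.le).trans (Subgroup.le_centralizer (S : Subgroup G))
    · by_cases hV1 : V' = ⊥
      · rw [hV1]; exact bot_le
      obtain ⟨Z, hZV, hZ⟩ := exists_sub_card hV'p hV1
      have hvσ : v ∈ sigma L := (sigmaCore_hall hG hL).1.2.1 v hv (hZ ▸ Subgroup.card_dvd_of_le (hZV.trans hV's))
      exact centralizes_of_sigma_beta hG hL hvt htβ S.2 hSL hV'p (hV's.trans hsL') hvσ hV'N
  have hKt : t ≠ Nat.card K := fun e => htD (e ▸ Subgroup.card_dvd_of_le hKD)
  haveI := Fact.mk (Fact.out : t.Prime)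
  obtain ⟨A₁, hexc⟩ := exists_exc hG hH ht hAH hA hA2
  -- `A = Ω₁(S)`
  have hΩ : normalizer ((S : Subgroup G) : Set G) ≤ normalizer (A : Set G) := by
    intro g hg
    refine mem_normalizer_of_conj_smul (Subgroup.eq_of_le_of_card_ge ?_ (CfsgLib.card_conj_smul g A).ge)
    intro b hb
    have hbS : b ∈ (S : Subgroup G) :=
      ((conj_smul_mono hAS g).trans (conj_smul_eq_of_mem_normalizer hg).le) hb
    refine hexc.two.mem_of_centralizes ?_ fun a ha =>
      congrArg Subtype.val (mul_comm' (⟨a, hAS ha⟩ : (S : Subgroup G)) ⟨b, hbS⟩)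
    obtain ⟨a, ha, rfl⟩ := hb
    show MulAut.conj g a ^ t = 1
    rw [← map_pow, hA.2 a ha, map_one]
  -- `K` centralises `S`
  have hKp : IsPGroup (Nat.card K) K := isPGroup_of_card rfl
  have hKLs : K ≤ sigmaCore L := s.K_core
  have hKS : K ≤ centralizer ((S : Subgroup G) : Set G) := by
    have hNA_NS : normalizer (A : Set G) ≤ normalizer ((S : Subgroup G) : Set G) := by
      obtain ⟨S', hAS', hS'E, -, hNS', -⟩ := abelian_tau2_sylow hG hH hHL ht hab hAE hA hA2
      haveI := hab S'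
      have hS'C : (S' : Subgroup G) ≤ centralizer (A : Set G) := fun x hx a ha =>
        congrArg Subtype.val (mul_comm' (⟨a, hAS' ha⟩ : (S' : Subgroup G)) ⟨x, hx⟩)
      have hSC : (S : Subgroup G) ≤ centralizer (A : Set G) := fun x hx a ha =>
        congrArg Subtype.val (mul_comm' (⟨a, hAS ha⟩ : (S : Subgroup G)) ⟨x, hx⟩)
      have hS'N : (S' : Subgroup G) ≤ normalizer ((S' : Subgroup G) : Set G) := Subgroup.le_normalizer
      have : (S : Subgroup G) ≤ normalizer ((S' : Subgroup G) : Set G) :=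
        hSC.trans ((Subgroup.centralizer_le_normalizer _).trans hNS')
      have hle : (S : Subgroup G) ⊔ S' = S' := S'.3 (S.2.to_sup_of_normal_right' S'.2 this) le_sup_right
      have heq : (S : Subgroup G) = S' := (S.3 S'.2 (le_sup_left.trans hle.le)).symm
      rw [heq]
      exact hNS'
    exact centralizes_of_sigma_beta hG hL hKt htβ S.2 hSL hKp (hKLs.trans hsL') s.t_sigma
      ((hKA.trans (Subgroup.centralizer_le_normalizer _)).trans hNA_NS)
  obtain ⟨v, hv, hvC⟩ := Nat.exists_prime_and_dvd (fun h => s.pair.left.fixed_ne (Subgroup.card_eq_one.mp h))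
  haveI := Fact.mk hv
  obtain ⟨c, hc⟩ := exists_prime_orderOf_dvd_card' v hvC
  have hco : orderOf (c : G) = v := by rw [Subgroup.orderOf_coe, hc]
  have hvL : v ∉ sigma L := (s.pair.right.hall.2.1 v hv hvC).2.2.1
  have hcL : (c : G) ∈ L := hEL.1 c.2
  have hvcop : ¬ v ∣ Nat.card ↥(sigmaCore L) := fun h => hvL ((sigmaCore_hall hG hL).1.2.1 v hv h)
  have hfixc : sigmaCore L ⊓ centralizer ({(c : G)} : Set G) = K := by
    refine (s.pair.right.prime c c.2 fun h => hv.ne_one ?_).trans s.pair.symm_eq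
    rw [← hco, h, orderOf_one]
  -- a `c`-invariant conjugate of `S` centralised by `K`
  set Y := sigmaCore L ⊓ centralizer (K : Set G) with hY
  have hSY : (S : Subgroup G) ≤ Y := le_inf hSs (Subgroup.le_centralizer_iff.mp hKS)
  have hcY : (c : G) ∈ normalizer (Y : Set G) := by
    refine mem_normalizer_of_conj_smul ?_
    have hcK : MulAut.conj (c : G) • K = K := by
      refine Subgroup.eq_of_le_of_card_ge ?_ (CfsgLib.card_conj_smul _ K).ge
      rintro _ ⟨k, hk, rfl⟩
      show (c : G) * k * (c : G)⁻¹ ∈ K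
      rw [show (c : G) * k * (c : G)⁻¹ = k by
        rw [(hKfix.ge hk).2 c c.2, mul_inv_cancel_right]]
      exact hk
    rw [hY, Subgroup.smul_inf, conj_smul_eq_of_mem_normalizer (le_normalizer_sigmaCore hG hL le_rfl hcL),
      ← centralizer_conj_smul, hcK]
  have hcop : (Nat.card (zpowers (c : G))).Coprime (Nat.card Y) := by
    rw [Nat.card_zpowers, hco]
    exact hv.coprime_iff_not_dvd.mpr fun h => hvcop (h.trans (Subgroup.card_dvd_of_le inf_le_left))
  obtain ⟨Q, hQ⟩ := CfsgLib.coprime_exists_invariant_sylow (A := zpowers (c : G))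
    (Subgroup.zpowers_le.mpr hcY) hcop (Or.inr (solvable_of_le (inf_le_left.trans hsL') (solvable_of_ne_top hG hL.1))) t
  obtain ⟨l, hl⟩ := MulAction.exists_smul_eq Y
    (((S.2.comap_subtype (K := Y)).toSylow (fun h => S.not_dvd_index
      (h.trans (Subgroup.relIndex_dvd_index_of_le hSY))))) Q
  set A' := MulAut.conj (l : G) • A with hA'
  have hlS : MulAut.conj (l : G) • (S : Subgroup G) = (Q : Subgroup Y).map Y.subtype := by
    have h2 := congrArg (fun U : Sylow t Y => (U : Subgroup Y).map Y.subtype) hl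
    simp only [Sylow.coe_subgroup_smul] at h2
    rw [← h2]
    ext z
    constructor
    · rintro ⟨y, hy, rfl⟩
      exact ⟨MulAut.conj l ⟨y, hSY hy⟩, Subgroup.smul_mem_pointwise_smul _ (MulAut.conj l) _ hy, rfl⟩
    · rintro ⟨_, ⟨y, hy, rfl⟩, rfl⟩
      exact ⟨y, hy, rfl⟩
  have hlL : (l : G) ∈ L := hsL' l.2.1
  have hcA' : (c : G) ∈ normalizer (A' : Set G) := by
    have h1 : (c : G) ∈ normalizer ((MulAut.conj (l : G) • (S : Subgroup G) : Subgroup G) : Set G) :=
      hlS ▸ hQ (Subgroup.mem_zpowers _)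
    have h2 := normalizer_conj_mem (g := (l : G)⁻¹) h1
    rw [CfsgLib.conj_smul_mul, inv_mul_cancel, map_one, one_smul] at h2
    have h3 := normalizer_conj_mem (g := (l : G)) (hΩ h2)
    rwa [show (l : G) * ((l : G)⁻¹ * (c : G) * (l : G)⁻¹⁻¹) * (l : G)⁻¹ = (c : G) by group, ← hA'] at h3
  have hA'Y : A' ≤ Y := by
    rintro _ ⟨y, hy, rfl⟩
    exact Y.mul_mem (Y.mul_mem l.2 (hSY (hAS hy))) (Y.inv_mem l.2)
  have hDL : L ≤ normalizer (D : Set G) := fun x hx => mem_normalizer_of_conj_smul (by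
    have : MulAut.conj x • ⁅sigmaCore L, sigmaCore L⁆ = ⁅MulAut.conj x • sigmaCore L, MulAut.conj x • sigmaCore L⁆ :=
      Subgroup.map_commutator _ _ _
    rw [hD, this, conj_smul_eq_of_mem_normalizer (le_normalizer_sigmaCore hG hL le_rfl hx)])
  have hDs : D ≤ sigmaCore L := Subgroup.commutator_le_self _
  have hA'D : A' ≤ centralizer (D : Set G) := by
    refine centralizes_of_fixed_in_centralizer hco hcA' (hDL hcL) ((hA'Y.trans (inf_le_left.trans hsL')).trans hDL)
      (solvable_of_le (hDs.trans hsL') (solvable_of_ne_top hG hL.1)) ?_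
      (fun h => hvcop (h.trans (Subgroup.card_dvd_of_le hDs))) ?_ ?_
    · rw [hA', CfsgLib.card_conj_smul, hA2]
      exact ((Fact.out : t.Prime).coprime_iff_not_dvd.mpr htD).pow_left 2
    · refine le_bot_iff.mp ((le_inf inf_le_left ((inf_le_inf_right _ (hA'Y.trans inf_le_left)).trans
        hfixc.le)).trans (disjoint_iff.mp (Subgroup.disjoint_of_coprime_natCard ?_)).le)
      rw [hA', CfsgLib.card_conj_smul, hA2]
      exact ((Nat.coprime_primes Fact.out s.prime).mpr hKt).pow_left 2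
    · exact ((inf_le_inf_right _ hDs).trans hfixc.le).trans (Subgroup.le_centralizer_iff.mp (hA'Y.trans inf_le_right))
  have hAD : A ≤ centralizer (D : Set G) := by
    have h := conj_smul_mono hA'D (l : G)⁻¹
    rw [hA', CfsgLib.conj_smul_mul, inv_mul_cancel, map_one, one_smul, ← centralizer_conj_smul,
      conj_smul_eq_of_mem_normalizer (hDL (L.inv_mem hlL))] at h
    exact h
  -- so `A` centralises `L_σ`
  have hAs : A ≤ sigmaCore L := hAS.trans hSs
  have hLA : sigmaCore L ≤ centralizer (A : Set G) := by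
    refine le_centralizer_of_sylows fun w hw => ?_
    haveI := Fact.mk hw
    by_cases hwt : w = t
    · subst hwt
      exact ⟨S, hSs, hSi, fun x hx a ha => congrArg Subtype.val (mul_comm' (⟨a, hAS ha⟩ : (S : Subgroup G)) ⟨x, hx⟩)⟩
    obtain ⟨V⟩ : Nonempty (Sylow w ↥(sigmaCore L)) := inferInstance
    refine ⟨_, Subgroup.map_subtype_le _, not_dvd_of_sylow _ V, ?_⟩
    set X' := ((V : Subgroup ↥(sigmaCore L)) ⊔ commutator ↥(sigmaCore L)).map (sigmaCore L).subtype with hX'
    have hDX : D ≤ X' := by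
      rw [hD, ← Subgroup.map_subtype_commutator]
      exact Subgroup.map_mono le_sup_right
    have hX's : X' ≤ sigmaCore L := Subgroup.map_subtype_le _
    have hcard : ¬ t ∣ Nat.card X' := by
      intro h
      rw [hX', Subgroup.card_map_of_injective (sigmaCore L).subtype_injective] at h
      rcases (Fact.out : t.Prime).dvd_mul.mp (h.trans (CfsgLib.card_sup_dvd_mul _ _)) with h | h
      · exact hwt (card_dvd_of_pgroup V.2 Fact.out h).symm
      · refine htD ?_
        rwa [hD, ← Subgroup.map_subtype_commutator, Subgroup.card_map_of_injective (sigmaCore L).subtype_injective]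
    have hcomm : ∀ a ∈ A, ∀ k ∈ sigmaCore L, a * k * a⁻¹ * k⁻¹ ∈ D := fun a ha k hk =>
      Subgroup.commutator_mem_commutator (hAs ha) hk
    have hAX : A ≤ normalizer (X' : Set G) := fun a ha => mem_normalizer_of_conj_smul (by
      refine Subgroup.eq_of_le_of_card_ge ?_ (CfsgLib.card_conj_smul a X').ge
      rintro _ ⟨k, hk, rfl⟩
      show a * k * a⁻¹ ∈ X'
      have := X'.mul_mem (hDX (hcomm a ha k (hX's hk))) hk
      rwa [inv_mul_cancel_right] at this)
    intro y hy
    have hyX : y ∈ X' := Subgroup.map_mono le_sup_left hy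
    obtain ⟨d, hd, hyd⟩ := CfsgLib.coprime_fixed_quotient hAX (by
        rw [hA2]; exact ((Fact.out : t.Prime).coprime_iff_not_dvd.mpr hcard).pow_left 2)
      (Or.inl (solvable_of_le hAH (solvable_of_ne_top hG hH.1))) hDX ((hX's.trans hsL').trans hDL)
      ((hAs.trans hsL').trans hDL) hyX (fun a ha => hcomm a ha y (hX's hyX))
    have := (centralizer (A : Set G)).mul_mem hd.2
      ((centralizer (A : Set G)).inv_mem ((Subgroup.le_centralizer_iff.mp hAD) hyd))
    rwa [show d * (y⁻¹ * d)⁻¹ = y by group] at this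
  -- hence `K ≤ E'`, which centralises too much
  have hLH : sigmaCore L ≤ H ⊓ L := le_inf (hLA.trans (centralizer_two_le hG hH hAH hA hA2)) hsL'
  have hB₀H : B₀ ≤ sigmaCore H := hB₀U.trans hUs
  exact derived_fixed_ne_bot hG hH hM hHL (tau2_nilpotent hG hH ht) hrτ (hB₀E.trans s.split.hE.1) hB₀ hB₀2 hB₀H
    (hKD.trans (Subgroup.commutator_mono hLH hLH)) hfpf

end P2Setting

end CfsgLib.MinSimpleOdd
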