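import Cfsg.Agent.Lib.MinSimpleOdd.TypeOne
import Cfsg.Agent.S1362
import Cfsg.Agent.S1371
import Cfsg.Agent.S1372
import Cfsg.Agent.S1381
import Cfsg.Agent.S1382

/-!
The sets `A₁(M)`, `A(M)`, `A₀(M)` for `M` of Type II.
-/

set_option autoImplicit false
set_option linter.unusedSectionVars false
set_option linter.style.haveILetI false
set_option maxHeartbeats 1000000

namespace CfsgLib.MinSimpleOdd

open Subgroup Cfsg
open scoped Pointwise commutatorElement IsMulCommutative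

universe u
variable {G : Type u} [Group G] [Finite G] {M : Subgroup G}

theorem typeII_sets (hG : IsMinSimpleOddOrder G) (hM : IsCoatom M) (hII : IsOfTypeII M) :
    (IsTISubset (typeA0 M) ∧ Subgroup.normalizer (typeA0 M) = M) ∧
      (IsTISubset (typeA M) ∧ Subgroup.normalizer (typeA M) = M) ∧
      (IsTISubset (typeA1 M) ∧ Subgroup.normalizer (typeA1 M) = M) := by
  classical
  -- invariant subsets of `M` have normalizer `M`
  have hnorm : ∀ S : Set G, S ⊆ (M : Set G) → (∃ s ∈ S, s ≠ 1) → (∀ m ∈ M, ∀ x ∈ S, m * x * m⁻¹ ∈ S) →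
      Subgroup.normalizer S = M := by
    intro S hS hne hinv
    have hle : M ≤ Subgroup.normalizer S := fun m hm n =>
      ⟨hinv m hm n, fun h => by simpa [mul_assoc] using hinv m⁻¹ (M.inv_mem hm) _ h⟩
    rcases hM.le_iff.mp hle with e | e
    swap
    · exact e
    exfalso
    obtain ⟨s, hs, hs1⟩ := hne
    have hcl : Subgroup.closure S ≤ M := (Subgroup.closure_le M).mpr hS
    refine normalizer_ne_top hG (fun h => hs1 (Subgroup.mem_bot.mp (h ▸ Subgroup.subset_closure hs)))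
      (fun h => hM.1 (top_le_iff.mp (h ▸ hcl))) (eq_top_iff.mpr fun g _ => Subgroup.mem_normalizer_iff.mpr ?_)
    have key : ∀ h : G, ∀ y ∈ Subgroup.closure S, h * y * h⁻¹ ∈ Subgroup.closure S := fun h y hy => by
      induction hy using Subgroup.closure_induction with
      | mem v hv =>
        exact Subgroup.subset_closure (((e.ge (Subgroup.mem_top h) : h ∈ Subgroup.normalizer S) v).mp hv)
      | one => simp
      | mul a b _ _ h1 h2 =>
        rw [show h * (a * b) * h⁻¹ = (h * a * h⁻¹) * (h * b * h⁻¹) by group]; exact mul_mem h1 h2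
      | inv a _ h1 => rw [show h * a⁻¹ * h⁻¹ = (h * a * h⁻¹)⁻¹ by group]; exact inv_mem h1
    exact fun y => ⟨key g y, fun hy => by simpa [mul_assoc] using key g⁻¹ _ hy⟩
  obtain ⟨K, hK⟩ := CfsgLib.exists_isPiHallOf (kappa M) (M := M) (solvable_of_ne_top hG hM.1)
  obtain ⟨U, hKU⟩ := exists_sigmaDecomposition hG hM (kappaHall_cyclic hG hM hK) hK
  obtain ⟨hK1, hU⟩ := (Cfsg.Agent.S1381.result hG M hM K U hKU).mp hII
  obtain ⟨d, hs⟩ := decomp_split hG hM hKU hK1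
  obtain ⟨hSU, hMK, hcop⟩ := kappa_split_data hG hM hKU hK1
  have hder := kappa_derived_eq hG hM hKU hK1
  have hH := fittingHallOf_eq hG hM (hs.two hU).1
  have hsM : sigmaCore M ≤ M := piCoreOf_le _ _
  have hnI : ¬ IsOfTypeI M := fun h => by
    obtain ⟨r, hr, hrd⟩ := Nat.exists_prime_and_dvd fun e => hK1 (Subgroup.card_eq_one.mp e)
    exact Set.notMem_empty r (typeF_kappa_eq_empty hG hM h.1 ▸ hK.2.1 r hr hrd)
  have hn34 : ¬ (IsOfTypeIII M ∨ IsOfTypeIV M) := fun h =>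
    hU ((Cfsg.Agent.S1382.result hG M hM K U hKU).mp h).2.1
  have hcore : typeCore M = sigmaCore M := (if_neg hn34).trans hH
  have hA : typeA M = {a | a ∈ ⁅M, M⁆ ∧ a ≠ 1 ∧ ∃ x ∈ sigmaCore M, x ≠ 1 ∧ a * x = x * a} := by
    rw [typeA, if_neg hnI, hcore]
  have hA1 : typeA1 M = (sigmaCore M : Set G) \ {1} := by rw [typeA1, hcore]
  obtain ⟨heq, hEti⟩ := Cfsg.Agent.S1371.result hG M hM K U hKU hK1
  set E := sigmaA0 M K \ sigmaA M U with hE
  have hA0 : typeA0 M = typeA M ∪ E := by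
    rw [typeA0, ← heq]
    congr 1
    ext v
    constructor
    · rintro ⟨-, W₁, U', W₂, hP, m, hm, w, hw, hw1, hw2, rfl⟩
      obtain ⟨-, hcard, -⟩ := typeP_facts hG hM hP hKU
      obtain ⟨n, hn, hle⟩ := conj_into_hall hG hM.1 hK hP.W₁_compl.2.1
        fun r hr hd => hK.2.1 r hr (hcard ▸ hd)
      have hW1 : MulAut.conj n • W₁ = K :=
        Subgroup.eq_of_le_of_card_ge hle (by rw [CfsgLib.card_conj_smul, hcard])
      obtain ⟨U'', hPK, -, -⟩ := exists_typeP hG hM hKU hK1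
      have hW2 : MulAut.conj n • W₂ = sigmaCore M ⊓ centralizer (K : Set G) := by
        obtain ⟨⟨w₁, hw₁⟩, hw₁1⟩ := Subgroup.ne_bot_iff_exists_ne_one.mp hP.W₁_ne
        have h1 : w₁ ≠ 1 := fun e => hw₁1 (Subtype.ext e)
        have hk : n * w₁ * n⁻¹ ∈ K := hle ⟨w₁, hw₁, rfl⟩
        have h2 := hP.W₂_centralizer w₁ hw₁ h1
        have h3 := hPK.W₂_centralizer _ hk fun e => h1 (conj_eq_one_iff.mp e)
        refine Eq.trans ?_ h3
        rw [← h2, Subgroup.smul_inf, centralizer_zpowers w₁, centralizer_zpowers (n * w₁ * n⁻¹),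
          ← centralizer_conj_smul]
        have hMn : MulAut.conj n • (⁅M, M⁆ : Subgroup G) = ⁅M, M⁆ := by
          have : MulAut.conj n • (⁅M, M⁆ : Subgroup G) = ⁅MulAut.conj n • M, MulAut.conj n • M⁆ :=
            Subgroup.map_commutator _ _ _
          rw [this, conj_smul_eq_of_mem_normalizer (Subgroup.le_normalizer hn)]
        have hz : MulAut.conj n • zpowers w₁ = zpowers (n * w₁ * n⁻¹) := MonoidHom.map_zpowers _ _
        rw [hMn, hz]
      refine ⟨m * n⁻¹, M.mul_mem hm (M.inv_mem hn), n * w * n⁻¹, ⟨?_, ?_⟩, by group⟩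
      · show n * w * n⁻¹ ∈ K ⊔ (sigmaCore M ⊓ centralizer (K : Set G))
        have hWsup : MulAut.conj n • (W₁ ⊔ W₂) = K ⊔ (sigmaCore M ⊓ centralizer (K : Set G)) := by
          rw [Subgroup.smul_sup, hW1, hW2]
        exact hWsup.le ⟨w, hw, rfl⟩
      · rintro (h | h)
        · refine hw1 ?_
          obtain ⟨y, hy, hye⟩ := hW1.ge h
          rwa [← show y = w from (MulAut.conj n).injective hye]
        · refine hw2 ?_
          obtain ⟨y, hy, hye⟩ := hW2.ge h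
          rwa [← show y = w from (MulAut.conj n).injective hye]
    · rintro ⟨m, hm, z, ⟨hz, hzn⟩, rfl⟩
      obtain ⟨U', hPK, -, -⟩ := exists_typeP hG hM hKU hK1
      exact ⟨hnI, K, U', _, hPK, m, hm, z, hz, fun h => hzn (Or.inl h), fun h => hzn (Or.inr h), rfl⟩
  have hconjD : ∀ m ∈ M, ∀ a ∈ (⁅M, M⁆ : Subgroup G), m * a * m⁻¹ ∈ (⁅M, M⁆ : Subgroup G) := fun m hm a ha => by
    have h1 : MulAut.conj m • (⁅M, M⁆ : Subgroup G) = ⁅MulAut.conj m • M, MulAut.conj m • M⁆ :=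
      Subgroup.map_commutator _ _ _
    rw [conj_smul_eq_of_mem_normalizer (Subgroup.le_normalizer hm)] at h1
    exact h1.le ⟨a, ha, rfl⟩
  have hconjS : ∀ m ∈ M, ∀ a ∈ sigmaCore M, m * a * m⁻¹ ∈ sigmaCore M := fun m hm a ha =>
    (Subgroup.mem_normalizer_iff.mp (le_normalizer_sigmaCore hG hM le_rfl hm) a).mp ha
  have hAinv : ∀ m ∈ M, ∀ a ∈ typeA M, m * a * m⁻¹ ∈ typeA M := by
    rw [hA]
    rintro m hm a ⟨ha, ha1, x, hx, hx1, hax⟩
    refine ⟨hconjD m hm a ha, fun e => ha1 (conj_eq_one_iff.mp e), m * x * m⁻¹, hconjS m hm x hx,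
      fun e => hx1 (conj_eq_one_iff.mp e), ?_⟩
    calc m * a * m⁻¹ * (m * x * m⁻¹) = m * (a * x) * m⁻¹ := by group
      _ = m * (x * a) * m⁻¹ := by rw [hax]
      _ = m * x * m⁻¹ * (m * a * m⁻¹) := by group
  have hAM : typeA M ⊆ (M : Set G) := fun a ha => by
    rw [hA] at ha; exact Subgroup.commutator_le_self M ha.1
  obtain ⟨s₀, hs₀, hs₀1⟩ := (Subgroup.bot_or_exists_ne_one (sigmaCore M)).resolve_left (sigmaCore_ne_bot hG hM)
  have hs₀A : s₀ ∈ typeA M := by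
    rw [hA]; exact ⟨hSU.1 hs₀, hs₀1, s₀, hs₀, hs₀1, rfl⟩
  have hNA : Subgroup.normalizer (typeA M) = M := hnorm _ hAM ⟨s₀, hs₀A, hs₀1⟩ hAinv
  have hNA1 : Subgroup.normalizer (typeA1 M) = M := by
    rw [hA1]
    exact hnorm _ (fun a ha => hsM ha.1) ⟨s₀, ⟨hs₀, hs₀1⟩, hs₀1⟩ fun m hm a ha =>
      ⟨hconjS m hm a ha.1, fun e => ha.2 (conj_eq_one_iff.mp e)⟩
  have hEM : E ⊆ (M : Set G) := fun a ha => ha.1.1.1
  have hEinv : ∀ m ∈ M, ∀ a ∈ E, m * a * m⁻¹ ∈ E := fun m hm a ha => by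
    rw [← heq] at ha ⊢
    obtain ⟨n, hn, z, hz, rfl⟩ := ha
    exact ⟨m * n, M.mul_mem hm hn, z, hz, by group⟩
  obtain ⟨-, hFti, hSF⟩ := Cfsg.Agent.S1372.result hG M hM K U hKU hK1 hU
  -- the transport of `M'`-elements
  have hEnot : ∀ a ∈ E, ∀ g : G, g * a * g⁻¹ ∉ (⁅M, M⁆ : Subgroup G) := by
    intro a ha g hg
    rw [← heq] at ha
    obtain ⟨n, -, z, ⟨hz, hzn⟩, rfl⟩ := ha
    obtain ⟨k, hk, c, hc, rfl⟩ := (d.compl hG).2.2.2 z hz
    refine hzn (Or.inr ?_)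
    have ho : orderOf (k * c) ∣ Nat.card (⁅M, M⁆ : Subgroup G) := by
      have h1 := Subgroup.orderOf_dvd_natCard _ hg
      rwa [show g * (n * (k * c) * n⁻¹) * g⁻¹ = MulAut.conj (g * n) (k * c) by rw [MulAut.conj_apply]; group,
        MulEquiv.orderOf_eq] at h1
    have hkc : Commute k c := (hc.2 k hk)
    have h2 : (k * c) ^ Nat.card (⁅M, M⁆ : Subgroup G) = 1 := orderOf_dvd_iff_pow_eq_one.mp ho
    rw [hkc.mul_pow, orderOf_dvd_iff_pow_eq_one.mp (Subgroup.orderOf_dvd_natCard _ (hSU.1 hc.1)), mul_one,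
      ← orderOf_dvd_iff_pow_eq_one] at h2
    have hk1 : k = 1 := orderOf_eq_one_iff.mp
      (Nat.eq_one_of_dvd_coprimes hcop (Subgroup.orderOf_dvd_natCard _ hk) h2)
    rw [hk1, one_mul]
    exact hc
  have hTIA : ∀ g : G, g ∉ M → ∀ a ∈ typeA M, g * a * g⁻¹ ∈ typeA M → a = 1 := by
    intro g hg a ha hga
    have hgM' := hAM hga
    have hord : orderOf (g * a * g⁻¹) = orderOf a := by
      rw [← MulAut.conj_apply, MulEquiv.orderOf_eq]
    by_cases has : a ∈ sigmaCore M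
    · have hgs : g * a * g⁻¹ ∈ sigmaCore M :=
        mem_sigmaCore_of_order hG hM hgM' fun p hp hd => order_sigma hG hM has p hp (hord ▸ hd)
      refine hFti g (fun h => hg ?_) a (hSF has) (hSF hgs)
      have := hnorm (fittingOf M : Set G) (fittingOf_le M) ⟨s₀, hSF hs₀, hs₀1⟩ fun m hm x hx =>
        (Subgroup.mem_normalizer_iff.mp (le_normalizer_fittingOf M hm) x).mp hx
      exact this.le h
    · have hgs : g * a * g⁻¹ ∉ sigmaCore M := fun h => has
        (mem_sigmaCore_of_order hG hM (hAM ha) fun p hp hd => order_sigma hG hM h p hp (hord.symm ▸ hd))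
      have hmem : ∀ b ∈ typeA M, b ∉ sigmaCore M → b ∈ sigmaA M U \ (sigmaCore M : Set G) := fun b hb hbs => by
        rw [hA] at hb
        obtain ⟨hb, -, x, hx, hx1, hbx⟩ := hb
        exact ⟨⟨⟨Subgroup.commutator_le_self M hb, x, hx, hx1, hbx⟩, hder ▸ hb⟩, hbs⟩
      refine (Cfsg.Agent.S1362.result hG M hM K U hKU) g (fun h => hg ?_) a (hmem a ha has) (hmem _ hga hgs)
      have h1 : a ≠ 1 := fun e => has (e ▸ one_mem _)
      have := hnorm (sigmaA M U \ (sigmaCore M : Set G)) (fun b hb => hb.1.1.1) ⟨a, hmem a ha has, h1⟩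
        fun m hm b hb => by
          have hbA : b ∈ typeA M := by
            obtain ⟨⟨⟨-, x, hx, hx1, hbx⟩, hbm⟩, hbs⟩ := hb
            rw [hA]
            exact ⟨hder.ge hbm, fun e => hbs (e ▸ one_mem _), x, hx, hx1, hbx⟩
          refine hmem _ (hAinv m hm b hbA) fun h => hb.2 ?_
          simpa [mul_assoc] using hconjS m⁻¹ (M.inv_mem hm) _ h
      exact this.le h
  refine ⟨⟨fun g hg a ha hga => ?_, ?_⟩, ⟨fun g hg => hTIA g (hNA ▸ hg), hNA⟩,
    ⟨fun g hg a ha hga => ?_, hNA1⟩⟩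
  · have hNA0 : Subgroup.normalizer (typeA0 M) = M := by
      rw [hA0]
      exact hnorm _ (Set.union_subset hAM hEM) ⟨s₀, Or.inl hs₀A, hs₀1⟩ fun m hm x hx =>
        hx.imp (hAinv m hm x) (hEinv m hm x)
    rw [hNA0] at hg
    rw [hA0] at ha hga
    have hAD : ∀ b ∈ typeA M, b ∈ (⁅M, M⁆ : Subgroup G) := fun b hb => by rw [hA] at hb; exact hb.1
    rcases ha with ha | ha <;> rcases hga with hga | hga
    · exact hTIA g hg a ha hga
    · refine absurd ?_ (hEnot _ hga g⁻¹)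
      rw [show g⁻¹ * (g * a * g⁻¹) * g⁻¹⁻¹ = a by group]
      exact hAD a ha
    · exact absurd (hAD _ hga) (hEnot a ha g)
    · by_contra ha1
      exact ha1 (hEti g (fun h => hg ((hnorm E hEM ⟨a, ha, ha1⟩ hEinv).le h)) a ha hga)
  · rw [hA0]
    exact hnorm _ (Set.union_subset hAM hEM) ⟨s₀, Or.inl hs₀A, hs₀1⟩ fun m hm x hx =>
      hx.imp (hAinv m hm x) (hEinv m hm x)
  · rw [hNA1] at hg
    rw [hA1] at ha hga
    refine hTIA g hg a ?_ ?_ <;> rw [hA]
    · exact ⟨hSU.1 ha.1, ha.2, a, ha.1, ha.2, rfl⟩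
    · exact ⟨hSU.1 hga.1, hga.2, _, hga.1, hga.2, rfl⟩

end CfsgLib.MinSimpleOdd
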